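import Cfsg.Agent.OddHalf.D7Tits.Defs

/-!
# ODD D7, `K` = Tits, S2: the case (X0) is dead (helper956)

(X0): CL (`C_G(t) = ⟨t⟩ × i Y`, `Y` the Tits group) and `n`, with `t^n = t z`, acts on `i E` as the outer
automorphism `τ`. Take the three points `z`, `q 0`, `z * q 0` of a line, permuted by `g`. The product of the three
conjugates of `n` commutes with `t` and acts on `E ∩ E^g ∩ E^(g²)` as an outer automorphism: contradiction to (K5).
-/

set_option autoImplicit false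

namespace Cfsg.Agent.OddHalf.D7Tits.XZero

open Cfsg.Agent.OddHalf.D7Tits.Defs

universe u v

/-- **(K5)**: an automorphism that is trivial on `E_u ∩ E_v ∩ E_w`, `{u, v, w}` a line, is inner; `τ` is outer -/
structure K5 {Y : Type u} [Group Y] (K : KT Y) : Prop where
  out : ∀ y : Y, K.τ ≠ MulAut.conj y
  cen : ∀ g : Y, g⁻¹ * K.z * g = K.q 0 → g⁻¹ * K.q 0 * g = K.z * K.q 0 → ∀ α : MulAut Y,
    (∀ e, e ∈ K.E → g * e * g⁻¹ ∈ K.E → g * g * e * (g * g)⁻¹ ∈ K.E → α e = e) → ∃ y, α = MulAut.conj y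

variable {Y : Type u} [Group Y] {G : Type v} [Group G]

/-- an automorphism fixing `z` preserves `E` -/
theorem map_E (K : KT Y) (α : MulAut Y) (hα : α K.z = K.z) : ∀ e ∈ K.E, α e ∈ K.E := by
  intro e he
  have h1 : Subgroup.closure {p | p ∈ K.P ∧ p ^ 5 = 1} ≤ K.E.comap α.toMonoidHom := by
    rw [Subgroup.closure_le]
    rintro p ⟨hp, hp5⟩
    apply K.E_mem
    · rw [K.mem_P] at hp ⊢
      have h2 := congrArg α hp
      rw [map_mul, map_mul, hα] at h2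
      exact h2
    · have h2 := congrArg α hp5
      rw [map_pow, map_one] at h2
      exact h2
  exact h1 (K.E_le he)

/-- **(X0) is dead.** -/
theorem false_of (K : KT Y) (H5 : K5 K) (i : Y →* G) (inj : Function.Injective i) (t n : G)
    (ti : ∀ y : Y, t * i y = i y * t)
    (cen : ∀ c : G, c * t = t * c → ∃ y : Y, c = i y ∨ c = t * i y)
    (nt : n * t * n⁻¹ = t * i K.z) (nE : ∀ e ∈ K.E, n * i e * n⁻¹ = i (K.τ e)) : False := by
  obtain ⟨g, hg1, hg2⟩ := K.line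
  -- the points
  have hg3 : g⁻¹ * (K.z * K.q 0) * g = K.z := by
    have e1 : g⁻¹ * (K.z * K.q 0) * g = (g⁻¹ * K.z * g) * (g⁻¹ * K.q 0 * g) := by group
    rw [e1, hg1, hg2]
    have e2 : K.q 0 * K.z = K.z * K.q 0 := by
      have h1 := K.E_le_P (K.Q_le_E (K.A_le_Q (K.q_A 0)))
      rw [K.mem_P] at h1
      exact h1
    rw [← mul_assoc, e2, mul_assoc, K.sq_A _ (K.q_A 0), mul_one]
  have hg4 : (g * g)⁻¹ * K.z * (g * g) = K.z * K.q 0 := by
    have e1 : (g * g)⁻¹ * K.z * (g * g) = g⁻¹ * (g⁻¹ * K.z * g) * g := by group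
    rw [e1, hg1, hg2]
  have zA := K.z_A
  have qA := K.q_A 0
  have zqA : K.z * K.q 0 ∈ K.A := mul_mem zA qA
  have zq : K.q 0 * K.z = K.z * K.q 0 := by
    have h1 := K.E_le_P (K.Q_le_E (K.A_le_Q (K.q_A 0)))
    rw [K.mem_P] at h1
    exact h1
  have AE : ∀ a ∈ K.A, a ∈ K.E := fun a ha => K.Q_le_E (K.A_le_Q ha)
  -- the three automorphisms
  set τ₁ : MulAut Y := MulAut.conj g⁻¹ * K.τ * MulAut.conj g with hτ₁
  set τ₂ : MulAut Y := MulAut.conj (g * g)⁻¹ * K.τ * MulAut.conj (g * g) with hτ₂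
  have τ₁_apply : ∀ y, τ₁ y = g⁻¹ * K.τ (g * y * g⁻¹) * g := by
    intro y
    rw [hτ₁]
    simp [MulAut.mul_apply, MulAut.conj_apply]
  have τ₂_apply : ∀ y, τ₂ y = (g * g)⁻¹ * K.τ (g * g * y * (g * g)⁻¹) * (g * g) := by
    intro y
    rw [hτ₂, MulAut.mul_apply, MulAut.mul_apply, MulAut.conj_apply, MulAut.conj_apply, inv_inv]
  -- points seen from the three places
  have p1 : g * K.q 0 * g⁻¹ = K.z := by rw [← hg1]; group
  have p2 : g * (K.z * K.q 0) * g⁻¹ = K.q 0 := by rw [← hg2]; group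
  have p3 : g * K.z * g⁻¹ = K.z * K.q 0 := by
    have e1 : g * (g⁻¹ * (K.z * K.q 0) * g) * g⁻¹ = K.z * K.q 0 := by group
    rw [hg3] at e1
    exact e1
  -- the automorphisms fix the three points
  have fz₁ : τ₁ K.z = K.z := by
    rw [τ₁_apply, p3, K.τA _ zqA]
    exact hg3
  have fz₂ : τ₂ K.z = K.z := by
    have e1 : g * g * K.z * (g * g)⁻¹ = K.q 0 := by
      have e2 : g * g * K.z * (g * g)⁻¹ = g * (g * K.z * g⁻¹) * g⁻¹ := by group
      rw [e2, p3, p2]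
    rw [τ₂_apply, e1, K.τA _ qA]
    rw [← e1]; group
  have fq₂ : τ₂ (K.q 0) = K.q 0 := by
    have e1 : g * g * K.q 0 * (g * g)⁻¹ = K.z * K.q 0 := by
      have e2 : g * g * K.q 0 * (g * g)⁻¹ = g * (g * K.q 0 * g⁻¹) * g⁻¹ := by group
      rw [e2, p1, p3]
    rw [τ₂_apply, e1, K.τA _ zqA]
    rw [← e1]; group
  -- `τ₁` preserves `E`, `τ₂` preserves `E` and `E^g`
  have E₁ : ∀ e ∈ K.E, τ₁ e ∈ K.E := map_E K τ₁ fz₁
  have E₂ : ∀ e ∈ K.E, τ₂ e ∈ K.E := map_E K τ₂ fz₂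
  have E₂' : ∀ e, g * e * g⁻¹ ∈ K.E → g * τ₂ e * g⁻¹ ∈ K.E := by
    intro e he
    have h1 := map_E K (MulAut.conj g * τ₂ * MulAut.conj g⁻¹) (by
      simp only [MulAut.mul_apply, MulAut.conj_apply, inv_inv]
      rw [hg1, fq₂, p1]) (g * e * g⁻¹) he
    simp only [MulAut.mul_apply, MulAut.conj_apply, inv_inv] at h1
    have e1 : g⁻¹ * (g * e * g⁻¹) * g = e := by group
    rw [e1] at h1
    exact h1
  -- the three elements
  set n₁ : G := (i g)⁻¹ * n * i g with hn₁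
  set n₂ : G := (i (g * g))⁻¹ * n * i (g * g) with hn₂
  have ti' : ∀ y : Y, i y * t * (i y)⁻¹ = t := by
    intro y
    rw [← ti]; group
  have a₀ : ∀ e ∈ K.E, n * i e * n⁻¹ = i (K.τ e) := nE
  have a₁ : ∀ e, g * e * g⁻¹ ∈ K.E → n₁ * i e * n₁⁻¹ = i (τ₁ e) := by
    intro e he
    have h1 := nE _ he
    rw [τ₁_apply, map_mul, map_mul, map_inv, ← h1, hn₁, map_mul, map_mul, map_inv]
    group
  have a₂ : ∀ e, g * g * e * (g * g)⁻¹ ∈ K.E → n₂ * i e * n₂⁻¹ = i (τ₂ e) := by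
    intro e he
    have h1 := nE _ he
    rw [τ₂_apply, map_mul, map_mul (f := i) ((g * g)⁻¹), map_inv, ← h1, hn₂, map_mul i (g * g * e),
      map_mul i (g * g) e, map_inv]
    group
  -- action on `t`
  have t₁ : n₁ * t * n₁⁻¹ = t * i (K.q 0) := by
    have h1 : n₁ * t * n₁⁻¹ = (i g)⁻¹ * (n * (i g * t * (i g)⁻¹) * n⁻¹) * i g := by rw [hn₁]; group
    rw [h1, ti', nt, ← hg1, map_mul, map_mul, map_inv]
    have h2 : (i g)⁻¹ * t = t * (i g)⁻¹ := by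
      rw [inv_mul_eq_iff_eq_mul, ← mul_assoc, ← ti, mul_inv_cancel_right]
    calc (i g)⁻¹ * (t * i K.z) * i g = ((i g)⁻¹ * t) * i K.z * i g := by group
      _ = t * ((i g)⁻¹ * i K.z * i g) := by rw [h2]; group
  have t₂ : n₂ * t * n₂⁻¹ = t * i (K.z * K.q 0) := by
    have h1 : n₂ * t * n₂⁻¹ = (i (g * g))⁻¹ * (n * (i (g * g) * t * (i (g * g))⁻¹) * n⁻¹) * i (g * g) := by
      rw [hn₂]; group
    rw [h1, ti', nt, ← hg4, map_mul i ((g * g)⁻¹ * K.z), map_mul i ((g * g)⁻¹), map_inv]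
    have h2 : (i (g * g))⁻¹ * t = t * (i (g * g))⁻¹ := by
      rw [inv_mul_eq_iff_eq_mul, ← mul_assoc, ← ti, mul_inv_cancel_right]
    calc (i (g * g))⁻¹ * (t * i K.z) * i (g * g) = ((i (g * g))⁻¹ * t) * i K.z * i (g * g) := by group
      _ = t * ((i (g * g))⁻¹ * i K.z * i (g * g)) := by rw [h2]; group
  -- action on the points
  have b₀q : n * i (K.q 0) * n⁻¹ = i (K.q 0) := by rw [nE _ (AE _ qA), K.τA _ qA]
  have b₀zq : n * i (K.z * K.q 0) * n⁻¹ = i (K.z * K.q 0) := by rw [nE _ (AE _ zqA), K.τA _ zqA]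
  have b₁zq : n₁ * i (K.z * K.q 0) * n₁⁻¹ = i (K.z * K.q 0) := by
    have e1 : g⁻¹ * K.q 0 * g = K.z * K.q 0 := hg2
    rw [a₁ _ (by rw [p2]; exact AE _ qA), τ₁_apply, p2, K.τA _ qA, e1]
  -- the product
  set c : G := n * n₁ * n₂ with hc
  have ct : c * t * c⁻¹ = t := by
    have e1 : c * t * c⁻¹ = n * (n₁ * (n₂ * t * n₂⁻¹) * n₁⁻¹) * n⁻¹ := by rw [hc]; group
    have e2 : n₁ * (t * i (K.z * K.q 0)) * n₁⁻¹ = (n₁ * t * n₁⁻¹) * (n₁ * i (K.z * K.q 0) * n₁⁻¹) := by group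
    have e3 : n * (t * i (K.q 0) * i (K.z * K.q 0)) * n⁻¹ =
        (n * t * n⁻¹) * (n * i (K.q 0) * n⁻¹) * (n * i (K.z * K.q 0) * n⁻¹) := by group
    rw [e1, t₂, e2, t₁, b₁zq, e3, nt, b₀q, b₀zq]
    have e4 : i K.z * i (K.q 0) * i (K.z * K.q 0) = 1 := by
      rw [← map_mul, ← map_mul, K.sq_A _ zqA, map_one]
    calc t * i K.z * i (K.q 0) * i (K.z * K.q 0) = t * (i K.z * i (K.q 0) * i (K.z * K.q 0)) := by group
      _ = t := by rw [e4, mul_one]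
  have ct' : c * t = t * c := by rwa [mul_inv_eq_iff_eq_mul] at ct
  have cE : ∀ e, e ∈ K.E → g * e * g⁻¹ ∈ K.E → g * g * e * (g * g)⁻¹ ∈ K.E →
      c * i e * c⁻¹ = i (K.τ (τ₁ (τ₂ e))) := by
    intro e h0 h1 h2
    have e1 : c * i e * c⁻¹ = n * (n₁ * (n₂ * i e * n₂⁻¹) * n₁⁻¹) * n⁻¹ := by rw [hc]; group
    rw [e1, a₂ e h2, a₁ _ (E₂' e h1), a₀ _ (E₁ _ (E₂ _ h0))]
  obtain ⟨y, hy⟩ := cen c ct'
  have cy : ∀ e, c * i e * c⁻¹ = i (y * e * y⁻¹) := by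
    intro e
    rw [map_mul, map_mul, map_inv]
    rcases hy with h | h
    · rw [h]
    · have h2 : t * (i y * i e * (i y)⁻¹) * t⁻¹ = i y * i e * (i y)⁻¹ := by
        rw [← map_inv, ← map_mul, ← map_mul, ti]; group
      rw [h]
      calc t * i y * i e * (t * i y)⁻¹ = t * (i y * i e * (i y)⁻¹) * t⁻¹ := by group
        _ = i y * i e * (i y)⁻¹ := h2
  obtain ⟨w, hw⟩ := H5.cen g hg1 hg2 ((MulAut.conj y)⁻¹ * (K.τ * τ₁ * τ₂)) (by
    intro e h0 h1 h2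
    have h3 := inj ((cy e).symm.trans (cE e h0 h1 h2))
    rw [MulAut.mul_apply, MulAut.mul_apply, MulAut.mul_apply, ← h3, ← map_inv, MulAut.conj_apply]
    group)
  -- `τ` is inner
  have hin : ∀ (a b : Y) (β : MulAut Y), MulAut.conj a * β * MulAut.conj b = MulAut.conj (a * β b) * β := by
    intro a b β
    ext y
    simp only [MulAut.mul_apply, MulAut.conj_apply, map_mul, map_inv, mul_inv_rev, mul_assoc]
  have hττ : K.τ * K.τ = MulAut.conj K.z := by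
    ext y
    rw [MulAut.mul_apply, K.ττ, MulAut.conj_apply]
  have h1 : K.τ * τ₁ * τ₂ = MulAut.conj (y * w) := by
    rw [map_mul, ← hw, mul_inv_cancel_left]
  have h2 : τ₁ = MulAut.conj (g⁻¹ * K.τ g) * K.τ := by rw [hτ₁, hin]
  have h3 : τ₂ = MulAut.conj ((g * g)⁻¹ * K.τ (g * g)) * K.τ := by rw [hτ₂, hin]
  have h4 : ∀ a : Y, K.τ * MulAut.conj a = MulAut.conj (K.τ a) * K.τ := by
    intro a
    have := hin 1 a K.τ
    rwa [map_one, one_mul, one_mul] at this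
  set a := g⁻¹ * K.τ g with ha
  set b := (g * g)⁻¹ * K.τ (g * g) with hb
  have h5 : K.τ * τ₁ * τ₂ = MulAut.conj (K.τ a * K.z * b) * K.τ := by
    rw [h2, h3]
    calc K.τ * (MulAut.conj a * K.τ) * (MulAut.conj b * K.τ)
        = (K.τ * MulAut.conj a) * K.τ * MulAut.conj b * K.τ := by group
      _ = MulAut.conj (K.τ a) * (K.τ * K.τ) * MulAut.conj b * K.τ := by rw [h4]; group
      _ = _ := by rw [hττ, ← map_mul, ← map_mul]
  have h6 : K.τ = MulAut.conj ((K.τ a * K.z * b)⁻¹ * (y * w)) := by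
    rw [map_mul, ← h1, h5, map_inv]
    group
  exact H5.out _ h6

end Cfsg.Agent.OddHalf.D7Tits.XZero
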