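import Cfsg.Agent.OddHalf.D7Tits.Defs

/-!
# D7, K = Tits, type W (helper868; text: bb ODD 15238 and 16131): definitions

* `Mm K` = `C_U(q 0)`, `Qz K` = `C_Q(q 0)`; `Psi K f` : the action of `y` on `U`; `KTW K` : the K-facts for type W;
* `PosW K i t y` : the position: `y² = 1`, `y t y = t z`, `y` centralises `i A`, `i x`, `y (i r) y = i (r aw)`.
-/

set_option autoImplicit false
set_option linter.unusedSectionVars false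
set_option linter.unusedVariables false

namespace Cfsg.Agent.OddHalf.D7Tits.WDefs

open Cfsg.Agent.OddHalf.D7Tits.Defs

universe u v

variable {Y : Type u} [Group Y]

/-- `C_U(q 0)` : the unipotent radical of the line stabiliser (order `2 ^ 11`) -/
def Mm (K : KT Y) : Subgroup Y := K.U ⊓ Subgroup.centralizer {K.q 0}

/-- `C_Q(q 0)` (order `2 ^ 8`) -/
def Qz (K : KT Y) : Subgroup Y := K.Q ⊓ Subgroup.centralizer {K.q 0}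

theorem mem_Mm {K : KT Y} {m : Y} : m ∈ Mm K ↔ m ∈ K.U ∧ m * K.q 0 = K.q 0 * m := by
  unfold Mm
  rw [Subgroup.mem_inf, Subgroup.mem_centralizer_singleton_iff]

theorem mem_Qz {K : KT Y} {m : Y} : m ∈ Qz K ↔ m ∈ K.Q ∧ m * K.q 0 = K.q 0 * m := by
  unfold Qz
  rw [Subgroup.mem_inf, Subgroup.mem_centralizer_singleton_iff]

theorem Qz_le {K : KT Y} : Qz K ≤ Mm K := fun m hm => mem_Mm.2 ⟨K.Q_le_U (mem_Qz.1 hm).1, (mem_Qz.1 hm).2⟩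

/-- `f` : the action of `y` on `U` -/
structure Psi (K : KT Y) (f : Y → Y) : Prop where
  mul : ∀ a ∈ K.U, ∀ b ∈ K.U, f (a * b) = f a * f b
  fA : ∀ a ∈ K.A, f a = a
  fr : ∀ n : ℕ, f ((K.x ^ n)⁻¹ * K.r * K.x ^ n) = (K.x ^ n)⁻¹ * (K.r * K.aw) * K.x ^ n
  fss : f (K.s * K.s) = K.s * K.s * K.z

/-- **K-facts for type W** (only OUT, `j * j = z`) -/
structure KTW (K : KT Y) where
  jj : K.j * K.j = K.z
  /-- the element of order 3 on the line -/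
  k : Y
  kz : k⁻¹ * K.z * k = K.q 0
  kq : k⁻¹ * K.q 0 * k = K.z * K.q 0
  kU : ∀ n, k * K.q n * k⁻¹ ∈ K.U
  k1 : ∀ f, Psi K f → k⁻¹ * f (k * K.q 1 * k⁻¹) * k = K.q 0 * K.q 4
  k2 : ∀ f, Psi K f → k⁻¹ * f (k * K.q 2 * k⁻¹) * k = K.z * K.q 0 * K.q 2
  k3 : ∀ f, Psi K f → k⁻¹ * f (k * K.q 3 * k⁻¹) * k = K.z * K.q 0 * K.q 3
  k4 : ∀ f, Psi K f → k⁻¹ * f (k * K.q 4 * k⁻¹) * k = K.q 0 * K.q 1
  /-- `s` and type W commute up to `j` -/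
  KS₂ : (K.x ^ 3)⁻¹ * (K.r * K.aw) * K.x ^ 3 * ((K.x ^ 4)⁻¹ * (K.r * K.aw) * K.x ^ 4) * (K.s * K.aw * K.s⁻¹) =
    (K.x ^ 3)⁻¹ * K.r * K.x ^ 3 * ((K.x ^ 4)⁻¹ * K.r * K.x ^ 4) * (K.s * K.aj * K.s⁻¹)
  /-- the `P`-classes of `A` -/
  A_cases : ∀ a ∈ K.A, a = 1 ∨ a = K.z ∨ (∃ n, a = K.q n ∨ a = K.z * K.q n) ∨
    ∃ p ∈ K.P, p⁻¹ * (K.q 0 * K.q 4) * p = a
  /-- (F1) : `|C_{Qz}(u)| ≤ 2 ^ 5` for `u ∈ U ∖ M` -/
  F1 : ∀ u ∈ K.U, u ∉ Mm K → ∀ H : Subgroup Y, H ≤ Qz K → (∀ h ∈ H, h * u = u * h) →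
    4 * Nat.card H < Nat.card (Qz K)
  /-- (F2) : `|C_{Qz}(m y)| ≤ 2 ^ 5` for `m ∈ M` -/
  F2 : ∀ f, Psi K f → ∀ m ∈ Mm K, ∀ H : Subgroup Y, H ≤ Qz K → (∀ h ∈ H, m * f h * m⁻¹ = h) →
    4 * Nat.card H < Nat.card (Qz K)
  /-- (F3) : the involutions `m` of `M` with `|C_M(m)| ≥ 2 ^ 9` -/
  F3 : ∀ m ∈ Mm K, m * m = 1 → ∀ H : Subgroup Y, H ≤ Mm K → (∀ h ∈ H, h * m = m * h) →
    Nat.card (Mm K) ≤ 4 * Nat.card H →
    m = 1 ∨ m = K.z ∨ m = K.q 0 ∨ m = K.z * K.q 0 ∨ ∃ p ∈ K.P, p⁻¹ * (K.q 0 * K.q 4) * p = m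

/-- **The position of type W.** -/
structure PosW (K : KT Y) {G : Type v} [Group G] (i : Y →* G) (t y : G) : Prop where
  finG : Finite G
  perf : commutator G = ⊤
  inj : Function.Injective i
  tt : t * t = 1
  t1 : t ≠ 1
  ti : ∀ a : Y, t * i a = i a * t
  tY : ∀ a : Y, i a ≠ t
  /-- `C_G(t) = ⟨t⟩ × i Y` -/
  cen : ∀ c : G, c * t = t * c → ∃ a : Y, c = i a ∨ c = t * i a
  yy : y * y = 1
  yt : y * t * y = t * i K.z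
  yA : ∀ a ∈ K.A, y * i a = i a * y
  yx : y * i K.x = i K.x * y
  yr : y * i K.r * y = i (K.r * K.aw)
  ys : ∃ b : Y, (b = 1 ∨ b = K.z) ∧ y * i K.s * y = i (K.s * K.j * b)
  yj : y * i K.j * y = i (K.j * K.z)

end Cfsg.Agent.OddHalf.D7Tits.WDefs
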