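import Mathlib

/-!
# Five values (helper868)

`H ≤ Q`, `L` a list of elements of `Q`, `c` a function which is constant on the right cosets of `H` (on `L`) and takes
at least five values on `L`: `4 |H| < |Q|`.
-/

set_option autoImplicit false

namespace Cfsg.Agent.OddHalf.D7Tits.WFive

variable {Y : Type*} [Group Y]

theorem card_mul_le [Finite Y] {Q H : Subgroup Y} (hH : H ≤ Q) {Z : Type*} [DecidableEq Z] (L : List Y)
    (hL : ∀ h ∈ L, h ∈ Q) (c : Y → Z) (hc : ∀ a ∈ L, ∀ b ∈ L, a * b⁻¹ ∈ H → c a = c b) :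
    (L.map c).toFinset.card * Nat.card H ≤ Nat.card Q := by
  classical
  have hrep : ∀ v : (L.map c).toFinset, ∃ a ∈ L, c a = v.1 := by
    rintro ⟨v, hv⟩
    rw [List.mem_toFinset, List.mem_map] at hv
    exact hv
  choose rep hrepL hrepc using hrep
  let f : (L.map c).toFinset × H → Q := fun p => ⟨p.2.1 * rep p.1, Q.mul_mem (hH p.2.2) (hL _ (hrepL p.1))⟩
  have hf : Function.Injective f := by
    rintro ⟨v, h⟩ ⟨v', h'⟩ e
    have e1 : h.1 * rep v = h'.1 * rep v' := congrArg Subtype.val e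
    have e2 : rep v * (rep v')⁻¹ = h.1⁻¹ * h'.1 := by
      rw [mul_inv_eq_iff_eq_mul, mul_assoc, ← e1, inv_mul_cancel_left]
    have e3 := hc _ (hrepL v) _ (hrepL v') (by rw [e2]; exact H.mul_mem (H.inv_mem h.2) h'.2)
    rw [hrepc, hrepc] at e3
    have e4 : v = v' := Subtype.ext e3
    subst e4
    have e5 : h = h' := Subtype.ext (mul_right_cancel e1)
    rw [e5]
  have h1 := Nat.card_le_card_of_injective f hf
  rw [Nat.card_prod, Nat.card_eq_fintype_card, Fintype.card_coe] at h1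
  exact h1

theorem four_lt [Finite Y] {Q H : Subgroup Y} (hH : H ≤ Q) {Z : Type*} [DecidableEq Z] (L : List Y)
    (hL : ∀ h ∈ L, h ∈ Q) (c : Y → Z) (hc : ∀ a ∈ L, ∀ b ∈ L, a * b⁻¹ ∈ H → c a = c b)
    (h5 : 5 ≤ (L.map c).toFinset.card) : 4 * Nat.card H < Nat.card Q := by
  have h1 := card_mul_le hH L hL c hc
  have h2 : 0 < Nat.card H := Nat.card_pos
  nlinarith

/-- for `h⁻¹ u h`, `H` in the centraliser of `u` -/
theorem four_lt_cent [Finite Y] {Q H : Subgroup Y} (hH : H ≤ Q) {u : Y} (hu : ∀ h ∈ H, h * u = u * h) [DecidableEq Y]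
    (L : List Y) (hL : ∀ h ∈ L, h ∈ Q) (h5 : 5 ≤ (L.map fun h => h⁻¹ * u * h).toFinset.card) :
    4 * Nat.card H < Nat.card Q := by
  refine four_lt hH L hL _ (fun a _ b _ hab => ?_) h5
  have h1 := hu _ hab
  calc a⁻¹ * u * a = a⁻¹ * (u * (a * b⁻¹)) * b := by group
    _ = a⁻¹ * (a * b⁻¹ * u) * b := by rw [h1]
    _ = b⁻¹ * u * b := by group

/-- for `h⁻¹ m f(h)` -/
theorem four_lt_twist [Finite Y] {Q H : Subgroup Y} (hH : H ≤ Q) {m : Y} {f : Y → Y}
    (hf : ∀ a ∈ Q, ∀ b ∈ Q, f (a * b) = f a * f b) (hu : ∀ h ∈ H, m * f h * m⁻¹ = h) [DecidableEq Y]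
    (L : List Y) (hL : ∀ h ∈ L, h ∈ Q) (h5 : 5 ≤ (L.map fun h => h⁻¹ * m * f h).toFinset.card) :
    4 * Nat.card H < Nat.card Q := by
  have f1 : f 1 = 1 := by
    have h := hf 1 Q.one_mem 1 Q.one_mem
    rw [mul_one] at h
    exact (mul_eq_left.1 h.symm)
  refine four_lt hH L hL _ (fun a ha b hb hab => ?_) h5
  have h1 := hu _ hab
  have h2 : f (a * b⁻¹) * f b = f a := by
    rw [← hf _ (Q.mul_mem (hL a ha) (Q.inv_mem (hL b hb))) _ (hL b hb), inv_mul_cancel_right]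
  calc a⁻¹ * m * f a = a⁻¹ * (m * f (a * b⁻¹) * m⁻¹) * m * f b := by rw [← h2]; group
    _ = a⁻¹ * (a * b⁻¹) * m * f b := by rw [h1]
    _ = b⁻¹ * m * f b := by group

end Cfsg.Agent.OddHalf.D7Tits.WFive
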