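import Cfsg.Agent.OddHalf.D7Tits.Row
import Cfsg.Agent.TitsK.KtW
import Cfsg.Agent.TitsK.KFive

/-!
# ODD D7, the row `K = ²F₄(2)'`: complete (helper853)

Text: helper903 (bb ODD 15617), helper381 (16131), helper868 (type W, 15238), helper956 (type X0). Lean: helper841, helper956
(front), helper853 (section 1), helper583, helper927 (section 2), helper381, helper625 (section 3), helper961, helper625
(section 4, end), helper868 (type W), helper261, helper795, helper956 (K-facts).
-/

set_option autoImplicit false

namespace Cfsg.Agent.OddHalf.D7Tits.Final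

universe u

/-- **the row Tits** of node D7 -/
theorem node : D7.Cases.Node.{u} @Cfsg.Lie.IsoTits.{u} :=
  Row.node_of TitsK.k5 (TitsK.ktw : WDefs.KTW TitsK.ktHD)

end Cfsg.Agent.OddHalf.D7Tits.Final
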