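import Cfsg.Agent.OddHalf.D7Tits.Defs
import Cfsg.Agent.StdLThreeFour.Syl

/-!
# ODD D7, `K = ²F₄(2)'`: the `T`-invariant conjugates of `Θ` (helper381; text: bb ODD 16131)

The Sylow 2-subgroup `U` of the Tits group has TWO normal elementary abelian subgroups of order `2⁵`: `A` and `A₁`
(`A₁` is normal in the line stabiliser). So a `T`-invariant conjugate `Θ₁` of `Θ` is `Θ` or has `C_Θ₁(t) = A₁` (type `A₁`).

* `adj` : `t` fixes a coset `yΘ` iff it centralises an element of it.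
* `odd_cent` : `C_G(Θ₁)/Θ₁` has odd order.
* `dich` : the two types.
* `core` : type `A₁` is impossible if `Θ` has a suitable `2`-local overgroup (clean case).
* `uniq_out` : no type `A₁` in the outer case.
* `tfy`, `tfy_out` : the T-formula in `Y = N_G(Θ)/C_G(Θ)`.
-/

set_option autoImplicit false
set_option linter.unusedSectionVars false
set_option linter.unusedVariables false

namespace Cfsg.Agent.OddHalf.D7Tits.AltType

open Subgroup

variable {G : Type*} [Group G]

/-- `Θ ^ g` -/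
def cj (g : G) (H : Subgroup G) : Subgroup G := H.map (MulAut.conj g).toMonoidHom

theorem mem_cj {g x : G} {H : Subgroup G} : x ∈ cj g H ↔ g⁻¹ * x * g ∈ H := by
  constructor
  · rintro ⟨y, hy, rfl⟩
    show g⁻¹ * (g * y * g⁻¹) * g ∈ H
    have e : g⁻¹ * (g * y * g⁻¹) * g = y := by group
    rwa [e]
  · intro h
    exact ⟨_, h, by show g * (g⁻¹ * x * g) * g⁻¹ = x; group⟩

theorem card_cj (g : G) (H : Subgroup G) : Nat.card (cj g H) = Nat.card H :=
  (Nat.card_congr (H.equivMapOfInjective _ (MulAut.conj g).injective).toEquiv).symm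

/-- elementary abelian -/
structure EA (H : Subgroup G) : Prop where
  ab : ∀ x ∈ H, ∀ y ∈ H, x * y = y * x
  sq : ∀ x ∈ H, x * x = 1

theorem EA.inv {H : Subgroup G} (h : EA H) {x : G} (hx : x ∈ H) : x⁻¹ = x := inv_eq_of_mul_eq_one_left (h.sq x hx)

theorem EA.cj {H : Subgroup G} (h : EA H) (g : G) : EA (cj g H) where
  ab := by
    intro x hx y hy
    rw [mem_cj] at hx hy
    have h1 := h.ab _ hx _ hy
    calc x * y = g * ((g⁻¹ * x * g) * (g⁻¹ * y * g)) * g⁻¹ := by group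
      _ = g * ((g⁻¹ * y * g) * (g⁻¹ * x * g)) * g⁻¹ := by rw [h1]
      _ = y * x := by group
  sq := by
    intro x hx
    rw [mem_cj] at hx
    have h1 := h.sq _ hx
    calc x * x = g * ((g⁻¹ * x * g) * (g⁻¹ * x * g)) * g⁻¹ := by group
      _ = 1 := by rw [h1]; group

/-! ### The free action of `t` -/

section Adj

variable {t : G} (tt : t * t = 1) {Θ : Subgroup G} (ea : EA Θ) (tΘ : ∀ x ∈ Θ, t * x * t ∈ Θ)

include tt

theorem t_inv : t⁻¹ = t := inv_eq_of_mul_eq_one_left tt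

theorem conj_mul (a b : G) : t * (a * b) * t = (t * a * t) * (t * b * t) := by
  calc t * (a * b) * t = t * a * 1 * b * t := by group
    _ = t * a * (t * t) * b * t := by rw [tt]
    _ = (t * a * t) * (t * b * t) := by group

theorem conj_conj (a : G) : t * (t * a * t) * t = a := by
  calc t * (t * a * t) * t = (t * t) * a * (t * t) := by group
    _ = a := by rw [tt, one_mul, mul_one]

theorem conj_inv (a : G) : t * a⁻¹ * t = (t * a * t)⁻¹ := by
  rw [mul_inv_rev, mul_inv_rev, t_inv tt, mul_assoc]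

theorem conj_of_comm {a : G} (ha : a * t = t * a) : t * a * t = a := by
  rw [← ha, mul_assoc, tt, mul_one]

theorem comm_of_conj {a : G} (ha : t * a * t = a) : a * t = t * a := by
  have h1 : t * a * t * t = a * t := by rw [ha]
  rw [mul_assoc (t * a), tt, mul_one] at h1
  exact h1.symm

include ea tΘ

/-- if `|C_Θ(t)|² ≤ |Θ|`, then `C_Θ(t) = [Θ, t]` -/
theorem adj₁ [Finite G] {m : ℕ} (hm : Nat.card Θ = m * m) (hC : Nat.card (Θ ⊓ centralizer {t} : Subgroup G) ≤ m)
    {a : G} (ha : a ∈ Θ) (hat : a * t = t * a) : ∃ b ∈ Θ, b * (t * b * t) = a := by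
  set C : Subgroup G := Θ ⊓ centralizer {t} with hCdef
  have hbr : ∀ b ∈ Θ, b * (t * b * t) ∈ C := fun b hb => by
    refine mem_inf.2 ⟨mul_mem hb (tΘ b hb), ?_⟩
    rw [mem_centralizer_singleton_iff]
    apply comm_of_conj tt
    rw [conj_mul tt, conj_conj tt, ea.ab _ (tΘ b hb) _ hb]
  let f : Θ →* C :=
    { toFun := fun b => ⟨b * (t * b * t), hbr b b.2⟩
      map_one' := Subtype.ext (by show (1 : G) * (t * 1 * t) = 1; rw [mul_one, tt, one_mul])
      map_mul' := fun x y => Subtype.ext (by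
        show (x : G) * y * (t * (x * y) * t) = x * (t * x * t) * (y * (t * y * t))
        rw [conj_mul tt]
        calc (x : G) * y * (t * x * t * (t * y * t)) = x * (y * (t * x * t)) * (t * y * t) := by group
          _ = _ := by rw [ea.ab _ y.2 _ (tΘ x x.2)]; group) }
  have hk : Nat.card f.ker ≤ Nat.card C := by
    refine Nat.card_le_card_of_injective (fun x => (⟨((x : Θ) : G), mem_inf.2 ⟨(x : Θ).2, ?_⟩⟩ : C)) ?_
    · have h1 : (((x : Θ)) : G) * (t * ((x : Θ) : G) * t) = 1 := congrArg Subtype.val x.2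
      rw [mem_centralizer_singleton_iff]
      apply comm_of_conj tt
      rw [← inv_eq_of_mul_eq_one_right h1, ea.inv (x : Θ).2]
    · intro x y hxy
      exact Subtype.ext (Subtype.ext (congrArg (fun b : C => (b : G)) hxy))
  have h1 := Subgroup.card_mul_index f.ker
  rw [Subgroup.index_ker, hm] at h1
  have hr : Nat.card f.range ≤ Nat.card C := Nat.card_le_card_of_injective _ f.range.subtype_injective
  have hm0 : 0 < m := by
    rcases Nat.eq_zero_or_pos m with h0 | h0
    · exfalso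
      rw [h0] at hm
      exact (Nat.card_pos (α := Θ)).ne' (by simpa using hm)
    · exact h0
  have h2 : Nat.card C ≤ Nat.card f.range := by
    by_contra hlt
    rw [not_le] at hlt
    have h3 : Nat.card f.ker * Nat.card f.range < m * m :=
      calc Nat.card f.ker * Nat.card f.range ≤ m * Nat.card f.range := Nat.mul_le_mul_right _ (hk.trans hC)
        _ < m * m := Nat.mul_lt_mul_of_pos_left (lt_of_lt_of_le hlt hC) hm0
    omega
  have h3 : f.range = ⊤ := by
    apply Subgroup.eq_top_of_le_card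
    exact h2
  obtain ⟨b, hb⟩ := (MonoidHom.range_eq_top.1 h3) ⟨a, mem_inf.2 ⟨ha, mem_centralizer_singleton_iff.2 hat⟩⟩
  exact ⟨b, b.2, congrArg Subtype.val hb⟩

/-- if `t` fixes the coset `y Θ`, then it centralises an element of it -/
theorem adj [Finite G] {m : ℕ} (hm : Nat.card Θ = m * m) (hC : Nat.card (Θ ⊓ centralizer {t} : Subgroup G) ≤ m)
    {y : G} (hy : y⁻¹ * (t * y * t) ∈ Θ) : ∃ b ∈ Θ, (y * b) * t = t * (y * b) := by
  have h1 : (y⁻¹ * (t * y * t)) * t = t * (y⁻¹ * (t * y * t)) := by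
    apply comm_of_conj tt
    rw [conj_mul tt, conj_conj tt, conj_inv tt]
    rw [← ea.inv hy]
    group
  obtain ⟨b, hb, e⟩ := adj₁ tt ea tΘ hm hC hy h1
  refine ⟨b, hb, comm_of_conj tt ?_⟩
  have e1 : t * y * t = y * (b * (t * b * t)) := by rw [e]; group
  rw [conj_mul tt, e1]
  calc y * (b * (t * b * t)) * (t * b * t) = y * b * ((t * b * t) * (t * b * t)) := by group
    _ = y * b := by rw [ea.sq _ (tΘ b hb), mul_one]

end Adj

/-! ### Fixed involutions of a quotient -/

/-- a 2-group `T` normalising `Θ ⊴ D` centralises an involution of `D / Θ`, if there is one -/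
theorem exists_fix_mod [Finite G] {T Θ D : Subgroup G} (hT : IsPGroup 2 T) (hTΘ : ∀ s ∈ T, ∀ x ∈ Θ, s * x * s⁻¹ ∈ Θ)
    (hTD : ∀ s ∈ T, ∀ x ∈ D, s * x * s⁻¹ ∈ D) (hDΘ : ∀ s ∈ D, ∀ x ∈ Θ, s * x * s⁻¹ ∈ Θ) (hΘD : Θ ≤ D)
    (h : ∃ c ∈ D, c ∉ Θ ∧ c * c ∈ Θ) : ∃ c ∈ D, c ∉ Θ ∧ c * c ∈ Θ ∧ ∀ s ∈ T, s * c * s⁻¹ * c⁻¹ ∈ Θ := by
  classical
  have key : ∀ W : Subgroup G, (∀ s ∈ W, ∀ x ∈ Θ, s * x * s⁻¹ ∈ Θ) → W ≤ normalizer (Θ : Set G) := by
    intro W hW s hs
    rw [mem_normalizer_iff]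
    intro x
    constructor
    · exact hW s hs x
    · intro hx
      have := hW s⁻¹ (inv_mem hs) _ hx
      have e : s⁻¹ * (s * x * s⁻¹) * s⁻¹⁻¹ = x := by group
      rwa [e] at this
  have hTN := key T hTΘ
  have hDN := key D hDΘ
  let N : Subgroup G := normalizer (Θ : Set G)
  let Θ' : Subgroup N := Θ.subgroupOf N
  have hn : Θ'.Normal := by
    constructor
    rintro ⟨x, hx⟩ hx' ⟨g, hg⟩
    rw [mem_subgroupOf] at hx' ⊢
    exact (mem_normalizer_iff.1 hg x).1 hx'
  let π : N →* N ⧸ Θ' := QuotientGroup.mk' Θ'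
  have hπ : ∀ x : N, π x = 1 ↔ (x : G) ∈ Θ := fun x => by
    rw [QuotientGroup.mk'_apply, QuotientGroup.eq_one_iff, mem_subgroupOf]
  let T' : Subgroup (N ⧸ Θ') := (T.subgroupOf N).map π
  let D' : Subgroup (N ⧸ Θ') := (D.subgroupOf N).map π
  have hT' : IsPGroup 2 T' := (IsPGroup.comap_of_injective hT N.subtype N.subtype_injective).map π
  have hnor : ∀ q ∈ T', ∀ x ∈ D', q * x * q⁻¹ ∈ D' := by
    rintro _ ⟨⟨s, hsN⟩, hs, rfl⟩ _ ⟨⟨x, hxN⟩, hx, rfl⟩
    refine ⟨⟨s, hsN⟩ * ⟨x, hxN⟩ * ⟨s, hsN⟩⁻¹, hTD s hs x hx, ?_⟩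
    rw [map_mul, map_mul, map_inv]
  obtain ⟨c, hc, hcΘ, hcc⟩ := h
  have h2 : 2 ∣ Nat.card D' := by
    let c' : D' := ⟨π ⟨c, hDN hc⟩, ⟨c, hDN hc⟩, hc, rfl⟩
    have h1 : c' ≠ 1 := by
      intro h1
      have h3 : π ⟨c, hDN hc⟩ = 1 := congrArg Subtype.val h1
      exact hcΘ ((hπ _).1 h3)
    have h3 : c' ^ 2 = 1 := by
      apply Subtype.ext
      show (π ⟨c, hDN hc⟩) ^ 2 = 1
      rw [← map_pow, hπ, pow_two]
      exact hcc
    rw [← orderOf_eq_prime h3 h1]
    exact orderOf_dvd_natCard c'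
  obtain ⟨x, hx, hx1, hxx, hcom⟩ := StdLThreeFour.Syl.exists_invol_commute hT' hnor h2
  obtain ⟨⟨y, hyN⟩, hy, rfl⟩ := hx
  refine ⟨y, hy, fun h1 => hx1 ((hπ _).2 h1), ?_, fun s hs => ?_⟩
  · rw [← map_mul, hπ] at hxx
    exact hxx
  · have h1 : π ⟨s, hTN hs⟩ * π ⟨y, hyN⟩ = π ⟨y, hyN⟩ * π ⟨s, hTN hs⟩ := hcom _ ⟨⟨s, hTN hs⟩, hs, rfl⟩
    have h2 : π (⟨s, hTN hs⟩ * ⟨y, hyN⟩ * ⟨s, hTN hs⟩⁻¹ * ⟨y, hyN⟩⁻¹) = 1 := by
      rw [map_mul, map_mul, map_mul, h1, map_inv, map_inv]
      group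
    exact (hπ _).1 h2

/-- `|Θ| ≤ |C_Θ(t)|²` -/
theorem card_fix [Finite G] {t : G} (tt : t * t = 1) {Θ : Subgroup G} (ea : EA Θ) (tΘ : ∀ x ∈ Θ, t * x * t ∈ Θ) {m : ℕ}
    (hm : Nat.card Θ = m * m) : m ≤ Nat.card (Θ ⊓ centralizer {t} : Subgroup G) := by
  by_contra hlt
  rw [not_le] at hlt
  -- apply `adj₁`: `C_Θ(t) = [Θ, t]`, so `|Θ| = |C_Θ(t)|²`
  set C : Subgroup G := Θ ⊓ centralizer {t} with hCdef
  have hbr : ∀ b ∈ Θ, b * (t * b * t) ∈ C := fun b hb => by
    refine mem_inf.2 ⟨mul_mem hb (tΘ b hb), ?_⟩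
    rw [mem_centralizer_singleton_iff]
    apply comm_of_conj tt
    rw [conj_mul tt, conj_conj tt, ea.ab _ (tΘ b hb) _ hb]
  let f : Θ →* C :=
    { toFun := fun b => ⟨b * (t * b * t), hbr b b.2⟩
      map_one' := Subtype.ext (by show (1 : G) * (t * 1 * t) = 1; rw [mul_one, tt, one_mul])
      map_mul' := fun x y => Subtype.ext (by
        show (x : G) * y * (t * (x * y) * t) = x * (t * x * t) * (y * (t * y * t))
        rw [conj_mul tt]
        calc (x : G) * y * (t * x * t * (t * y * t)) = x * (y * (t * x * t)) * (t * y * t) := by group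
          _ = _ := by rw [ea.ab _ y.2 _ (tΘ x x.2)]; group) }
  have hk : Nat.card f.ker ≤ Nat.card C := by
    refine Nat.card_le_card_of_injective (fun x => (⟨((x : Θ) : G), mem_inf.2 ⟨(x : Θ).2, ?_⟩⟩ : C)) ?_
    · have h1 : (((x : Θ)) : G) * (t * ((x : Θ) : G) * t) = 1 := congrArg Subtype.val x.2
      rw [mem_centralizer_singleton_iff]
      apply comm_of_conj tt
      rw [← inv_eq_of_mul_eq_one_right h1, ea.inv (x : Θ).2]
    · intro x y hxy
      exact Subtype.ext (Subtype.ext (congrArg (fun b : C => (b : G)) hxy))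
  have h1 := Subgroup.card_mul_index f.ker
  rw [Subgroup.index_ker, hm] at h1
  have hr : Nat.card f.range ≤ Nat.card C := Nat.card_le_card_of_injective _ f.range.subtype_injective
  have h3 : Nat.card f.ker * Nat.card f.range ≤ Nat.card C * Nat.card C := Nat.mul_le_mul hk hr
  have h4 : Nat.card C * Nat.card C < m * m := Nat.mul_lt_mul'' hlt hlt
  omega

/-! ### The situation -/

/-- `T = ⟨t⟩ × U` is a Sylow 2-subgroup of `C_G(t)`; `A₁ = C_U(A₁)` is elementary abelian of order `2⁵`. -/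
structure Sit (t : G) (T U A₁ : Subgroup G) : Prop where
  tt : t * t = 1
  tU : t ∉ U
  mem_T : ∀ x, x ∈ T ↔ x ∈ U ∨ t * x ∈ U
  cU : ∀ u ∈ U, u * t = t * u
  pT : IsPGroup 2 T
  /-- `T` is a Sylow 2-subgroup of `C_G(t)` -/
  syl : ∀ S : Subgroup G, IsPGroup 2 S → T ≤ S → (∀ a ∈ S, a * t = t * a) → S ≤ T
  /-- (K3) -/
  rank : ∀ E : Subgroup G, EA E → t ∈ E → Nat.card E ≠ 2 ^ 10
  cardA₁ : Nat.card A₁ = 2 ^ 5
  A₁U : A₁ ≤ U
  /-- `C_U(A₁) = A₁` -/
  cA₁ : ∀ u ∈ U, (∀ a ∈ A₁, u * a = a * u) → u ∈ A₁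

namespace Sit

variable {t : G} {T U A₁ : Subgroup G} (H : Sit t T U A₁)

include H

theorem UT : U ≤ T := fun x hx => (H.mem_T x).2 (Or.inl hx)

theorem tT : t ∈ T := (H.mem_T t).2 (Or.inr (by rw [H.tt]; exact one_mem _))

theorem tu {u : G} (hu : u ∈ U) : t * u ∈ T := (H.mem_T _).2 (Or.inr (by rw [← mul_assoc, H.tt, one_mul]; exact hu))

theorem cT {a : G} (ha : a ∈ T) : a * t = t * a := by
  rcases (H.mem_T a).1 ha with h | h
  · exact H.cU a h
  · have h1 := H.cU _ h
    calc a * t = (t * t) * a * t := by rw [H.tt, one_mul]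
      _ = t * (t * a * t) := by group
      _ = t * (t * (t * a)) := by rw [h1]
      _ = (t * t) * (t * a) := by group
      _ = t * a := by rw [H.tt, one_mul]

/-- a `T`-invariant 2-group in `C_G(t)` is contained in `T` -/
theorem inT {B : Subgroup G} (hB : IsPGroup 2 B) (hBt : ∀ b ∈ B, b * t = t * b) (hn : ∀ s ∈ T, ∀ b ∈ B, s * b * s⁻¹ ∈ B) :
    B ≤ T := by
  have h1 : T ≤ normalizer (B : Set G) := by
    intro s hs
    rw [mem_normalizer_iff]
    intro x
    constructor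
    · exact hn s hs x
    · intro hx
      have := hn s⁻¹ (inv_mem hs) _ hx
      have e : s⁻¹ * (s * x * s⁻¹) * s⁻¹⁻¹ = x := by group
      rwa [e] at this
  have h2 : IsPGroup 2 (B ⊔ T : Subgroup G) := IsPGroup.to_sup_of_normal_left' hB H.pT h1
  have h3 : B ⊔ T ≤ centralizer {t} := sup_le (fun b hb => mem_centralizer_singleton_iff.2 (hBt b hb))
    fun b hb => mem_centralizer_singleton_iff.2 (H.cT hb)
  exact le_sup_left.trans (H.syl _ h2 le_sup_right fun a ha => mem_centralizer_singleton_iff.1 (h3 ha))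

/-- the projection of `B ≤ T = ⟨t⟩ × U` to `U` -/
theorem exists_pr [Finite G] {B : Subgroup G} (hBT : B ≤ T) :
    ∃ P : Subgroup G, P ≤ U ∧ (∀ u, u ∈ P ↔ u ∈ U ∧ (u ∈ B ∨ t * u ∈ B)) ∧ Nat.card B ≤ 2 * Nat.card P ∧
      (t ∉ B → Nat.card B = Nat.card P) := by
  classical
  have ti : t⁻¹ = t := inv_eq_of_mul_eq_one_left H.tt
  let P : Subgroup G :=
    { carrier := {u | u ∈ U ∧ (u ∈ B ∨ t * u ∈ B)}
      one_mem' := ⟨one_mem _, Or.inl (one_mem _)⟩
      mul_mem' := by
        rintro u v ⟨hu, h1⟩ ⟨hv, h2⟩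
        refine ⟨mul_mem hu hv, ?_⟩
        have e1 := H.cU u hu
        rcases h1 with h1 | h1 <;> rcases h2 with h2 | h2
        · exact Or.inl (mul_mem h1 h2)
        · right
          have := mul_mem h1 h2
          have e : u * (t * v) = t * (u * v) := by rw [← mul_assoc, e1, mul_assoc]
          rwa [e] at this
        · right
          have := mul_mem h1 h2
          rwa [mul_assoc] at this
        · left
          have := mul_mem h1 h2
          have e : t * u * (t * v) = u * v := by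
            calc t * u * (t * v) = t * (u * t) * v := by group
              _ = (t * t) * (u * v) := by rw [e1]; group
              _ = u * v := by rw [H.tt, one_mul]
          rwa [e] at this
      inv_mem' := by
        rintro u ⟨hu, h1⟩
        refine ⟨inv_mem hu, ?_⟩
        rcases h1 with h1 | h1
        · exact Or.inl (inv_mem h1)
        · right
          have := inv_mem h1
          have e1 := H.cU _ (inv_mem hu)
          have e : (t * u)⁻¹ = t * u⁻¹ := by rw [mul_inv_rev, ti, e1]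
          rwa [e] at this }
  have hP : ∀ u, u ∈ P ↔ u ∈ U ∧ (u ∈ B ∨ t * u ∈ B) := fun u => Iff.rfl
  have hcase : ∀ x ∈ B, x ∈ P ∨ t * x ∈ P := by
    intro x hx
    rcases (H.mem_T x).1 (hBT hx) with h | h
    · exact Or.inl ⟨h, Or.inl hx⟩
    · exact Or.inr ⟨h, Or.inr (by rw [← mul_assoc, H.tt, one_mul]; exact hx)⟩
  refine ⟨P, fun u hu => hu.1, hP, ?_, fun htB => ?_⟩
  · -- `B ⊆ P ∪ t P`
    have h2 : (B : Set G) ⊆ (P : Set G) ∪ (fun w => t * w) '' (P : Set G) := by
      intro x hx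
      rcases hcase x hx with h | h
      · exact Or.inl h
      · exact Or.inr ⟨t * x, h, by show t * (t * x) = x; rw [← mul_assoc, H.tt, one_mul]⟩
    have h5 : (B : Set G).ncard ≤ _ := Set.ncard_le_ncard h2 (Set.toFinite _)
    have h6 := Set.ncard_union_le (P : Set G) ((fun w => t * w) '' (P : Set G))
    have h7 : ((fun w => t * w) '' (P : Set G)).ncard ≤ (P : Set G).ncard := Set.ncard_image_le (Set.toFinite _)
    have h8 : (P : Set G).ncard = Nat.card P := rfl
    have h9 : (B : Set G).ncard = Nat.card B := rfl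
    omega
  · apply le_antisymm
    · let φ : B → P := fun x => if hx : (x : G) ∈ P then ⟨x, hx⟩ else ⟨t * x, (hcase x x.2).resolve_left hx⟩
      refine Nat.card_le_card_of_injective φ ?_
      intro x y hxy
      simp only [φ] at hxy
      split_ifs at hxy with h1 h2 h2
      · exact Subtype.ext (congrArg (fun a : P => (a : G)) hxy)
      · exfalso
        have e : (x : G) = t * y := congrArg (fun a : P => (a : G)) hxy
        apply htB
        have e2 : t = x * (y : G)⁻¹ := by rw [e]; group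
        rw [e2]
        exact mul_mem x.2 (inv_mem y.2)
      · exfalso
        have e : t * (x : G) = y := congrArg (fun a : P => (a : G)) hxy
        apply htB
        have e2 : t = y * (x : G)⁻¹ := by rw [← e]; group
        rw [e2]
        exact mul_mem y.2 (inv_mem x.2)
      · exact Subtype.ext (mul_left_cancel (congrArg (fun a : P => (a : G)) hxy))
    · let ψ : P → B := fun u => if hu : (u : G) ∈ B then ⟨u, hu⟩ else ⟨t * u, u.2.2.resolve_left hu⟩
      refine Nat.card_le_card_of_injective ψ ?_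
      intro x y hxy
      simp only [ψ] at hxy
      split_ifs at hxy with h1 h2 h2
      · exact Subtype.ext (congrArg (fun a : B => (a : G)) hxy)
      · exfalso
        have e : (x : G) = t * y := congrArg (fun a : B => (a : G)) hxy
        apply H.tU
        have e2 : t = x * (y : G)⁻¹ := by rw [e]; group
        rw [e2]
        exact mul_mem x.2.1 (inv_mem y.2.1)
      · exfalso
        have e : t * (x : G) = y := congrArg (fun a : B => (a : G)) hxy
        apply H.tU
        have e2 : t = y * (x : G)⁻¹ := by rw [← e]; group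
        rw [e2]
        exact mul_mem y.2.1 (inv_mem x.2.1)
      · exact Subtype.ext (mul_left_cancel (congrArg (fun a : B => (a : G)) hxy))

end Sit

/-- a 2-group, from squares -/
theorem EA.p {H : Subgroup G} (h : EA H) : IsPGroup 2 H := fun x => ⟨1, Subtype.ext (by
  show (x : G) ^ 2 ^ 1 = 1
  rw [pow_one, pow_two]; exact h.sq x x.2)⟩

/-- `Θ₁` is elementary abelian of order `2¹⁰`, `T`-invariant, with `C_Θ₁(t)` of type `A₁`. -/
structure Ty (t : G) (T A₁ Θ₁ : Subgroup G) : Prop where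
  ea : EA Θ₁
  card : Nat.card Θ₁ = 2 ^ 10
  nT : ∀ s ∈ T, ∀ x ∈ Θ₁, s * x * s⁻¹ ∈ Θ₁
  tn : t ∉ Θ₁
  cardB : Nat.card (Θ₁ ⊓ centralizer {t} : Subgroup G) = 2 ^ 5
  typ : ∀ a ∈ A₁, a ∈ Θ₁ ∨ t * a ∈ Θ₁

namespace Sit

variable {t : G} {T U A₁ : Subgroup G} (H : Sit t T U A₁)

include H

theorem tΘ {Θ : Subgroup G} (hn : ∀ s ∈ T, ∀ x ∈ Θ, s * x * s⁻¹ ∈ Θ) : ∀ x ∈ Θ, t * x * t ∈ Θ := by
  intro x hx
  have := hn t H.tT x hx
  rwa [inv_eq_of_mul_eq_one_left H.tt] at this

/-- `C_Θ(t) ≤ T` -/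
theorem fixT {Θ : Subgroup G} (ea : EA Θ) (hn : ∀ s ∈ T, ∀ x ∈ Θ, s * x * s⁻¹ ∈ Θ) : Θ ⊓ centralizer {t} ≤ T := by
  refine H.inT (ea.p.to_le inf_le_left) (fun b hb => mem_centralizer_singleton_iff.1 hb.2) ?_
  intro s hs b hb
  refine mem_inf.2 ⟨hn s hs b hb.1, mem_centralizer_singleton_iff.2 ?_⟩
  have e1 := H.cT hs
  have e2 := mem_centralizer_singleton_iff.1 hb.2
  have e3 := H.cT (inv_mem hs)
  calc s * b * s⁻¹ * t = s * b * (s⁻¹ * t) := by group
    _ = s * (b * t) * s⁻¹ := by rw [e3]; group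
    _ = (s * t) * b * s⁻¹ := by rw [e2]; group
    _ = t * (s * b * s⁻¹) := by rw [e1]; group

/-- `C_T(Θ₁) ≤ Θ₁` -/
theorem ker_T [Finite G] {Θ₁ : Subgroup G} (h : Ty t T A₁ Θ₁) {c : G} (hc : c ∈ T) (hcΘ : ∀ x ∈ Θ₁, c * x = x * c) :
    c ∈ Θ₁ := by
  set B : Subgroup G := Θ₁ ⊓ centralizer {t} with hB
  have hBT : B ≤ T := H.fixT h.ea h.nT
  let K : Subgroup G := T ⊓ centralizer (Θ₁ : Set G)
  have hK : ∀ x, x ∈ K ↔ x ∈ T ∧ ∀ y ∈ Θ₁, x * y = y * x := by
    intro x
    refine ⟨fun hx => ⟨hx.1, fun y hy => (mem_centralizer_iff.1 hx.2 y hy).symm⟩, fun hx => mem_inf.2 ⟨hx.1, ?_⟩⟩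
    rw [mem_centralizer_iff]
    exact fun y hy => (hx.2 y hy).symm
  have htK : t ∉ K := by
    intro htK
    have h1 : B = Θ₁ := by
      refine le_antisymm inf_le_left fun x hx => mem_inf.2 ⟨hx, mem_centralizer_singleton_iff.2 ?_⟩
      exact (((hK t).1 htK).2 x hx).symm
    have h2 := h.cardB
    rw [← hB, h1, h.card] at h2
    norm_num at h2
  obtain ⟨P, hPU, hP, -, hc2⟩ := H.exists_pr (B := K) inf_le_left
  have hPA : P ≤ A₁ := by
    intro u hu
    obtain ⟨huU, h1⟩ := (hP u).1 hu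
    refine H.cA₁ u huU fun a ha => ?_
    have ea : a * t = t * a := H.cU a (H.A₁U ha)
    have eu : u * t = t * u := H.cU u huU
    have key : ∀ y ∈ Θ₁, u * y = y * u ∨ t * u * y = y * (t * u) := fun y hy => by
      rcases h1 with h1 | h1
      · exact Or.inl (((hK u).1 h1).2 y hy)
      · exact Or.inr (((hK _).1 h1).2 y hy)
    rcases h.typ a ha with h2 | h2
    · rcases key a h2 with h3 | h3
      · exact h3
      · have h4 : t * (u * a) = t * (a * u) := by
          calc t * (u * a) = t * u * a := by group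
            _ = (a * t) * u := by rw [h3]; group
            _ = t * (a * u) := by rw [ea]; group
        exact mul_left_cancel h4
    · rcases key _ h2 with h3 | h3
      · have h4 : t * (u * a) = t * (a * u) := by
          calc t * (u * a) = (t * u) * a := by group
            _ = u * (t * a) := by rw [← eu]; group
            _ = t * (a * u) := by rw [h3]; group
        exact mul_left_cancel h4
      · have h4 : (t * t) * (u * a) = (t * t) * (a * u) := by
          have h5 : t * (t * u) * a = t * (u * t) * a := by rw [eu]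
          calc (t * t) * (u * a) = t * (t * u) * a := by group
            _ = t * u * (t * a) := by rw [h5]; group
            _ = t * a * (t * u) := h3
            _ = t * (a * t) * u := by group
            _ = (t * t) * (a * u) := by rw [ea]; group
        rwa [H.tt, one_mul, one_mul] at h4
  have h1 : Nat.card K ≤ 2 ^ 5 := by
    rw [hc2 htK, ← H.cardA₁]
    exact Subgroup.card_le_of_le hPA
  have h2 : B ≤ K := fun x hx => (hK x).2 ⟨hBT hx, fun y hy => h.ea.ab x hx.1 y hy⟩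
  have h3 : B = K := Subgroup.eq_of_le_of_card_ge h2 (by rw [hB, h.cardB]; exact h1)
  have h4 : c ∈ B := by rw [h3]; exact (hK c).2 ⟨hc, hcΘ⟩
  exact h4.1

/-- `C_G(Θ₁) / Θ₁` has odd order -/
theorem odd_cent [Finite G] {Θ₁ : Subgroup G} (h : Ty t T A₁ Θ₁) {c : G} (hcc : c * c ∈ Θ₁)
    (hcΘ : ∀ x ∈ Θ₁, c * x = x * c) : c ∈ Θ₁ := by
  by_contra hcn
  have tΘ := H.tΘ h.nT
  have hD : ∀ x, x ∈ centralizer (Θ₁ : Set G) ↔ ∀ y ∈ Θ₁, x * y = y * x := fun x => by
    rw [mem_centralizer_iff]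
    exact ⟨fun hx y hy => (hx y hy).symm, fun hx y hy => (hx y hy).symm⟩
  obtain ⟨c, hc, hcn, hcc, hcT⟩ := exists_fix_mod (T := T) (Θ := Θ₁) (D := centralizer (Θ₁ : Set G)) H.pT h.nT
    (by
      intro s hs x hx
      rw [hD] at hx ⊢
      intro y hy
      have h1 := hx _ (h.nT s⁻¹ (inv_mem hs) y hy)
      rw [inv_inv] at h1
      calc s * x * s⁻¹ * y = s * (x * (s⁻¹ * y * s)) * s⁻¹ := by group
        _ = y * (s * x * s⁻¹) := by rw [h1]; group)
    (by
      intro s hs x hx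
      rw [(hD s).1 hs x hx, mul_inv_cancel_right]
      exact hx)
    (fun x hx => (hD x).2 fun y hy => h.ea.ab x hx y hy) ⟨c, (hD c).2 hcΘ, hcn, hcc⟩
  have hc' := (hD c).1 hc
  have ti : t⁻¹ = t := inv_eq_of_mul_eq_one_left H.tt
  have h1 : c⁻¹ * (t * c * t) ∈ Θ₁ := by
    have h2 := hcT t H.tT
    rw [ti] at h2
    have h3 := hc' _ h2
    have e : c⁻¹ * (t * c * t) = t * c * t * c⁻¹ := by
      calc c⁻¹ * (t * c * t) = c⁻¹ * ((t * c * t * c⁻¹) * c) := by group
        _ = c⁻¹ * (c * (t * c * t * c⁻¹)) := by rw [← h3]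
        _ = t * c * t * c⁻¹ := by group
    rw [e]; exact h2
  obtain ⟨b, hb, hbt⟩ := adj H.tt h.ea tΘ (m := 2 ^ 5) (by rw [h.card]; norm_num) h.cardB.le h1
  -- the 2-group `Θ₁ ⟨c⟩ T`
  have hcp : IsPGroup 2 (zpowers c) := by
    apply StdLThreeFour.Syl.isPGroup_zpowers (n := 2)
    have h2 := h.ea.sq _ hcc
    rw [show (2 : ℕ) ^ 2 = 2 + 2 from rfl, pow_add, pow_two]
    exact h2
  have hM : IsPGroup 2 (Θ₁ ⊔ zpowers c : Subgroup G) := by
    refine IsPGroup.to_sup_of_normal_left' h.ea.p hcp ?_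
    rw [zpowers_le, mem_normalizer_iff]
    intro x
    constructor
    · intro hx
      rw [hc' x hx, mul_inv_cancel_right]
      exact hx
    · intro hx
      have h2 := hc' _ hx
      have e : x = c * x * c⁻¹ := by
        have h3 : c * (c * x * c⁻¹) = (c * x * c⁻¹) * c := h2
        have h4 : c * (c * x * c⁻¹) = c * x := by rw [h3]; group
        exact (mul_left_cancel h4).symm
      rw [e]; exact hx
  have hTM : T ≤ normalizer ((Θ₁ ⊔ zpowers c : Subgroup G) : Set G) := by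
    have hn : ∀ s ∈ T, ∀ x ∈ (Θ₁ ⊔ zpowers c : Subgroup G), s * x * s⁻¹ ∈ (Θ₁ ⊔ zpowers c : Subgroup G) := by
      intro s hs
      have h2 : (Θ₁ ⊔ zpowers c : Subgroup G) ≤ (Θ₁ ⊔ zpowers c : Subgroup G).comap (MulAut.conj s).toMonoidHom := by
        refine sup_le ?_ ?_
        · intro x hx
          exact mem_sup_left (h.nT s hs x hx)
        · rw [zpowers_le]
          change s * c * s⁻¹ ∈ (Θ₁ ⊔ zpowers c : Subgroup G)
          have e : s * c * s⁻¹ = (s * c * s⁻¹ * c⁻¹) * c := by group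
          rw [e]
          exact mul_mem (mem_sup_left (hcT s hs)) (mem_sup_right (mem_zpowers c))
      exact fun x hx => h2 hx
    intro s hs
    rw [mem_normalizer_iff]
    intro x
    constructor
    · exact hn s hs x
    · intro hx
      have := hn s⁻¹ (inv_mem hs) _ hx
      have e : s⁻¹ * (s * x * s⁻¹) * s⁻¹⁻¹ = x := by group
      rwa [e] at this
  have hS : IsPGroup 2 ((Θ₁ ⊔ zpowers c) ⊔ T : Subgroup G) := IsPGroup.to_sup_of_normal_left' hM H.pT hTM
  have hST : ((Θ₁ ⊔ zpowers c) ⊔ T) ⊓ centralizer {t} ≤ T :=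
    H.syl _ (hS.to_le inf_le_left) (le_inf le_sup_right fun a ha => mem_centralizer_singleton_iff.2 (H.cT ha))
      fun a ha => mem_centralizer_singleton_iff.1 ha.2
  have hcb : c * b ∈ T := hST (mem_inf.2 ⟨mem_sup_left (mul_mem (mem_sup_right (mem_zpowers c)) (mem_sup_left hb)),
    mem_centralizer_singleton_iff.2 hbt⟩)
  have h5 : c * b ∈ Θ₁ := H.ker_T h hcb fun x hx => by
    calc c * b * x = c * (b * x) := by group
      _ = (c * x) * b := by rw [h.ea.ab b hb x hx]; group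
      _ = x * (c * b) := by rw [hc' x hx]; group
  exact hcn (by
    have h6 := mul_mem h5 (inv_mem hb)
    rwa [mul_inv_cancel_right] at h6)

end Sit

end Cfsg.Agent.OddHalf.D7Tits.AltType
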