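import Cfsg.Agent.OddHalf.TFormula

/-!
# ODD D7, `K = ²F₄(2)'` (Tits): common definitions (helper853; text: bb ODD 15617 of helper903)

`a^b = b⁻¹ a b`.

* `KT Y` : the K-facts. `Y` is the Tits group (case CL, `j = 1`) or `²F₄(2)` (case OUT, `j * j = z`).
* `Pos K i t n` : the output of section 1. `C_G(t) = ⟨t⟩ × i Y`, `n` is an involution centralising `i E`, `[n, t] = z`.
* `Uniq T X`, `TF T t` : the T-formula, in the form with one `T`-fixed coset; `tf_of_perfect`, `TF.map`.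
* `Th K i t n Θ` : the output of section 2.
-/

set_option autoImplicit false
set_option linter.unusedSectionVars false
set_option linter.unusedVariables false

namespace Cfsg.Agent.OddHalf.D7Tits.Defs

open scoped commutatorElement

universe u v w

/-! ### The K-facts -/

/-- the product of the conjugates of `u` under `⟨x⟩` -/
def pr {Y : Type u} [Group Y] (x u : Y) : Y :=
  u * (x * u * x⁻¹) * (x ^ 2 * u * (x ^ 2)⁻¹) * (x ^ 3 * u * (x ^ 3)⁻¹) * (x ^ 4 * u * (x ^ 4)⁻¹)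

/-- **K-facts** on `Y`, `Y` = Tits group (`j = 1`) or `Y = ²F₄(2)` (`j * j = z`). -/
structure KT (Y : Type u) [Group Y] where
  /-- the 2A involution -/
  z : Y
  /-- order 5 -/
  x : Y
  /-- order 4, `x^s = x²` -/
  s : Y
  /-- `1` (CL) or an element of order 4 with square `z` (OUT) -/
  j : Y
  /-- the points of `A`: `D ∩ A = {z, q i, z * q i}` -/
  q : ZMod 5 → Y
  /-- an element of `Q` that moves exactly `q 0`, `q 1` -/
  r : Y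
  /-- `τ r = r * aj` -/
  aj : Y
  /-- type W: `r ↦ r * aw` (`c ∈ F₄ ∖ F₂`) -/
  aw : Y
  /-- `Y → Y`, the action of `j ∈ ²F₄(2)` -/
  τ : MulAut Y
  U : Subgroup Y
  P : Subgroup Y
  Q : Subgroup Y
  A : Subgroup Y
  E : Subgroup Y
  fin : Finite Y
  zz : z * z = 1
  z1 : z ≠ 1
  mem_P : ∀ y, y ∈ P ↔ y * z = z * y
  -- inclusions
  z_A : z ∈ A
  A_le_Q : A ≤ Q
  Q_le_E : Q ≤ E
  E_le_P : E ≤ P
  Q_le_U : Q ≤ U
  U_le_P : U ≤ P
  x_E : x ∈ E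
  s_U : s ∈ U
  j_U : j ∈ U
  r_Q : r ∈ Q
  q_A : ∀ k, q k ∈ A
  -- orders
  card_A : Nat.card A = 2 ^ 5
  card_Q : Nat.card Q = 2 ^ 9
  sq_A : ∀ a ∈ A, a * a = 1
  x5 : x ^ 5 = 1
  x1 : x ≠ 1
  s4 : s ^ 4 = 1
  x_s : s⁻¹ * x * s = x * x
  /-- CL or OUT -/
  j_or : j = 1 ∨ j * j = z ∧ ∀ y, τ y = j * y * j⁻¹
  -- normality in `P`
  nor_A : ∀ p ∈ P, ∀ a ∈ A, p * a * p⁻¹ ∈ A
  nor_Q : ∀ p ∈ P, ∀ a ∈ Q, p * a * p⁻¹ ∈ Q
  nor_E : ∀ p ∈ P, ∀ a ∈ E, p * a * p⁻¹ ∈ E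
  -- decompositions
  E_cases : ∀ e ∈ E, ∃ u ∈ Q, ∃ k : ℕ, e = u * x ^ k
  P_cases : ∀ p ∈ P, ∃ e ∈ E, ∃ k l : ℕ, p = e * s ^ k * j ^ l
  U_cases : ∀ p ∈ U, ∃ u ∈ Q, ∃ k l : ℕ, p = u * s ^ k * j ^ l
  /-- `P / E` is cyclic of order 4 (CL), `P / E⟨j⟩` is cyclic of order 4 (OUT) -/
  sq_E : ∀ p ∈ P, p * p ∈ E → ∃ e ∈ E, ∃ l : ℕ, p = e * j ^ l ∨ p = e * (s * s) * j ^ l
  -- characterisations
  E_mem : ∀ p ∈ P, p ^ 5 = 1 → p ∈ E
  E_le : E ≤ Subgroup.closure {p | p ∈ P ∧ p ^ 5 = 1}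
  Q_mem : ∀ e ∈ E, e ^ 4 = 1 → e ∈ Q
  Q_pow : ∀ e ∈ Q, e ^ 4 = 1
  comm_Q : ⁅Q, Q⁆ = A
  E_gen : E ≤ Subgroup.closure {r, x}
  /-- Sylow 5-subgroups of `E` -/
  syl5 : ∀ g ∈ E, g ^ 5 = 1 → g ≠ 1 → ∃ u ∈ Q, ∃ k : ℕ, g = u * x ^ k * u⁻¹
  -- centralisers
  cent_x : ∀ p ∈ P, p * x = x * p → ∃ k l m : ℕ, p = x ^ k * z ^ l * j ^ m
  cent_A_x : ∀ a ∈ A, a * x = x * a → a = 1 ∨ a = z
  cent_E : ∀ y : Y, (∀ e ∈ E, y * e = e * y) → y = 1 ∨ y = z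
  cent_Q : ∀ y : Y, (∀ e ∈ Q, y * e = e * y) → y = 1 ∨ y = z
  cent_A : ∀ y : Y, (∀ a ∈ A, y * a = a * y) → ∃ a ∈ A, ∃ l : ℕ, y = a * j ^ l
  norm_A : ∀ y : Y, (∀ a ∈ A, y * a * y⁻¹ ∈ A) → y ∈ P
  -- the automorphism `τ`
  τz : τ z = z
  τx : τ x = x
  τs : τ s = s
  τj : τ j = j
  τA : ∀ a ∈ A, τ a = a
  τQ : ∀ a ∈ Q, τ a * a⁻¹ ∈ A
  ττ : ∀ y, τ (τ y) = z * y * z⁻¹
  τr : τ r = r * aj
  aj_A : aj ∈ A
  aw_A : aw ∈ A
  /-- the automorphisms of `E` that are trivial on `A`, `Q / A`, `x` -/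
  KA : ∀ a ∈ A, r * a * (r * a) = r * r →
    (∀ k : ℕ, ⁅r * a, x ^ k * (r * a) * (x ^ k)⁻¹⁆ = ⁅r, x ^ k * r * (x ^ k)⁻¹⁆) → pr x (r * a) = pr x r →
    a = 1 ∨ a = aj ∨ a = aw ∨ a = aj * aw
  pr_A : pr x r ∈ A
  /-- `x` acts fixed point freely on `Q / A` -/
  xr : ∀ k : ℕ, x ^ k * r * (x ^ k)⁻¹ * r⁻¹ ∈ A → x ^ k = 1
  /-- `A / z` is irreducible for `x` -/
  irr_A : ∀ B : Subgroup Y, z ∈ B → B ≤ A → (∀ b ∈ B, x⁻¹ * b * x ∈ B) → (∃ b ∈ B, b ≠ 1 ∧ b ≠ z) → A ≤ B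
  /-- `Q / A` is irreducible for `x` -/
  irr_Q : ∀ B : Subgroup Y, A ≤ B → B ≤ Q → (∀ b ∈ B, x⁻¹ * b * x ∈ B) → (∃ b ∈ B, b ∉ A) → Q ≤ B
  /-- `s r s⁻¹` as a word -/
  KS : ∃ a ∈ A, s * r * s⁻¹ = (x ^ 3)⁻¹ * r * x ^ 3 * ((x ^ 4)⁻¹ * r * x ^ 4) * a
  /-- `s` does not commute with type W -/
  KW : ∀ a, a = aw ∨ a = aj * aw →
    s * a * s⁻¹ ≠ ((x ^ 4)⁻¹ * r * x ^ 4)⁻¹ * ((x ^ 3)⁻¹ * a * x ^ 3) * ((x ^ 4)⁻¹ * r * x ^ 4) * ((x ^ 4)⁻¹ * a * x ^ 4)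
  -- the points of `A`
  q_x : ∀ k, x⁻¹ * q k * x = q (k + 1)
  q_s : ∀ k, s⁻¹ * q k * s = q (2 * k)
  q_prod : q 0 * q 1 * q 2 * q 3 * q 4 = 1
  /-- `A = ⟨z, q 0, q 1, q 2, q 3⟩` -/
  A_gen : A ≤ Subgroup.closure ({z} ∪ Set.range q)
  /-- `Q` acts on `A / z` trivially -/
  q_Q : ∀ u ∈ Q, ∀ k, u⁻¹ * q k * u = q k ∨ u⁻¹ * q k * u = q k * z
  /-- the kernel of `Q` on `A` is `A` -/
  Q_ker : ∀ u ∈ Q, (∀ k, u⁻¹ * q k * u = q k) → u ∈ A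
  r0 : r⁻¹ * q 0 * r = q 0 * z
  r1 : r⁻¹ * q 1 * r = q 1 * z
  r2 : r⁻¹ * q 2 * r = q 2
  r3 : r⁻¹ * q 3 * r = q 3
  r4 : r⁻¹ * q 4 * r = q 4
  /-- the points are conjugate to `z` -/
  pt : ∀ k, ∃ g : Y, g⁻¹ * z * g = q k
  pt' : ∀ k, ∃ g : Y, g⁻¹ * z * g = z * q k
  /-- collinearity is symmetric -/
  sym : ∀ g : Y, g⁻¹ * z * g ∈ A → g * z * g⁻¹ ∈ A
  /-- the element of order 3 on the line `{z, q 0, z * q 0}` -/
  line : ∃ g : Y, g⁻¹ * z * g = q 0 ∧ g⁻¹ * q 0 * g = z * q 0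
  -- the Sylow group
  U_p : IsPGroup 2 U
  U_odd : ¬ 2 ∣ U.index
  /-- the second normal elementary abelian subgroup of order `2^5` of `U` (helper956, helper381) -/
  A₁ : Subgroup Y
  A₁_le : A₁ ≤ Q
  A₁_ne : A₁ ≠ A
  A₁_card : Nat.card A₁ = 2 ^ 5
  A₁_sq : ∀ a ∈ A₁, a * a = 1
  A₁_nor : ∀ u ∈ U, ∀ a ∈ A₁, u * a * u⁻¹ ∈ A₁
  cent_A₁ : ∀ y ∈ U, (∀ a ∈ A₁, y * a = a * y) → y ∈ A₁
  A₁_conj : ∀ a ∈ A₁, a ≠ 1 → ∃ g : Y, g⁻¹ * a * g ∈ A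
  /-- (K2') -/
  K2 : ∀ B : Subgroup Y, B ≤ U → (∀ a ∈ B, a * a = 1) → (∀ u ∈ U, ∀ a ∈ B, u * a * u⁻¹ ∈ B) → 2 ^ 5 ≤ Nat.card B →
    B = A ∨ B = A₁
  /-- (KF), only CL: `U / A₁` has no normal elementary abelian subgroup of order `2^4` -/
  KF : j = 1 → ∀ B : Subgroup Y, B ≤ U → A₁ ≤ B → (∀ a ∈ B, a * a ∈ A₁) → (∀ u ∈ U, ∀ a ∈ B, u * a * u⁻¹ ∈ B) →
    (∀ a ∈ B, ∀ b ∈ B, ⁅a, b⁆ ∈ A₁) → Nat.card B < 2 ^ 9
  /-- (KW₁) for type W -/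
  KW₁ : ∀ B : Subgroup Y, B ≤ U → (∀ u ∈ B, ∀ a ∈ A₁, ⁅a, u⁆ = 1 ∨ ⁅a, u⁆ = z) → Nat.card B ≤ 2 ^ 8
  /-- (K3) -/
  K3 : ∀ B : Subgroup Y, (∀ a ∈ B, a * a = 1) → Nat.card B ≤ 2 ^ 8
  /-- (K4) -/
  K4 : ∀ y : Y, (∀ u ∈ U, y * u * y⁻¹ ∈ U) → y ∈ U
  cent_U : ∀ y : Y, (∀ u ∈ U, y * u = u * y) → y = 1 ∨ y = z
  /-- the conjugates of `z` in `A` are the 11 points (helper927, helper583) -/
  pts : ∀ g : Y, g⁻¹ * z * g ∈ A → g⁻¹ * z * g = z ∨ ∃ k, g⁻¹ * z * g = q k ∨ g⁻¹ * z * g = z * q k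

/-! ### The T-formula -/

section TF

variable {G : Type v} [Group G]

/-- `T` fixes exactly one coset of `X` -/
def Uniq (T X : Subgroup G) : Prop := ∀ g : G, (∀ a ∈ T, g⁻¹ * a * g ∈ X) → g ∈ X

/-- the T-formula -/
def TF (T : Subgroup G) (t : G) : Prop :=
  ∀ X : Subgroup G, T ≤ X → Uniq T X → ∀ (μ : X →* Multiplicative (ZMod 2)) (ht : t ∈ X), μ ⟨t, ht⟩ = 1

/-- **The T-formula** holds in a perfect group. -/
theorem tf_of_perfect [Finite G] (hG : commutator G = ⊤) {T : Subgroup G} {t : G} (tt : t * t = 1)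
    (hT : IsPGroup 2 T) (hTt : ∀ a ∈ T, a * t = t * a) (htT : t ∈ T) : TF T t := by
  classical
  intro X hTX hu μ ht
  have : Fintype (G ⧸ X) := Fintype.ofFinite _
  obtain ⟨f, hf, S, hS, hprod⟩ := TFormula.transfer_eq_prod X μ t tt T hT hTt
  have hsm : ∀ x g : G, x • ((g : G) : G ⧸ X) = g ↔ g⁻¹ * x * g ∈ X := by
    intro x g
    rw [MulAction.Quotient.smul_mk, smul_eq_mul, QuotientGroup.eq]
    have e : (x * g)⁻¹ * g = (g⁻¹ * x * g)⁻¹ := by group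
    rw [e, inv_mem_iff]
  have hS1 : S = {((1 : G) : G ⧸ X)} := by
    ext q
    rw [hS, Finset.mem_singleton]
    obtain ⟨g, rfl⟩ := QuotientGroup.mk_surjective q
    constructor
    · rintro ⟨-, h⟩
      have h1 := hu g fun a ha => (hsm a g).1 (h a ha)
      rw [eq_comm, QuotientGroup.eq, inv_one, one_mul]
      exact h1
    · intro h
      rw [h]
      exact ⟨(hsm t 1).2 (by simpa using ht), fun a ha => (hsm a 1).2 (by simpa using hTX ha)⟩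
  have h1 := TFormula.hom_eq_one hG (MonoidHom.transfer μ) t
  rw [hprod, hS1, Finset.prod_singleton, hf _ 1 rfl (by simpa using ht)] at h1
  have e : (⟨(1 : G)⁻¹ * t * 1, by simpa using ht⟩ : X) = ⟨t, ht⟩ := by
    apply Subtype.ext
    show (1 : G)⁻¹ * t * 1 = t
    rw [inv_one, one_mul, mul_one]
  rwa [e] at h1

/-- the T-formula passes to `N / C`, if `T` fixes exactly one coset of `N` -/
theorem TF.map {T N : Subgroup G} {t : G} (h : TF T t) (htT : t ∈ T) (hTN : T ≤ N) (hN : Uniq T N) {Y : Type w} [Group Y]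
    (f : N →* Y) (hf : Function.Surjective f) (T' : Subgroup Y) (hT' : T' = (T.subgroupOf N).map f) :
    TF T' (f ⟨t, hTN htT⟩) := by
  intro X hX hu μ ht
  -- the preimage of `X`
  let X' : Subgroup G := (X.comap f).map N.subtype
  have hmem : ∀ g : G, g ∈ X' ↔ ∃ hg : g ∈ N, f ⟨g, hg⟩ ∈ X := by
    intro g
    constructor
    · rintro ⟨a, ha, rfl⟩
      exact ⟨a.2, ha⟩
    · rintro ⟨hg, h1⟩
      exact ⟨⟨g, hg⟩, h1, rfl⟩
  have hTX : T ≤ X' := fun a ha => (hmem a).2 ⟨hTN ha, hX (by rw [hT']; exact ⟨⟨a, hTN ha⟩, ha, rfl⟩)⟩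
  have hu' : Uniq T X' := by
    intro g hg
    have hgN : g ∈ N := hN g fun a ha => ((hmem _).1 (hg a ha)).1
    refine (hmem g).2 ⟨hgN, hu _ ?_⟩
    rw [hT']
    rintro _ ⟨a, ha, rfl⟩
    obtain ⟨h1, h2⟩ := (hmem _).1 (hg a ha)
    rw [← map_inv, ← map_mul, ← map_mul]
    exact h2
  let g : X' →* X :=
    { toFun := fun a => ⟨f ⟨a, ((hmem _).1 a.2).1⟩, ((hmem _).1 a.2).2⟩
      map_one' := by
        apply Subtype.ext
        show f ⟨1, _⟩ = 1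
        rw [← map_one f]
        rfl
      map_mul' := by
        intro a b
        apply Subtype.ext
        show f ⟨a * b, _⟩ = f ⟨a, _⟩ * f ⟨b, _⟩
        rw [← map_mul]
        rfl }
  exact h X' hTX hu' (μ.comp g) (hTX htT)

end TF

/-! ### The position -/

variable {Y : Type u} [Group Y] {G : Type v} [Group G]

/-- **Output of the front** (S0). `K₀ ≤ Y` is the Tits group, `i₀ : K₀ → G`. CL: `Y = K₀`, `j = 1`, `f = 1`.
OUT: `Y = ²F₄(2)`, `f ∈ C_G(t)` acts on `i₀ K₀` as `j`, `f * f ∈ z⟨t⟩`. -/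
structure Pos0 (K : KT Y) (K₀ : Subgroup Y) (i₀ : ↥K₀ →* G) (t f : G) : Prop where
  finG : Finite G
  perf : commutator G = ⊤
  inj : Function.Injective i₀
  tt : t * t = 1
  t1 : t ≠ 1
  ti : ∀ y, t * i₀ y = i₀ y * t
  tY : ∀ y, i₀ y ≠ t
  EK : K.E ≤ K₀
  sK : K.s ∈ K₀
  /-- `Y = K₀⟨j⟩` -/
  Yj : ∀ y : Y, y ∈ K₀ ∨ y * K.j⁻¹ ∈ K₀
  /-- CL or OUT -/
  fj : (K.j = 1 ∧ f = 1) ∨ (K.j ∉ K₀ ∧ f * f = i₀ ⟨K.z, EK (K.Q_le_E (K.A_le_Q K.z_A))⟩) ∨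
    (K.j ∉ K₀ ∧ f * f = t * i₀ ⟨K.z, EK (K.Q_le_E (K.A_le_Q K.z_A))⟩)
  ft : f * t = t * f
  τK : ∀ y ∈ K₀, K.τ y ∈ K₀
  /-- OUT: `f` acts as `j` -/
  fi : f ≠ 1 → ∀ (y : Y) (hy : y ∈ K₀), f * i₀ ⟨y, hy⟩ * f⁻¹ = i₀ ⟨K.τ y, τK y hy⟩
  /-- `C_G(t) = ⟨t⟩ i₀(K₀) ⟨f⟩` -/
  cen : ∀ c : G, c * t = t * c → ∃ y, c = i₀ y ∨ c = t * i₀ y ∨ c = i₀ y * f ∨ c = t * i₀ y * f
  /-- the element of the front: `n ∈ N_G(T)`, `t^n = t z` -/
  fus : ∃ n : G, n * t * n⁻¹ = t * i₀ ⟨K.z, EK (K.Q_le_E (K.A_le_Q K.z_A))⟩ ∧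
    n * i₀ ⟨K.z, EK (K.Q_le_E (K.A_le_Q K.z_A))⟩ = i₀ ⟨K.z, EK (K.Q_le_E (K.A_le_Q K.z_A))⟩ * n

/-- `T = ⟨t⟩ × U` -/
def TT (K : KT Y) (i : Y →* G) (t : G) : Subgroup G := Subgroup.zpowers t ⊔ K.U.map i

/-- **The position**: output of section 1 (type O). -/
structure Pos (K : KT Y) (i : Y →* G) (t n : G) : Prop where
  finG : Finite G
  perf : commutator G = ⊤
  inj : Function.Injective i
  tt : t * t = 1
  t1 : t ≠ 1
  ti : ∀ y : Y, t * i y = i y * t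
  tY : ∀ y : Y, i y ≠ t
  /-- `C_G(t) = ⟨t⟩ × i Y` -/
  cen : ∀ c : G, c * t = t * c → ∃ y : Y, c = i y ∨ c = t * i y
  nn : n * n = 1
  /-- `[n, t] = z` -/
  nt : t * n * t = n * i K.z
  /-- `n` centralises `i E`, `i j` -/
  nE : ∀ e ∈ K.E, n * i e = i e * n
  nj : n * i K.j = i K.j * n
  /-- `n^p ∈ n⟨z⟩`, with `n^p = n` on `E⟨j, s²⟩` -/
  nP : ∀ p ∈ K.P, (i p)⁻¹ * n * i p = n ∨ (i p)⁻¹ * n * i p = n * i K.z
  nP' : ∀ p ∈ K.P, p * p ∈ K.E → n * i p = i p * n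

namespace Pos

variable {K : KT Y} {i : Y →* G} {t n : G} (H : Pos K i t n)

include H

theorem t_inv : t⁻¹ = t := inv_eq_of_mul_eq_one_left H.tt

theorem n_inv : n⁻¹ = n := inv_eq_of_mul_eq_one_left H.nn

theorem nz : n * i K.z = i K.z * n := H.nE _ (K.Q_le_E (K.A_le_Q K.z_A))

theorem tmap (y : Y) : t * (i y)⁻¹ = (i y)⁻¹ * t := by
  have := H.ti y⁻¹
  rwa [map_inv] at this

theorem mem_TT {g : G} : g ∈ TT K i t ↔ ∃ y ∈ K.U, g = i y ∨ g = t * i y := by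
  constructor
  · intro hg
    have hle : TT K i t ≤ ({ carrier := {g | ∃ y ∈ K.U, g = i y ∨ g = t * i y}
                             one_mem' := ⟨1, one_mem _, Or.inl (map_one i).symm⟩
                             mul_mem' := by
                              rintro a b ⟨y, hy, ha⟩ ⟨y', hy', hb⟩
                              refine ⟨y * y', mul_mem hy hy', ?_⟩
                              rcases ha with rfl | rfl <;> rcases hb with rfl | rfl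
                              · exact Or.inl (map_mul i _ _).symm
                              · right
                                rw [map_mul]
                                calc i y * (t * i y') = (i y * t) * i y' := by group
                                  _ = t * (i y * i y') := by rw [← H.ti]; group
                              · right
                                rw [map_mul, mul_assoc]
                              · left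
                                rw [map_mul]
                                calc t * i y * (t * i y') = (t * i y * t) * i y' := by group
                                  _ = i y * i y' := by
                                    rw [H.ti, mul_assoc (i y) t t, H.tt, mul_one]
                             inv_mem' := by
                              rintro a ⟨y, hy, ha⟩
                              refine ⟨y⁻¹, inv_mem hy, ?_⟩
                              rcases ha with rfl | rfl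
                              · exact Or.inl (map_inv i _).symm
                              · right
                                rw [mul_inv_rev, H.t_inv, map_inv, ← H.tmap] } : Subgroup G) := by
      refine sup_le ((Subgroup.zpowers_le).2 ⟨1, one_mem _, Or.inr (by rw [map_one, mul_one])⟩) ?_
      rintro _ ⟨y, hy, rfl⟩
      exact ⟨y, hy, Or.inl rfl⟩
    exact hle hg
  · rintro ⟨y, hy, rfl | rfl⟩
    · exact Subgroup.mem_sup_right ⟨y, hy, rfl⟩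
    · exact mul_mem (Subgroup.mem_sup_left (Subgroup.mem_zpowers t)) (Subgroup.mem_sup_right ⟨y, hy, rfl⟩)

theorem t_TT : t ∈ TT K i t := Subgroup.mem_sup_left (Subgroup.mem_zpowers t)

theorem TT_t : ∀ a ∈ TT K i t, a * t = t * a := by
  intro a ha
  obtain ⟨y, -, rfl | rfl⟩ := H.mem_TT.1 ha
  · exact (H.ti y).symm
  · rw [mul_assoc, ← H.ti, ← mul_assoc]

theorem pT : IsPGroup 2 (TT K i t) := by
  rintro ⟨a, ha⟩
  obtain ⟨y, hy, h⟩ := H.mem_TT.1 ha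
  obtain ⟨k, hk⟩ := K.U_p ⟨y, hy⟩
  have hy2 : y ^ 2 ^ k = 1 := congrArg Subtype.val hk
  refine ⟨k + 1, Subtype.ext ?_⟩
  show a ^ 2 ^ (k + 1) = 1
  have h1 : (i y) ^ 2 ^ (k + 1) = 1 := by
    rw [← map_pow, pow_succ, pow_mul, hy2, one_pow, map_one]
  rcases h with rfl | rfl
  · exact h1
  · rw [(show Commute t (i y) from H.ti y).mul_pow, h1, mul_one, pow_succ', pow_mul, pow_two, H.tt, one_pow]

/-- **The T-formula** -/
theorem tf : TF (TT K i t) t := by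
  have := H.finG
  exact tf_of_perfect H.perf H.tt H.pT H.TT_t H.t_TT

end Pos

/-! ### Output of section 2 -/

/-- **`Θ`** (output of section 2). -/
structure Th (K : KT Y) (i : Y →* G) (t n : G) (Θ : Subgroup G) : Prop where
  ab : ∀ a ∈ Θ, ∀ b ∈ Θ, a * b = b * a
  sq : ∀ a ∈ Θ, a * a = 1
  card : Nat.card Θ = 2 ^ 10
  A_le : K.A.map i ≤ Θ
  n_mem : n ∈ Θ
  /-- `C_Θ(t) = A` -/
  fix : ∀ a ∈ Θ, a * t = t * a → a ∈ K.A.map i
  /-- `[Θ, t] ≤ A` -/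
  tau : ∀ a ∈ Θ, t * a * t * a ∈ K.A.map i
  /-- every `a ∈ A` is a commutator `[θ, t]` -/
  sur : ∀ a ∈ K.A, ∃ b ∈ Θ, t * b * t = b * i a
  nt : ∀ a ∈ Θ, t * a * t ∈ Θ
  nP : ∀ p ∈ K.P, ∀ a ∈ Θ, i p * a * (i p)⁻¹ ∈ Θ
  /-- `j` centralises `Θ` -/
  nj : ∀ a ∈ Θ, a * i K.j = i K.j * a
  /-- every point `v` of `A` has an `m ∈ Θ` with `[m, t] = v` that is a conjugate of `n` under `i Y` -/
  pt : ∀ g : Y, g⁻¹ * K.z * g ∈ K.A → (i g)⁻¹ * n * i g ∈ Θ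

end Cfsg.Agent.OddHalf.D7Tits.Defs
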