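import Cfsg.Agent.OddHalf.D7Tits.YAbs
import Cfsg.Agent.OddHalf.D7Tits.Defs

/-!
# ODD D7, `K = ²F₄(2)'`: `Y = N_G(Θ)/C_G(Θ)` satisfies `YH` (helper625; text: bb 15617, 3.3)

From `Pos K i t n` (output of section 1) and `Th K i t n Θ` (output of section 2):
`yh0` : all fields of `YH` but the T-formula; `Tb_eq` : `Tb` is the image of `T`; `exists_yh`.
`Y = (normalizerMonoidHom Θ).range` acts on `Θ` by evaluation.
-/

set_option autoImplicit false
set_option linter.unusedSectionVars false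
set_option linter.unusedVariables false

namespace Cfsg.Agent.OddHalf.D7Tits.YOf

open Subgroup Defs YAbs

universe u v

variable {Y : Type u} [Group Y] {G : Type v} [Group G] {K : KT Y} {i : Y →* G} {t n : G} {Θ : Subgroup G}

/-- `Θ` is commutative -/
@[reducible] def cg (hΘ : ∀ a ∈ Θ, ∀ b ∈ Θ, a * b = b * a) : CommGroup ↥Θ :=
  { (inferInstance : Group ↥Θ) with mul_comm := fun a b => Subtype.ext (hΘ a a.2 b b.2) }

/-- `Y = N_G(Θ) / C_G(Θ)` -/
abbrev YY (Θ : Subgroup G) : Subgroup (MulAut ↥Θ) := (normalizerMonoidHom Θ).range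

/-- the projection `N_G(Θ) → Y` -/
abbrev proj (Θ : Subgroup G) : ↥(normalizer (Θ : Set G)) →* ↥(YY Θ) := (normalizerMonoidHom Θ).rangeRestrict

theorem proj_sur (Θ : Subgroup G) : Function.Surjective (proj Θ) := MonoidHom.rangeRestrict_surjective _

theorem proj_apply (g : ↥(normalizer (Θ : Set G))) (θ : Θ) :
    ((((proj Θ g : ↥(YY Θ)) : MulAut ↥Θ) θ : ↥Θ) : G) = g * θ * (g : G)⁻¹ := rfl

theorem proj_eq_one {g : ↥(normalizer (Θ : Set G))} : proj Θ g = 1 ↔ ∀ θ ∈ Θ, (g : G) * θ = θ * g := by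
  constructor
  · intro h θ hθ
    have h1 := proj_apply g ⟨θ, hθ⟩
    rw [h] at h1
    have h2 : θ = (g : G) * θ * (g : G)⁻¹ := h1
    rw [eq_mul_inv_iff_mul_eq] at h2
    exact h2.symm
  · intro h
    apply Subtype.ext
    ext θ
    rw [proj_apply, h θ θ.2]
    show (θ : G) * g * (g : G)⁻¹ = θ
    group

theorem mem_nor {g : G} (h1 : ∀ a ∈ Θ, g * a * g⁻¹ ∈ Θ) (h2 : ∀ a ∈ Θ, g⁻¹ * a * g ∈ Θ) :
    g ∈ normalizer (Θ : Set G) := by
  rw [mem_normalizer_iff]
  intro h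
  refine ⟨h1 h, fun h' => ?_⟩
  have h3 := h2 _ h'
  have e : g⁻¹ * (g * h * g⁻¹) * g = h := by group
  rwa [e] at h3

section defs

variable (P : Pos K i t n) (H : Th K i t n Θ)

include P H in
theorem t_mem : t ∈ normalizer (Θ : Set G) := by
  refine mem_nor (fun a ha => ?_) (fun a ha => ?_)
  · rw [P.t_inv]; exact H.nt a ha
  · rw [P.t_inv]; exact H.nt a ha

include H in
theorem p_mem {p : Y} (hp : p ∈ K.P) : i p ∈ normalizer (Θ : Set G) := by
  refine mem_nor (fun a ha => H.nP p hp a ha) (fun a ha => ?_)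
  have h := H.nP _ (inv_mem hp) a ha
  rwa [map_inv, inv_inv] at h

/-- `t ∈ Y` -/
def tY : ↥(YY Θ) := proj Θ ⟨t, t_mem P H⟩

/-- `P → Y` -/
def eP : ↥K.P →* ↥(YY Θ) :=
  (proj Θ).comp ((i.comp K.P.subtype).codRestrict (normalizer (Θ : Set G)) fun p => p_mem H p.2)

theorem eP_apply (p : ↥K.P) : eP H p = proj Θ ⟨i p, p_mem H p.2⟩ := rfl

theorem eP_act (p : ↥K.P) (θ : Θ) : (((eP H p : ↥(YY Θ)) : MulAut ↥Θ) θ : G) = i p * θ * (i p)⁻¹ := rfl

/-- `x ∈ Y` -/
def xY : ↥(YY Θ) := eP H ⟨K.x, K.E_le_P K.x_E⟩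

/-- `s⁻¹ ∈ Y` -/
def sY : ↥(YY Θ) := eP H ⟨K.s⁻¹, inv_mem (K.U_le_P K.s_U)⟩

/-- `R`, the image of `Q` -/
def RY : Subgroup ↥(YY Θ) := (K.Q.subgroupOf K.P).map (eP H)

/-- `Pb`, the image of `P` -/
def PbY : Subgroup ↥(YY Θ) := (eP H).range

/-- `z ∈ Θ` -/
def zY : ↥Θ := ⟨i K.z, H.A_le ⟨K.z, K.z_A, rfl⟩⟩

/-- `n ∈ Θ` -/
def nY : ↥Θ := ⟨n, H.n_mem⟩

/-- the points -/
def qY (k : ZMod 5) : ↥Θ := ⟨i (K.q k), H.A_le ⟨K.q k, K.q_A k, rfl⟩⟩

end defs

theorem Q_le_P (K : KT Y) : K.Q ≤ K.P := K.Q_le_E.trans K.E_le_P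

theorem A_le_P (K : KT Y) : K.A ≤ K.P := K.A_le_Q.trans (Q_le_P K)

theorem mem_RY {H : Th K i t n Θ} {y : ↥(YY Θ)} : y ∈ RY H ↔ ∃ (u : Y) (hu : u ∈ K.Q), y = eP H ⟨u, Q_le_P K hu⟩ := by
  constructor
  · rintro ⟨⟨u, hu⟩, h, rfl⟩
    exact ⟨u, mem_subgroupOf.1 h, rfl⟩
  · rintro ⟨u, hu, rfl⟩
    exact ⟨⟨u, Q_le_P K hu⟩, mem_subgroupOf.2 hu, rfl⟩

section act

variable (P : Pos K i t n) (H : Th K i t n Θ)

theorem tY_act (θ : Θ) : (((tY P H : ↥(YY Θ)) : MulAut ↥Θ) θ : G) = t * θ * t⁻¹ := rfl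

include P H in
/-- `C_Θ(t) = A` -/
theorem fix_iff (θ : Θ) : ((tY P H : ↥(YY Θ)) : MulAut ↥Θ) θ = θ ↔ (θ : G) ∈ K.A.map i := by
  rw [Subtype.ext_iff, tY_act, mul_inv_eq_iff_eq_mul]
  constructor
  · intro h
    exact H.fix θ θ.2 h.symm
  · rintro ⟨a, ha, h⟩
    rw [← h]
    exact P.ti a

include P H in
theorem eP_j (hj : K.j ∈ K.P) : eP H ⟨K.j, hj⟩ = 1 := by
  rw [eP_apply, proj_eq_one]
  intro θ hθ
  exact (H.nj θ hθ).symm

include H in
theorem eP_A {a : Y} (ha : a ∈ K.A) : eP H ⟨a, A_le_P K ha⟩ = 1 := by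
  rw [eP_apply, proj_eq_one]
  intro θ hθ
  exact H.ab _ (H.A_le ⟨a, ha, rfl⟩) θ hθ

include P in
/-- an element of `P` acting trivially on `A` is trivial on `Θ` -/
theorem eP_triv {p : Y} (hp : p ∈ K.P) (h : ∀ a ∈ K.A, p * a = a * p) : eP H ⟨p, hp⟩ = 1 := by
  obtain ⟨a, ha, l, rfl⟩ := K.cent_A p h
  have hj : K.j ∈ K.P := K.U_le_P K.j_U
  have e : (⟨a * K.j ^ l, hp⟩ : ↥K.P) = ⟨a, A_le_P K ha⟩ * ⟨K.j, hj⟩ ^ l := rfl
  rw [e, map_mul, map_pow, eP_A H ha, eP_j P H hj, one_pow, one_mul]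

include P in
theorem triv_A {p : Y} (hp : p ∈ K.P) (h : ∀ θ : Θ, ((tY P H : ↥(YY Θ)) : MulAut ↥Θ) θ = θ →
    ((eP H ⟨p, hp⟩ : ↥(YY Θ)) : MulAut ↥Θ) θ = θ) : ∀ a ∈ K.A, p * a = a * p := by
  intro a ha
  have h1 := h ⟨i a, H.A_le ⟨a, ha, rfl⟩⟩ ((fix_iff P H _).2 ⟨a, ha, rfl⟩)
  rw [Subtype.ext_iff, eP_act] at h1
  have h2 : i p * i a * (i p)⁻¹ = i a := h1
  rw [mul_inv_eq_iff_eq_mul, ← map_mul, ← map_mul] at h2
  exact P.inj h2

end act

section main

variable (P : Pos K i t n) (H : Th K i t n Θ)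

include P in
theorem cardR : Nat.card ↥(RY H) = 16 := by
  have := K.fin
  have h1 : Nat.card (K.Q.subgroupOf K.P) = 2 ^ 9 := by
    rw [← K.card_Q]
    exact Nat.card_congr (Subgroup.subgroupOfEquivOfLe (Q_le_P K)).toEquiv
  have h2 : (eP H).ker ⊓ K.Q.subgroupOf K.P = K.A.subgroupOf K.P := by
    ext ⟨p, hp⟩
    rw [mem_inf, mem_subgroupOf, mem_subgroupOf, MonoidHom.mem_ker]
    constructor
    · rintro ⟨h3, h4⟩
      have h5 := triv_A P H hp fun θ _ => by rw [h3]; rfl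
      apply K.Q_ker p h4
      intro k
      have h6 := h5 _ (K.q_A k)
      rw [mul_assoc, ← h6]
      group
    · intro h3
      exact ⟨eP_A H h3, K.A_le_Q h3⟩
  have h3 : Nat.card (K.A.subgroupOf K.P) = 2 ^ 5 := by
    rw [← K.card_A]
    exact Nat.card_congr (Subgroup.subgroupOfEquivOfLe (A_le_P K)).toEquiv
  have h4 := Subgroup.relIndex_ker (K.Q.subgroupOf K.P) (eP H)
  have h5 : Nat.card ((eP H).ker ⊓ K.Q.subgroupOf K.P : Subgroup ↥K.P) * (eP H).ker.relIndex (K.Q.subgroupOf K.P) =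
      Nat.card (K.Q.subgroupOf K.P) := by
    rw [← inf_relIndex_right, ← relIndex_bot_left, ← relIndex_bot_left (H := K.Q.subgroupOf K.P),
      relIndex_mul_relIndex _ _ _ bot_le inf_le_right]
  rw [h2, h3, h1, h4] at h5
  have h6 : Nat.card ↥(RY H) = Nat.card ((K.Q.subgroupOf K.P).map (eP H)) := rfl
  rw [h6]
  omega

theorem nR : ∀ p ∈ PbY H, ∀ r ∈ RY H, p * r * p⁻¹ ∈ RY H := by
  rintro _ ⟨p, rfl⟩ r hr
  obtain ⟨u, hu, rfl⟩ := mem_RY.1 hr
  rw [← map_mul, ← map_inv, ← map_mul]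
  exact mem_RY.2 ⟨p * u * (p : Y)⁻¹, K.nor_Q p p.2 u hu, rfl⟩

theorem x5 : xY H ^ 5 = 1 := by
  unfold xY
  rw [← map_pow]
  have e : (⟨K.x, K.E_le_P K.x_E⟩ : ↥K.P) ^ 5 = 1 := Subtype.ext K.x5
  rw [e, map_one]

theorem s4 : sY H ^ 4 = 1 := by
  unfold sY
  rw [← map_pow]
  have e : (⟨K.s⁻¹, inv_mem (K.U_le_P K.s_U)⟩ : ↥K.P) ^ 4 = 1 := by
    apply Subtype.ext
    show K.s⁻¹ ^ 4 = 1
    rw [inv_pow, K.s4, inv_one]
  rw [e, map_one]

theorem xs : sY H * xY H * (sY H)⁻¹ = xY H ^ 2 := by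
  unfold sY xY
  rw [← map_mul, ← map_inv, ← map_mul, ← map_pow]
  congr 1
  apply Subtype.ext
  show K.s⁻¹ * K.x * (K.s⁻¹)⁻¹ = K.x ^ 2
  rw [inv_inv, K.x_s, pow_two]

include P in
theorem gen : ∀ p ∈ PbY H, ∃ r ∈ RY H, ∃ j k : ℕ, p = r * xY H ^ j * sY H ^ k := by
  rintro _ ⟨⟨p, hp⟩, rfl⟩
  obtain ⟨e, he, k, l, rfl⟩ := K.P_cases p hp
  obtain ⟨u, hu, m, rfl⟩ := K.E_cases e he
  have hj : K.j ∈ K.P := K.U_le_P K.j_U
  refine ⟨eP H ⟨u, Q_le_P K hu⟩, mem_RY.2 ⟨u, hu, rfl⟩, m, 3 * k, ?_⟩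
  have e1 : (⟨u * K.x ^ m * K.s ^ k * K.j ^ l, hp⟩ : ↥K.P) =
      ⟨u, Q_le_P K hu⟩ * ⟨K.x, K.E_le_P K.x_E⟩ ^ m * (⟨K.s⁻¹, inv_mem (K.U_le_P K.s_U)⟩⁻¹) ^ k * ⟨K.j, hj⟩ ^ l := by
    apply Subtype.ext
    show u * K.x ^ m * K.s ^ k * K.j ^ l = u * K.x ^ m * ((K.s⁻¹)⁻¹) ^ k * K.j ^ l
    rw [inv_inv]
  rw [e1, map_mul, map_mul, map_mul, map_pow, map_pow, map_pow, map_inv, eP_j P H hj, one_pow, mul_one]
  have e2 : (sY H)⁻¹ = sY H ^ 3 := by
    rw [inv_eq_iff_mul_eq_one, ← pow_succ', s4]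
  show eP H ⟨u, Q_le_P K hu⟩ * xY H ^ m * (sY H)⁻¹ ^ k = _
  rw [e2, ← pow_mul]

theorem comm : ∀ p ∈ PbY H, tY P H * p = p * tY P H := by
  rintro _ ⟨p, rfl⟩
  unfold tY
  rw [eP_apply, ← map_mul, ← map_mul]
  congr 1
  apply Subtype.ext
  exact P.ti p

theorem Agen (θ : Θ) (h : (θ : G) ∈ K.A.map i) : θ ∈ closure ({zY H} ∪ Set.range (qY H)) := by
  obtain ⟨a, ha, h1⟩ := h
  set C : Subgroup ↥Θ := closure ({zY H} ∪ Set.range (qY H)) with hC
  have hle : closure ({K.z} ∪ Set.range K.q) ≤ (C.map Θ.subtype).comap i := by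
    rw [closure_le]
    rintro b (rfl | ⟨k, rfl⟩)
    · exact ⟨zY H, subset_closure (Or.inl rfl), rfl⟩
    · exact ⟨qY H k, subset_closure (Or.inr ⟨k, rfl⟩), rfl⟩
  obtain ⟨c, hc, h2⟩ := hle (K.A_gen ha)
  have : θ = c := Subtype.ext (h1.symm.trans h2.symm)
  rw [this]
  exact hc

/-- the set of elements of `C_G(t)` centralising `Θ` is small -/
theorem card_ker : Nat.card (centralizer {(⟨t, t_mem P H⟩ : ↥(normalizer (Θ : Set G)))} ⊓ (proj Θ).ker : Subgroup _) ≤ 64 := by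
  have := P.finG
  have := K.fin
  have key : ∀ c : (centralizer {(⟨t, t_mem P H⟩ : ↥(normalizer (Θ : Set G)))} ⊓ (proj Θ).ker : Subgroup _),
      ∃ ab : ↥K.A × Fin 2, i (ab.1 * K.j ^ (ab.2 : ℕ)) = ((c : ↥(normalizer (Θ : Set G))) : G) := by
    rintro ⟨⟨c, hcN⟩, h1, h2⟩
    have h1' : c * t = t * c := congrArg Subtype.val (mem_centralizer_singleton_iff.1 h1)
    have h2' : ∀ θ ∈ Θ, c * θ = θ * c := proj_eq_one.1 (MonoidHom.mem_ker.1 h2)
    obtain ⟨y, hy⟩ := P.cen c h1'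
    -- `y` centralises `A`
    have hyA : ∀ a ∈ K.A, y * a = a * y := by
      intro a ha
      have h3 := h2' (i a) (H.A_le ⟨a, ha, rfl⟩)
      rcases hy with rfl | rfl
      · rw [← map_mul, ← map_mul] at h3
        exact P.inj h3
      · rw [← mul_assoc, ← P.ti, mul_assoc, mul_assoc, mul_left_cancel_iff, ← map_mul, ← map_mul] at h3
        exact P.inj h3
    obtain ⟨a, ha, l, rfl⟩ := K.cent_A y hyA
    -- no `t`
    have hc : c = i (a * K.j ^ l) := by
      rcases hy with hy | hy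
      · exact hy
      · exfalso
        have h3 := h2' n H.n_mem
        have h4 : i (a * K.j ^ l) * n = n * i (a * K.j ^ l) := by
          rw [map_mul, map_pow]
          have h5 : Commute (i a) n := H.ab _ (H.A_le ⟨a, ha, rfl⟩) n H.n_mem
          have h6 : Commute (i K.j) n := P.nj.symm
          exact h5.mul_left (h6.pow_left l)
        rw [hy, mul_assoc, h4, ← mul_assoc, ← mul_assoc, mul_left_inj] at h3
        have h5 := P.nt
        rw [h3, mul_assoc, P.tt, mul_one] at h5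
        have h6 : i K.z = 1 := mul_eq_left.1 h5.symm
        rw [← map_one i] at h6
        exact K.z1 (P.inj h6)
    -- reduce the exponent
    have hj2 : K.j * K.j ∈ K.A := by
      rcases K.j_or with h | ⟨h, -⟩
      · rw [h, mul_one]; exact one_mem _
      · rw [h]; exact K.z_A
    have hj : ∃ a' ∈ K.A, ∃ b : Fin 2, K.j ^ l = a' * K.j ^ (b : ℕ) := by
      refine ⟨(K.j * K.j) ^ (l / 2), pow_mem hj2 _, ⟨l % 2, Nat.mod_lt _ (by norm_num)⟩, ?_⟩
      show K.j ^ l = (K.j * K.j) ^ (l / 2) * K.j ^ (l % 2)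
      rw [← pow_two, ← pow_mul, ← pow_add, Nat.div_add_mod]
    obtain ⟨a', ha', b, hb⟩ := hj
    refine ⟨(⟨a * a', mul_mem ha ha'⟩, b), ?_⟩
    show i (a * a' * K.j ^ (b : ℕ)) = c
    rw [hc, hb, mul_assoc]
  have h1 : Nat.card (centralizer {(⟨t, t_mem P H⟩ : ↥(normalizer (Θ : Set G)))} ⊓ (proj Θ).ker : Subgroup _) ≤
      Nat.card (↥K.A × Fin 2) := by
    refine Nat.card_le_card_of_injective (fun c => (key c).choose) fun c c' h => ?_
    have h2 := (key c).choose_spec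
    have h3 := (key c').choose_spec
    have h : (key c).choose = (key c').choose := h
    rw [h, h3] at h2
    exact Subtype.ext (Subtype.ext h2.symm)
  rw [Nat.card_prod, K.card_A, Nat.card_fin] at h1
  exact h1

/-- `C_Y(t)` is small -/
theorem bound (Y₀ : Subgroup ↥(YY Θ)) (hY : ∀ y, y ∈ Y₀ ↔ y ∈ PbY H ∨ tY P H * y ∈ PbY H) :
    Nat.card (centralizer {tY P H}) ≤ 2 * Nat.card Y₀ := by
  have := P.finG
  have hfin : Finite ↥(YY Θ) := Finite.of_surjective _ (proj_sur Θ)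
  set tN : ↥(normalizer (Θ : Set G)) := ⟨t, t_mem P H⟩ with htN
  have htNt : tN * tN = 1 := Subtype.ext P.tt
  have hker : Θ.subgroupOf (normalizer (Θ : Set G)) ≤ (proj Θ).ker := by
    intro g hg
    rw [MonoidHom.mem_ker, proj_eq_one]
    exact fun θ hθ => H.ab _ (mem_subgroupOf.1 hg) θ hθ
  have hcount := Cent.count (proj Θ) (proj_sur Θ) (Θ.subgroupOf (normalizer (Θ : Set G))) hker tN (by
    rintro ⟨y, hyN⟩ hc
    have hc' : y * t * y⁻¹ * t⁻¹ ∈ Θ := hc
    set c := y * t * y⁻¹ * t⁻¹ with hcdef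
    have e1 : y * t * y⁻¹ = c * t := by rw [hcdef]; group
    have e2 : (c * t) * (c * t) = 1 := by
      rw [← e1]
      calc y * t * y⁻¹ * (y * t * y⁻¹) = y * (t * t) * y⁻¹ := by group
        _ = 1 := by rw [P.tt]; group
    have e3 : c * t = t * c := by
      have hcc := H.sq c hc'
      calc c * t = (c * t) * ((c * c) * (t * t)) := by rw [hcc, P.tt, mul_one, mul_one]
        _ = (c * t) * (c * (c * t)) * t := by group
        _ = (c * t) * (c * t) * (t⁻¹ * (c * t) * t) := by group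
        _ = t⁻¹ * c * (t * t) := by rw [e2]; group
        _ = t * c := by rw [P.tt, P.t_inv, mul_one]
    obtain ⟨a, ha, hac⟩ := H.fix c hc' e3
    obtain ⟨b, hb, hbt⟩ := H.sur a ha
    have hyb : y⁻¹ * b * y ∈ Θ := by
      have h1 := (mem_normalizer_iff.1 (inv_mem hyN) b).1 hb
      rwa [inv_inv] at h1
    refine ⟨⟨y⁻¹ * b * y, mem_normalizer_iff.2 fun h => ?_⟩, hyb, Subtype.ext ?_⟩
    · constructor
      · intro hh
        exact mul_mem (mul_mem hyb hh) (inv_mem hyb)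
      · intro hh
        have h1 := mul_mem (mul_mem (inv_mem hyb) hh) hyb
        have e : (y⁻¹ * b * y)⁻¹ * (y⁻¹ * b * y * h * (y⁻¹ * b * y)⁻¹) * (y⁻¹ * b * y) = h := by group
        rwa [e] at h1
    · show y * (y⁻¹ * b * y) * t = t * (y * (y⁻¹ * b * y))
      have hbc : t * b * t = b * c := by rw [hbt, hac]
      calc y * (y⁻¹ * b * y) * t = b * (y * t * y⁻¹) * y := by group
        _ = (b * c) * t * y := by rw [e1]; group
        _ = (t * b) * (t * t) * y := by rw [← hbc]; group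
        _ = t * (y * (y⁻¹ * b * y)) := by rw [P.tt]; group)
  -- `|C_Θ(t)| = 32`
  have h32 : Nat.card (centralizer {tN} ⊓ Θ.subgroupOf (normalizer (Θ : Set G)) : Subgroup _) = 32 := by
    have e1 : Nat.card (K.A.map i) = 32 := by
      rw [Subgroup.card_map_of_injective P.inj, K.card_A]; norm_num
    rw [← e1]
    refine Nat.card_congr
      { toFun := fun c => ⟨((c : ↥(normalizer (Θ : Set G))) : G), H.fix _ (mem_subgroupOf.1 c.2.2)
          (congrArg Subtype.val (mem_centralizer_singleton_iff.1 c.2.1))⟩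
        invFun := fun a => ⟨⟨a, mem_nor (fun b hb => mul_mem (mul_mem (H.A_le a.2) hb) (inv_mem (H.A_le a.2)))
          (fun b hb => mul_mem (mul_mem (inv_mem (H.A_le a.2)) hb) (H.A_le a.2))⟩,
          mem_centralizer_singleton_iff.2 (Subtype.ext (by
            obtain ⟨b, hb, h⟩ := a.2
            show (a : G) * t = t * a
            rw [← h]
            exact (P.ti b).symm)), mem_subgroupOf.2 (H.A_le a.2)⟩
        left_inv := fun c => rfl
        right_inv := fun a => rfl }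
  -- the image of `C_G(t)`
  have hle : (centralizer {tN}).map (proj Θ) ≤ Y₀ := by
    rintro _ ⟨⟨c, hcN⟩, hc, rfl⟩
    rw [SetLike.mem_coe, mem_centralizer_singleton_iff] at hc
    have hc' : c * t = t * c := congrArg Subtype.val hc
    obtain ⟨y, hy⟩ := P.cen c hc'
    have hyc : ∀ a : Y, c * i a * c⁻¹ = i (y * a * y⁻¹) := by
      intro a
      rcases hy with rfl | rfl
      · rw [map_mul, map_mul, map_inv]
      · calc t * i y * i a * (t * i y)⁻¹ = t * i (y * a * y⁻¹) * t⁻¹ := by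
              rw [map_mul, map_mul, map_inv]; group
          _ = i (y * a * y⁻¹) := by rw [P.ti]; group
    have hyP : y ∈ K.P := by
      apply K.norm_A
      intro a ha
      have h1 : c * i a * c⁻¹ ∈ Θ := (mem_normalizer_iff.1 hcN _).1 (H.A_le ⟨a, ha, rfl⟩)
      rw [hyc] at h1
      obtain ⟨b, hb, h2⟩ := H.fix _ h1 (P.ti _).symm
      rw [← P.inj h2]
      exact hb
    rw [hY]
    rcases hy with rfl | rfl
    · exact Or.inl ⟨⟨y, hyP⟩, rfl⟩
    · right
      refine ⟨⟨y, hyP⟩, ?_⟩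
      unfold tY
      rw [eP_apply, ← map_mul]
      congr 1
      apply Subtype.ext
      show i y = t * (t * i y)
      rw [← mul_assoc, P.tt, one_mul]
  have h64 := card_ker P H
  have hY0 : Nat.card ((centralizer {tN}).map (proj Θ)) ≤ Nat.card Y₀ := Subgroup.card_le_of_le hle
  rw [h32] at hcount
  have h1 : Nat.card (centralizer {proj Θ tN}) * 32 ≤ Nat.card Y₀ * 64 :=
    hcount.trans (Nat.mul_le_mul hY0 h64)
  have h2 : Nat.card (centralizer {tY P H}) = Nat.card (centralizer {proj Θ tN}) := rfl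
  rw [h2]
  omega

/-- the input of `YAbs` -/
theorem pre : letI := cg H.ab
    Pre (Y := ↥(YY Θ)) (Θ := ↥Θ) (YY Θ).subtype (tY P H) (xY H) (sY H) (RY H) (PbY H) (zY H) (nY H) (qY H) := by
  letI := cg H.ab
  have hG := P.finG
  have hY := K.fin
  exact
    { fin := Finite.of_surjective _ (proj_sur Θ)
      finΘ := inferInstance
      inj := Subtype.val_injective
      two := fun θ => Subtype.ext (H.sq θ θ.2)
      card := H.card
      cardA := by
        have e1 : Nat.card (K.A.map i) = 2 ^ 5 := by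
          rw [Subgroup.card_map_of_injective P.inj, K.card_A]
        rw [← e1]
        refine Nat.card_congr
          { toFun := fun c => ⟨((c : ↥Θ) : G), (fix_iff P H _).1 c.2⟩
            invFun := fun a => ⟨⟨a, H.A_le a.2⟩, (fix_iff P H _).2 a.2⟩
            left_inv := fun c => rfl
            right_inv := fun a => rfl }
      sur := by
        intro a ha
        obtain ⟨a', ha', h⟩ := (fix_iff P H _).1 ha
        obtain ⟨b, hb, hbt⟩ := H.sur a' ha'
        refine ⟨⟨b, hb⟩, Subtype.ext ?_⟩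
        show t * b * t⁻¹ = b * a
        rw [P.t_inv, hbt, h]
      tt := by
        have e : (⟨t, t_mem P H⟩ : ↥(normalizer (Θ : Set G))) * ⟨t, t_mem P H⟩ = 1 := Subtype.ext P.tt
        unfold tY
        rw [← map_mul, e, map_one]
      cardR := cardR P H
      RP := by
        intro y hy
        obtain ⟨u, hu, rfl⟩ := mem_RY.1 hy
        exact ⟨_, rfl⟩
      nR := nR H
      xP := ⟨_, rfl⟩
      sP := ⟨_, rfl⟩
      x5 := x5 H
      s4 := s4 H
      xs := xs H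
      gen := gen P H
      comm := comm P H
      z1 := by
        intro h
        have h1 : i K.z = 1 := congrArg Subtype.val h
        rw [← map_one i] at h1
        exact K.z1 (P.inj h1)
      zt := (fix_iff P H _).2 ⟨K.z, K.z_A, rfl⟩
      zP := by
        rintro _ ⟨⟨p, hp⟩, rfl⟩
        apply Subtype.ext
        show i p * i K.z * (i p)⁻¹ = i K.z
        rw [mul_inv_eq_iff_eq_mul, ← map_mul, ← map_mul, (K.mem_P p).1 hp]
      qt := fun k => (fix_iff P H _).2 ⟨K.q k, K.q_A k, rfl⟩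
      qx := by
        intro k
        apply Subtype.ext
        show i K.x * i (K.q (k + 1)) * (i K.x)⁻¹ = i (K.q k)
        rw [← K.q_x k, ← map_inv, ← map_mul, ← map_mul]
        congr 1
        group
      qs := by
        intro k
        apply Subtype.ext
        show i K.s⁻¹ * i (K.q k) * (i K.s⁻¹)⁻¹ = i (K.q (2 * k))
        rw [← K.q_s k, ← map_inv, ← map_mul, ← map_mul]
        congr 1
        group
      qR := by
        intro r hr k
        obtain ⟨u, hu, rfl⟩ := mem_RY.1 hr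
        have h := K.q_Q _ (inv_mem hu) k
        rw [inv_inv] at h
        rcases h with h | h
        · left
          apply Subtype.ext
          show i u * i (K.q k) * (i u)⁻¹ = i (K.q k)
          rw [← map_inv, ← map_mul, ← map_mul, h]
        · right
          apply Subtype.ext
          show i u * i (K.q k) * (i u)⁻¹ = i (K.q k) * i K.z
          rw [← map_inv, ← map_mul, ← map_mul, h, map_mul]
      qprod := by
        apply Subtype.ext
        show i (K.q 0) * i (K.q 1) * i (K.q 2) * i (K.q 3) * i (K.q 4) = 1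
        rw [← map_mul, ← map_mul, ← map_mul, ← map_mul, K.q_prod, map_one]
      Agen := fun a ha => Agen H a ((fix_iff P H _).1 ha)
      faith := by
        rintro _ ⟨⟨p, hp⟩, rfl⟩ h
        exact eP_triv P H hp (triv_A P H hp h)
      nt := by
        apply Subtype.ext
        show t * n * t⁻¹ = n * i K.z
        rw [P.t_inv, P.nt]
      Rn := by
        intro r hr
        obtain ⟨u, hu, rfl⟩ := mem_RY.1 hr
        apply Subtype.ext
        show i u * n * (i u)⁻¹ = n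
        rw [← P.nE u (K.Q_le_E hu)]
        group
      cA := by
        intro θ ht hx
        obtain ⟨a, ha, h⟩ := (fix_iff P H _).1 ht
        have h1 : i K.x * θ * (i K.x)⁻¹ = θ := congrArg Subtype.val hx
        rw [← h, mul_inv_eq_iff_eq_mul, ← map_mul, ← map_mul] at h1
        rcases K.cent_A_x a ha (P.inj h1).symm with h2 | h2
        · left
          apply Subtype.ext
          rw [← h, h2, map_one]
          rfl
        · right
          apply Subtype.ext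
          rw [← h, h2]
          rfl
      Rz := by
        intro θ ht hR
        obtain ⟨a, ha, h⟩ := (fix_iff P H _).1 ht
        have h1 : ∀ e ∈ K.Q, a * e = e * a := by
          intro e he
          have h2 := hR _ (mem_RY.2 ⟨e, he, rfl⟩)
          have h3 : i e * θ * (i e)⁻¹ = θ := congrArg Subtype.val h2
          rw [← h, mul_inv_eq_iff_eq_mul, ← map_mul, ← map_mul] at h3
          exact (P.inj h3).symm
        rcases K.cent_Q a h1 with h2 | h2
        · left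
          apply Subtype.ext
          rw [← h, h2, map_one]
          rfl
        · right
          apply Subtype.ext
          rw [← h, h2]
          rfl
      bound := bound P H }

/-- **All fields of `YH` but the T-formula.** -/
theorem yh0 : letI := cg H.ab
    ∃ r0, YH0 (Y := ↥(YY Θ)) (Θ := ↥Θ) (YY Θ).subtype (tY P H) (xY H) (sY H) r0 (RY H) (PbY H) (zY H) (nY H) :=
  letI := cg H.ab
  (pre P H).yh0

/-- `Tb` is the image of `T = ⟨t⟩ × U` -/
theorem Tb_eq :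
    Tb (tY P H) (sY H) (RY H) = ((TT K i t).subgroupOf (normalizer (Θ : Set G))).map (proj Θ) := by
  have hj : K.j ∈ K.P := K.U_le_P K.j_U
  have himg : ∀ (g : G) (hg : g ∈ normalizer (Θ : Set G)), g ∈ TT K i t →
      proj Θ ⟨g, hg⟩ ∈ ((TT K i t).subgroupOf (normalizer (Θ : Set G))).map (proj Θ) :=
    fun g hg h => ⟨⟨g, hg⟩, h, rfl⟩
  apply le_antisymm
  · refine sup_le (sup_le ?_ ?_) ?_
    · rw [zpowers_le]
      exact himg t _ P.t_TT
    · intro r hr
      obtain ⟨u, hu, rfl⟩ := mem_RY.1 hr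
      exact himg (i u) _ (P.mem_TT.2 ⟨u, K.Q_le_U hu, Or.inl rfl⟩)
    · rw [zpowers_le]
      exact himg (i K.s⁻¹) _ (P.mem_TT.2 ⟨_, inv_mem K.s_U, Or.inl rfl⟩)
  · have hx : ∀ (y : Y) (hy : y ∈ K.U), eP H ⟨y, K.U_le_P hy⟩ ∈ Tb (tY P H) (sY H) (RY H) := by
      intro y hy
      obtain ⟨u, hu, k, l, rfl⟩ := K.U_cases y hy
      have e1 : (⟨u * K.s ^ k * K.j ^ l, K.U_le_P hy⟩ : ↥K.P) =
          ⟨u, Q_le_P K hu⟩ * (⟨K.s⁻¹, inv_mem (K.U_le_P K.s_U)⟩⁻¹) ^ k * ⟨K.j, hj⟩ ^ l := by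
        apply Subtype.ext
        show u * K.s ^ k * K.j ^ l = u * ((K.s⁻¹)⁻¹) ^ k * K.j ^ l
        rw [inv_inv]
      rw [e1, map_mul, map_mul, map_pow, map_pow, map_inv, eP_j P H hj, one_pow, mul_one]
      refine mul_mem (mem_sup_left (mem_sup_right (mem_RY.2 ⟨u, hu, rfl⟩))) ?_
      exact mem_sup_right (pow_mem (inv_mem (mem_zpowers _)) k)
    rintro _ ⟨⟨g, hg⟩, h, rfl⟩
    have h' : g ∈ TT K i t := h
    obtain ⟨y, hy, h1⟩ := P.mem_TT.1 h'
    rcases h1 with rfl | rfl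
    · exact hx y hy
    · have e : (⟨t * i y, hg⟩ : ↥(normalizer (Θ : Set G))) = ⟨t, t_mem P H⟩ * ⟨i y, p_mem H (K.U_le_P hy)⟩ := rfl
      rw [e, map_mul]
      exact mul_mem (mem_sup_left (mem_sup_left (mem_zpowers _))) (hx y hy)

include P H in
/-- `T` normalises `Θ` -/
theorem TT_le : TT K i t ≤ normalizer (Θ : Set G) := by
  intro g hg
  obtain ⟨y, hy, rfl | rfl⟩ := P.mem_TT.1 hg
  · exact p_mem H (K.U_le_P hy)
  · exact mul_mem (t_mem P H) (p_mem H (K.U_le_P hy))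

/-- **`YH`**, from the T-formula on `Y`. -/
theorem exists_yh (htf : TFY (tY P H) (sY H) (RY H)) : letI := cg H.ab
    ∃ r0, YH (Y := ↥(YY Θ)) (Θ := ↥Θ) (YY Θ).subtype (tY P H) (xY H) (sY H) r0 (RY H) (PbY H) (zY H) (nY H) := by
  letI := cg H.ab
  obtain ⟨r0, h⟩ := yh0 P H
  exact ⟨r0, h.yh htf⟩

end main

end Cfsg.Agent.OddHalf.D7Tits.YOf
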