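import Cfsg.Agent.OddHalf.D7Tits.AltType
import Cfsg.Agent.OddHalf.D7Tits.YOf

/-!
# ODD D7, `K = ²F₄(2)'`: the T-formula in `Y = N_G(Θ)/C_G(Θ)` (helper381; text: bb ODD 16131)

`tfy` : `YAbs.TFY (tY P H) (sY H) (RY H)`, from `Pos K i t n` and `Th K i t n Θ`; `exists_yh` : `YH`.
-/

set_option autoImplicit false
set_option linter.unusedSectionVars false
set_option linter.unusedVariables false

namespace Cfsg.Agent.OddHalf.D7Tits.AltEnd

open Subgroup Defs YAbs YOf AltType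

open scoped commutatorElement

universe u v

variable {Y : Type u} [Group Y] {G : Type v} [Group G] {K : KT Y} {i : Y →* G} {t n : G} {Θ : Subgroup G}

theorem card_map (hi : Function.Injective i) (B : Subgroup Y) : Nat.card (B.map i) = Nat.card B :=
  (Nat.card_congr (B.equivMapOfInjective i hi).toEquiv).symm

/-- `|B| |C| ≤ |B C| |B ∩ C|` -/
theorem card_mul_le {M : Type*} [Group M] [Finite M] (B C : Subgroup M) :
    Nat.card B * Nat.card C ≤ Nat.card (B ⊔ C : Subgroup M) * Nat.card (B ⊓ C : Subgroup M) := by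
  have h5 : C.relIndex B = (C ⊓ B).relIndex B := (Subgroup.inf_relIndex_right C B).symm
  have h6 : Nat.card (C ⊓ B : Subgroup M) * (C ⊓ B).relIndex B = Nat.card B := by
    rw [← Subgroup.relIndex_bot_left (C ⊓ B), ← Subgroup.relIndex_bot_left B]
    exact Subgroup.relIndex_mul_relIndex _ _ _ bot_le inf_le_right
  have h7 : Nat.card C * C.relIndex (B ⊔ C) = Nat.card (B ⊔ C : Subgroup M) := by
    rw [← Subgroup.relIndex_bot_left C, ← Subgroup.relIndex_bot_left (B ⊔ C)]
    exact Subgroup.relIndex_mul_relIndex _ _ _ bot_le le_sup_right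
  have h8 : C.relIndex B ≤ C.relIndex (B ⊔ C) := Subgroup.relIndex_le_of_le_right le_sup_left
    (by
      intro h0
      rw [h0, mul_zero] at h7
      exact (Nat.card_pos (α := (B ⊔ C : Subgroup M))).ne h7)
  rw [inf_comm B C, ← h6, ← h7, ← h5]
  calc Nat.card (C ⊓ B : Subgroup M) * C.relIndex B * Nat.card C
      = Nat.card C * C.relIndex B * Nat.card (C ⊓ B : Subgroup M) := by ring
    _ ≤ _ := Nat.mul_le_mul_right _ (Nat.mul_le_mul_left _ h8)

/-- `s² ∉ Q` -/
theorem s_pow_notMem (K : KT Y) {k : ℕ} (hk : K.s ^ k ∈ K.Q) : 4 ∣ k := by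
  have hxQ : ∀ m : ℕ, K.x ^ m ∈ K.Q → K.x ^ m = 1 := by
    intro m hm
    have h1 := K.Q_pow _ hm
    have h2 : (K.x ^ m) ^ 5 = 1 := by rw [← pow_mul, mul_comm, pow_mul, K.x5, one_pow]
    have h3 : (K.x ^ m) ^ 5 = (K.x ^ m) ^ 4 * K.x ^ m := pow_succ _ _
    rw [h1, one_mul, h2] at h3
    exact h3.symm
  -- the commutator `x⁻¹ x^(s^k)`
  have hconj : ∀ m : ℕ, (K.s ^ m)⁻¹ * K.x * K.s ^ m = K.x ^ 2 ^ m := by
    intro m
    induction m with
    | zero => simp
    | succ m ih =>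
      rw [pow_succ]
      calc (K.s ^ m * K.s)⁻¹ * K.x * (K.s ^ m * K.s) = K.s⁻¹ * ((K.s ^ m)⁻¹ * K.x * K.s ^ m) * K.s := by group
        _ = K.s⁻¹ * K.x ^ 2 ^ m * K.s := by rw [ih]
        _ = (K.s⁻¹ * K.x * K.s) ^ 2 ^ m := by
          have := conj_pow (i := 2 ^ m) (a := K.s⁻¹) (b := K.x)
          rw [inv_inv] at this
          exact this.symm
        _ = K.x ^ 2 ^ (m + 1) := by rw [K.x_s, ← pow_two, ← pow_mul, pow_succ' 2 m]
  have h1 : K.x⁻¹ * ((K.s ^ k)⁻¹ * K.x * K.s ^ k) ∈ K.Q := by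
    have hxP : K.x ∈ K.P := K.E_le_P K.x_E
    have h2 : K.x⁻¹ * (K.s ^ k)⁻¹ * K.x⁻¹⁻¹ ∈ K.Q := K.nor_Q _ (inv_mem hxP) _ (inv_mem hk)
    have e : K.x⁻¹ * ((K.s ^ k)⁻¹ * K.x * K.s ^ k) = (K.x⁻¹ * (K.s ^ k)⁻¹ * K.x⁻¹⁻¹) * K.s ^ k := by group
    rw [e]
    exact mul_mem h2 hk
  rw [hconj] at h1
  have h2 : K.x⁻¹ * K.x ^ 2 ^ k = K.x ^ (2 ^ k - 1) := by
    have e : 2 ^ k = (2 ^ k - 1) + 1 := (Nat.sub_add_cancel (Nat.one_le_two_pow)).symm
    conv_lhs => rw [e, pow_succ', ← mul_assoc, inv_mul_cancel, one_mul]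
  rw [h2] at h1
  have h3 := hxQ _ h1
  have hp5 : Fact (Nat.Prime 5) := ⟨by norm_num⟩
  have h5 : orderOf K.x = 5 := orderOf_eq_prime K.x5 K.x1
  have h4 : 5 ∣ 2 ^ k - 1 := by rw [← h5]; exact orderOf_dvd_of_pow_eq_one h3
  -- `2 ^ k = 1 mod 5` iff `4 ∣ k`
  have h6 : 2 ^ k % 5 = 1 := by
    have : 1 ≤ 2 ^ k := Nat.one_le_two_pow
    omega
  have h7 : ∀ m : ℕ, 2 ^ (4 * m + k % 4) % 5 = 2 ^ (k % 4) % 5 := by
    intro m
    induction m with
    | zero => simp
    | succ m ih =>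
      have e : 4 * (m + 1) + k % 4 = 4 + (4 * m + k % 4) := by ring
      rw [e, pow_add, Nat.mul_mod, ih]
      norm_num
  have h8 := h7 (k / 4)
  rw [Nat.div_add_mod, h6] at h8
  have h9 : k % 4 < 4 := Nat.mod_lt _ (by norm_num)
  have h10 : k % 4 = 0 := by
    generalize k % 4 = r at h8 h9
    interval_cases r
    · rfl
    · norm_num at h8
    · norm_num at h8
    · norm_num at h8
  exact Nat.dvd_of_mod_eq_zero h10

/-- `|U| ≥ 2¹¹` -/
theorem card_U (K : KT Y) : 2 ^ 11 ≤ Nat.card K.U := by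
  have := K.fin
  have h1 := card_mul_le K.Q (zpowers K.s)
  have h2 : K.Q ⊓ zpowers K.s ≤ ⊥ := by
    intro y hy
    obtain ⟨k, hk⟩ := mem_powers_iff_mem_zpowers.2 hy.2
    have hk' : K.s ^ k = y := hk
    rw [← hk'] at hy ⊢
    obtain ⟨m, rfl⟩ := s_pow_notMem K hy.1
    rw [Subgroup.mem_bot, pow_mul, K.s4, one_pow]
  have h3 : Nat.card (K.Q ⊓ zpowers K.s : Subgroup Y) = 1 := by
    rw [le_bot_iff.1 h2, Subgroup.card_bot]
  have h4 : Nat.card (zpowers K.s) = 4 := by
    rw [Nat.card_zpowers]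
    have hp2 : Fact (Nat.Prime 2) := ⟨Nat.prime_two⟩
    refine orderOf_eq_prime_pow (p := 2) (n := 1) ?_ K.s4
    intro h
    have h5 := s_pow_notMem K (k := 2 ^ 1) (by rw [h]; exact one_mem _)
    norm_num at h5
  rw [h3, h4, K.card_Q, mul_one] at h1
  refine le_trans (by norm_num) (h1.trans (Subgroup.card_le_of_le (sup_le K.Q_le_U ?_)))
  rw [zpowers_le]
  exact K.s_U

/-- `Sit` -/
theorem sit (P : Pos K i t n) : Sit t (TT K i t) (K.U.map i) (K.A₁.map i) := by
  have hfin := P.finG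
  have hKfin := K.fin
  have htmul : ∀ y : Y, t * (t * i y) = i y := fun y => by rw [← mul_assoc, P.tt, one_mul]
  have hA₁Q := K.A₁_le
  refine { tt := P.tt, tU := ?_, mem_T := ?_, cU := ?_, pT := P.pT, syl := ?_, rank := ?_, cardA₁ := ?_, A₁U := ?_,
           cA₁ := ?_ }
  · rintro ⟨y, -, h⟩
    exact P.tY y h
  · intro x
    rw [P.mem_TT]
    constructor
    · rintro ⟨y, hy, rfl | rfl⟩
      · exact Or.inl ⟨y, hy, rfl⟩
      · exact Or.inr ⟨y, hy, (htmul y).symm⟩
    · rintro (⟨y, hy, rfl⟩ | ⟨y, hy, h⟩)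
      · exact ⟨y, hy, Or.inl rfl⟩
      · refine ⟨y, hy, Or.inr ?_⟩
        rw [h, ← mul_assoc, P.tt, one_mul]
  · rintro _ ⟨y, -, rfl⟩
    exact (P.ti y).symm
  · -- Sylow
    intro S hS hTS hSt
    have htS : t ∈ S := hTS P.t_TT
    -- the preimage of `S` in `Y`
    have h1 : IsPGroup 2 (S.comap i) := IsPGroup.comap_of_injective hS i P.inj
    have hUS : K.U ≤ S.comap i := fun y hy => hTS (P.mem_TT.2 ⟨y, hy, Or.inl rfl⟩)
    have h2 : S.comap i = K.U := by
      have hp2 : Fact (Nat.Prime 2) := ⟨Nat.prime_two⟩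
      symm
      have h3 := (IsPGroup.toSylow K.U_p K.U_odd).is_maximal' h1 hUS
      exact h3.symm
    intro g hg
    obtain ⟨y, rfl | rfl⟩ := P.cen g (hSt g hg)
    · exact P.mem_TT.2 ⟨y, by rw [← h2]; exact hg, Or.inl rfl⟩
    · refine P.mem_TT.2 ⟨y, ?_, Or.inr rfl⟩
      rw [← h2]
      show i y ∈ S
      have := mul_mem htS hg
      rwa [htmul] at this
  · -- rank
    intro E hE htE hc
    have h1 : ∀ a ∈ E.comap i, a * a = 1 := by
      intro a ha
      apply P.inj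
      rw [map_mul, map_one]
      exact hE.sq _ ha
    have h2 := K.K3 (E.comap i) h1
    have h3 : (E : Set G) ⊆ ((E.comap i).map i : Subgroup G) ∪ (fun w => t * w) '' ((E.comap i).map i : Subgroup G) := by
      intro x hx
      obtain ⟨y, rfl | rfl⟩ := P.cen x (hE.ab x hx t htE)
      · exact Or.inl ⟨y, hx, rfl⟩
      · refine Or.inr ⟨i y, ⟨y, ?_, rfl⟩, rfl⟩
        show i y ∈ E
        have := mul_mem htE hx
        rwa [htmul] at this
    have h5 : (E : Set G).ncard ≤ _ := Set.ncard_le_ncard h3 (Set.toFinite _)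
    have h6 := Set.ncard_union_le (((E.comap i).map i : Subgroup G) : Set G)
      ((fun w => t * w) '' (((E.comap i).map i : Subgroup G) : Set G))
    have h7 : ((fun w => t * w) '' (((E.comap i).map i : Subgroup G) : Set G)).ncard ≤
      (((E.comap i).map i : Subgroup G) : Set G).ncard := Set.ncard_image_le (Set.toFinite _)
    have h8 : (((E.comap i).map i : Subgroup G) : Set G).ncard = Nat.card (E.comap i) := card_map P.inj _
    have h9 : (E : Set G).ncard = Nat.card E := rfl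
    have h10 : (2 : ℕ) ^ 8 = 256 := by norm_num
    have h11 : (2 : ℕ) ^ 10 = 1024 := by norm_num
    omega
  · rw [card_map P.inj, K.A₁_card]
  · exact Subgroup.map_mono (K.A₁_le.trans K.Q_le_U)
  · rintro _ ⟨u, hu, rfl⟩ h
    refine ⟨u, K.cent_A₁ u hu fun a ha => P.inj ?_, rfl⟩
    rw [map_mul, map_mul]
    exact h (i a) ⟨a, ha, rfl⟩

/-- (K2') in `G` -/
theorem K2G (P : Pos K i t n) : ∀ B : Subgroup G, B ≤ K.U.map i → EA B → (∀ u ∈ K.U.map i, ∀ a ∈ B, u * a * u⁻¹ ∈ B) →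
    2 ^ 5 ≤ Nat.card B → B = K.A.map i ∨ B = K.A₁.map i := by
  intro B hBU hB hn hc
  have e : (B.comap i).map i = B := by
    rw [Subgroup.map_comap_eq, inf_eq_right]
    exact hBU.trans (Subgroup.map_le_range i K.U)
  have h1 : Nat.card (B.comap i) = Nat.card B := by
    conv_rhs => rw [← e]
    rw [card_map P.inj]
  have h2 := K.K2 (B.comap i) (by
      intro y hy
      obtain ⟨u, hu, e⟩ := hBU hy
      rwa [← P.inj e]) (by
      intro a ha
      apply P.inj
      rw [map_mul, map_one]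
      exact hB.sq _ ha) (by
      intro u hu a ha
      show i (u * a * u⁻¹) ∈ B
      rw [map_mul, map_mul, map_inv]
      exact hn _ ⟨u, hu, rfl⟩ _ ha) (by rw [h1]; exact hc)
  rw [← e]
  rcases h2 with h2 | h2
  · left; rw [h2]
  · right; rw [h2]

/-- `n⁻¹ t n = t z` -/
theorem nt' (P : Pos K i t n) : n * t * n = t * i K.z := by
  have h1 := P.nt
  have h2 : t * (t * n * t) = t * (n * i K.z) := by rw [h1]
  have h3 : n * t = t * (n * i K.z) := by
    rw [← h2]
    calc n * t = (t * t) * n * t := by rw [P.tt, one_mul]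
      _ = t * (t * n * t) := by group
  calc n * t * n = t * (n * i K.z) * n := by rw [h3]
    _ = t * n * (i K.z * n) := by group
    _ = t * n * (n * i K.z) := by rw [P.nz]
    _ = t * (n * n) * i K.z := by group
    _ = t * i K.z := by rw [P.nn, mul_one]

/-- the points of `A` -/
def pts (K : KT Y) (i : Y →* G) : Set G := {v | ∃ g : Y, g⁻¹ * K.z * g ∈ K.A ∧ v = i (g⁻¹ * K.z * g)}

/-- `TD` -/
theorem td (P : Pos K i t n) (H : Th K i t n Θ) :
    TD t (TT K i t) (K.A.map i) Θ ((centralizer (K.A : Set Y)).map i) (pts K i) := by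
  have hKfin := K.fin
  have hJ : ∀ y, y ∈ centralizer (K.A : Set Y) ↔ ∀ a ∈ K.A, y * a = a * y := fun y => by
    rw [mem_centralizer_iff]
    exact ⟨fun h a ha => (h a ha).symm, fun h a ha => (h a ha).symm⟩
  have ea : EA Θ := ⟨H.ab, H.sq⟩
  refine { cardA := ?_, ea := ea, card := H.card, nT := ?_, AΘ := H.A_le, fix := H.fix, gen := ?_, VA := ?_,
           fus := ?_, cJ := ?_, JΘ := ?_, Jt := ?_, Jsq := ?_ }
  · rw [card_map P.inj, K.card_A]
  · intro s hs x hx
    obtain ⟨y, hy, rfl | rfl⟩ := P.mem_TT.1 hs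
    · exact H.nP y (K.U_le_P hy) x hx
    · have h1 := H.nt _ (H.nP y (K.U_le_P hy) x hx)
      have e : t * i y * x * (t * i y)⁻¹ = t * (i y * x * (i y)⁻¹) * t := by
        rw [mul_inv_rev, P.t_inv]; group
      rw [e]; exact h1
  · have h1 : K.A.map i ≤ (closure ({K.z} ∪ Set.range K.q)).map i := Subgroup.map_mono K.A_gen
    refine h1.trans ?_
    rw [MonoidHom.map_closure, closure_le]
    rintro _ ⟨y, hy, rfl⟩
    apply Subgroup.subset_closure
    rcases hy with hy | ⟨k, rfl⟩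
    · rw [Set.mem_singleton_iff] at hy
      subst hy
      refine ⟨1, ?_, ?_⟩
      · rw [inv_one, one_mul, mul_one]; exact K.z_A
      · rw [inv_one, one_mul, mul_one]
    · obtain ⟨g, hg⟩ := K.pt k
      refine ⟨g, by rw [hg]; exact K.q_A k, by rw [hg]⟩
  · rintro _ ⟨g, hg, rfl⟩
    exact ⟨_, hg, rfl⟩
  · rintro _ ⟨g, hg, rfl⟩
    refine ⟨n * i g, ?_⟩
    have h1 := nt' P
    have h2 := P.ti g
    have h3 := P.tmap g
    calc (n * i g)⁻¹ * t * (n * i g) = (i g)⁻¹ * (n⁻¹ * t * n) * i g := by group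
      _ = (i g)⁻¹ * (t * i K.z) * i g := by rw [P.n_inv, h1]
      _ = ((i g)⁻¹ * t) * (i K.z * i g) := by group
      _ = t * ((i g)⁻¹ * i K.z * i g) := by rw [← h3]; group
      _ = t * i (g⁻¹ * K.z * g) := by rw [map_mul, map_mul, map_inv]
  · intro c hct hcA
    obtain ⟨y, h | h⟩ := P.cen c hct
    · refine ⟨i y, ⟨y, (hJ y).2 fun a ha => P.inj ?_, rfl⟩, Or.inl h⟩
      rw [map_mul, map_mul, ← h]
      exact hcA _ ⟨a, ha, rfl⟩
    · refine ⟨i y, ⟨y, (hJ y).2 fun a ha => P.inj ?_, rfl⟩, Or.inr h⟩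
      have h1 := hcA _ ⟨a, ha, rfl⟩
      rw [map_mul, map_mul]
      rw [h] at h1
      have h2 : t * (i y * i a) = t * (i a * i y) := by
        calc t * (i y * i a) = t * i y * i a := by group
          _ = (i a * t) * i y := by rw [h1]; group
          _ = t * (i a * i y) := by rw [← P.ti]; group
      exact mul_left_cancel h2
  · rintro _ ⟨y, hy, rfl⟩ x hx
    obtain ⟨a, ha, l, rfl⟩ := K.cent_A y ((hJ y).1 hy)
    have h1 : (i K.j) ^ l * x = x * (i K.j) ^ l := ((show Commute (i K.j) x from (H.nj x hx).symm).pow_left l).eq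
    rw [map_mul, map_pow]
    calc i a * i K.j ^ l * x = i a * (i K.j ^ l * x) := by group
      _ = (i a * x) * i K.j ^ l := by rw [h1]; group
      _ = x * (i a * i K.j ^ l) := by rw [H.ab _ (H.A_le ⟨a, ha, rfl⟩) x hx]; group
  · rintro _ ⟨y, -, rfl⟩
    exact (P.ti y).symm
  · rintro _ ⟨y, hy, rfl⟩ hsq
    have hsq' : y * y = 1 := P.inj (by rw [map_mul, map_one]; exact hsq)
    obtain ⟨a, ha, l, e⟩ := K.cent_A y ((hJ y).1 hy)
    have hya := (hJ y).1 hy a ha
    refine ⟨y, ?_, rfl⟩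
    rcases K.j_or with hj | ⟨hj, -⟩
    · rw [e, hj, one_pow, mul_one]; exact ha
    · have hjl : K.j ^ l = a⁻¹ * y := by rw [e]; group
      have h2 : K.z ^ l = 1 := by
        have h3 : K.z ^ l = K.j ^ l * K.j ^ l := by rw [← hj, ← pow_two, ← pow_mul, mul_comm, pow_mul, pow_two]
        rw [h3, hjl]
        have h4 : a⁻¹ * y = y * a⁻¹ := by
          rw [inv_mul_eq_iff_eq_mul, ← mul_assoc, ← hya, mul_inv_cancel_right]
        have h5 : a⁻¹ = a := inv_eq_of_mul_eq_one_left (K.sq_A a ha)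
        calc a⁻¹ * y * (a⁻¹ * y) = a⁻¹ * (y * a⁻¹) * y := by group
          _ = a⁻¹ * a⁻¹ * (y * y) := by rw [← h4]; group
          _ = 1 := by rw [h5, K.sq_A a ha, hsq', one_mul]
      have h3 : ∃ m, l = 2 * m := by
        rcases Nat.even_or_odd' l with ⟨m, rfl | rfl⟩
        · exact ⟨m, rfl⟩
        · exfalso
          rw [pow_succ, pow_mul, pow_two, K.zz, one_pow, one_mul] at h2
          exact K.z1 h2
      obtain ⟨m, rfl⟩ := h3
      rw [e, pow_mul, pow_two, hj]
      exact mul_mem ha (pow_mem K.z_A m)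

/-- **The T-formula in `Y`.** -/
theorem tfy (P : Pos K i t n) (H : Th K i t n Θ) : TFY (tY P H) (sY H) (RY H) := by
  have hfin := P.finG
  have hKfin := K.fin
  have hS := sit P
  have hD := td P H
  have AU : K.A.map i ≤ K.U.map i := Subgroup.map_mono (K.A_le_Q.trans K.Q_le_U)
  intro X hX hu hB μ ht
  have hT := Tb_eq P H
  rw [hT] at hX hu
  have hTN := TT_le P H
  refine hS.tfy hD AU (K2G P) ?_ P.tf hTN (proj Θ) (proj_sur Θ) (fun y => proj_eq_one) X hX hu hB μ ht
  rcases K.j_or with hj | ⟨hj, -⟩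
  · left
    refine ⟨?_, ?_⟩
    · -- `|T| = 2 |U|`
      have h1 := card_mul_le (TT K i t) (TT K i t)
      have h2 : K.U.map i ⊔ zpowers t = TT K i t := sup_comm _ _
      have h3 := card_mul_le (K.U.map i) (zpowers t)
      rw [h2] at h3
      have h4 : K.U.map i ⊓ zpowers t ≤ ⊥ := by
        intro x hx
        obtain ⟨k, hk⟩ := mem_powers_iff_mem_zpowers.2 hx.2
        have hk' : t ^ k = x := hk
        rcases Nat.even_or_odd' k with ⟨m, rfl | rfl⟩
        · rw [Subgroup.mem_bot, ← hk', pow_mul, pow_two, P.tt, one_pow]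
        · exfalso
          rw [pow_succ, pow_mul, pow_two, P.tt, one_pow, one_mul] at hk'
          rw [← hk'] at hx
          exact hS.tU hx.1
      have h5 : Nat.card (zpowers t) = 2 := by
        rw [Nat.card_zpowers]
        have hp2 : Fact (Nat.Prime 2) := ⟨Nat.prime_two⟩
        exact orderOf_eq_prime (by rw [pow_two]; exact P.tt) P.t1
      rw [le_bot_iff.1 h4, Subgroup.card_bot, h5, card_map P.inj, mul_one] at h3
      have h6 := card_U K
      norm_num at h6 ⊢
      omega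
    · intro N hNU hA₁N hsq hn
      have e : (N.comap i).map i = N := by
        rw [Subgroup.map_comap_eq, inf_eq_right]
        exact hNU.trans (Subgroup.map_le_range i K.U)
      have h1 : Nat.card (N.comap i) = Nat.card N := by
        conv_rhs => rw [← e]
        rw [card_map P.inj]
      rw [← h1]
      have hNU' : N.comap i ≤ K.U := by
        intro y hy
        obtain ⟨u, hu, e⟩ := hNU hy
        rwa [← P.inj e]
      have hsq' : ∀ a ∈ N.comap i, a * a ∈ K.A₁ := by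
        intro a ha
        obtain ⟨b, hb, e⟩ := hsq _ ha
        rw [← map_mul] at e
        rwa [← P.inj e]
      refine K.KF hj _ hNU' ?_ hsq' ?_ ?_
      · intro a ha
        exact hA₁N ⟨a, ha, rfl⟩
      · intro u hu a ha
        show i (u * a * u⁻¹) ∈ N
        rw [map_mul, map_mul, map_inv]
        exact hn _ ⟨u, hu, rfl⟩ _ ha
      · intro a ha b hb
        have e : ⁅a, b⁆ = (a * b) * (a * b) * (b⁻¹ * (a * a)⁻¹ * b⁻¹⁻¹) * (b * b)⁻¹ := by
          rw [commutatorElement_def]; group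
        rw [e]
        refine mul_mem (mul_mem (hsq' _ (mul_mem ha hb)) ?_) (inv_mem (hsq' b hb))
        exact K.A₁_nor _ (inv_mem (hNU' hb)) _ (inv_mem (hsq' a ha))
  · right
    refine ⟨i K.j, ?_, ?_, fun x hx => (H.nj x hx).symm⟩
    · intro h
      have h1 := H.sq _ h
      rw [← map_mul, hj] at h1
      exact K.z1 (P.inj (by rw [h1, map_one]))
    · rw [← map_mul, hj]
      exact H.A_le ⟨K.z, K.z_A, rfl⟩

/-- **`YH`**, from `Pos` and `Th`. -/
theorem exists_yh (P : Pos K i t n) (H : Th K i t n Θ) : letI := cg H.ab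
    ∃ r0, YH (Y := ↥(YY Θ)) (Θ := ↥Θ) (YY Θ).subtype (tY P H) (xY H) (sY H) r0 (RY H) (PbY H) (zY H) (nY H) :=
  YOf.exists_yh P H (tfy P H)

end Cfsg.Agent.OddHalf.D7Tits.AltEnd
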