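import Cfsg.Agent.OddHalf.D7Tits.AltBase

/-!
# ODD D7, `K = ²F₄(2)'`: the `T`-invariant conjugates of `Θ`, part 2 (helper381; text: bb ODD 16131, 16338)

* `dich` : a `T`-invariant conjugate of `Θ` is of type `A` or `A₁`; `eq_of_A` : type `A` is `Θ` itself.
* `Bad`, `bad_of` : type `A₁` gives a bad pair `(T₁, t₁)` in `Y = N_G(Θ)/C_G(Θ)`; `Bad.not_le` : a bad `T₁` is not contained
  in `X ≤ Y` if `X` has a suitable normal elementary abelian subgroup.
* `no_ty_out` : there is no type `A₁` in the outer case.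
* `tfy` : the field `YH.tfy`.
-/

set_option autoImplicit false
set_option linter.unusedSectionVars false
set_option linter.unusedVariables false

namespace Cfsg.Agent.OddHalf.D7Tits.AltType

open Subgroup

variable {G : Type*} [Group G]

namespace Sit

variable {t : G} {T U A₁ : Subgroup G} (H : Sit t T U A₁)

include H

/-- **Two types.** -/
theorem dich [Finite G] {A : Subgroup G} (cardA : Nat.card A = 2 ^ 5)
    (K2 : ∀ B : Subgroup G, B ≤ U → EA B → (∀ u ∈ U, ∀ a ∈ B, u * a * u⁻¹ ∈ B) → 2 ^ 5 ≤ Nat.card B → B = A ∨ B = A₁)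
    {Θ : Subgroup G} (ea : EA Θ) (card : Nat.card Θ = 2 ^ 10) (nT : ∀ s ∈ T, ∀ x ∈ Θ, s * x * s⁻¹ ∈ Θ) :
    (t ∉ Θ ∧ Nat.card (Θ ⊓ centralizer {t} : Subgroup G) = 2 ^ 5 ∧ ∀ a ∈ A, a ∈ Θ ∨ t * a ∈ Θ) ∨ Ty t T A₁ Θ := by
  have tn : t ∉ Θ := fun h => H.rank Θ ea h card
  have tΘ := H.tΘ nT
  set B : Subgroup G := Θ ⊓ centralizer {t} with hB
  have hBT : B ≤ T := H.fixT ea nT
  have hBc : 2 ^ 5 ≤ Nat.card B := card_fix H.tt ea tΘ (m := 2 ^ 5) (by rw [card]; norm_num)
  have htB : t ∉ B := fun h => tn h.1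
  obtain ⟨P, hPU, hP, -, hc2⟩ := H.exists_pr hBT
  have hcP := hc2 htB
  -- commuting with `t`
  have hc : ∀ u ∈ P, u * t = t * u := fun u hu => H.cU u (hPU hu)
  have hsq : ∀ u ∈ P, u * u = 1 := by
    intro u hu
    rcases ((hP u).1 hu).2 with h1 | h1
    · exact ea.sq u h1.1
    · have h2 := ea.sq _ h1.1
      have e : t * u * (t * u) = u * u := by
        calc t * u * (t * u) = t * (u * t) * u := by group
          _ = (t * t) * (u * u) := by rw [hc u hu]; group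
          _ = u * u := by rw [H.tt, one_mul]
      rwa [e] at h2
  have hcomm1 : ∀ u v : G, u * t = t * u → v * t = t * v → t * u * v = v * (t * u) → u * v = v * u := by
    intro u v h1 h2 h3
    have h4 : t * (u * v) = t * (v * u) := by
      calc t * (u * v) = t * u * v := by group
        _ = v * t * u := by rw [h3]; group
        _ = t * (v * u) := by rw [h2]; group
    exact mul_left_cancel h4
  have hab : ∀ u ∈ P, ∀ v ∈ P, u * v = v * u := by
    intro u hu v hv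
    have e1 := hc u hu
    have e2 := hc v hv
    rcases ((hP u).1 hu).2 with h1 | h1 <;> rcases ((hP v).1 hv).2 with h2 | h2
    · exact ea.ab u h1.1 v h2.1
    · exact (hcomm1 v u e2 e1 (ea.ab _ h2.1 _ h1.1)).symm
    · exact hcomm1 u v e1 e2 (ea.ab _ h1.1 _ h2.1)
    · have h3 := ea.ab _ h1.1 _ h2.1
      have h5 : ∀ a b : G, a * t = t * a → t * a * (t * b) = a * b := fun a b hab => by
        calc t * a * (t * b) = t * (a * t) * b := by group
          _ = (t * t) * (a * b) := by rw [hab]; group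
          _ = a * b := by rw [H.tt, one_mul]
      rwa [h5 u v e1, h5 v u e2] at h3
  have hnor : ∀ u ∈ U, ∀ a ∈ P, u * a * u⁻¹ ∈ P := by
    intro u hu a ha
    obtain ⟨haU, h1⟩ := (hP a).1 ha
    refine (hP _).2 ⟨mul_mem (mul_mem hu haU) (inv_mem hu), ?_⟩
    have e1 := H.cU u hu
    have hBn : ∀ b ∈ B, u * b * u⁻¹ ∈ B := by
      intro b hb
      refine mem_inf.2 ⟨nT u (H.UT hu) b hb.1, mem_centralizer_singleton_iff.2 ?_⟩
      have e2 := mem_centralizer_singleton_iff.1 hb.2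
      have e3 := H.cU _ (inv_mem hu)
      calc u * b * u⁻¹ * t = u * b * (u⁻¹ * t) := by group
        _ = u * (b * t) * u⁻¹ := by rw [e3]; group
        _ = (u * t) * b * u⁻¹ := by rw [e2]; group
        _ = t * (u * b * u⁻¹) := by rw [e1]; group
    rcases h1 with h1 | h1
    · exact Or.inl (hBn a h1)
    · right
      have h2 := hBn _ h1
      have e : u * (t * a) * u⁻¹ = t * (u * a * u⁻¹) := by rw [← mul_assoc, e1]; group
      rwa [e] at h2
  have htyp : ∀ a ∈ P, a ∈ Θ ∨ t * a ∈ Θ := by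
    intro a ha
    rcases ((hP a).1 ha).2 with h1 | h1
    · exact Or.inl h1.1
    · exact Or.inr h1.1
  rcases K2 P hPU ⟨hab, hsq⟩ hnor (by rw [← hcP]; exact hBc) with h | h
  · left
    refine ⟨tn, ?_, by rw [← h]; exact htyp⟩
    rw [hcP, h, cardA]
  · right
    exact ⟨ea, card, nT, tn, by rw [← hB, hcP, h, H.cardA₁], by rw [← h]; exact htyp⟩

/-- **Type `A` is `Θ`.** -/
theorem eq_of_A [Finite G] {A J Θ Θ₁ : Subgroup G} {V : Set G} (cardA : Nat.card A = 2 ^ 5) (AU : A ≤ U)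
    (ea : EA Θ) (card : Nat.card Θ = 2 ^ 10) (nT : ∀ s ∈ T, ∀ x ∈ Θ, s * x * s⁻¹ ∈ Θ) (AΘ : A ≤ Θ)
    (fix : ∀ a ∈ Θ, a * t = t * a → a ∈ A) (gen : A ≤ closure V) (VA : V ⊆ A) (fus : ∀ v ∈ V, ∃ m : G, m⁻¹ * t * m = t * v)
    (cJ : ∀ c : G, c * t = t * c → (∀ a ∈ A, c * a = a * c) → ∃ j ∈ J, c = j ∨ c = t * j)
    (JΘ : ∀ j ∈ J, ∀ x ∈ Θ, j * x = x * j) (Jt : ∀ j ∈ J, j * t = t * j) (Jsq : ∀ j ∈ J, j * j = 1 → j ∈ A)
    {g : G} (hg : Θ₁ = cj g Θ) (nT₁ : ∀ s ∈ T, ∀ x ∈ Θ₁, s * x * s⁻¹ ∈ Θ₁)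
    (hB : Nat.card (Θ₁ ⊓ centralizer {t} : Subgroup G) = 2 ^ 5) (hA : ∀ a ∈ A, a ∈ Θ₁ ∨ t * a ∈ Θ₁) : Θ₁ = Θ := by
  have ea₁ : EA Θ₁ := hg ▸ ea.cj g
  have card₁ : Nat.card Θ₁ = 2 ^ 10 := by rw [hg, card_cj, card]
  -- `t` is in no conjugate of `Θ`
  have hno : ∀ k : G, t ∉ cj k Θ := fun k hk => H.rank _ (ea.cj k) hk (by rw [card_cj, card])
  have tn : t ∉ Θ₁ := hg ▸ hno g
  have tΘ := H.tΘ nT
  have hAR : A ≤ Θ₁ := by
    refine gen.trans ((Subgroup.closure_le _).2 fun v hv => ?_)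
    rcases hA v (VA hv) with h1 | h1
    · exact h1
    · exfalso
      obtain ⟨m, hm⟩ := fus v hv
      apply hno (m * g)
      rw [mem_cj]
      rw [hg, mem_cj, ← hm] at h1
      have e : (m * g)⁻¹ * t * (m * g) = g⁻¹ * (m⁻¹ * t * m) * g := by group
      rw [e]
      exact h1
  have hBA : A = Θ₁ ⊓ centralizer {t} := by
    apply Subgroup.eq_of_le_of_card_ge
    · exact fun a ha => mem_inf.2 ⟨hAR ha, mem_centralizer_singleton_iff.2 (H.cU a (AU ha))⟩
    · rw [hB, cardA]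
  have hfixA : Nat.card (Θ ⊓ centralizer {t} : Subgroup G) ≤ 2 ^ 5 := by
    rw [← cardA]
    exact Subgroup.card_le_of_le fun a ha => fix a ha.1 (mem_centralizer_singleton_iff.1 ha.2)
  have tΘ₁ := H.tΘ nT₁
  -- the elements of `Θ₁`
  have hform : ∀ y ∈ Θ₁, ∃ x ∈ Θ, ∃ j ∈ J, y = x * j ∨ y = x * (t * j) := by
    intro y hy
    have h1 : y⁻¹ * (t * y * t) ∈ Θ := by
      apply AΘ
      rw [hBA]
      refine mem_inf.2 ⟨mul_mem (inv_mem hy) (tΘ₁ y hy), mem_centralizer_singleton_iff.2 ?_⟩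
      apply comm_of_conj H.tt
      rw [conj_mul H.tt, ea₁.inv hy, conj_conj H.tt]
      exact ea₁.ab _ (tΘ₁ y hy) _ hy
    obtain ⟨b, hb, hbt⟩ := adj H.tt ea tΘ (m := 2 ^ 5) (by rw [card]; norm_num) hfixA h1
    obtain ⟨j, hj, h2⟩ := cJ (y * b) hbt fun a ha => by
      calc y * b * a = y * (b * a) := by group
        _ = (y * a) * b := by rw [ea.ab b hb a (AΘ ha)]; group
        _ = a * (y * b) := by rw [ea₁.ab y hy a (hAR ha)]; group
    have h3 : y = b * (y * b)⁻¹ := by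
      rw [mul_inv_rev, ea₁.inv hy, ← mul_assoc, mul_inv_cancel, one_mul]
    refine ⟨b, hb, j⁻¹, inv_mem hj, ?_⟩
    rcases h2 with h2 | h2
    · left
      rw [h2] at h3
      exact h3
    · right
      have h4 : (y * b)⁻¹ = t * j⁻¹ := by
        rw [h2, mul_inv_rev, inv_eq_of_mul_eq_one_left H.tt, Jt _ (inv_mem hj)]
      rw [h4] at h3
      exact h3
  have h0 : ∀ x ∈ Θ, ∀ j ∈ J, x * j ∈ Θ₁ → x * j ∈ Θ := by
    intro x hx j hj hR
    have h1 := ea₁.sq _ hR
    have h2 : x * j * (x * j) = (x * x) * (j * j) := by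
      calc x * j * (x * j) = x * (j * x) * j := by group
        _ = (x * x) * (j * j) := by rw [JΘ j hj x hx]; group
    rw [h2, ea.sq x hx, one_mul] at h1
    exact mul_mem hx (AΘ (Jsq j hj h1))
  have hle : Θ₁ ≤ Θ := by
    intro y hy
    obtain ⟨x, hx, j, hj, e | e⟩ := hform y hy
    · rw [e]
      exact h0 x hx j hj (e ▸ hy)
    · exfalso
      -- `Θ₁ ∩ Θ ≤ A`
      have h1 : Θ₁ ⊓ Θ ≤ A := by
        intro w hw
        refine fix w hw.2 ?_
        have h2 := ea₁.ab y hy w hw.1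
        have h3 := ea.ab x hx w hw.2
        have h4 := JΘ j hj w hw.2
        rw [e] at h2
        have h5 : x * (t * w * j) = x * (w * t * j) := by
          calc x * (t * w * j) = x * t * (w * j) := by group
            _ = x * (t * j) * w := by rw [← h4]; group
            _ = w * (x * (t * j)) := h2
            _ = (w * x) * t * j := by group
            _ = x * (w * t * j) := by rw [← h3]; group
        exact (mul_right_cancel (mul_left_cancel h5)).symm
      -- index at most two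
      have h2 : (Θ₁ : Set G) ⊆ (Θ₁ ⊓ Θ : Subgroup G) ∪ (fun w => y * w) '' (Θ₁ ⊓ Θ : Subgroup G) := by
        intro w hw
        obtain ⟨x', hx', j', hj', e' | e'⟩ := hform w hw
        · left
          exact ⟨hw, by rw [e']; exact h0 x' hx' j' hj' (e' ▸ hw)⟩
        · right
          refine ⟨y⁻¹ * w, ?_, by group⟩
          have hyw : y * w ∈ Θ₁ := mul_mem hy hw
          have e3 : y * w = (x * (t * x' * t)) * (j * j') := by
            rw [e, e']
            have h6 := JΘ j hj x' hx'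
            have h7 := Jt j hj
            calc x * (t * j) * (x' * (t * j')) = x * t * (j * x') * t * j' := by group
              _ = x * t * x' * (j * t) * j' := by rw [h6]; group
              _ = (x * (t * x' * t)) * (j * j') := by rw [h7]; group
          refine mem_inf.2 ⟨mul_mem (inv_mem hy) hw, ?_⟩
          rw [ea₁.inv hy]
          have h8 : (x * (t * x' * t)) * (j * j') ∈ Θ₁ := by rw [← e3]; exact hyw
          rw [e3]
          exact h0 _ (mul_mem hx (tΘ x' hx')) _ (mul_mem hj hj') h8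
      have h3 : Nat.card Θ₁ ≤ 2 ^ 5 + 2 ^ 5 := by
        have h4 : Nat.card (Θ₁ ⊓ Θ : Subgroup G) ≤ 2 ^ 5 := by
          rw [← cardA]
          exact Subgroup.card_le_of_le h1
        have h5 : (Θ₁ : Set G).ncard ≤ _ := Set.ncard_le_ncard h2 (Set.toFinite _)
        have h6 := Set.ncard_union_le ((Θ₁ ⊓ Θ : Subgroup G) : Set G)
          ((fun w => y * w) '' (Θ₁ ⊓ Θ : Subgroup G))
        have h7 : ((fun w => y * w) '' ((Θ₁ ⊓ Θ : Subgroup G) : Set G)).ncard ≤
          ((Θ₁ ⊓ Θ : Subgroup G) : Set G).ncard := Set.ncard_image_le (Set.toFinite _)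
        have h8 : ((Θ₁ ⊓ Θ : Subgroup G) : Set G).ncard = Nat.card (Θ₁ ⊓ Θ : Subgroup G) := rfl
        have h9 : (Θ₁ : Set G).ncard = Nat.card Θ₁ := rfl
        omega
      rw [card₁] at h3
      norm_num at h3
  exact Subgroup.eq_of_le_of_card_ge hle (by rw [card, card₁])

end Sit

/-! ### Bad pairs -/

/-- A bad pair in `Y` (helper961, ODD #16338). -/
structure Bad {Y : Type*} [Group Y] (T₁ : Subgroup Y) (t₁ : Y) : Prop where
  mem : t₁ ∈ T₁
  tt : t₁ * t₁ = 1
  cen : ∀ c ∈ T₁, c * t₁ = t₁ * c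
  card : 2 ^ 7 ≤ Nat.card T₁
  pT : IsPGroup 2 T₁
  syl : ∀ P : Subgroup Y, IsPGroup 2 P → T₁ ≤ P → (∀ p ∈ P, p * t₁ = t₁ * p) → P = T₁
  rank : ∀ E : Subgroup Y, E ≤ T₁ → (∀ s ∈ T₁, ∀ e ∈ E, s * e * s⁻¹ ∈ E) → (∀ e ∈ E, e * e = 1) → Nat.card E ≤ 16

theorem card_comap {A B : Type*} [Group A] [Group B] [Finite A] [Finite B] (f : A →* B) {E : Subgroup B}
    (hE : E ≤ f.range) : Nat.card (E.comap f) = Nat.card E * Nat.card f.ker := by
  have h1 := Subgroup.card_mul_index (E.comap f)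
  rw [Subgroup.index_comap] at h1
  have h2 := Subgroup.card_mul_index f.ker
  rw [Subgroup.index_ker] at h2
  have h3 : Nat.card E * E.relIndex f.range = Nat.card f.range := by
    rw [← Subgroup.relIndex_bot_left E, ← Subgroup.relIndex_bot_left f.range]
    exact Subgroup.relIndex_mul_relIndex _ _ _ bot_le hE
  have h4 : E.relIndex f.range ≠ 0 := by
    intro h0
    rw [h0, mul_zero] at h3
    exact (Nat.card_pos (α := f.range)).ne h3
  have h5 : Nat.card (E.comap f) * E.relIndex f.range = Nat.card E * Nat.card f.ker * E.relIndex f.range := by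
    rw [h1, ← h2, ← h3]; ring
  exact Nat.eq_of_mul_eq_mul_right (Nat.pos_of_ne_zero h4) h5

/-- `|B| ≤ |C_B(t)|²` -/
theorem card_le_sq [Finite G] {t : G} (tt : t * t = 1) {B : Subgroup G} (ea : EA B) (tB : ∀ x ∈ B, t * x * t ∈ B) :
    Nat.card B ≤ Nat.card (B ⊓ centralizer {t} : Subgroup G) * Nat.card (B ⊓ centralizer {t} : Subgroup G) := by
  set C : Subgroup G := B ⊓ centralizer {t} with hCdef
  have hbr : ∀ b ∈ B, b * (t * b * t) ∈ C := fun b hb => by
    refine mem_inf.2 ⟨mul_mem hb (tB b hb), ?_⟩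
    rw [mem_centralizer_singleton_iff]
    apply comm_of_conj tt
    rw [conj_mul tt, conj_conj tt, ea.ab _ (tB b hb) _ hb]
  let f : B →* C :=
    { toFun := fun b => ⟨b * (t * b * t), hbr b b.2⟩
      map_one' := Subtype.ext (by show (1 : G) * (t * 1 * t) = 1; rw [mul_one, tt, one_mul])
      map_mul' := fun x y => Subtype.ext (by
        show (x : G) * y * (t * (x * y) * t) = x * (t * x * t) * (y * (t * y * t))
        rw [conj_mul tt]
        calc (x : G) * y * (t * x * t * (t * y * t)) = x * (y * (t * x * t)) * (t * y * t) := by group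
          _ = _ := by rw [ea.ab _ y.2 _ (tB x x.2)]; group) }
  have hk : Nat.card f.ker ≤ Nat.card C := by
    refine Nat.card_le_card_of_injective (fun x => (⟨((x : B) : G), mem_inf.2 ⟨(x : B).2, ?_⟩⟩ : C)) ?_
    · have h1 : (((x : B)) : G) * (t * ((x : B) : G) * t) = 1 := congrArg Subtype.val x.2
      rw [mem_centralizer_singleton_iff]
      apply comm_of_conj tt
      rw [← inv_eq_of_mul_eq_one_right h1, ea.inv (x : B).2]
    · intro x y hxy
      exact Subtype.ext (Subtype.ext (congrArg (fun b : C => (b : G)) hxy))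
  have h1 := Subgroup.card_mul_index f.ker
  rw [Subgroup.index_ker] at h1
  have hr : Nat.card f.range ≤ Nat.card C := Nat.card_le_card_of_injective _ f.range.subtype_injective
  rw [← h1]
  exact Nat.mul_le_mul hk hr

namespace Bad

variable {Y : Type*} [Group Y] [Finite Y] {T₁ : Subgroup Y} {t₁ : Y} (H : Bad T₁ t₁)

include H

/-- a 2-group in `C(t₁)` normalised by `T₁` is contained in `T₁` -/
theorem inT {B : Subgroup Y} (hB : IsPGroup 2 B) (hBt : ∀ b ∈ B, b * t₁ = t₁ * b)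
    (hn : ∀ s ∈ T₁, ∀ b ∈ B, s * b * s⁻¹ ∈ B) : B ≤ T₁ := by
  have h1 : T₁ ≤ normalizer (B : Set Y) := by
    intro s hs
    rw [mem_normalizer_iff]
    intro x
    constructor
    · exact hn s hs x
    · intro hx
      have := hn s⁻¹ (inv_mem hs) _ hx
      have e : s⁻¹ * (s * x * s⁻¹) * s⁻¹⁻¹ = x := by group
      rwa [e] at this
  have h2 : IsPGroup 2 (B ⊔ T₁ : Subgroup Y) := IsPGroup.to_sup_of_normal_left' hB H.pT h1
  have h3 : B ⊔ T₁ ≤ centralizer {t₁} := sup_le (fun b hb => mem_centralizer_singleton_iff.2 (hBt b hb))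
    fun b hb => mem_centralizer_singleton_iff.2 (H.cen b hb)
  have h4 := H.syl _ h2 le_sup_right fun a ha => mem_centralizer_singleton_iff.1 (h3 ha)
  exact h4 ▸ le_sup_left

/-- **A bad `T₁` is in no `X` with a suitable normal elementary abelian subgroup.** -/
theorem not_le {X B : Subgroup Y} (hBX : B ≤ X) (hn : ∀ g ∈ X, ∀ b ∈ B, g * b * g⁻¹ ∈ B) (hsq : ∀ b ∈ B, b * b = 1)
    (hc : 2 ^ 7 ≤ Nat.card B ∨ 2 ^ 5 ≤ Nat.card B ∧ ∀ S : Subgroup Y, S ≤ X → IsPGroup 2 S → Nat.card S ≤ 2 ^ 8) :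
    ¬ T₁ ≤ X := by
  intro hTX
  have ea : EA B := by
    refine ⟨fun x hx y hy => ?_, hsq⟩
    have h1 := hsq _ (mul_mem hx hy)
    have e1 : x⁻¹ = x := inv_eq_of_mul_eq_one_left (hsq x hx)
    have e2 : y⁻¹ = y := inv_eq_of_mul_eq_one_left (hsq y hy)
    have h2 : x * y = (x * y)⁻¹ := (inv_eq_of_mul_eq_one_left h1).symm
    rw [mul_inv_rev, e1, e2] at h2
    exact h2
  have hB5 : 2 ^ 5 ≤ Nat.card B := by
    rcases hc with h | h
    · exact le_trans (by norm_num) h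
    · exact h.1
  have ti : t₁⁻¹ = t₁ := inv_eq_of_mul_eq_one_left H.tt
  have htX : t₁ ∈ X := hTX H.mem
  have tB : ∀ x ∈ B, t₁ * x * t₁ ∈ B := fun x hx => by
    have := hn t₁ htX x hx
    rwa [ti] at this
  set C : Subgroup Y := B ⊓ centralizer {t₁} with hC
  have hCp : IsPGroup 2 C := ea.p.to_le inf_le_left
  have hCn : ∀ s ∈ T₁, ∀ b ∈ C, s * b * s⁻¹ ∈ C := by
    intro s hs b hb
    refine mem_inf.2 ⟨hn s (hTX hs) b hb.1, mem_centralizer_singleton_iff.2 ?_⟩
    have e1 := H.cen s hs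
    have e2 := mem_centralizer_singleton_iff.1 hb.2
    have e3 := H.cen _ (inv_mem hs)
    calc s * b * s⁻¹ * t₁ = s * b * (s⁻¹ * t₁) := by group
      _ = s * (b * t₁) * s⁻¹ := by rw [e3]; group
      _ = (s * t₁) * b * s⁻¹ := by rw [e2]; group
      _ = t₁ * (s * b * s⁻¹) := by rw [e1]; group
  have hCT : C ≤ T₁ := H.inT hCp (fun b hb => mem_centralizer_singleton_iff.1 hb.2) hCn
  -- `t₁ ∉ B`
  have htB : t₁ ∉ B := by
    intro h
    have h1 : B ≤ C := fun b hb => mem_inf.2 ⟨hb, mem_centralizer_singleton_iff.2 (ea.ab b hb t₁ h)⟩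
    have h2 := H.rank B (h1.trans hCT) (fun s hs b hb => hn s (hTX hs) b hb) hsq
    omega
  -- `C ⟨t₁⟩` is elementary abelian of order `2 |C|`
  have hC8 : Nat.card C ≤ 8 := by
    have hct : ∀ c ∈ C, c * t₁ = t₁ * c := fun c hc => mem_centralizer_singleton_iff.1 hc.2
    let E : Subgroup Y :=
      { carrier := {x | x ∈ C ∨ t₁ * x ∈ C}
        one_mem' := Or.inl (one_mem _)
        mul_mem' := by
          rintro u v h1 h2
          rcases h1 with h1 | h1 <;> rcases h2 with h2 | h2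
          · exact Or.inl (mul_mem h1 h2)
          · right
            have := mul_mem h1 h2
            have e : u * (t₁ * v) = t₁ * (u * v) := by rw [← mul_assoc, hct u h1, mul_assoc]
            rwa [e] at this
          · right
            have := mul_mem h1 h2
            rwa [mul_assoc] at this
          · left
            have := mul_mem h1 h2
            have e : t₁ * u * (t₁ * v) = u * v := by
              have e1 := hct _ h1
              calc t₁ * u * (t₁ * v) = (t₁ * u * t₁) * v := by group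
                _ = (t₁ * t₁) * (u * v) := by rw [e1]; group
                _ = u * v := by rw [H.tt, one_mul]
            rwa [e] at this
        inv_mem' := by
          rintro u h1
          rcases h1 with h1 | h1
          · exact Or.inl (inv_mem h1)
          · right
            have := inv_mem h1
            have e : (t₁ * u)⁻¹ = t₁ * u⁻¹ := by
              have e1 := hct _ this
              have e2 : (t₁ * u)⁻¹ = u⁻¹ * t₁ := by rw [mul_inv_rev, ti]
              rw [e2] at e1 ⊢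
              calc u⁻¹ * t₁ = (t₁ * t₁) * (u⁻¹ * t₁) := by rw [H.tt, one_mul]
                _ = t₁ * (t₁ * (u⁻¹ * t₁)) := by group
                _ = t₁ * (u⁻¹ * t₁ * t₁) := by rw [← e1]
                _ = t₁ * (u⁻¹ * (t₁ * t₁)) := by group
                _ = t₁ * u⁻¹ := by rw [H.tt, mul_one]
            rwa [e] at this }
    have hE : ∀ x, x ∈ E ↔ x ∈ C ∨ t₁ * x ∈ C := fun x => Iff.rfl
    have hET : E ≤ T₁ := by
      intro x hx
      rcases hx with h | h
      · exact hCT h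
      · have := mul_mem H.mem (hCT h)
        rwa [← mul_assoc, H.tt, one_mul] at this
    have hEsq : ∀ e ∈ E, e * e = 1 := by
      intro x hx
      rcases hx with h | h
      · exact hsq x h.1
      · have h1 := hsq _ h.1
        have e1 := hct _ h
        -- `(t₁ x)(t₁ x) = 1`, `t₁ x` commutes with `t₁`
        have e2 : x = t₁ * (t₁ * x) := by rw [← mul_assoc, H.tt, one_mul]
        calc x * x = t₁ * (t₁ * x) * (t₁ * (t₁ * x)) := by rw [← e2]
          _ = t₁ * ((t₁ * x) * t₁) * (t₁ * x) := by group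
          _ = (t₁ * t₁) * ((t₁ * x) * (t₁ * x)) := by rw [e1]; group
          _ = 1 := by rw [H.tt, h1, one_mul]
    have hEn : ∀ s ∈ T₁, ∀ e ∈ E, s * e * s⁻¹ ∈ E := by
      intro s hs e he
      rcases he with h | h
      · exact Or.inl (hCn s hs e h)
      · right
        have h1 := hCn s hs _ h
        have e1 : s * (t₁ * e) * s⁻¹ = t₁ * (s * e * s⁻¹) := by
          have := H.cen s hs
          calc s * (t₁ * e) * s⁻¹ = (s * t₁) * e * s⁻¹ := by group
            _ = t₁ * (s * e * s⁻¹) := by rw [this]; group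
        rwa [e1] at h1
    have h1 := H.rank E hET hEn hEsq
    -- `|E| = 2 |C|`
    have hCE : C ≤ E := fun x hx => Or.inl hx
    have h2 : 2 * Nat.card C ≤ Nat.card E := by
      have h3 := Subgroup.card_mul_index (C.subgroupOf E)
      have h4 : Nat.card (C.subgroupOf E) = Nat.card C := Nat.card_congr (Subgroup.subgroupOfEquivOfLe hCE).toEquiv
      rw [h4] at h3
      have h5 : (C.subgroupOf E).index ≠ 1 := by
        rw [Ne, Subgroup.index_eq_one]
        intro h6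
        have h7 : (⟨t₁, Or.inr (by rw [H.tt]; exact one_mem _)⟩ : E) ∈ C.subgroupOf E := by rw [h6]; exact mem_top _
        exact htB (mem_subgroupOf.1 h7).1
      have h6 : (C.subgroupOf E).index ≠ 0 := Subgroup.index_ne_zero_of_finite
      have h7 : 2 ≤ (C.subgroupOf E).index := by omega
      rw [← h3, mul_comm]
      exact Nat.mul_le_mul_left _ h7
    omega
  have hB64 : Nat.card B ≤ 64 := by
    have h1 := card_le_sq H.tt ea tB
    rw [← hC] at h1
    exact h1.trans (le_trans (Nat.mul_le_mul hC8 hC8) (by norm_num))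
  rcases hc with h | ⟨h, h'⟩
  · have : (2 : ℕ) ^ 7 = 128 := by norm_num
    omega
  · -- the 2-group `B T₁`
    have h1 : T₁ ≤ normalizer (B : Set Y) := by
      intro s hs
      rw [mem_normalizer_iff]
      intro x
      constructor
      · exact hn s (hTX hs) x
      · intro hx
        have := hn s⁻¹ (inv_mem (hTX hs)) _ hx
        have e : s⁻¹ * (s * x * s⁻¹) * s⁻¹⁻¹ = x := by group
        rwa [e] at this
    have h2 : IsPGroup 2 (B ⊔ T₁ : Subgroup Y) := IsPGroup.to_sup_of_normal_left' ea.p H.pT h1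
    have h3 := h' _ (sup_le hBX hTX) h2
    -- `|B T₁| |B ∩ T₁| = |B| |T₁|`
    have h4 : Nat.card B * Nat.card T₁ ≤ Nat.card (B ⊔ T₁ : Subgroup Y) * Nat.card (B ⊓ T₁ : Subgroup Y) := by
      have h5 : T₁.relIndex B = (T₁ ⊓ B).relIndex B := (Subgroup.inf_relIndex_right T₁ B).symm
      have h6 : Nat.card (T₁ ⊓ B : Subgroup Y) * (T₁ ⊓ B).relIndex B = Nat.card B := by
        rw [← Subgroup.relIndex_bot_left (T₁ ⊓ B), ← Subgroup.relIndex_bot_left B]
        exact Subgroup.relIndex_mul_relIndex _ _ _ bot_le inf_le_right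
      have h7 : Nat.card T₁ * T₁.relIndex (B ⊔ T₁) = Nat.card (B ⊔ T₁ : Subgroup Y) := by
        rw [← Subgroup.relIndex_bot_left T₁, ← Subgroup.relIndex_bot_left (B ⊔ T₁)]
        exact Subgroup.relIndex_mul_relIndex _ _ _ bot_le le_sup_right
      have h8 : T₁.relIndex B ≤ T₁.relIndex (B ⊔ T₁) := Subgroup.relIndex_le_of_le_right le_sup_left
        (by
          intro h0
          rw [h0, mul_zero] at h7
          exact (Nat.card_pos (α := (B ⊔ T₁ : Subgroup Y))).ne h7)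
      rw [inf_comm B T₁, ← h6, ← h7, ← h5]
      calc Nat.card (T₁ ⊓ B : Subgroup Y) * T₁.relIndex B * Nat.card T₁
          = Nat.card T₁ * T₁.relIndex B * Nat.card (T₁ ⊓ B : Subgroup Y) := by ring
        _ ≤ _ := Nat.mul_le_mul_right _ (Nat.mul_le_mul_left _ h8)
    have h5 : Nat.card (B ⊓ T₁ : Subgroup Y) ≤ 8 := by
      refine le_trans (Subgroup.card_le_of_le ?_) hC8
      exact fun x hx => mem_inf.2 ⟨hx.1, mem_centralizer_singleton_iff.2 (H.cen x hx.2)⟩
    have h6 : Nat.card (B ⊔ T₁ : Subgroup Y) * Nat.card (B ⊓ T₁ : Subgroup Y) ≤ 2 ^ 8 * 8 := Nat.mul_le_mul h3 h5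
    have h7 : 2 ^ 5 * 2 ^ 7 ≤ Nat.card B * Nat.card T₁ := Nat.mul_le_mul h H.card
    norm_num at h6 h7 h4
    omega

end Bad

namespace Sit

variable {t : G} {T U A₁ : Subgroup G} (H : Sit t T U A₁)

include H

/-- a 2-element of `C_G(Θ₁)` is in `Θ₁` -/
theorem two_elt [Finite G] {Θ₁ : Subgroup G} (h : Ty t T A₁ Θ₁) {k : ℕ} : ∀ {c : G}, c ^ 2 ^ k = 1 →
    (∀ x ∈ Θ₁, c * x = x * c) → c ∈ Θ₁ := by
  induction k with
  | zero =>
    intro c hc _
    rw [pow_zero, pow_one] at hc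
    rw [hc]; exact one_mem _
  | succ k ih =>
    intro c hc hcc
    refine H.odd_cent h (ih (c := c * c) ?_ ?_) hcc
    · rw [← pow_two, ← pow_mul, ← pow_succ']
      exact hc
    · intro x hx
      have h1 := hcc x hx
      calc c * c * x = c * (c * x) := by group
        _ = (c * x) * c := by rw [h1]; group; rw [← h1]
        _ = x * (c * c) := by rw [h1]; group

/-- **Type `A₁` gives a bad pair.** -/
theorem bad_of [Finite G] (cardT : 2 ^ 12 ≤ Nat.card T)
    (KA : ∀ N : Subgroup G, N ≤ U → A₁ ≤ N → (∀ x ∈ N, x * x ∈ A₁) → (∀ u ∈ U, ∀ x ∈ N, u * x * u⁻¹ ∈ N) →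
      Nat.card N < 2 ^ 9)
    {Θ₁ : Subgroup G} (h : Ty t T A₁ Θ₁) {N₁ : Subgroup G} (hTN : T ≤ N₁) (hΘN : Θ₁ ≤ N₁) {Y : Type*} [Group Y] [Finite Y]
    (f : N₁ →* Y) (hf : Function.Surjective f) (hker : ∀ y : N₁, f y = 1 ↔ ∀ x ∈ Θ₁, (y : G) * x = x * y) :
    Bad ((T.subgroupOf N₁).map f) (f ⟨t, hTN H.tT⟩) := by
  classical
  have tΘ := H.tΘ h.nT
  have ti : t⁻¹ = t := inv_eq_of_mul_eq_one_left H.tt
  set B : Subgroup G := Θ₁ ⊓ centralizer {t} with hB
  have hBT : B ≤ T := H.fixT h.ea h.nT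
  have htB : t ∉ B := fun h' => h.tn h'.1
  -- `T → Y`
  let φ : T →* Y := f.comp (Subgroup.inclusion hTN)
  have hφ : ∀ a : T, φ a = f ⟨a, hTN a.2⟩ := fun a => rfl
  have hrange : φ.range = (T.subgroupOf N₁).map f := by
    ext y
    constructor
    · rintro ⟨a, rfl⟩
      exact ⟨⟨a, hTN a.2⟩, a.2, rfl⟩
    · rintro ⟨a, ha, rfl⟩
      exact ⟨⟨a, ha⟩, rfl⟩
  have hkerφ : ∀ a : T, φ a = 1 ↔ (a : G) ∈ B := by
    intro a
    rw [hφ, hker]
    constructor
    · intro h1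
      exact mem_inf.2 ⟨H.ker_T h a.2 h1, mem_centralizer_singleton_iff.2 (H.cT a.2)⟩
    · intro h1 x hx
      exact h.ea.ab a h1.1 x hx
  have hcker : Nat.card φ.ker = 2 ^ 5 := by
    rw [← h.cardB]
    refine Nat.card_congr ⟨fun x => ⟨x.1.1, (hkerφ x.1).1 x.2⟩, fun x => ⟨⟨x.1, hBT x.2⟩, (hkerφ _).2 x.2⟩,
      fun x => rfl, fun x => rfl⟩
  have hcr : 2 ^ 7 ≤ Nat.card φ.range := by
    have h1 := Subgroup.card_mul_index φ.ker
    rw [Subgroup.index_ker, hcker] at h1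
    rw [← h1] at cardT
    norm_num at cardT ⊢
    omega
  refine ⟨⟨⟨t, hTN H.tT⟩, H.tT, rfl⟩, ?_, ?_, by rw [← hrange]; exact hcr,
    (IsPGroup.comap_of_injective H.pT N₁.subtype N₁.subtype_injective).map f, ?_, ?_⟩
  · rw [← map_mul]
    have e : (⟨t, hTN H.tT⟩ : N₁) * ⟨t, hTN H.tT⟩ = 1 := Subtype.ext H.tt
    rw [e, map_one]
  · rintro _ ⟨a, ha, rfl⟩
    rw [← map_mul, ← map_mul]
    congr 1
    exact Subtype.ext (H.cT ha)
  · -- Sylow
    intro P hP hTP hPt
    have : Fact (Nat.Prime 2) := ⟨Nat.prime_two⟩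
    refine le_antisymm ?_ hTP
    -- the preimage of `P`, a Sylow 2-subgroup of it containing `T Θ₁`
    let M : Subgroup N₁ := P.comap f
    let g : M →* P := f.subgroupComap P
    have hg : Function.Surjective g := MonoidHom.subgroupComap_surjective_of_surjective f P hf
    have hΘT : T ≤ normalizer (Θ₁ : Set G) := by
      intro s hs
      rw [mem_normalizer_iff]
      intro x
      constructor
      · exact h.nT s hs x
      · intro hx
        have := h.nT s⁻¹ (inv_mem hs) _ hx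
        have e : s⁻¹ * (s * x * s⁻¹) * s⁻¹⁻¹ = x := by group
        rwa [e] at this
    have h2 : IsPGroup 2 (Θ₁ ⊔ T : Subgroup G) := IsPGroup.to_sup_of_normal_left' h.ea.p H.pT hΘT
    let W : Subgroup M := ((Θ₁ ⊔ T : Subgroup G).subgroupOf N₁).subgroupOf M
    have hW : IsPGroup 2 W :=
      IsPGroup.comap_of_injective (IsPGroup.comap_of_injective h2 N₁.subtype N₁.subtype_injective) M.subtype
        M.subtype_injective
    obtain ⟨S, hS⟩ := hW.exists_le_sylow
    have hfin : Finite M := inferInstance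
    have hStop : ∀ p : P, ∃ s ∈ S, g s = p := by
      have h3 := (S.mapSurjective hg).is_maximal' (Q := ⊤) (hP.of_equiv (Subgroup.topEquiv (G := P)).symm) le_top
      intro p
      have h4 : p ∈ (S.mapSurjective hg : Subgroup P) := by rw [← h3]; exact mem_top p
      rw [Sylow.coe_mapSurjective] at h4
      obtain ⟨s, hs, e⟩ := h4
      exact ⟨s, hs, e⟩
    -- `S` as a subgroup of `G`
    let S' : Subgroup G := ((S : Subgroup M).map M.subtype).map N₁.subtype
    have hS'p : IsPGroup 2 S' := (S.isPGroup'.map M.subtype).map N₁.subtype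
    have hΘTS : Θ₁ ⊔ T ≤ S' := by
      have hle : Θ₁ ⊔ T ≤ N₁ := sup_le hΘN hTN
      intro x hx
      have hxM : f ⟨x, hle hx⟩ ∈ P := by
        have h3 : Θ₁ ⊔ T ≤ (P.comap f).map N₁.subtype := by
          refine sup_le ?_ ?_
          · intro y hy
            refine ⟨⟨y, hΘN hy⟩, ?_, rfl⟩
            show f ⟨y, hΘN hy⟩ ∈ P
            rw [(hker ⟨y, hΘN hy⟩).2 fun x hx => h.ea.ab y hy x hx]
            exact one_mem _
          · intro y hy
            exact ⟨⟨y, hTN hy⟩, hTP ⟨⟨y, hTN hy⟩, hy, rfl⟩, rfl⟩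
        obtain ⟨⟨y, hy⟩, hy', e⟩ := h3 hx
        have e' : y = x := e
        subst e'
        exact hy'
      exact ⟨⟨x, hle hx⟩, ⟨⟨⟨x, hle hx⟩, hxM⟩, hS (show _ ∈ W from hx), rfl⟩, rfl⟩
    have hST : S' ⊓ centralizer {t} ≤ T :=
      H.syl _ (hS'p.to_le inf_le_left) (le_inf (le_sup_right.trans hΘTS) fun a ha =>
        mem_centralizer_singleton_iff.2 (H.cT ha)) fun a ha => mem_centralizer_singleton_iff.1 ha.2
    intro p hp
    obtain ⟨⟨⟨y, hyN⟩, hyM⟩, hyS, hyp⟩ := hStop ⟨p, hp⟩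
    have hyp' : f ⟨y, hyN⟩ = p := congrArg Subtype.val hyp
    have hyS' : y ∈ S' := ⟨⟨y, hyN⟩, ⟨⟨⟨y, hyN⟩, hyM⟩, hyS, rfl⟩, rfl⟩
    -- `y⁻¹ t y t ∈ C(Θ₁)` is a 2-element
    have h3 := hPt p hp
    have htS : t ∈ S' := hΘTS (mem_sup_right H.tT)
    have h4 : y⁻¹ * (t * y * t) ∈ S' := mul_mem (inv_mem hyS') (mul_mem (mul_mem htS hyS') htS)
    have h5 : ∀ x ∈ Θ₁, y⁻¹ * (t * y * t) * x = x * (y⁻¹ * (t * y * t)) := by
      have h6 : f (⟨y, hyN⟩⁻¹ * (⟨t, hTN H.tT⟩ * ⟨y, hyN⟩ * ⟨t, hTN H.tT⟩)) = 1 := by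
        rw [map_mul, map_mul, map_mul, map_inv, hyp', ← h3]
        have e : f ⟨t, hTN H.tT⟩ * f ⟨t, hTN H.tT⟩ = 1 := by
          rw [← map_mul]
          have e : (⟨t, hTN H.tT⟩ : N₁) * ⟨t, hTN H.tT⟩ = 1 := Subtype.ext H.tt
          rw [e, map_one]
        rw [mul_assoc p, e, mul_one, inv_mul_cancel]
      exact (hker _).1 h6
    obtain ⟨k, hk⟩ := hS'p ⟨_, h4⟩
    have h6 : y⁻¹ * (t * y * t) ∈ Θ₁ := H.two_elt h (k := k) (congrArg Subtype.val hk) h5
    obtain ⟨b, hb, hbt⟩ := adj H.tt h.ea tΘ (m := 2 ^ 5) (by rw [h.card]; norm_num) h.cardB.le h6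
    have h7 : y * b ∈ T := hST (mem_inf.2 ⟨mul_mem hyS' (hΘTS (mem_sup_left hb)), mem_centralizer_singleton_iff.2 hbt⟩)
    refine ⟨⟨y * b, hTN h7⟩, h7, ?_⟩
    have e : (⟨y * b, hTN h7⟩ : N₁) = ⟨y, hyN⟩ * ⟨b, hΘN hb⟩ := rfl
    rw [e, map_mul, hyp', (hker ⟨b, hΘN hb⟩).2 fun x hx => h.ea.ab b hb x hx, mul_one]
  · -- rank
    intro E hE hEn hEsq
    rw [← hrange] at hE hEn
    -- the preimage of `E` in `T`
    let E' : Subgroup G := (E.comap φ).map T.subtype
    have hE' : ∀ x, x ∈ E' ↔ ∃ hx : x ∈ T, φ ⟨x, hx⟩ ∈ E := by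
      intro x
      constructor
      · rintro ⟨a, ha, rfl⟩
        exact ⟨a.2, ha⟩
      · rintro ⟨hx, h1⟩
        exact ⟨⟨x, hx⟩, h1, rfl⟩
    have hcE : Nat.card E' = Nat.card E * 2 ^ 5 := by
      rw [← hcker, ← card_comap φ hE]
      exact (Nat.card_congr ((E.comap φ).equivMapOfInjective _ T.subtype_injective).toEquiv).symm
    have hE'T : E' ≤ T := fun x hx => ((hE' x).1 hx).1
    obtain ⟨P, hPU, hP, hcP, -⟩ := H.exists_pr hE'T
    obtain ⟨PB, hPBU, hPB, -, hcPB⟩ := H.exists_pr hBT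
    have hAPB : A₁ = PB := by
      apply Subgroup.eq_of_le_of_card_ge
      · intro a ha
        refine (hPB a).2 ⟨H.A₁U ha, ?_⟩
        have hat := H.cU a (H.A₁U ha)
        rcases h.typ a ha with h1 | h1
        · exact Or.inl (mem_inf.2 ⟨h1, mem_centralizer_singleton_iff.2 hat⟩)
        · refine Or.inr (mem_inf.2 ⟨h1, mem_centralizer_singleton_iff.2 ?_⟩)
          rw [mul_assoc, hat]
      · rw [← hcPB htB, hB, h.cardB, H.cardA₁]
    have hAP : A₁ ≤ P := by
      intro a ha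
      rw [hAPB] at ha
      obtain ⟨haU, h1⟩ := (hPB a).1 ha
      have h2 : ∀ b ∈ B, b ∈ E' := fun b hb => (hE' b).2 ⟨hBT hb, by rw [(hkerφ ⟨b, hBT hb⟩).2 hb]; exact one_mem _⟩
      exact (hP a).2 ⟨haU, h1.imp (h2 a) (h2 _)⟩
    have hPsq : ∀ u ∈ P, u * u ∈ A₁ := by
      intro u hu
      obtain ⟨huU, h1⟩ := (hP u).1 hu
      have hut := H.cU u huU
      have key : ∀ w ∈ E', w * w ∈ B := by
        intro w hw
        obtain ⟨hwT, h2⟩ := (hE' w).1 hw
        have h3 := hEsq _ h2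
        rw [← map_mul, hkerφ] at h3
        exact h3
      have h2 : u * u ∈ B := by
        rcases h1 with h1 | h1
        · exact key u h1
        · have h2 := key _ h1
          have e : t * u * (t * u) = u * u := by
            calc t * u * (t * u) = t * (u * t) * u := by group
              _ = (t * t) * (u * u) := by rw [hut]; group
              _ = u * u := by rw [H.tt, one_mul]
          rwa [e] at h2
      rw [hAPB]
      exact (hPB _).2 ⟨mul_mem huU huU, Or.inl h2⟩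
    have hE'n : ∀ s ∈ T, ∀ e ∈ E', s * e * s⁻¹ ∈ E' := by
      intro s hs e he
      obtain ⟨heT, h1⟩ := (hE' e).1 he
      refine (hE' _).2 ⟨mul_mem (mul_mem hs heT) (inv_mem hs), ?_⟩
      have h2 := hEn (φ ⟨s, hs⟩) ⟨_, rfl⟩ _ h1
      rwa [← map_inv, ← map_mul, ← map_mul] at h2
    have hPn : ∀ u ∈ U, ∀ x ∈ P, u * x * u⁻¹ ∈ P := by
      intro u hu x hx
      obtain ⟨hxU, h1⟩ := (hP x).1 hx
      refine (hP _).2 ⟨mul_mem (mul_mem hu hxU) (inv_mem hu), ?_⟩
      rcases h1 with h1 | h1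
      · exact Or.inl (hE'n u (H.UT hu) x h1)
      · right
        have h2 := hE'n u (H.UT hu) _ h1
        have e : u * (t * x) * u⁻¹ = t * (u * x * u⁻¹) := by rw [← mul_assoc, H.cU u hu]; group
        rwa [e] at h2
    have h1 := KA P hPU hAP hPsq hPn
    -- `|P|` is a power of two
    have : Fact (Nat.Prime 2) := ⟨Nat.prime_two⟩
    have hPp : IsPGroup 2 P := H.pT.to_le (hPU.trans H.UT)
    obtain ⟨k, hk⟩ := IsPGroup.iff_card.1 hPp
    have hk8 : k ≤ 8 := by
      by_contra hlt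
      rw [not_le] at hlt
      have : 2 ^ 9 ≤ Nat.card P := by rw [hk]; exact Nat.pow_le_pow_right (by norm_num) hlt
      omega
    have h2 : Nat.card P ≤ 2 ^ 8 := by rw [hk]; exact Nat.pow_le_pow_right (by norm_num) hk8
    rw [hcE] at hcP
    norm_num at hcP h2
    omega

end Sit

/-! ### The T-formula in `Y` -/

/-- the data on `Θ` -/
structure TD (t : G) (T A Θ : Subgroup G) (J : Subgroup G) (V : Set G) : Prop where
  cardA : Nat.card A = 2 ^ 5
  ea : EA Θ
  card : Nat.card Θ = 2 ^ 10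
  nT : ∀ s ∈ T, ∀ x ∈ Θ, s * x * s⁻¹ ∈ Θ
  AΘ : A ≤ Θ
  fix : ∀ a ∈ Θ, a * t = t * a → a ∈ A
  gen : A ≤ closure V
  VA : V ⊆ A
  fus : ∀ v ∈ V, ∃ m : G, m⁻¹ * t * m = t * v
  cJ : ∀ c : G, c * t = t * c → (∀ a ∈ A, c * a = a * c) → ∃ j ∈ J, c = j ∨ c = t * j
  JΘ : ∀ j ∈ J, ∀ x ∈ Θ, j * x = x * j
  Jt : ∀ j ∈ J, j * t = t * j
  Jsq : ∀ j ∈ J, j * j = 1 → j ∈ A

/-- `T`-invariant conjugates of `Θ` -/
theorem Sit.conj [Finite G] {t : G} {T U A₁ A Θ J : Subgroup G} {V : Set G} (H : Sit t T U A₁) (D : TD t T A Θ J V) (AU : A ≤ U)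
    (K2 : ∀ B : Subgroup G, B ≤ U → EA B → (∀ u ∈ U, ∀ a ∈ B, u * a * u⁻¹ ∈ B) → 2 ^ 5 ≤ Nat.card B → B = A ∨ B = A₁)
    {g : G} (hg : ∀ s ∈ T, ∀ x ∈ cj g Θ, s * x * s⁻¹ ∈ cj g Θ) : cj g Θ = Θ ∨ Ty t T A₁ (cj g Θ) := by
  rcases H.dich D.cardA K2 (D.ea.cj g) (by rw [card_cj, D.card]) hg with ⟨-, h2, h3⟩ | h
  · exact Or.inl (H.eq_of_A D.cardA AU D.ea D.card D.nT D.AΘ D.fix D.gen D.VA D.fus D.cJ D.JΘ D.Jt D.Jsq rfl hg h2 h3)
  · exact Or.inr h

/-- **The T-formula in `Y = N_G(Θ)/C_G(Θ)`.** -/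
theorem Sit.tfy [Finite G] {t : G} {T U A₁ A Θ J : Subgroup G} {V : Set G} (H : Sit t T U A₁) (D : TD t T A Θ J V) (AU : A ≤ U)
    (K2 : ∀ B : Subgroup G, B ≤ U → EA B → (∀ u ∈ U, ∀ a ∈ B, u * a * u⁻¹ ∈ B) → 2 ^ 5 ≤ Nat.card B → B = A ∨ B = A₁)
    (hcase : (2 ^ 12 ≤ Nat.card T ∧ ∀ N : Subgroup G, N ≤ U → A₁ ≤ N → (∀ x ∈ N, x * x ∈ A₁) →
      (∀ u ∈ U, ∀ x ∈ N, u * x * u⁻¹ ∈ N) → Nat.card N < 2 ^ 9) ∨ ∃ c : G, c ∉ Θ ∧ c * c ∈ Θ ∧ ∀ x ∈ Θ, c * x = x * c)
    (hTF : Defs.TF T t) {Y : Type*} [Group Y] [Finite Y] (hTN : T ≤ normalizer (Θ : Set G))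
    (f : ↥(normalizer (Θ : Set G)) →* Y) (hf : Function.Surjective f)
    (hker : ∀ y : ↥(normalizer (Θ : Set G)), f y = 1 ↔ ∀ x ∈ Θ, (y : G) * x = x * y) (X : Subgroup Y)
    (hTX : (T.subgroupOf (normalizer (Θ : Set G))).map f ≤ X)
    (hu : ∀ g : Y, (∀ a ∈ (T.subgroupOf (normalizer (Θ : Set G))).map f, g⁻¹ * a * g ∈ X) → g ∈ X)
    (hB : ∃ B : Subgroup Y, B ≤ X ∧ (∀ g ∈ X, ∀ b ∈ B, g * b * g⁻¹ ∈ B) ∧ (∀ b ∈ B, b * b = 1) ∧
      (2 ^ 7 ≤ Nat.card ↥B ∨ 2 ^ 5 ≤ Nat.card ↥B ∧ ∀ S : Subgroup Y, S ≤ X → IsPGroup 2 ↥S → Nat.card ↥S ≤ 2 ^ 8))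
    (μ : ↥X →* Multiplicative (ZMod 2)) (ht : f ⟨t, hTN H.tT⟩ ∈ X) : μ ⟨f ⟨t, hTN H.tT⟩, ht⟩ = 1 := by
  classical
  let N : Subgroup G := normalizer (Θ : Set G)
  have hNmem : ∀ g : G, g ∈ N → ∀ x, x ∈ Θ ↔ g * x * g⁻¹ ∈ Θ := fun g hg x => mem_normalizer_iff.1 hg x
  -- the preimage of `X`
  let X' : Subgroup G := (X.comap f).map N.subtype
  have hmem : ∀ g : G, g ∈ X' ↔ ∃ hg : g ∈ N, f ⟨g, hg⟩ ∈ X := by
    intro g
    constructor
    · rintro ⟨a, ha, rfl⟩
      exact ⟨a.2, ha⟩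
    · rintro ⟨hg, h1⟩
      exact ⟨⟨g, hg⟩, h1, rfl⟩
  have hTX' : T ≤ X' := fun a ha => (hmem a).2 ⟨hTN ha, hTX ⟨⟨a, hTN ha⟩, ha, rfl⟩⟩
  have hu' : Defs.Uniq T X' := by
    intro g hg
    have hgN : ∀ a ∈ T, g⁻¹ * a * g ∈ N := fun a ha => ((hmem _).1 (hg a ha)).1
    -- `T` normalises `Θ^g`
    have hn : ∀ s ∈ T, ∀ x ∈ cj g Θ, s * x * s⁻¹ ∈ cj g Θ := by
      intro s hs x hx
      rw [mem_cj] at hx ⊢
      have h1 := (hNmem _ (hgN s hs) _).1 hx
      have e : g⁻¹ * (s * x * s⁻¹) * g = g⁻¹ * s * g * (g⁻¹ * x * g) * (g⁻¹ * s * g)⁻¹ := by group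
      rw [e]; exact h1
    rcases H.conj D AU K2 hn with h | h
    · -- `g ∈ N`
      have hgN' : g ∈ N := by
        have h1 : ∀ x, x ∈ Θ ↔ g⁻¹ * x * g ∈ Θ := fun x => by rw [← mem_cj, h]
        have h2 : g⁻¹ ∈ N := by
          rw [mem_normalizer_iff]
          intro x
          rw [inv_inv]
          exact h1 x
        exact (inv_mem_iff (H := N)).1 h2
      refine (hmem g).2 ⟨hgN', hu _ ?_⟩
      rintro _ ⟨a, ha, rfl⟩
      obtain ⟨h1, h2⟩ := (hmem _).1 (hg a ha)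
      rw [← map_inv, ← map_mul, ← map_mul]
      exact h2
    · -- type `A₁`
      exfalso
      rcases hcase with ⟨cT, KA⟩ | ⟨c, hc, hcc, hcΘ⟩
      · -- `N₁ = N^g`
        let N₁ : Subgroup G := cj g N
        let κ : N₁ →* N :=
          { toFun := fun y => ⟨g⁻¹ * y * g, mem_cj.1 y.2⟩
            map_one' := Subtype.ext (by show g⁻¹ * 1 * g = 1; group)
            map_mul' := fun x y => Subtype.ext (by
              show g⁻¹ * ((x : G) * y) * g = g⁻¹ * x * g * (g⁻¹ * y * g)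
              group) }
        have hκ : Function.Surjective κ := by
          rintro ⟨y, hy⟩
          refine ⟨⟨g * y * g⁻¹, ?_⟩, Subtype.ext ?_⟩
          · rw [mem_cj]
            have e : g⁻¹ * (g * y * g⁻¹) * g = y := by group
            rw [e]; exact hy
          · show g⁻¹ * (g * y * g⁻¹) * g = y
            group
        have hTN₁ : T ≤ N₁ := fun a ha => mem_cj.2 (hgN a ha)
        have hΘN₁ : cj g Θ ≤ N₁ := by
          intro x hx
          rw [mem_cj] at hx ⊢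
          exact le_normalizer hx
        have hker₁ : ∀ y : N₁, (f.comp κ) y = 1 ↔ ∀ x ∈ cj g Θ, (y : G) * x = x * y := by
          intro y
          rw [MonoidHom.comp_apply, hker]
          show (∀ x ∈ Θ, g⁻¹ * (y : G) * g * x = x * (g⁻¹ * y * g)) ↔ _
          constructor
          · intro h1 x hx
            rw [mem_cj] at hx
            have h2 := h1 _ hx
            calc (y : G) * x = g * (g⁻¹ * y * g * (g⁻¹ * x * g)) * g⁻¹ := by group
              _ = g * (g⁻¹ * x * g * (g⁻¹ * y * g)) * g⁻¹ := by rw [h2]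
              _ = x * y := by group
          · intro h1 x hx
            have h2 := h1 (g * x * g⁻¹) (by
              rw [mem_cj]
              have e : g⁻¹ * (g * x * g⁻¹) * g = x := by group
              rw [e]; exact hx)
            calc g⁻¹ * (y : G) * g * x = g⁻¹ * (y * (g * x * g⁻¹)) * g := by group
              _ = g⁻¹ * (g * x * g⁻¹ * y) * g := by rw [h2]
              _ = x * (g⁻¹ * y * g) := by group
        have hbad := H.bad_of cT KA h hTN₁ hΘN₁ (f.comp κ) (hf.comp hκ) hker₁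
        obtain ⟨B, hBX, hBn, hBs, hBc⟩ := hB
        refine hbad.not_le hBX hBn hBs hBc ?_
        rintro _ ⟨a, ha, rfl⟩
        obtain ⟨h1, h2⟩ := (hmem _).1 (hg a ha)
        exact h2
      · -- the outer case
        apply hc
        have h1 := H.odd_cent h (c := g * c * g⁻¹) (by
          rw [mem_cj]
          have e : g⁻¹ * (g * c * g⁻¹ * (g * c * g⁻¹)) * g = c * c := by group
          rw [e]; exact hcc) (by
          intro x hx
          rw [mem_cj] at hx
          have h2 := hcΘ _ hx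
          calc g * c * g⁻¹ * x = g * (c * (g⁻¹ * x * g)) * g⁻¹ := by group
            _ = g * (g⁻¹ * x * g * c) * g⁻¹ := by rw [h2]
            _ = x * (g * c * g⁻¹) := by group)
        rw [mem_cj] at h1
        have e : g⁻¹ * (g * c * g⁻¹) * g = c := by group
        rwa [e] at h1
  let g : X' →* X :=
    { toFun := fun a => ⟨f ⟨a, ((hmem _).1 a.2).1⟩, ((hmem _).1 a.2).2⟩
      map_one' := by
        apply Subtype.ext
        show f ⟨1, _⟩ = 1
        rw [← map_one f]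
        rfl
      map_mul' := by
        intro a b
        apply Subtype.ext
        show f ⟨a * b, _⟩ = f ⟨a, _⟩ * f ⟨b, _⟩
        rw [← map_mul]
        rfl }
  exact hTF X' hTX' hu' (μ.comp g) (hTX' H.tT)

end Cfsg.Agent.OddHalf.D7Tits.AltType
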