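import Cfsg.Agent.OddHalf.D7Tits.SOne
import Cfsg.Agent.OddHalf.D7Tits.WDefs

/-!
# ODD D7, `K = ²F₄(2)'`, type W: from the raw data of section 1 to the position `WDefs.PosW` (helper853)
-/

set_option autoImplicit false
set_option linter.unusedSectionVars false
set_option linter.unusedVariables false

namespace Cfsg.Agent.OddHalf.D7Tits.WOf

open Cfsg.Agent.OddHalf.D7Tits.Defs Cfsg.Agent.OddHalf.D7Tits.SOne Cfsg.Agent.OddHalf.D7Tits.WDefs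

universe u v

variable {Y : Type u} [Group Y] {G : Type v} [Group G]

/-- **glue**: raw data of type W ⟹ `PosW` -/
theorem exists_posW {K : KT Y} {K₀ : Subgroup Y} {i₀ : ↥K₀ →* G} {t f : G} (H : Pos0 K K₀ i₀ t f) (hj : K.j ∉ K₀) {n : G}
    (M : Nn K i₀ t n K.aw) (nn : n * n = 1) (hff : f * f = io i₀ K.z) (W : KTW K) :
    ∃ i : Y →* G, WDefs.PosW K i t n := by
  obtain ⟨hf, -, -⟩ := out_facts H hj
  have N := M.mv
  have hsK := H.sK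
  have hxK := x_K H
  have hzK := z_K H
  have hrK := r_K H
  have hrE := r_E K
  have hst := io_t H hsK
  obtain ⟨-, hsz⟩ := io_M H N (s_P K) hsK
  have hn1 : n⁻¹ = n := inv_eq_of_mul_eq_one_left nn
  have hzz := zz' H
  set S := io i₀ K.s with hS
  have inv1 : ∀ g h : G, h * g = g * h → h⁻¹ * g = g * h⁻¹ := by
    intro g h e
    calc h⁻¹ * g = h⁻¹ * (g * h) * h⁻¹ := by group
      _ = h⁻¹ * (h * g) * h⁻¹ := by rw [e]
      _ = _ := by group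
  have hft := H.ft
  have hfx := f_x H
  have hfz := f_z H
  have hft' := inv1 _ _ hft
  have hfx' := inv1 _ _ hfx
  have hst' := inv1 _ _ hst.symm
  have hsz' := inv1 _ _ hsz
  have hnx' := inv1 _ _ M.nx
  -- `α` on the word of `KS`
  obtain ⟨a₀, ha₀, hKS⟩ := K.KS
  have awA := K.aw_A
  have ajA := K.aj_A
  have hx' : ∀ k : ℕ, (K.x ^ k)⁻¹ * K.r * K.x ^ k ∈ K.E := fun k => norE' K (xp K) hrE
  have hxw : ∀ k : ℕ, (K.x ^ k)⁻¹ * (K.r * K.aw) * K.x ^ k ∈ K.E :=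
    fun k => norE' K (xp K) (mul_mem hrE (A_E K awA))
  have hnk : ∀ k : ℕ, n * io i₀ ((K.x ^ k)⁻¹ * K.r * K.x ^ k) * n⁻¹ = io i₀ ((K.x ^ k)⁻¹ * (K.r * K.aw) * K.x ^ k) := by
    intro k
    have hxk : K.x ^ k ∈ K₀ := pow_mem hxK k
    have hnxk : n * io i₀ (K.x ^ k) = io i₀ (K.x ^ k) * n := by
      rw [io_pow hxK]
      exact ((show Commute n (io i₀ K.x) from M.nx).pow_right k).eq
    have hnxk' : n * (io i₀ (K.x ^ k))⁻¹ = (io i₀ (K.x ^ k))⁻¹ * n := by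
      calc n * (io i₀ (K.x ^ k))⁻¹ = (io i₀ (K.x ^ k))⁻¹ * (io i₀ (K.x ^ k) * n) * (io i₀ (K.x ^ k))⁻¹ := by group
        _ = (io i₀ (K.x ^ k))⁻¹ * (n * io i₀ (K.x ^ k)) * (io i₀ (K.x ^ k))⁻¹ := by rw [hnxk]
        _ = _ := by group
    rw [io_conj' hxk hrK, io_conj' hxk (mul_mem hrK (H.EK (A_E K awA)))]
    have hnr : n * io i₀ K.r * n⁻¹ = io i₀ (K.r * K.aw) := by
      rw [M.nr]
      group
    calc n * ((io i₀ (K.x ^ k))⁻¹ * io i₀ K.r * io i₀ (K.x ^ k)) * n⁻¹ =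
          (n * (io i₀ (K.x ^ k))⁻¹) * io i₀ K.r * (io i₀ (K.x ^ k) * n⁻¹) := by group
      _ = (io i₀ (K.x ^ k))⁻¹ * (n * io i₀ K.r) * (n⁻¹ * (n * io i₀ (K.x ^ k)) * n⁻¹) := by rw [hnxk']; group
      _ = (io i₀ (K.x ^ k))⁻¹ * (n * io i₀ K.r * n⁻¹) * io i₀ (K.x ^ k) := by rw [hnxk]; group
      _ = _ := by rw [hnr]
  have hnA : ∀ b ∈ K.A, n * io i₀ b * n⁻¹ = io i₀ b := by
    intro b hb
    rw [M.nA b hb]
    group
  -- `n (s r aw s⁻¹) n⁻¹ = s r aj s⁻¹`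
  have hsaw : K.s * K.aw * K.s⁻¹ ∈ K.A := K.nor_A _ (s_P K) _ awA
  have hsaj : K.s * K.aj * K.s⁻¹ ∈ K.A := K.nor_A _ (s_P K) _ ajA
  have key : n * io i₀ (K.s * (K.r * K.aw) * K.s⁻¹) * n⁻¹ = io i₀ (K.s * (K.r * K.aj) * K.s⁻¹) := by
    have e1 : K.s * (K.r * K.aw) * K.s⁻¹ =
        (K.x ^ 3)⁻¹ * K.r * K.x ^ 3 * ((K.x ^ 4)⁻¹ * K.r * K.x ^ 4) * (a₀ * (K.s * K.aw * K.s⁻¹)) := by
      calc K.s * (K.r * K.aw) * K.s⁻¹ = (K.s * K.r * K.s⁻¹) * (K.s * K.aw * K.s⁻¹) := by group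
        _ = _ := by rw [hKS]; group
    have e2 : K.s * (K.r * K.aj) * K.s⁻¹ =
        (K.x ^ 3)⁻¹ * (K.r * K.aw) * K.x ^ 3 * ((K.x ^ 4)⁻¹ * (K.r * K.aw) * K.x ^ 4) * (a₀ * (K.s * K.aw * K.s⁻¹)) := by
      calc K.s * (K.r * K.aj) * K.s⁻¹ = (K.s * K.r * K.s⁻¹) * (K.s * K.aj * K.s⁻¹) := by group
        _ = (K.x ^ 3)⁻¹ * K.r * K.x ^ 3 * ((K.x ^ 4)⁻¹ * K.r * K.x ^ 4) * (a₀ * (K.s * K.aj * K.s⁻¹)) := by
          rw [hKS]; group
        _ = (K.x ^ 3)⁻¹ * K.r * K.x ^ 3 * ((K.x ^ 4)⁻¹ * K.r * K.x ^ 4) * (K.s * K.aj * K.s⁻¹) * a₀ := by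
          rw [a_comm K ha₀ hsaj]; group
        _ = (K.x ^ 3)⁻¹ * (K.r * K.aw) * K.x ^ 3 * ((K.x ^ 4)⁻¹ * (K.r * K.aw) * K.x ^ 4) * (K.s * K.aw * K.s⁻¹) * a₀ := by
          rw [← W.KS₂]
        _ = _ := by rw [a_comm K ha₀ hsaw]; group
    have hm : a₀ * (K.s * K.aw * K.s⁻¹) ∈ K.A := mul_mem ha₀ hsaw
    rw [e1, e2, io_mul (mul_mem (H.EK (hx' 3)) (H.EK (hx' 4))) (H.EK (A_E K hm)), io_mul (H.EK (hx' 3)) (H.EK (hx' 4)),
      io_mul (mul_mem (H.EK (hxw 3)) (H.EK (hxw 4))) (H.EK (A_E K hm)), io_mul (H.EK (hxw 3)) (H.EK (hxw 4)),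
      ← hnk 3, ← hnk 4]
    conv_rhs => rw [← hnA _ hm]
    group
  -- `c = s⁻¹ n s n⁻¹ f⁻¹`
  have hnr' : n⁻¹ * io i₀ K.r * n = io i₀ (K.r * K.aw) := by
    rw [hn1, M.nr, mul_assoc, nn, mul_one]
  have c1 : (S⁻¹ * n * S * n⁻¹ * f⁻¹) * t = t * (S⁻¹ * n * S * n⁻¹ * f⁻¹) := by
    have e1 : n⁻¹ * t = t * io i₀ K.z * n⁻¹ := by
      calc n⁻¹ * t = n⁻¹ * (t * n) * n⁻¹ := by group
        _ = n⁻¹ * (n * (t * io i₀ K.z)) * n⁻¹ := by rw [n_tz H N]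
        _ = _ := by group
    calc (S⁻¹ * n * S * n⁻¹ * f⁻¹) * t = S⁻¹ * n * S * n⁻¹ * (f⁻¹ * t) := by group
      _ = S⁻¹ * n * S * (n⁻¹ * t) * f⁻¹ := by rw [hft']; group
      _ = S⁻¹ * n * (S * t) * io i₀ K.z * n⁻¹ * f⁻¹ := by rw [e1]; group
      _ = S⁻¹ * n * t * (S * io i₀ K.z) * n⁻¹ * f⁻¹ := by rw [← hst]; group
      _ = S⁻¹ * (n * (t * io i₀ K.z)) * S * n⁻¹ * f⁻¹ := by rw [hsz]; group
      _ = (S⁻¹ * t) * n * S * n⁻¹ * f⁻¹ := by rw [n_tz H N]; group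
      _ = _ := by rw [hst']; group
  have c2 : (S⁻¹ * n * S * n⁻¹ * f⁻¹) * io i₀ K.r = io i₀ K.r * (S⁻¹ * n * S * n⁻¹ * f⁻¹) := by
    have e1 : f⁻¹ * io i₀ K.r = io i₀ (K.r * K.aj) * f⁻¹ := by
      have := f_inv_r H hf (one_mem K.A)
      rwa [mul_one, mul_one] at this
    have haj : n⁻¹ * io i₀ (K.r * K.aj) = io i₀ (K.r * K.aw * K.aj) * n⁻¹ := by
      have h1 := M.ra H ajA
      rw [hn1, h1]
    have e2 : S * io i₀ (K.r * K.aw * K.aj) = io i₀ (K.s * (K.r * K.aw) * K.s⁻¹) * io i₀ (K.s * K.aj * K.s⁻¹) * S := by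
      have h1 : K.r * K.aw ∈ K₀ := mul_mem hrK (H.EK (A_E K awA))
      have h2 : K.aj ∈ K₀ := H.EK (A_E K ajA)
      rw [io_conj hsK h1, io_conj hsK h2, io_mul h1 h2, ← hS]
      group
    have e3 : io i₀ (K.s * (K.r * K.aj) * K.s⁻¹) * io i₀ (K.s * K.aj * K.s⁻¹) = io i₀ (K.s * K.r * K.s⁻¹) := by
      have h1 : K.s * (K.r * K.aj) * K.s⁻¹ ∈ K₀ := mul_mem (mul_mem hsK (mul_mem hrK (H.EK (A_E K ajA)))) (inv_mem hsK)
      rw [← io_mul h1 (H.EK (A_E K hsaj))]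
      congr 1
      calc K.s * (K.r * K.aj) * K.s⁻¹ * (K.s * K.aj * K.s⁻¹) = K.s * K.r * (K.aj * K.aj) * K.s⁻¹ := by group
        _ = _ := by rw [K.sq_A _ ajA]; group
    calc (S⁻¹ * n * S * n⁻¹ * f⁻¹) * io i₀ K.r = S⁻¹ * n * S * n⁻¹ * (f⁻¹ * io i₀ K.r) := by group
      _ = S⁻¹ * n * S * (n⁻¹ * io i₀ (K.r * K.aj)) * f⁻¹ := by rw [e1]; group
      _ = S⁻¹ * n * (S * io i₀ (K.r * K.aw * K.aj)) * n⁻¹ * f⁻¹ := by rw [haj]; group
      _ = S⁻¹ * (n * io i₀ (K.s * (K.r * K.aw) * K.s⁻¹) * n⁻¹) * (n * io i₀ (K.s * K.aj * K.s⁻¹) * n⁻¹) * n * S *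
            n⁻¹ * f⁻¹ := by rw [e2]; group
      _ = S⁻¹ * (io i₀ (K.s * (K.r * K.aj) * K.s⁻¹) * io i₀ (K.s * K.aj * K.s⁻¹)) * n * S * n⁻¹ * f⁻¹ := by
        rw [key, hnA _ hsaj]; group
      _ = S⁻¹ * (S * io i₀ K.r * S⁻¹) * n * S * n⁻¹ * f⁻¹ := by rw [e3, io_conj hsK hrK]
      _ = _ := by group
  have c3 : (S⁻¹ * n * S * n⁻¹ * f⁻¹) * io i₀ K.x = io i₀ K.x * (S⁻¹ * n * S * n⁻¹ * f⁻¹) := by
    have hx3K : K.x ^ 3 ∈ K₀ := pow_mem hxK 3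
    have hnx3 : n * io i₀ (K.x ^ 3) = io i₀ (K.x ^ 3) * n := by
      rw [io_pow hxK]
      exact ((show Commute n (io i₀ K.x) from M.nx).pow_right 3).eq
    have hsx : S * io i₀ K.x = io i₀ (K.x ^ 3) * S := by
      rw [← s_x K, io_conj hsK hxK, ← hS]
      group
    have hsx' : S⁻¹ * io i₀ (K.x ^ 3) = io i₀ K.x * S⁻¹ := by
      calc S⁻¹ * io i₀ (K.x ^ 3) = S⁻¹ * (io i₀ (K.x ^ 3) * S) * S⁻¹ := by group
        _ = S⁻¹ * (S * io i₀ K.x) * S⁻¹ := by rw [hsx]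
        _ = _ := by group
    calc (S⁻¹ * n * S * n⁻¹ * f⁻¹) * io i₀ K.x = S⁻¹ * n * S * n⁻¹ * (f⁻¹ * io i₀ K.x) := by group
      _ = S⁻¹ * n * S * (n⁻¹ * io i₀ K.x) * f⁻¹ := by rw [hfx']; group
      _ = S⁻¹ * n * (S * io i₀ K.x) * n⁻¹ * f⁻¹ := by rw [hnx']; group
      _ = S⁻¹ * (n * io i₀ (K.x ^ 3)) * S * n⁻¹ * f⁻¹ := by rw [hsx]; group
      _ = (S⁻¹ * io i₀ (K.x ^ 3)) * n * S * n⁻¹ * f⁻¹ := by rw [hnx3]; group
      _ = _ := by rw [hsx']; group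
  have hc := cE H c1 (commE H c2 c3)
  set c := S⁻¹ * n * S * n⁻¹ * f⁻¹ with hcdef
  -- the choice of the complement
  obtain ⟨f', b, hf', hb, hcf⟩ : ∃ f' : G, ∃ b : Y, (f' = f ∨ f' = t * f) ∧ (b = 1 ∨ b = K.z) ∧
      S⁻¹ * n * S * n⁻¹ = f' * io i₀ b := by
    have e : S⁻¹ * n * S * n⁻¹ = c * f := by rw [hcdef]; group
    rcases hc with h | h | h | h
    · exact ⟨f, 1, Or.inl rfl, Or.inl rfl, by rw [e, h, io_one, mul_one, one_mul]⟩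
    · exact ⟨f, K.z, Or.inl rfl, Or.inr rfl, by rw [e, h, hfz]⟩
    · exact ⟨t * f, 1, Or.inr rfl, Or.inl rfl, by rw [e, h, io_one, mul_one]⟩
    · exact ⟨t * f, K.z, Or.inr rfl, Or.inr rfl, by rw [e, h, mul_assoc t f, hfz, mul_assoc]⟩
  have htf : t * f = f * t := hft.symm
  have hff' : f' * f' = io i₀ K.z := by
    rcases hf' with h | h
    · rw [h, hff]
    · rw [h, ← hff]
      calc t * f * (t * f) = t * (f * t) * f := by group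
        _ = (t * t) * f * f := by rw [← htf]; group
        _ = _ := by rw [H.tt, one_mul]
  obtain ⟨i, h1, h2, h3, h4, h5, h6⟩ := SOne.ext H hj hf' hff'
  have hio : ∀ y ∈ K₀, i y = io i₀ y := fun y hy => by rw [h2 y hy, io_eq hy]
  have hbK : b ∈ K₀ := by
    rcases hb with h | h
    · rw [h]; exact one_mem _
    · rw [h]; exact hzK
  have hib : io i₀ b * io i₀ b = 1 := by
    rcases hb with h | h
    · rw [h, io_one, mul_one]
    · rw [h, hzz]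
  have hnb : n * io i₀ b = io i₀ b * n := by
    rcases hb with h | h
    · rw [h, io_one, mul_one, one_mul]
    · rw [h, N.nz]
  refine ⟨i, ⟨H.finG, H.perf, h1, H.tt, H.t1, h4, h5, h6, nn, ?_, ?_, ?_, ?_, ⟨b, hb, ?_⟩, ?_⟩⟩
  · -- `y t y = t z`
    rw [hio _ hzK]
    calc n * t * n = (n * t) * n := by group
      _ = t * io i₀ K.z * (n * n) := by rw [n_t H N]; group
      _ = _ := by rw [nn, mul_one]
  · intro a ha
    rw [hio _ (H.EK (A_E K ha))]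
    exact M.nA a ha
  · rw [hio _ hxK]
    exact M.nx
  · rw [hio _ hrK, hio _ (mul_mem hrK (H.EK (A_E K awA))), M.nr, mul_assoc, nn, mul_one]
  · -- `y s y = s j b`
    rw [map_mul, map_mul, h3, hio _ hsK, hio _ hbK, ← hS]
    calc n * S * n = S * (S⁻¹ * n * S * n) := by group
      _ = S * (S⁻¹ * n * S * n⁻¹) := by rw [hn1]
      _ = S * (f' * io i₀ b) := by rw [hcf]
      _ = _ := by group
  · -- `y j y = j z`
    rw [map_mul, h3, hio _ hzK]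
    -- `(f' b n)² = 1`
    have e1 : S⁻¹ * n * S = f' * io i₀ b * n := by
      rw [← hcf]
      group
    have e2 : (f' * io i₀ b * n) * (f' * io i₀ b * n) = 1 := by
      rw [← e1]
      calc S⁻¹ * n * S * (S⁻¹ * n * S) = S⁻¹ * (n * n) * S := by group
        _ = 1 := by rw [nn]; group
    have hfb : f' * io i₀ b = io i₀ b * f' := by
      have hfb0 : f * io i₀ b = io i₀ b * f := by
        rcases hb with h | h
        · rw [h, io_one, mul_one, one_mul]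
        · rw [h, hfz]
      have htb := io_t H hbK
      rcases hf' with h | h
      · rw [h, hfb0]
      · rw [h]
        calc t * f * io i₀ b = t * (f * io i₀ b) := by group
          _ = (t * io i₀ b) * f := by rw [hfb0]; group
          _ = _ := by rw [htb]; group
    have e3 : f' * (n * f' * n) = 1 := by
      calc f' * (n * f' * n) = f' * (io i₀ b * io i₀ b) * n * f' * n := by rw [hib]; group
        _ = f' * io i₀ b * (io i₀ b * n) * f' * n := by group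
        _ = f' * io i₀ b * n * (io i₀ b * f') * n := by rw [← hnb]; group
        _ = (f' * io i₀ b * n) * (f' * io i₀ b * n) := by rw [← hfb]; group
        _ = 1 := e2
    calc n * f' * n = f'⁻¹ * (f' * (n * f' * n)) := by group
      _ = f' * (f' * f')⁻¹ := by rw [e3]; group
      _ = f' * io i₀ K.z := by
        rw [hff']
        congr 1
        exact inv_eq_of_mul_eq_one_left hzz

end Cfsg.Agent.OddHalf.D7Tits.WOf
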