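import Cfsg.Agent.OddHalf.D7Tits.YSixteen

/-!
# `K = ²F₄(2)'`: the case of 6 conjugates of `t` in `E5` (helper961; text: helper903, ODD #15617, 4.3)
-/

set_option autoImplicit false
set_option linter.unusedSectionVars false

namespace Cfsg.Agent.OddHalf.D7Tits.YSix

open Subgroup YBase YSixteen

theorem card_mul_le {G : Type*} [Group G] [Finite G] (A B : Subgroup G) :
    Nat.card ↥A * Nat.card ↥B ≤ Nat.card ↥(A ⊔ B : Subgroup G) * Nat.card ↥(B ⊓ A : Subgroup G) := by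
  have h1 : A.relIndex B ≤ A.relIndex (A ⊔ B) :=
    Subgroup.relIndex_le_of_le_right le_sup_right fun h => by
      have h0 : A.relIndex (A ⊔ B) ∣ Nat.card ↥(A ⊔ B : Subgroup G) := Subgroup.relIndex_dvd_card _ _
      rw [h, Nat.zero_dvd] at h0
      exact Nat.card_pos.ne' h0
  have h2 : Nat.card ↥(B ⊓ A : Subgroup G) * A.relIndex B = Nat.card ↥B := by
    have := Subgroup.relIndex_mul_relIndex ⊥ (B ⊓ A) B bot_le inf_le_left
    rwa [Subgroup.relIndex_bot_left, Subgroup.relIndex_bot_left, Subgroup.inf_relIndex_left] at this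
  have h3 : Nat.card ↥A * A.relIndex (A ⊔ B) = Nat.card ↥(A ⊔ B : Subgroup G) := by
    have := Subgroup.relIndex_mul_relIndex ⊥ A (A ⊔ B) bot_le le_sup_left
    rwa [Subgroup.relIndex_bot_left, Subgroup.relIndex_bot_left] at this
  calc Nat.card ↥A * Nat.card ↥B = Nat.card ↥A * (Nat.card ↥(B ⊓ A : Subgroup G) * A.relIndex B) := by rw [h2]
    _ ≤ Nat.card ↥A * (Nat.card ↥(B ⊓ A : Subgroup G) * A.relIndex (A ⊔ B)) :=
      Nat.mul_le_mul le_rfl (Nat.mul_le_mul le_rfl h1)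
    _ = Nat.card ↥A * A.relIndex (A ⊔ B) * Nat.card ↥(B ⊓ A : Subgroup G) := by ring
    _ = _ := by rw [h3]

/-- `N_Y(E5)` -/
abbrev N5 {Y : Type*} [Group Y] (t : Y) (R : Subgroup Y) : Subgroup Y := normalizer (E5 t R : Set Y)

/-- the conjugates of `t` under `N_Y(E5)` -/
def Om {Y : Type*} [Group Y] (t : Y) (R : Subgroup Y) : Set Y := {w | ∃ y ∈ N5 t R, y * t * y⁻¹ = w}

section Main

variable {Y Θ : Type*} [Group Y] [CommGroup Θ] {ρ : Y →* MulAut Θ} {t x s r0 : Y} {R Pb : Subgroup Y} {z n : Θ}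
  (H : YH ρ t x s r0 R Pb z n)

include H

theorem Pb_N5 : Pb ≤ N5 t R := fun p hp => by
  have := H.fin
  exact mem_normalizer_fintype fun e he => Pb_nE H hp he

theorem E5_N5 : E5 t R ≤ N5 t R := Subgroup.le_normalizer

theorem Ct_N5 : (centralizer {t} : Subgroup Y) ≤ N5 t R := by
  intro y hy
  rcases H.cent y (mem_centralizer_singleton_iff.1 hy) with h | h
  · exact Pb_N5 H h
  · rw [← t_t H y]
    exact mul_mem (E5_N5 H (t_mem_E5 H)) (Pb_N5 H h)

theorem Tb_N5 : Tb t s R ≤ N5 t R := fun c hc =>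
  Ct_N5 H (mem_centralizer_singleton_iff.2 (Tb_comm H c hc))

/-- `|N_Y(E5)| = 640 |t^N_Y(E5)|` -/
theorem card_N5 : Nat.card ↥(N5 t R) = 640 * (Om t R).ncard := by
  have := H.fin
  set K : Subgroup ↥(N5 t R) := (centralizer {t} : Subgroup Y).subgroupOf (N5 t R) with hK
  have hKc : Nat.card ↥K = 640 := by
    rw [← card_Ct H, ← Subgroup.card_map_of_injective (K := K) (N5 t R).subtype_injective]
    have : K.map (N5 t R).subtype = (centralizer {t} : Subgroup Y) := by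
      rw [hK, Subgroup.subgroupOf_map_subtype]
      exact inf_eq_left.2 (Ct_N5 H)
    rw [this]
  have hKm : ∀ y : ↥(N5 t R), y ∈ K ↔ (y : Y) * t = t * y := fun y => mem_centralizer_singleton_iff
  let f : ↥(N5 t R) ⧸ K → ↥(Om t R) := Quotient.lift (fun y : ↥(N5 t R) => (⟨(y : Y) * t * (y : Y)⁻¹, y, y.2, rfl⟩ : ↥(Om t R)))
    (by
      intro a b hab
      have h1 : a⁻¹ * b ∈ K := QuotientGroup.leftRel_apply.1 hab
      have h2 := (hKm _).1 h1
      apply Subtype.ext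
      show (a : Y) * t * (a : Y)⁻¹ = b * t * (b : Y)⁻¹
      have h3 : (a : Y)⁻¹ * b * t = t * ((a : Y)⁻¹ * b) := h2
      calc (a : Y) * t * (a : Y)⁻¹ = a * (t * ((a : Y)⁻¹ * b)) * (b : Y)⁻¹ := by group
        _ = b * t * (b : Y)⁻¹ := by rw [← h3]; group)
  have hf : Function.Bijective f := by
    constructor
    · intro a b
      refine Quotient.inductionOn₂ a b fun a b h => ?_
      have h1 : (a : Y) * t * (a : Y)⁻¹ = b * t * (b : Y)⁻¹ := congrArg Subtype.val h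
      refine Quotient.sound (QuotientGroup.leftRel_apply.2 ((hKm _).2 ?_))
      show (a : Y)⁻¹ * b * t = t * ((a : Y)⁻¹ * b)
      calc (a : Y)⁻¹ * b * t = (a : Y)⁻¹ * (b * t * (b : Y)⁻¹) * b := by group
        _ = t * ((a : Y)⁻¹ * b) := by rw [← h1]; group
    · rintro ⟨w, y, hy, rfl⟩
      exact ⟨Quotient.mk _ ⟨y, hy⟩, rfl⟩
  rw [Subgroup.card_eq_card_quotient_mul_card_subgroup K, hKc, Nat.card_congr (Equiv.ofBijective f hf), mul_comm]
  rfl

/-! ### the sign on `V` -/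

/-- the action of `X` on `V` -/
def actX (X : Subgroup Y) (hX : ∀ y ∈ X, ∀ v ∈ V ρ R, ρ y v ∈ V ρ R) : ↥X →* Equiv.Perm ↥(V ρ R) where
  toFun y :=
    { toFun := fun v => ⟨ρ (y : Y) v, hX y y.2 v v.2⟩
      invFun := fun v => ⟨ρ (y : Y)⁻¹ v, hX _ (inv_mem y.2) v v.2⟩
      left_inv := by
        intro v
        apply Subtype.ext
        show ρ (y : Y)⁻¹ (ρ (y : Y) v) = v
        rw [ρ_ρ, inv_mul_cancel, map_one]
        rfl
      right_inv := by
        intro v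
        apply Subtype.ext
        show ρ (y : Y) (ρ (y : Y)⁻¹ v) = v
        rw [ρ_ρ, mul_inv_cancel, map_one]
        rfl }
  map_one' := by
    apply Equiv.ext
    intro v
    apply Subtype.ext
    show ρ (1 : Y) v = v
    rw [map_one]
    rfl
  map_mul' := by
    intro y y'
    apply Equiv.ext
    intro v
    apply Subtype.ext
    show ρ ((y : Y) * y') v = ρ (y : Y) (ρ (y' : Y) v)
    rw [ρ_ρ]

/-- if `X` acts on `V`, the sign gives a homomorphism `μ` with `μ t ≠ 1` -/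
theorem exists_mu (X : Subgroup Y) (hX : ∀ y ∈ X, ∀ v ∈ V ρ R, ρ y v ∈ V ρ R) (ht : t ∈ X) :
    ∃ μ : ↥X →* Multiplicative (ZMod 2), μ ⟨t, ht⟩ ≠ 1 := by
  classical
  have := H.finΘ
  have : Fintype ↥(V ρ R) := Fintype.ofFinite _
  obtain ⟨f, hf⟩ := exists_sg
  refine ⟨f.comp (Equiv.Perm.sign.comp (actX X hX)), fun h1 => hf ?_⟩
  have h2 : actX X hX ⟨t, ht⟩ = Equiv.swap ⟨n, n_V H⟩ ⟨n * z, mul_mem (n_V H) (z_V H)⟩ := by
    apply Equiv.ext
    rintro ⟨v, hv⟩
    apply Subtype.ext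
    show ρ t v = _
    rcases (mem_V H).1 hv with rfl | rfl | rfl | rfl
    · rw [Equiv.swap_apply_of_ne_of_ne, map_one]
      · intro h
        exact n_ne H (congrArg Subtype.val h).symm
      · intro h
        have h3 : (1 : Θ) = n * z := congrArg Subtype.val h
        rw [eq_comm, mul_eq_one_iff_eq_inv, two' H] at h3
        exact n_ne_z H h3
    · rw [Equiv.swap_apply_of_ne_of_ne, H.zt]
      · intro h
        exact n_ne_z H (congrArg Subtype.val h).symm
      · intro h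
        have h3 : v = n * v := congrArg Subtype.val h
        exact n_ne H (mul_eq_right.1 h3.symm)
    · rw [Equiv.swap_apply_left, H.nt]
    · rw [Equiv.swap_apply_right, map_mul, H.nt, H.zt, mul_assoc, H.two, mul_one]
  have h3 : Equiv.Perm.sign (actX X hX ⟨t, ht⟩) = -1 := by
    rw [h2]
    apply Equiv.Perm.sign_swap
    intro h
    exact nz_ne H (congrArg Subtype.val h).symm
  rw [← h3]
  exact h1

/-! ### `M ≤ E5` in this case -/

/-- if `M` is not `E5`, all `t r` are conjugate to `t` -/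
theorem HS_of_mem {τ : Y} (h : τ ∈ M t R) (hn : τ ∉ E5 t R) : HS t R := by
  have := H.fin
  let R1 : Subgroup Y := (delta H).range.map R.subtype
  have hR1 : ∀ y, y ∈ R1 ↔ ∃ l ∈ M t R, t * (l * t * l⁻¹) = y := by
    intro y
    constructor
    · rintro ⟨_, ⟨l, rfl⟩, rfl⟩
      exact ⟨l, l.2, rfl⟩
    · rintro ⟨l, hl, rfl⟩
      exact ⟨_, ⟨⟨l, hl⟩, rfl⟩, rfl⟩
  have h1 : R1 = R := by
    apply xinv_R H
    · rintro _ ⟨r, -, rfl⟩
      exact r.2
    · intro w hw
      obtain ⟨l, hl, rfl⟩ := (hR1 w).1 hw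
      refine (hR1 _).2 ⟨x * l * x⁻¹, Pb_M H H.xP hl, ?_⟩
      have h2 := tx H
      have h3 : x⁻¹ * t = t * x⁻¹ := by
        rw [inv_mul_eq_iff_eq_mul, ← mul_assoc, ← h2]
        group
      calc t * (x * l * x⁻¹ * t * (x * l * x⁻¹)⁻¹) = t * x * (l * (x⁻¹ * t * x) * l⁻¹) * x⁻¹ := by group
        _ = x * t * (l * (t * x⁻¹ * x) * l⁻¹) * x⁻¹ := by rw [h2, h3]
        _ = x * (t * (l * t * l⁻¹)) * x⁻¹ := by group
    · refine ⟨_, (hR1 _).2 ⟨τ, h, rfl⟩, fun h2 => hn ?_⟩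
      apply M_ct H h
      have h3 : τ * t * τ⁻¹ = t := by
        rw [← t_t H (τ * t * τ⁻¹), h2, mul_one]
      exact mul_inv_eq_iff_eq_mul.1 h3
  intro r hr
  rw [← h1] at hr
  obtain ⟨l, hl, hl'⟩ := (hR1 r).1 hr
  exact ⟨l, M_R H hl, by rw [← hl', t_t H]⟩

theorem M_le_E5 (h6 : Nat.card ↥(N5 t R) = 3840) : M t R ≤ E5 t R := by
  have := H.fin
  intro τ hτ
  by_contra hn
  have h1 := card_M H (HS_of_mem H hτ hn)
  have h2 : M t R ≤ N5 t R := inf_le_right
  have h3 := Subgroup.card_dvd_of_le h2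
  rw [h1, h6] at h3
  norm_num at h3

/-! ### centralisers of involutions of `Pb` -/

theorem xs_R {m l : ℕ} (h : x ^ m * s ^ l ∈ R) : m % 5 = 0 ∧ l % 4 = 0 := by
  have h1 : x ^ m ∈ Tb t s R := by
    have e : x ^ m = x ^ m * s ^ l * (s ^ l)⁻¹ := by group
    rw [e]
    exact mul_mem (R_Tb H h) (inv_mem (pow_mem (s_Tb H) l))
  have h2 := x_notTb H h1
  refine ⟨h2, ?_⟩
  rw [x_mod H, h2, pow_zero, one_mul] at h
  exact s_pow H (R_le_E5 H h)

theorem sk_xp (k m : ℕ) : s ^ k * x ^ m = x ^ (2 ^ k * m) * s ^ k := by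
  induction m with
  | zero => simp
  | succ m ih =>
    calc s ^ k * x ^ (m + 1) = s ^ k * x ^ m * x := by rw [pow_succ, mul_assoc]
      _ = x ^ (2 ^ k * m) * (s ^ k * x) := by rw [ih, mul_assoc]
      _ = x ^ (2 ^ k * m) * x ^ (2 ^ k) * s ^ k := by rw [sp_x H, mul_assoc]
      _ = x ^ (2 ^ k * (m + 1)) * s ^ k := by rw [← pow_add, mul_add, mul_one]

/-- no involution of `Pb` acts on `E5` as a transvection -/
theorem no_transv {p : Y} (hp : p ∈ Pb) (h2 : p * p = 1) :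
    Nat.card ↥(E5 t R ⊓ centralizer {p} : Subgroup Y) ≠ 16 := by
  have := H.fin
  obtain ⟨r, hr, j, k, hpe⟩ := H.gen p hp
  have hq : ∀ a ∈ E5 t R, p * a = a * p → x ^ j * s ^ k * a = a * (x ^ j * s ^ k) := by
    intro a ha h
    rw [hpe] at h
    have h3 := E5_comm H _ (R_le_E5 H hr) _ ha
    have h4 : r * (x ^ j * s ^ k * a) = r * (a * (x ^ j * s ^ k)) := by
      calc r * (x ^ j * s ^ k * a) = r * x ^ j * s ^ k * a := by group
        _ = a * (r * x ^ j * s ^ k) := h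
        _ = a * r * (x ^ j * s ^ k) := by group
        _ = r * (a * (x ^ j * s ^ k)) := by rw [← h3]; group
    exact mul_left_cancel h4
  have hqP : x ^ j * s ^ k ∈ Pb := mul_mem (pow_mem H.xP j) (pow_mem H.sP k)
  -- `q² ∈ R`
  have hq2 : x ^ j * s ^ k * (x ^ j * s ^ k) ∈ R := by
    have e : x ^ j * s ^ k * (x ^ j * s ^ k) = (x ^ j * s ^ k * r * (x ^ j * s ^ k)⁻¹)⁻¹ * r⁻¹ * (p * p) := by
      rw [hpe]
      group
    rw [e, h2, mul_one]
    exact mul_mem (inv_mem (H.nR _ hqP r hr)) (inv_mem hr)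
  have e2 : x ^ j * s ^ k * (x ^ j * s ^ k) = x ^ (j + 2 ^ k * j) * s ^ (k + k) := by
    calc x ^ j * s ^ k * (x ^ j * s ^ k) = x ^ j * (s ^ k * x ^ j) * s ^ k := by group
      _ = x ^ j * (x ^ (2 ^ k * j) * s ^ k) * s ^ k := by rw [sk_xp H]
      _ = _ := by rw [pow_add, pow_add]; group
  rw [e2] at hq2
  obtain ⟨h3, h4⟩ := xs_R H hq2
  intro h16
  have hk : k % 4 = 0 ∨ k % 4 = 2 := by omega
  rcases hk with hk | hk
  · -- `q = 1`
    have h5 : 2 ^ k % 5 = 1 := by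
      have h6 : 2 ^ k % 5 = 2 ^ (k % 4) % 5 := by
        conv_lhs => rw [← Nat.div_add_mod k 4, pow_add, pow_mul, Nat.mul_mod, Nat.pow_mod]
        norm_num
      rw [h6, hk]
      norm_num
    have h7 : j % 5 = 0 := by
      have h8 : (j + 2 ^ k * j) % 5 = (j + 1 * j) % 5 := by
        rw [Nat.add_mod, Nat.mul_mod, h5, Nat.add_mod j (1 * j), Nat.mul_mod 1 j]
      rw [h8] at h3
      omega
    have hpR : p ∈ E5 t R := by
      rw [hpe, x_mod H, h7, s_mod H, hk, pow_zero, pow_zero, mul_one, mul_one]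
      exact R_le_E5 H hr
    have h9 : (E5 t R ⊓ centralizer {p} : Subgroup Y) = E5 t R := by
      apply inf_eq_left.2
      intro a ha
      exact mem_centralizer_singleton_iff.2 (E5_comm H a ha p hpR)
    rw [h9, card_E5 H] at h16
    omega
  · -- `q = x^i s² x^-i`
    have hsk : s ^ k = s ^ 2 := by rw [s_mod H, hk]
    obtain ⟨i, hi⟩ : ∃ i : ℕ, i = 3 * j := ⟨_, rfl⟩
    have e3 : x ^ i * s ^ 2 = x ^ j * s ^ 2 * x ^ i := by
      have h5 := sk_xp H 2 i
      have h6 : j + 2 ^ 2 * i ≡ i [MOD 5] := by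
        unfold Nat.ModEq
        omega
      rw [mul_assoc, h5, ← mul_assoc, ← pow_add, x_mod H (j + 2 ^ 2 * i), h6, ← x_mod H]
    have hC : Nat.card ↥((E5 t R ⊓ centralizer {p} : Subgroup Y).map (MulAut.conj (x ^ i)⁻¹).toMonoidHom) ≤ 8 := by
      apply card_C8 H
      · rintro _ ⟨a, ha, rfl⟩
        show (x ^ i)⁻¹ * a * (x ^ i)⁻¹⁻¹ ∈ E5 t R
        exact Pb_nE H (inv_mem (pow_mem H.xP i)) ha.1
      · rintro _ ⟨a, ha, rfl⟩
        show s ^ 2 * ((x ^ i)⁻¹ * a * (x ^ i)⁻¹⁻¹) = (x ^ i)⁻¹ * a * (x ^ i)⁻¹⁻¹ * s ^ 2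
        have h5 := hq a ha.1 (mem_centralizer_singleton_iff.1 ha.2).symm
        rw [hsk] at h5
        have e4 : s ^ 2 * (x ^ i)⁻¹ = (x ^ i)⁻¹ * (x ^ j * s ^ 2) := by
          rw [eq_inv_mul_iff_mul_eq, ← mul_assoc, e3]
          group
        rw [inv_inv]
        calc s ^ 2 * ((x ^ i)⁻¹ * a * x ^ i) = s ^ 2 * (x ^ i)⁻¹ * a * x ^ i := by group
          _ = (x ^ i)⁻¹ * (x ^ j * s ^ 2 * a) * x ^ i := by rw [e4]; group
          _ = (x ^ i)⁻¹ * a * (x ^ j * s ^ 2 * x ^ i) := by rw [h5]; group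
          _ = (x ^ i)⁻¹ * a * x ^ i * s ^ 2 := by rw [← e3]; group
    rw [Subgroup.card_map_of_injective (MulAut.conj (x ^ i)⁻¹).injective, h16] at hC
    omega

/-! ### `R` is normal in `N_Y(E5)` -/

theorem x_r0 {i j : ℕ} (hi : i < 5) (hj : j < 5) (hij : j ≤ i) (h : x ^ i * r0 * (x ^ i)⁻¹ = x ^ j * r0 * (x ^ j)⁻¹) :
    i = j := by
  have h1 : x ^ (i - j) * r0 = r0 * x ^ (i - j) := by
    rw [pow_sub x hij]
    calc x ^ i * (x ^ j)⁻¹ * r0 = (x ^ j)⁻¹ * (x ^ i * r0 * (x ^ i)⁻¹) * x ^ i := by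
          have e : x ^ i * (x ^ j)⁻¹ = (x ^ j)⁻¹ * x ^ i := by
            rw [mul_inv_eq_iff_eq_mul, mul_assoc, ← pow_add, add_comm, pow_add]
            group
          rw [e]
          group
      _ = r0 * ((x ^ j)⁻¹ * x ^ i) := by rw [h]; group
      _ = r0 * (x ^ i * (x ^ j)⁻¹) := by
          have e : x ^ i * (x ^ j)⁻¹ = (x ^ j)⁻¹ * x ^ i := by
            rw [mul_inv_eq_iff_eq_mul, mul_assoc, ← pow_add, add_comm, pow_add]
            group
          rw [e]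
  by_contra hne
  have h2 : i - j < 5 := by omega
  have h3 : i - j ≠ 0 := by omega
  generalize i - j = l at h1 h2 h3
  have key : ∀ q : ℕ, (l * q) % 5 = 1 → False := by
    intro q hq
    have h4 : Commute (x ^ l) r0 := h1
    have h5 := h4.pow_left q
    rw [← pow_mul, x_mod H, hq, pow_one] at h5
    exact H.r01 (H.cx r0 H.r0R h5)
  interval_cases l
  · exact h3 rfl
  · exact key 1 rfl
  · exact key 3 rfl
  · exact key 2 rfl
  · exact key 4 rfl

theorem Om_sub (h6 : Nat.card ↥(N5 t R) = 3840) (hh : ∃ y ∈ N5 t R, y * t * y⁻¹ = t * r0) :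
    ∀ w ∈ Om t R, t * w ∈ R := by
  have := H.fin
  obtain ⟨y, hy, hyt⟩ := hh
  have h1 : (Om t R).ncard = 6 := by
    have := card_N5 H
    rw [h6] at this
    omega
  -- the six elements
  let f : Fin 5 → Y := fun i => t * (x ^ (i : ℕ) * r0 * (x ^ (i : ℕ))⁻¹)
  have hfR : ∀ i, t * f i ∈ R := by
    intro i
    show t * (t * (x ^ (i : ℕ) * r0 * (x ^ (i : ℕ))⁻¹)) ∈ R
    rw [t_t H]
    exact H.nR _ (pow_mem H.xP _) _ H.r0R
  have hfi : Function.Injective f := by
    intro i j hij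
    have h2 : x ^ (i : ℕ) * r0 * (x ^ (i : ℕ))⁻¹ = x ^ (j : ℕ) * r0 * (x ^ (j : ℕ))⁻¹ := mul_left_cancel hij
    apply Fin.ext
    rcases le_total (j : ℕ) (i : ℕ) with h3 | h3
    · exact x_r0 H i.2 j.2 h3 h2
    · exact (x_r0 H j.2 i.2 h3 h2.symm).symm
  have htf : t ∉ Set.range f := by
    rintro ⟨i, hi⟩
    have h2 : x ^ (i : ℕ) * r0 * (x ^ (i : ℕ))⁻¹ = 1 := by
      have : t * (x ^ (i : ℕ) * r0 * (x ^ (i : ℕ))⁻¹) = t * 1 := by rw [mul_one]; exact hi
      exact mul_left_cancel this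
    rw [mul_inv_eq_one] at h2
    exact H.r01 (mul_eq_left.1 h2)
  have hsub : insert t (Set.range f) ⊆ Om t R := by
    rintro w (rfl | ⟨i, rfl⟩)
    · exact ⟨1, one_mem _, by group⟩
    · refine ⟨x ^ (i : ℕ) * y, mul_mem (Pb_N5 H (pow_mem H.xP _)) hy, ?_⟩
      have h2 := H.comm _ (pow_mem H.xP (i : ℕ))
      calc x ^ (i : ℕ) * y * t * (x ^ (i : ℕ) * y)⁻¹ = x ^ (i : ℕ) * (y * t * y⁻¹) * (x ^ (i : ℕ))⁻¹ := by group
        _ = x ^ (i : ℕ) * t * r0 * (x ^ (i : ℕ))⁻¹ := by rw [hyt]; group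
        _ = t * (x ^ (i : ℕ) * r0 * (x ^ (i : ℕ))⁻¹) := by rw [← h2]; group
  have h2 : (insert t (Set.range f)).ncard = 6 := by
    rw [Set.ncard_insert_of_notMem htf, ← Set.image_univ, Set.ncard_image_of_injective _ hfi, Set.ncard_univ,
      Nat.card_eq_fintype_card, Fintype.card_fin]
  have h3 : insert t (Set.range f) = Om t R := Set.eq_of_subset_of_ncard_le hsub (by rw [h1, h2]) (Set.toFinite _)
  intro w hw
  rw [← h3] at hw
  rcases hw with rfl | ⟨i, rfl⟩
  · rw [H.tt]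
    exact one_mem R
  · exact hfR i

theorem N5_R (h6 : Nat.card ↥(N5 t R) = 3840) (hh : ∃ y ∈ N5 t R, y * t * y⁻¹ = t * r0) {g : Y}
    (hg : g ∈ N5 t R) : ∀ r ∈ R, g * r * g⁻¹ ∈ R := by
  have hOm := Om_sub H h6 hh
  obtain ⟨y, hy, hyt⟩ := hh
  have hpair : ∀ w ∈ Om t R, ∀ w' ∈ Om t R, w * w' ∈ R := by
    intro w hw w' hw'
    have h1 := hOm w hw
    have h2 := hOm w' hw'
    have e : w * w' = t * w * (t * w') := by
      have h3 : t * w * t = t * (t * w) := by rw [← tR H _ h1]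
      calc w * w' = t * (t * w) * w' := by rw [t_t H]
        _ = t * w * t * w' := by rw [h3]
        _ = t * w * (t * w') := by group
    rw [e]
    exact mul_mem h1 h2
  let R' : Subgroup Y :=
    { carrier := {r | r ∈ R ∧ ∀ j : ℕ, g * (x ^ j * r * (x ^ j)⁻¹) * g⁻¹ ∈ R}
      one_mem' := ⟨one_mem _, fun j => by
        have : g * (x ^ j * 1 * (x ^ j)⁻¹) * g⁻¹ = 1 := by group
        rw [this]
        exact one_mem R⟩
      mul_mem' := by
        rintro a b ⟨ha, ha'⟩ ⟨hb, hb'⟩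
        refine ⟨mul_mem ha hb, fun j => ?_⟩
        have : g * (x ^ j * (a * b) * (x ^ j)⁻¹) * g⁻¹ =
            g * (x ^ j * a * (x ^ j)⁻¹) * g⁻¹ * (g * (x ^ j * b * (x ^ j)⁻¹) * g⁻¹) := by group
        rw [this]
        exact mul_mem (ha' j) (hb' j)
      inv_mem' := by
        rintro a ⟨ha, ha'⟩
        refine ⟨inv_mem ha, fun j => ?_⟩
        have : g * (x ^ j * a⁻¹ * (x ^ j)⁻¹) * g⁻¹ = (g * (x ^ j * a * (x ^ j)⁻¹) * g⁻¹)⁻¹ := by group
        rw [this]
        exact inv_mem (ha' j) }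
  have h1 : R' = R := by
    refine xinv_R H (fun w (hw : w ∈ R ∧ _) => hw.1) ?_ ?_
    · rintro w ⟨hw, hw'⟩
      refine ⟨H.nR x H.xP w hw, fun j => ?_⟩
      have e : x ^ j * (x * w * x⁻¹) * (x ^ j)⁻¹ = x ^ (j + 1) * w * (x ^ (j + 1))⁻¹ := by
        rw [pow_succ]
        group
      rw [e]
      exact hw' (j + 1)
    · refine ⟨r0, ⟨H.r0R, fun j => ?_⟩, H.r01⟩
      have h2 : g * t * g⁻¹ ∈ Om t R := ⟨g, hg, rfl⟩
      have h3 : g * (x ^ j * (t * r0) * (x ^ j)⁻¹) * g⁻¹ ∈ Om t R := by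
        refine ⟨g * x ^ j * y, mul_mem (mul_mem hg (Pb_N5 H (pow_mem H.xP j))) hy, ?_⟩
        rw [← hyt]
        group
      have h4 := H.comm _ (pow_mem H.xP j)
      have e : g * (x ^ j * r0 * (x ^ j)⁻¹) * g⁻¹ = g * t * g⁻¹ * (g * (x ^ j * (t * r0) * (x ^ j)⁻¹) * g⁻¹) := by
        calc g * (x ^ j * r0 * (x ^ j)⁻¹) * g⁻¹ = g * (t * (t * x ^ j) * r0 * (x ^ j)⁻¹) * g⁻¹ := by
              rw [t_t H]
          _ = g * (t * (x ^ j * t) * r0 * (x ^ j)⁻¹) * g⁻¹ := by rw [h4]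
          _ = _ := by group
      rw [e]
      exact hpair _ h2 _ h3
  intro r hr
  rw [← h1] at hr
  have h2 := hr.2 0
  have e : g * (x ^ 0 * r * (x ^ 0)⁻¹) * g⁻¹ = g * r * g⁻¹ := by
    rw [pow_zero]
    group
  rwa [e] at h2

/-! ### transvections -/

/-- no conjugate `τ ∈ N_Y(E5)` of `t` acts on `E5` as a transvection -/
theorem no_tau (h6 : Nat.card ↥(N5 t R) = 3840) (hh : ∃ y ∈ N5 t R, y * t * y⁻¹ = t * r0) {τ : Y}
    (hτ : τ ∈ N5 t R) (τ2 : τ * τ = 1) : Nat.card ↥(E5 t R ⊓ centralizer {τ} : Subgroup Y) ≠ 16 := by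
  have := H.fin
  intro h16
  by_cases hB : ∃ y ∈ N5 t R, y * t * y⁻¹ ∈ centralizer {τ}
  · -- a fixed point
    obtain ⟨y, hy, hyc⟩ := hB
    rw [mem_centralizer_singleton_iff] at hyc
    obtain ⟨τ', hτ'⟩ : ∃ τ', τ' = y⁻¹ * τ * y := ⟨_, rfl⟩
    have h1 : τ' * t = t * τ' := by
      rw [hτ']
      calc y⁻¹ * τ * y * t = y⁻¹ * (τ * (y * t * y⁻¹)) * y := by group
        _ = t * (y⁻¹ * τ * y) := by rw [← hyc]; group
    have h2 : τ' * τ' = 1 := by
      rw [hτ']
      calc y⁻¹ * τ * y * (y⁻¹ * τ * y) = y⁻¹ * (τ * τ) * y := by group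
        _ = 1 := by rw [τ2]; group
    have h3 : Nat.card ↥(E5 t R ⊓ centralizer {τ'} : Subgroup Y) = 16 := by
      rw [← h16]
      have e : (E5 t R ⊓ centralizer {τ'} : Subgroup Y) =
          (E5 t R ⊓ centralizer {τ} : Subgroup Y).map (MulAut.conj y⁻¹).toMonoidHom := by
        ext a
        constructor
        · rintro ⟨ha, ha'⟩
          have ha2 : a * τ' = τ' * a := mem_centralizer_singleton_iff.1 ha'
          refine ⟨y * a * y⁻¹, ⟨(Subgroup.mem_normalizer_iff.1 hy a).1 ha, ?_⟩, ?_⟩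
          · show y * a * y⁻¹ ∈ centralizer {τ}
            rw [mem_centralizer_singleton_iff]
            calc y * a * y⁻¹ * τ = y * (a * (y⁻¹ * τ * y)) * y⁻¹ := by group
              _ = y * (y⁻¹ * τ * y * a) * y⁻¹ := by rw [← hτ', ha2]
              _ = τ * (y * a * y⁻¹) := by group
          · show y⁻¹ * (y * a * y⁻¹) * y⁻¹⁻¹ = a
            group
        · rintro ⟨b, ⟨hb, hb'⟩, rfl⟩
          have hb2 : b * τ = τ * b := mem_centralizer_singleton_iff.1 hb'
          have hE : y⁻¹ * b * y⁻¹⁻¹ ∈ E5 t R := (Subgroup.mem_normalizer_iff.1 (inv_mem hy) b).1 hb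
          refine ⟨hE, ?_⟩
          show y⁻¹ * b * y⁻¹⁻¹ ∈ centralizer {τ'}
          rw [mem_centralizer_singleton_iff, hτ']
          calc y⁻¹ * b * y⁻¹⁻¹ * (y⁻¹ * τ * y) = y⁻¹ * (b * τ) * y := by group
            _ = y⁻¹ * τ * y * (y⁻¹ * b * y⁻¹⁻¹) := by rw [hb2]; group
      rw [e]
      exact Subgroup.card_map_of_injective (MulAut.conj y⁻¹).injective
    rcases H.cent τ' h1 with h4 | h4
    · exact no_transv H h4 h2 h3
    · apply no_transv H h4 _ _
      · calc t * τ' * (t * τ') = t * (τ' * t) * τ' := by group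
          _ = t * t * (τ' * τ') := by rw [h1]; group
          _ = 1 := by rw [H.tt, h2, one_mul]
      · rw [← h3]
        have e : (E5 t R ⊓ centralizer {t * τ'} : Subgroup Y) = (E5 t R ⊓ centralizer {τ'} : Subgroup Y) := by
          ext a
          rw [Subgroup.mem_inf, Subgroup.mem_inf, mem_centralizer_singleton_iff, mem_centralizer_singleton_iff]
          constructor
          · rintro ⟨ha, ha'⟩
            refine ⟨ha, ?_⟩
            have h5 := E5_comm H a ha t (t_mem_E5 H)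
            have h6 : t * (a * τ') = t * (τ' * a) := by
              rw [← mul_assoc, ← h5, mul_assoc, ha', mul_assoc]
            exact mul_left_cancel h6
          · rintro ⟨ha, ha'⟩
            refine ⟨ha, ?_⟩
            have h5 := E5_comm H a ha t (t_mem_E5 H)
            rw [← mul_assoc, h5, mul_assoc, ha', mul_assoc]
        rw [e]
  · -- no fixed point: `τ` centralises `R`
    push Not at hB
    set F : Subgroup ↥(E5 t R) := (centralizer {τ} : Subgroup Y).subgroupOf (E5 t R) with hF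
    have hFc : Nat.card ↥F = 16 := by
      rw [← Subgroup.card_map_of_injective (K := F) (E5 t R).subtype_injective, hF, Subgroup.subgroupOf_map_subtype,
        inf_comm]
      exact h16
    have hFi : F.index = 2 := by
      have h1 := F.card_mul_index
      rw [hFc, card_E5 H] at h1
      omega
    have hFm : ∀ a (ha : a ∈ E5 t R), (⟨a, ha⟩ : ↥(E5 t R)) ∈ F ↔ a ∈ centralizer {τ} := fun a ha => Iff.rfl
    have hprod : ∀ a ∈ E5 t R, ∀ b ∈ E5 t R, a ∉ centralizer {τ} → b ∉ centralizer {τ} → a * b ∈ centralizer {τ} := by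
      intro a ha b hb ha' hb'
      have h1 := (Subgroup.mul_mem_iff_of_index_two hFi (a := ⟨a, ha⟩) (b := ⟨b, hb⟩)).2
        ⟨fun h => absurd ((hFm a ha).1 h) ha', fun h => absurd ((hFm b hb).1 h) hb'⟩
      exact h1
    have hC : R ⊓ centralizer {τ} = R ⊓ centralizer {τ} := rfl
    let R' : Subgroup Y :=
      { carrier := {r | r ∈ R ∧ ∀ j : ℕ, x ^ j * r * (x ^ j)⁻¹ ∈ (centralizer {τ} : Subgroup Y)}
        one_mem' := ⟨one_mem _, fun j => by
          have : x ^ j * 1 * (x ^ j)⁻¹ = 1 := by group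
          rw [this]
          exact one_mem _⟩
        mul_mem' := by
          rintro a b ⟨ha, ha'⟩ ⟨hb, hb'⟩
          refine ⟨mul_mem ha hb, fun j => ?_⟩
          have : x ^ j * (a * b) * (x ^ j)⁻¹ = x ^ j * a * (x ^ j)⁻¹ * (x ^ j * b * (x ^ j)⁻¹) := by group
          rw [this]
          exact mul_mem (ha' j) (hb' j)
        inv_mem' := by
          rintro a ⟨ha, ha'⟩
          refine ⟨inv_mem ha, fun j => ?_⟩
          have : x ^ j * a⁻¹ * (x ^ j)⁻¹ = (x ^ j * a * (x ^ j)⁻¹)⁻¹ := by group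
          rw [this]
          exact inv_mem (ha' j) }
    obtain ⟨y, hy, hyt⟩ := hh
    have h1 : R' = R := by
      refine xinv_R H (fun w (hw : w ∈ R ∧ _) => hw.1) ?_ ?_
      · rintro w ⟨hw, hw'⟩
        refine ⟨H.nR x H.xP w hw, fun j => ?_⟩
        have e : x ^ j * (x * w * x⁻¹) * (x ^ j)⁻¹ = x ^ (j + 1) * w * (x ^ (j + 1))⁻¹ := by
          rw [pow_succ]
          group
        rw [e]
        exact hw' (j + 1)
      · refine ⟨r0, ⟨H.r0R, fun j => ?_⟩, H.r01⟩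
        have h2 : t ∉ (centralizer {τ} : Subgroup Y) := by
          have := hB 1 (one_mem _)
          rwa [one_mul, inv_one, mul_one] at this
        have h3 := hB (x ^ j * y) (mul_mem (Pb_N5 H (pow_mem H.xP j)) hy)
        have h4 := H.comm _ (pow_mem H.xP j)
        have e1 : x ^ j * y * t * (x ^ j * y)⁻¹ = t * (x ^ j * r0 * (x ^ j)⁻¹) := by
          calc x ^ j * y * t * (x ^ j * y)⁻¹ = x ^ j * (y * t * y⁻¹) * (x ^ j)⁻¹ := by group
            _ = x ^ j * t * r0 * (x ^ j)⁻¹ := by rw [hyt]; group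
            _ = _ := by rw [← h4]; group
        rw [e1] at h3
        have h5 : t * (x ^ j * r0 * (x ^ j)⁻¹) ∈ E5 t R :=
          mul_mem (t_mem_E5 H) (R_le_E5 H (H.nR _ (pow_mem H.xP j) _ H.r0R))
        have h6 := hprod t (t_mem_E5 H) _ h5 h2 h3
        rwa [t_t H] at h6
    have h2 : τ ∈ M t R := by
      refine ⟨mem_centralizer_iff.2 fun r hr => ?_, hτ⟩
      rw [← h1] at hr
      have h3 := hr.2 0
      have e : x ^ 0 * r * (x ^ 0)⁻¹ = r := by
        rw [pow_zero]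
        group
      rw [e] at h3
      exact mem_centralizer_singleton_iff.1 h3
    have h3 := M_le_E5 H h6 h2
    have h4 : (E5 t R ⊓ centralizer {τ} : Subgroup Y) = E5 t R :=
      inf_eq_left.2 fun a ha => mem_centralizer_singleton_iff.2 (E5_comm H a ha τ h3)
    rw [h4, card_E5 H] at h16
    omega

/-! ### the end -/

/-- `E5` is the only `Tb`-invariant conjugate of `E5` -/
theorem uniq_E5 (h6 : Nat.card ↥(N5 t R) = 3840) (hh : ∃ y ∈ N5 t R, y * t * y⁻¹ = t * r0) {g : Y}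
    (hg : ∀ a ∈ Tb t s R, g⁻¹ * a * g ∈ N5 t R) : g ∈ N5 t R := by
  have := H.fin
  set E' : Subgroup Y := (E5 t R).map (MulAut.conj g).toMonoidHom with hE'
  have hmE' : ∀ y, y ∈ E' ↔ g⁻¹ * y * g ∈ E5 t R := by
    intro y
    constructor
    · rintro ⟨a, ha, rfl⟩
      show g⁻¹ * (g * a * g⁻¹) * g ∈ E5 t R
      have : g⁻¹ * (g * a * g⁻¹) * g = a := by group
      rw [this]
      exact ha
    · intro h
      refine ⟨_, h, ?_⟩
      show g * (g⁻¹ * y * g) * g⁻¹ = y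
      group
  have hcE' : Nat.card ↥E' = 32 := by
    rw [hE', Subgroup.card_map_of_injective (MulAut.conj g).injective, card_E5 H]
  have hE'sq : ∀ a ∈ E', a * a = 1 := by
    rintro _ ⟨a, ha, rfl⟩
    show g * a * g⁻¹ * (g * a * g⁻¹) = 1
    calc g * a * g⁻¹ * (g * a * g⁻¹) = g * (a * a) * g⁻¹ := by group
      _ = 1 := by rw [E5_sq H a ha]; group
  have hTE' : ∀ c ∈ Tb t s R, ∀ a ∈ E', c * a * c⁻¹ ∈ E' := by
    intro c hc a ha
    rw [hmE'] at ha ⊢
    have h1 := (Subgroup.mem_normalizer_iff.1 (hg c hc) _).1 ha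
    have e : g⁻¹ * (c * a * c⁻¹) * g = g⁻¹ * c * g * (g⁻¹ * a * g) * (g⁻¹ * c * g)⁻¹ := by group
    rw [e]
    exact h1
  -- if `E' = E5`, done
  have hend : E' = E5 t R → g ∈ N5 t R := by
    intro h
    apply mem_normalizer_fintype
    intro a ha
    show g * a * g⁻¹ ∈ E5 t R
    rw [← h, hmE']
    have : g⁻¹ * (g * a * g⁻¹) * g = a := by group
    rw [this]
    exact ha
  by_cases hle : E' ≤ Tb t s R
  · exact hend (E_eq H hle hE'sq (by rw [hcE']))
  exfalso
  have ht : t ∉ E' := by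
    intro h
    apply hle
    apply le_Tb H (IsPGroup.of_card (n := 5) (by rw [hcE']; norm_num)) _ hTE'
    intro f hf
    exact comm_of_sq hE'sq f hf t h
  -- `|E' ⊓ Tb| ≥ 16`
  have h1 : 16 ≤ Nat.card ↥(E' ⊓ Tb t s R : Subgroup Y) := by
    have h2 : IsPGroup 2 ↥(Tb t s R ⊔ E') := by
      apply (Tb_p H).to_sup_of_normal_right' (IsPGroup.of_card (n := 5) (by rw [hcE']; norm_num))
      intro c hc
      exact mem_normalizer_fintype (hTE' c hc)
    have h3 : Nat.card ↥(Tb t s R ⊔ E' : Subgroup Y) ≤ 2 ^ 8 := by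
      have h4 : (Tb t s R ⊔ E' : Subgroup Y).map (MulAut.conj g⁻¹).toMonoidHom ≤ N5 t R := by
        rw [Subgroup.map_sup]
        apply sup_le
        · rintro _ ⟨c, hc, rfl⟩
          show g⁻¹ * c * g⁻¹⁻¹ ∈ N5 t R
          rw [inv_inv]
          exact hg c hc
        · rintro _ ⟨a, ha, rfl⟩
          show g⁻¹ * a * g⁻¹⁻¹ ∈ N5 t R
          rw [inv_inv]
          exact E5_N5 H ((hmE' a).1 ha)
      have h5 := Subgroup.card_dvd_of_le h4
      rw [Subgroup.card_map_of_injective (MulAut.conj g⁻¹).injective, h6] at h5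
      obtain ⟨k, hk⟩ := (IsPGroup.iff_card).1 h2
      rw [hk] at h5 ⊢
      by_contra h6
      have h7 : 9 ≤ k := by
        by_contra h8
        exact h6 (Nat.pow_le_pow_right (by norm_num) (by omega))
      have h8 : 2 ^ 9 ∣ 3840 := (pow_dvd_pow 2 h7).trans h5
      norm_num at h8
    have h4 : Nat.card ↥(Tb t s R) * Nat.card ↥E' ≤
        Nat.card ↥(Tb t s R ⊔ E' : Subgroup Y) * Nat.card ↥(E' ⊓ Tb t s R : Subgroup Y) := card_mul_le _ _
    rw [card_Tb H, hcE'] at h4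
    by_contra h5
    have h6 : Nat.card ↥(Tb t s R ⊔ E' : Subgroup Y) * Nat.card ↥(E' ⊓ Tb t s R : Subgroup Y) ≤ 2 ^ 8 * 15 :=
      Nat.mul_le_mul h3 (by omega)
    norm_num at h4 h6
    omega
  -- `C_{E'}(t) = E' ⊓ Tb` has order 16
  have h2 : E' ⊓ centralizer {t} = E' ⊓ Tb t s R := by
    apply le_antisymm
    · apply le_inf inf_le_left
      apply le_Tb H
      · exact (IsPGroup.of_card (n := 5) (by rw [hcE']; norm_num) : IsPGroup 2 ↥E').to_le inf_le_left
      · exact fun f hf => mem_centralizer_singleton_iff.1 hf.2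
      · rintro c hc f ⟨hf1, hf2⟩
        refine ⟨hTE' c hc f hf1, ?_⟩
        have hCt : Tb t s R ≤ centralizer {t} := fun c hc => mem_centralizer_singleton_iff.2 (Tb_comm H c hc)
        have hf3 : f ∈ (centralizer {t} : Subgroup Y) := hf2
        have h4 : c * f * c⁻¹ ∈ (centralizer {t} : Subgroup Y) := mul_mem (mul_mem (hCt hc) hf3) (inv_mem (hCt hc))
        exact h4
    · apply le_inf inf_le_left
      exact inf_le_right.trans fun c hc => mem_centralizer_singleton_iff.2 (Tb_comm H c hc)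
  have h3 : Nat.card ↥(E' ⊓ Tb t s R : Subgroup Y) = 16 := by
    have h4 : E' ⊓ Tb t s R ≤ E' := inf_le_left
    have h5 := Subgroup.card_dvd_of_le h4
    rw [hcE'] at h5
    have h6 : Nat.card ↥(E' ⊓ Tb t s R : Subgroup Y) ≠ 32 := by
      intro h7
      apply hle
      have h8 : E' ⊓ Tb t s R = E' := Subgroup.eq_of_le_of_card_ge h4 (by rw [h7, hcE'])
      rw [← h8]
      exact inf_le_right
    have h7 : Nat.card ↥(E' ⊓ Tb t s R : Subgroup Y) ∣ 2 ^ 5 := by
      norm_num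
      exact h5
    obtain ⟨k, hk, hk'⟩ := (Nat.dvd_prime_pow Nat.prime_two).1 h7
    rw [hk'] at h1 h6 ⊢
    interval_cases k <;> omega
  -- translate to `τ = g⁻¹ t g`
  apply no_tau H h6 hh (hg t (t_Tb H))
  · calc g⁻¹ * t * g * (g⁻¹ * t * g) = g⁻¹ * (t * t) * g := by group
      _ = 1 := by rw [H.tt]; group
  · rw [← h3, ← h2]
    have e : (E5 t R ⊓ centralizer {g⁻¹ * t * g} : Subgroup Y) =
        (E' ⊓ centralizer {t} : Subgroup Y).map (MulAut.conj g⁻¹).toMonoidHom := by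
      ext a
      constructor
      · rintro ⟨ha, ha'⟩
        have ha2 : a * (g⁻¹ * t * g) = g⁻¹ * t * g * a := mem_centralizer_singleton_iff.1 ha'
        refine ⟨g * a * g⁻¹, ⟨(hmE' _).2 ?_, ?_⟩, ?_⟩
        · have : g⁻¹ * (g * a * g⁻¹) * g = a := by group
          rw [this]
          exact ha
        · show g * a * g⁻¹ ∈ centralizer {t}
          rw [mem_centralizer_singleton_iff]
          calc g * a * g⁻¹ * t = g * (a * (g⁻¹ * t * g)) * g⁻¹ := by group
            _ = t * (g * a * g⁻¹) := by rw [ha2]; group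
        · show g⁻¹ * (g * a * g⁻¹) * g⁻¹⁻¹ = a
          group
      · rintro ⟨b, ⟨hb, hb'⟩, rfl⟩
        have hb2 : b * t = t * b := mem_centralizer_singleton_iff.1 hb'
        have hE : g⁻¹ * b * g⁻¹⁻¹ ∈ E5 t R := by
          rw [inv_inv]
          exact (hmE' b).1 hb
        refine ⟨hE, ?_⟩
        show g⁻¹ * b * g⁻¹⁻¹ ∈ centralizer {g⁻¹ * t * g}
        rw [mem_centralizer_singleton_iff]
        calc g⁻¹ * b * g⁻¹⁻¹ * (g⁻¹ * t * g) = g⁻¹ * (b * t) * g := by group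
          _ = g⁻¹ * t * g * (g⁻¹ * b * g⁻¹⁻¹) := by rw [hb2]; group
    rw [e]
    exact Subgroup.card_map_of_injective (MulAut.conj g⁻¹).injective

/-- **`|N_Y(E5)| = 3840` is impossible** -/
theorem false_of_card (h6 : Nat.card ↥(normalizer (E5 t R : Set Y)) = 3840)
    (hh : ∃ y ∈ normalizer (E5 t R : Set Y), y * t * y⁻¹ = t * r0) : False := by
  have := H.fin
  have ht : t ∈ N5 t R := Tb_N5 H (t_Tb H)
  obtain ⟨μ, hμ⟩ := exists_mu H (N5 t R) (fun y hy v hv => by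
    apply nR_V H _ hv
    intro r hr
    have := N5_R H h6 hh (inv_mem hy) r hr
    rwa [inv_inv] at this) ht
  apply hμ
  apply H.tfy (N5 t R) (Tb_N5 H)
  · intro g hg
    exact uniq_E5 H h6 hh hg
  · refine ⟨E5 t R, E5_N5 H, fun g hg b hb => (Subgroup.mem_normalizer_iff.1 hg b).1 hb, E5_sq H, Or.inr ⟨?_, ?_⟩⟩
    · rw [card_E5 H]
      norm_num
    · intro S hS hSp
      have h5 := Subgroup.card_dvd_of_le hS
      rw [h6] at h5
      obtain ⟨k, hk⟩ := (IsPGroup.iff_card).1 hSp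
      rw [hk] at h5 ⊢
      by_contra h6
      have h7 : 9 ≤ k := by
        by_contra h8
        exact h6 (Nat.pow_le_pow_right (by norm_num) (by omega))
      have h8 : 2 ^ 9 ∣ 3840 := (pow_dvd_pow 2 h7).trans h5
      norm_num at h8

end Main

end Cfsg.Agent.OddHalf.D7Tits.YSix
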