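import Cfsg.Agent.OddHalf.D7Tits.YOne
import Cfsg.Agent.OddHalf.D7Tits.YSix

/-!
# `K = ²F₄(2)'`: the group `Y` does not exist (helper961, helper625; text: helper903, ODD #15617 section 4)
-/

set_option autoImplicit false

namespace Cfsg.Agent.OddHalf.D7Tits.YKill

open Subgroup YBase

/-- `t` is conjugate to `t r0` in `N_Y(E5)` -/
theorem conj_tr0 {Y Θ : Type*} [Group Y] [CommGroup Θ] {ρ : Y →* MulAut Θ} {t x s r0 : Y} {R Pb : Subgroup Y}
    {z n : Θ} (H : YH ρ t x s r0 R Pb z n) : ∃ y ∈ normalizer (E5 t R : Set Y), y * t * y⁻¹ = t * r0 := by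
  obtain ⟨h, hh, hn⟩ := YOne.exists_h H
  have hN : h⁻¹ ∈ normalizer (Tb t s R : Set Y) := by
    rw [YOne.nor_iff H]
    intro a ha
    rw [inv_inv]
    exact hh a ha
  have hN' : h ∈ normalizer (Tb t s R : Set Y) := by
    rw [← inv_mem_iff]
    exact hN
  refine ⟨h, YOne.nor_le H hN', ?_⟩
  rcases YOne.conj_t H hN' with h1 | h1
  · exact absurd ((YOne.mem_Tb_iff H hN').2 h1) hn
  · exact h1

/-- **`YH` is contradictory** -/
theorem false_of {Y Θ : Type*} [Group Y] [CommGroup Θ] {ρ : Y →* MulAut Θ} {t x s r0 : Y} {R Pb : Subgroup Y}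
    {z n : Θ} (H : YH ρ t x s r0 R Pb z n) : False := by
  rcases YOne.card_N5 H with h | h
  · exact YSix.false_of_card H h (conj_tr0 H)
  · exact YSixteen.false_of_card H h

end Cfsg.Agent.OddHalf.D7Tits.YKill
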