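import Cfsg.Agent.OddHalf.D7Tits.ThMain
import Cfsg.Agent.OddHalf.D7Tits.AltEnd
import Cfsg.Agent.OddHalf.D7Tits.YKill
import Cfsg.Agent.OddHalf.D7Tits.XZero
import Cfsg.Agent.OddHalf.D7Tits.WOf

/-!
# ODD D7, `K = ²F₄(2)'`: the type O is impossible; everything from `Pos0` (helper853)
-/

set_option autoImplicit false

namespace Cfsg.Agent.OddHalf.D7Tits.CloseO

open Cfsg.Agent.OddHalf.D7Tits.Defs Cfsg.Agent.OddHalf.D7Tits.SOne

universe u v

variable {Y : Type u} [Group Y] {G : Type v} [Group G] {K : KT Y}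

/-- **type O is dead** -/
theorem false_of_pos {i : Y →* G} {t n : G} (P : Pos K i t n) : False := by
  obtain ⟨Θ, H⟩ := ThMain.exists_Th P (fun g hg => by
    rcases K.pts g hg with h | ⟨k, h | h⟩
    · exact Or.inl h
    · exact Or.inr ⟨k, Or.inl h⟩
    · exact Or.inr ⟨k, Or.inr h⟩)
  let _ := YOf.cg H.ab
  obtain ⟨r0, h⟩ := AltEnd.exists_yh P H
  exact YKill.false_of h

/-- **Everything from `Pos0`**: CL -/
theorem false_cl {K₀ : Subgroup Y} {i₀ : ↥K₀ →* G} {t f : G} (H : Pos0 K K₀ i₀ t f) (hj : K.j = 1) (H5 : XZero.K5 K) :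
    False := by
  rcases SOne.main H with ⟨-, i, n, h1, h2, h3, h4, h5⟩ | ⟨h, -⟩ | ⟨i, n, P⟩
  · have hE : ∀ e ∈ K.E, n * i e * n⁻¹ = i (K.τ e) := h5
    exact XZero.false_of K H5 i h1 t n h2 h3 h4 hE
  · exact h hj
  · exact false_of_pos P

/-- **Everything from `Pos0`**: OUT -/
theorem false_out {K₀ : Subgroup Y} {i₀ : ↥K₀ →* G} {t f : G} (H : Pos0 K K₀ i₀ t f) (hj : K.j ≠ 1) (W : WDefs.KTW K)
    (kill : ∀ (i : Y →* G) (y : G), WDefs.PosW K i t y → False) : False := by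
  rcases SOne.main' H with ⟨h, -⟩ | ⟨hj', n, M, nn, hff, -⟩ | ⟨i, n, P⟩
  · exact hj h
  · obtain ⟨i, h⟩ := WOf.exists_posW H hj' M nn hff W
    exact kill i n h
  · exact false_of_pos P

end Cfsg.Agent.OddHalf.D7Tits.CloseO
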