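import Mathlib

/-!
# D7, `K` = Tits group: counting the conjugates of `t` in a coset (helper123)

`M ≤ C ≤ Λ`, `M` elementary abelian, all normalised by the involution `t` and by `Λ`, `Λ / C` of exponent two.

* `orbit_count` : `|F| |M| ≤ |C| |C_M(t)| |C_F(t)|` if `[F, t] ≤ C`;
* `main` : if `16 |C| ≤ |Λ|`, then `4 |M| ≤ |C_M(t)| |C_Λ(t)|`.
-/

set_option autoImplicit false

namespace Cfsg.Agent.OddHalf.D7Tits.Count

open Subgroup

theorem card_le_of_fibre {α β : Type*} [Finite α] [Finite β] (f : α → β) (k : ℕ)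
    (h : ∀ b, Nat.card {a // f a = b} ≤ k) : Nat.card α ≤ Nat.card β * k := by
  classical
  have := Fintype.ofFinite α
  have := Fintype.ofFinite β
  rw [Nat.card_congr (Equiv.sigmaFiberEquiv f).symm, Nat.card_sigma]
  calc ∑ b, Nat.card {a // f a = b} ≤ ∑ _b : β, k := Finset.sum_le_sum fun b _ => h b
    _ = Nat.card β * k := by simp [Nat.card_eq_fintype_card]

variable {G : Type*} [Group G]

theorem orbit_count [Finite G] {t : G} (tt : t * t = 1) (M C F : Subgroup G) (hMC : M ≤ C)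
    (hsq : ∀ m ∈ M, m * m = 1) (hF : ∀ x ∈ F, x * t * x⁻¹ * t ∈ C) (hFM : ∀ x ∈ F, ∀ m ∈ M, x⁻¹ * m * x ∈ M)
    (hCM : ∀ c ∈ C, ∀ m ∈ M, c * m * c⁻¹ ∈ M) :
    Nat.card F * Nat.card M ≤ Nat.card C *
      (Nat.card ↥(M ⊓ centralizer ({t} : Set G)) * Nat.card ↥(F ⊓ centralizer ({t} : Set G))) := by
  classical
  set B := M ⊓ centralizer ({t} : Set G) with hB
  set CF := F ⊓ centralizer ({t} : Set G) with hCF
  have ti : t⁻¹ = t := inv_eq_of_mul_eq_one_left tt
  let f : F → C ⧸ (M.subgroupOf C) := fun x => QuotientGroup.mk ⟨(x : G) * t * (x : G)⁻¹ * t, hF x x.2⟩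
  have key : Nat.card F ≤ Nat.card (C ⧸ (M.subgroupOf C)) * (Nat.card B * Nat.card CF) := by
    refine card_le_of_fibre f _ fun b => ?_
    rcases isEmpty_or_nonempty {a // f a = b} with he | ⟨⟨x0, hx0⟩⟩
    · rw [Nat.card_eq_zero.2 (Or.inl he)]
      exact Nat.zero_le _
    · -- the second map
      have hg : ∀ x : {a // f a = b}, (x0 : G)⁻¹ * ((x : F) : G) * t * ((x : F) : G)⁻¹ * x0 * t ∈ B := by
        rintro ⟨x, hx⟩
        have h1 : f x0 = f x := by rw [hx, hx0]
        have h2 := QuotientGroup.eq.1 h1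
        rw [mem_subgroupOf] at h2
        have h3 : ((x0 : G) * t * (x0 : G)⁻¹ * t)⁻¹ * ((x : G) * t * (x : G)⁻¹ * t) ∈ M := h2
        -- `m = s s₀ ∈ M`
        have h4 : (x : G) * t * (x : G)⁻¹ * ((x0 : G) * t * (x0 : G)⁻¹) ∈ M := by
          have h5 := hCM _ (hF x0 x0.2) _ h3
          have e : (x0 : G) * t * (x0 : G)⁻¹ * t * (((x0 : G) * t * (x0 : G)⁻¹ * t)⁻¹ * ((x : G) * t * (x : G)⁻¹ * t)) *
              ((x0 : G) * t * (x0 : G)⁻¹ * t)⁻¹ = (x : G) * t * (x : G)⁻¹ * ((x0 : G) * t⁻¹ * (x0 : G)⁻¹) := by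
            group
          rw [e, ti] at h5
          exact h5
        have h6 := hsq _ h4
        have h7 := hFM x0 x0.2 _ h4
        have e7 : (x0 : G)⁻¹ * ((x : G) * t * (x : G)⁻¹ * ((x0 : G) * t * (x0 : G)⁻¹)) * x0 =
            (x0 : G)⁻¹ * (x : G) * t * (x : G)⁻¹ * x0 * t := by group
        rw [e7] at h7
        refine ⟨h7, mem_centralizer_singleton_iff.2 ?_⟩
        -- `b b = 1`, `b = v t` with `v v = 1`
        obtain ⟨v, hv⟩ : ∃ v, v = (x0 : G)⁻¹ * (x : G) * t * (x : G)⁻¹ * x0 := ⟨_, rfl⟩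
        have hvv : v * v = 1 := by
          have e : v * v = (x0 : G)⁻¹ * (x : G) * (t * t) * (x : G)⁻¹ * x0 := by rw [hv]; group
          rw [e, tt]; group
        have h8 : v * t * (v * t) = 1 := by
          have e : v * t * (v * t) = (x0 : G)⁻¹ * ((x : G) * t * (x : G)⁻¹ * ((x0 : G) * t * (x0 : G)⁻¹) *
              ((x : G) * t * (x : G)⁻¹ * ((x0 : G) * t * (x0 : G)⁻¹))) * x0 := by rw [hv]; group
          rw [e, h6]; group
        show (x0 : G)⁻¹ * (x : G) * t * (x : G)⁻¹ * x0 * t * t = t * ((x0 : G)⁻¹ * (x : G) * t * (x : G)⁻¹ * x0 * t)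
        rw [← hv]
        -- v t v t = 1, so t v t = v⁻¹ = v
        have h9 : t * v * t = v := by
          have h10 : v * (t * v * t) = 1 := by rw [← h8]; group
          have h11 : v⁻¹ = t * v * t := inv_eq_of_mul_eq_one_right h10
          rw [← h11, inv_eq_of_mul_eq_one_left hvv]
        calc v * t * t = v := by rw [mul_assoc, tt, mul_one]
          _ = t * v * t := h9.symm
          _ = t * (v * t) := by group
      let g : {a // f a = b} → B := fun x => ⟨_, hg x⟩
      refine card_le_of_fibre g _ fun c => ?_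
      rcases isEmpty_or_nonempty {a // g a = c} with he | ⟨⟨x1, hx1⟩⟩
      · rw [Nat.card_eq_zero.2 (Or.inl he)]
        exact Nat.zero_le _
      · have hm : ∀ x : {a // g a = c}, (((x1 : F) : G))⁻¹ * ((((x : {a // f a = b}) : F)) : G) ∈ CF := by
          rintro ⟨x, hx⟩
          have h1 : g x1 = g x := by rw [hx, hx1]
          have h2 : (x0 : G)⁻¹ * ((x1 : F) : G) * t * ((x1 : F) : G)⁻¹ * x0 * t =
              (x0 : G)⁻¹ * ((x : F) : G) * t * ((x : F) : G)⁻¹ * x0 * t := congrArg Subtype.val h1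
          have h3 : ((x1 : F) : G) * t * ((x1 : F) : G)⁻¹ = ((x : F) : G) * t * ((x : F) : G)⁻¹ := by
            have h4 := mul_right_cancel (mul_right_cancel h2)
            have e1 : (x0 : G)⁻¹ * ((x1 : F) : G) * t * ((x1 : F) : G)⁻¹ =
              (x0 : G)⁻¹ * (((x1 : F) : G) * t * ((x1 : F) : G)⁻¹) := by group
            have e2 : (x0 : G)⁻¹ * ((x : F) : G) * t * ((x : F) : G)⁻¹ =
              (x0 : G)⁻¹ * (((x : F) : G) * t * ((x : F) : G)⁻¹) := by group
            rw [e1, e2] at h4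
            exact mul_left_cancel h4
          refine ⟨F.mul_mem (F.inv_mem (x1 : F).2) (x : F).2, mem_centralizer_singleton_iff.2 ?_⟩
          show ((x1 : F) : G)⁻¹ * ((x : F) : G) * t = t * (((x1 : F) : G)⁻¹ * ((x : F) : G))
          calc ((x1 : F) : G)⁻¹ * ((x : F) : G) * t
              = ((x1 : F) : G)⁻¹ * (((x : F) : G) * t * ((x : F) : G)⁻¹) * ((x : F) : G) := by group
            _ = ((x1 : F) : G)⁻¹ * (((x1 : F) : G) * t * ((x1 : F) : G)⁻¹) * ((x : F) : G) := by rw [h3]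
            _ = _ := by group
        refine Nat.card_le_card_of_injective (fun x : {a // g a = c} => (⟨_, hm x⟩ : CF)) ?_
        intro x y hxy
        have h1 : (((x1 : F) : G))⁻¹ * ((((x : {a // f a = b}) : F)) : G) =
          (((x1 : F) : G))⁻¹ * ((((y : {a // f a = b}) : F)) : G) := congrArg Subtype.val hxy
        exact Subtype.ext (Subtype.ext (Subtype.ext (mul_left_cancel h1)))
  have hcard : Nat.card C = Nat.card (C ⧸ (M.subgroupOf C)) * Nat.card M := by
    rw [Subgroup.card_eq_card_quotient_mul_card_subgroup (M.subgroupOf C)]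
    congr 1
    exact Nat.card_congr (subgroupOfEquivOfLe hMC).toEquiv
  calc Nat.card F * Nat.card M
      ≤ Nat.card (C ⧸ (M.subgroupOf C)) * (Nat.card B * Nat.card CF) * Nat.card M := Nat.mul_le_mul_right _ key
    _ = Nat.card C * (Nat.card B * Nat.card CF) := by rw [hcard]; ring

/-- an involutory automorphism of an elementary abelian 2-group -/
theorem fix_sq {Q : Type*} [Group Q] [Finite Q] (hQ : ∀ q : Q, q * q = 1) (τ : Q →* Q) (hτ : ∀ q, τ (τ q) = q) :
    Nat.card Q ≤ Nat.card {q : Q // τ q = q} * Nat.card {q : Q // τ q = q} := by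
  have hcomm : ∀ a b : Q, a * b = b * a := by
    intro a b
    calc a * b = (a * b)⁻¹ := (inv_eq_of_mul_eq_one_left (hQ _)).symm
      _ = b⁻¹ * a⁻¹ := by group
      _ = b * a := by rw [inv_eq_of_mul_eq_one_left (hQ a), inv_eq_of_mul_eq_one_left (hQ b)]
  let f : Q → {q : Q // τ q = q} := fun q => ⟨q * τ q, by rw [map_mul, hτ, hcomm]⟩
  refine card_le_of_fibre f _ fun b => ?_
  rcases isEmpty_or_nonempty {a // f a = b} with he | ⟨⟨x0, hx0⟩⟩
  · rw [Nat.card_eq_zero.2 (Or.inl he)]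
    exact Nat.zero_le _
  · refine Nat.card_le_card_of_injective
      (fun x : {a // f a = b} => (⟨(x : Q) * x0, ?_⟩ : {q : Q // τ q = q})) ?_
    · obtain ⟨x, hx⟩ := x
      have h1 : x * τ x = x0 * τ x0 := congrArg Subtype.val (hx.trans hx0.symm)
      show τ (x * x0) = x * x0
      rw [map_mul]
      calc τ x * τ x0 = x * x * τ x * τ x0 := by rw [hQ, one_mul]
        _ = x * (x * τ x) * τ x0 := by group
        _ = x * (x0 * τ x0) * τ x0 := by rw [h1]
        _ = x * x0 * (τ x0 * τ x0) := by group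
        _ = x * x0 := by rw [hQ, mul_one]
    · intro x y hxy
      have h1 : (x : Q) * x0 = (y : Q) * x0 := congrArg Subtype.val hxy
      exact Subtype.ext (mul_right_cancel h1)

theorem main [Finite G] {t : G} (tt : t * t = 1) (M C Λ : Subgroup G) (hMC : M ≤ C) (hCΛ : C ≤ Λ)
    (hsq : ∀ m ∈ M, m * m = 1) (htC : ∀ c ∈ C, t * c * t ∈ C) (htΛ : ∀ x ∈ Λ, t * x * t ∈ Λ)
    (hΛM : ∀ x ∈ Λ, ∀ m ∈ M, x * m * x⁻¹ ∈ M) (hΛC : ∀ x ∈ Λ, ∀ c ∈ C, x * c * x⁻¹ ∈ C)
    (h2 : ∀ x ∈ Λ, x * x ∈ C) (h16 : 16 * Nat.card C ≤ Nat.card Λ) :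
    4 * Nat.card M ≤ Nat.card ↥(M ⊓ centralizer ({t} : Set G)) * Nat.card ↥(Λ ⊓ centralizer ({t} : Set G)) := by
  classical
  have ti : t⁻¹ = t := inv_eq_of_mul_eq_one_left tt
  have hN : (C.subgroupOf Λ).Normal := ⟨fun c hc x => hΛC x x.2 c hc⟩
  let Q := Λ ⧸ (C.subgroupOf Λ)
  let cj : Λ →* Λ :=
    { toFun := fun x => ⟨t * x * t, htΛ x x.2⟩
      map_one' := Subtype.ext (by show t * 1 * t = 1; rw [mul_one, tt])
      map_mul' := fun x y => Subtype.ext (by
        show t * (x * y : G) * t = t * x * t * (t * y * t)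
        calc t * (x * y : G) * t = t * x * 1 * y * t := by group
          _ = t * x * (t * t) * y * t := by rw [tt]
          _ = _ := by group) }
  let τ : Q →* Q := QuotientGroup.map _ _ cj (fun c hc => htC c hc)
  have hτ : ∀ q, τ (τ q) = q := by
    intro q
    obtain ⟨x, rfl⟩ := QuotientGroup.mk_surjective q
    show (QuotientGroup.mk (cj (cj x)) : Q) = QuotientGroup.mk x
    congr 1
    apply Subtype.ext
    show t * (t * (x : G) * t) * t = x
    calc t * (t * (x : G) * t) * t = (t * t) * x * (t * t) := by group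
      _ = x := by rw [tt]; group
  have hQ : ∀ q : Q, q * q = 1 := by
    intro q
    obtain ⟨x, rfl⟩ := QuotientGroup.mk_surjective q
    show (QuotientGroup.mk (x * x) : Q) = 1
    rw [QuotientGroup.eq_one_iff]
    exact h2 x x.2
  have hfix := fix_sq hQ τ hτ
  have hC' : Nat.card (C.subgroupOf Λ) = Nat.card C := Nat.card_congr (subgroupOfEquivOfLe hCΛ).toEquiv
  have hΛ : Nat.card Λ = Nat.card Q * Nat.card C := by
    rw [Subgroup.card_eq_card_quotient_mul_card_subgroup (C.subgroupOf Λ), hC']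
  have hCpos : 0 < Nat.card C := Nat.card_pos
  have hQ16 : 16 ≤ Nat.card Q := by
    rw [hΛ] at h16
    exact Nat.le_of_mul_le_mul_right h16 hCpos
  -- the fixed subgroup
  let Fx : Subgroup Q :=
    { carrier := {q | τ q = q}
      one_mem' := map_one τ
      mul_mem' := fun {a b} ha hb => by
        show τ (a * b) = a * b
        rw [map_mul, show τ a = a from ha, show τ b = b from hb]
      inv_mem' := fun {a} ha => by
        show τ a⁻¹ = a⁻¹
        rw [map_inv, show τ a = a from ha] }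
  have hFx : 4 ≤ Nat.card Fx := by
    have h1 : Nat.card Q ≤ Nat.card Fx * Nat.card Fx := hfix
    by_contra h
    have h3 : Nat.card Fx ≤ 3 := by omega
    have := Nat.mul_le_mul h3 h3
    omega
  let F : Subgroup G := (Fx.comap (QuotientGroup.mk' (C.subgroupOf Λ))).map Λ.subtype
  have hFmem : ∀ x ∈ F, x ∈ Λ ∧ x * t * x⁻¹ * t ∈ C := by
    rintro _ ⟨x, hx, rfl⟩
    refine ⟨x.2, ?_⟩
    have h1 : (QuotientGroup.mk (cj x) : Q) = QuotientGroup.mk x := hx
    have h3 := QuotientGroup.eq.1 h1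
    have h4 : (t * (x : G) * t)⁻¹ * x ∈ C := h3
    -- conjugate by `x`
    have h5 := hΛC x x.2 _ h4
    have e : (x : G) * ((t * (x : G) * t)⁻¹ * x) * (x : G)⁻¹ = x * t⁻¹ * (x : G)⁻¹ * t⁻¹ := by group
    rw [e, ti] at h5
    exact h5
  have hFcard : Nat.card F = Nat.card Fx * Nat.card C := by
    have h1 : Nat.card F = Nat.card ↥(Fx.comap (QuotientGroup.mk' (C.subgroupOf Λ))) :=
      Subgroup.card_map_of_injective Λ.subtype_injective
    have h3 : (Fx.comap (QuotientGroup.mk' (C.subgroupOf Λ))).index = Fx.index :=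
      Subgroup.index_comap_of_surjective _ (QuotientGroup.mk'_surjective _)
    have h4 := Subgroup.card_mul_index (Fx.comap (QuotientGroup.mk' (C.subgroupOf Λ)))
    have h5 := Subgroup.card_mul_index Fx
    have h6 : 0 < Fx.index := Nat.pos_of_ne_zero Subgroup.index_ne_zero_of_finite
    rw [h3, hΛ] at h4
    rw [h1]
    have h7 : Nat.card ↥(Fx.comap (QuotientGroup.mk' (C.subgroupOf Λ))) * Fx.index =
        (Nat.card Fx * Nat.card C) * Fx.index := by
      rw [h4]
      show Nat.card Q * Nat.card C = _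
      rw [← h5]; ring
    exact Nat.eq_of_mul_eq_mul_right h6 h7
  have hcount := orbit_count tt M C F hMC hsq (fun x hx => (hFmem x hx).2)
    (fun x hx m hm => by
      have := hΛM x⁻¹ (inv_mem (hFmem x hx).1) m hm
      rwa [inv_inv] at this)
    (fun c hc m hm => hΛM c (hCΛ hc) m hm)
  have hle : Nat.card ↥(F ⊓ centralizer ({t} : Set G)) ≤ Nat.card ↥(Λ ⊓ centralizer ({t} : Set G)) :=
    Nat.card_mono (Set.toFinite _) (fun x hx => ⟨(hFmem x hx.1).1, hx.2⟩)
  rw [hFcard] at hcount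
  have h8 : 4 * Nat.card M * Nat.card C ≤
      (Nat.card ↥(M ⊓ centralizer ({t} : Set G)) * Nat.card ↥(Λ ⊓ centralizer ({t} : Set G))) * Nat.card C := by
    calc 4 * Nat.card M * Nat.card C = 4 * Nat.card C * Nat.card M := by ring
      _ ≤ Nat.card Fx * Nat.card C * Nat.card M := by
        exact Nat.mul_le_mul_right _ (Nat.mul_le_mul_right _ hFx)
      _ ≤ _ := hcount
      _ ≤ Nat.card C * (Nat.card ↥(M ⊓ centralizer ({t} : Set G)) *
          Nat.card ↥(Λ ⊓ centralizer ({t} : Set G))) := Nat.mul_le_mul_left _ (Nat.mul_le_mul_left _ hle)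
      _ = _ := by ring
  exact Nat.le_of_mul_le_mul_right h8 hCpos

end Cfsg.Agent.OddHalf.D7Tits.Count
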