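import Cfsg.Agent.OddHalf.D7Tits.Defs

/-!
# D7, `K` = Tits group: consequences of the K-facts for `A₁` (helper123)

* `le_U` : a 2-subgroup normalised by `U` is in `U`;
* `z_mem_A₁` : `z ∈ A₁`;
* `cent_A₁` : `C_Y(A₁) ≤ A₁`;
* `invol_fixed` : an involution on a set of even order with a fixed point has a second one.
-/

set_option autoImplicit false
set_option linter.unusedSectionVars false
set_option linter.unusedVariables false

namespace Cfsg.Agent.OddHalf.D7Tits.ZeroK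

open Defs Subgroup

universe u v

theorem invol_fixed {α : Type*} [Finite α] (τ : α → α) (hτ : ∀ a, τ (τ a) = a) (h2 : 2 ∣ Nat.card α) (a : α)
    (ha : τ a = a) : ∃ b, b ≠ a ∧ τ b = b := by
  classical
  have := Fintype.ofFinite α
  by_contra hcon
  have hfix : Function.fixedPoints τ = {a} := by
    ext b
    rw [Set.mem_singleton_iff]
    constructor
    · intro hb
      by_contra hne
      exact hcon ⟨b, hne, hb⟩
    · rintro rfl
      exact ha
  obtain ⟨f, hf⟩ : ∃ f : Function.End α, f = τ := ⟨τ, rfl⟩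
  have hff : f ^ 2 ^ 1 = 1 := by
    rw [pow_one, pow_two]
    funext b
    show f (f b) = b
    rw [hf]
    exact hτ b
  have h1 := Equiv.Perm.card_fixedPoints_modEq (α := α) (f := f) (p := 2) (n := 1) hff
  have h3 : ∀ inst : Fintype (Function.fixedPoints f), @Fintype.card _ inst = 1 := by
    intro inst
    rw [Fintype.card_eq_one_iff]
    refine ⟨⟨a, ?_⟩, ?_⟩
    · show f a = a
      rw [hf]; exact ha
    rintro ⟨b, hb⟩
    have : b ∈ Function.fixedPoints τ := by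
      rw [← hf]; exact hb
    rw [hfix, Set.mem_singleton_iff] at this
    exact Subtype.ext this
  have h5 : Fintype.card α ≡ 1 [MOD 2] := h1.trans (congrArg (· % 2) (h3 _))
  rw [Nat.card_eq_fintype_card] at h2
  have h4 := (Nat.modEq_zero_iff_dvd.2 h2).symm.trans h5
  exact absurd h4 (by decide)

variable {Y : Type u} [Group Y] (K : KT Y)

theorem le_U (D : Subgroup Y) (hD : IsPGroup 2 D) (hU : ∀ u ∈ K.U, ∀ d ∈ D, u * d * u⁻¹ ∈ D) : D ≤ K.U := by
  have := K.fin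
  have : Fact (Nat.Prime 2) := ⟨Nat.prime_two⟩
  have hUD : K.U ≤ normalizer (D : Set Y) := by
    intro u hu
    rw [mem_normalizer_iff]
    intro d
    refine ⟨hU u hu d, fun h => ?_⟩
    have := hU u⁻¹ (inv_mem hu) _ h
    have e : u⁻¹ * (u * d * u⁻¹) * (u⁻¹)⁻¹ = d := by group
    rwa [e] at this
  have h1 : IsPGroup 2 ↥(K.U ⊔ D) := IsPGroup.to_sup_of_normal_right' K.U_p hD hUD
  have h2 := (K.U_p.toSylow K.U_odd).is_maximal' h1 le_sup_left
  intro d hd
  have h3 : d ∈ K.U ⊔ D := mem_sup_right hd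
  rw [h2] at h3
  exact h3

/-- conjugation of `U` on `A₁` -/
@[instance_reducible] def act : MulAction K.U K.A₁ where
  smul u a := ⟨(u : Y) * a * (u : Y)⁻¹, K.A₁_nor u u.2 a a.2⟩
  one_smul a := Subtype.ext (by show (1 : Y) * a * (1 : Y)⁻¹ = a; group)
  mul_smul u w a := Subtype.ext (by
    show (u * w : Y) * a * (u * w : Y)⁻¹ = u * (w * a * (w : Y)⁻¹) * (u : Y)⁻¹
    group)

theorem z_mem_A₁ : K.z ∈ K.A₁ := by
  have := K.fin
  have : Fact (Nat.Prime 2) := ⟨Nat.prime_two⟩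
  let _ := act K
  have h1 : (1 : K.A₁) ∈ MulAction.fixedPoints K.U K.A₁ := by
    intro u
    apply Subtype.ext
    show (u : Y) * (1 : Y) * (u : Y)⁻¹ = 1
    group
  obtain ⟨b, hb, hne⟩ := K.U_p.exists_fixed_point_of_prime_dvd_card_of_fixed_point K.A₁
    (by rw [K.A₁_card]; norm_num) h1
  have h2 : ∀ u ∈ K.U, (b : Y) * u = u * b := by
    intro u hu
    have h3 : u * (b : Y) * u⁻¹ = b := congrArg Subtype.val (hb ⟨u, hu⟩)
    calc (b : Y) * u = u * (b : Y) * u⁻¹ * u := by rw [h3]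
      _ = u * b := by group
  rcases K.cent_U b h2 with h3 | h3
  · exact absurd (Subtype.ext h3.symm) hne
  · rw [← h3]; exact b.2

theorem j4 : K.j ^ 4 = 1 := by
  rcases K.j_or with h | ⟨h, -⟩
  · rw [h, one_pow]
  · have : K.j ^ 4 = K.j ^ 2 * K.j ^ 2 := by rw [← pow_add]
    rw [this, pow_two, h, K.zz]

theorem sj : K.s * K.j = K.j * K.s := by
  rcases K.j_or with h | ⟨-, h⟩
  · rw [h, mul_one, one_mul]
  · have h1 := h K.s
    rw [K.τs] at h1
    calc K.s * K.j = (K.j * K.s * K.j⁻¹) * K.j := by rw [← h1]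
      _ = _ := by group

theorem s_P : K.s ∈ K.P := K.U_le_P K.s_U

theorem j_P : K.j ∈ K.P := K.U_le_P K.j_U

theorem pow4 {p : Y} (hp : p ∈ K.P) : p ^ 4 ∈ K.E := by
  obtain ⟨e, he, k, l, h⟩ := K.P_cases p hp
  have hN : (K.E.subgroupOf K.P).Normal := ⟨fun a ha g => K.nor_E g g.2 a ha⟩
  let f := QuotientGroup.mk' (K.E.subgroupOf K.P)
  let s' : K.P := ⟨K.s, s_P K⟩
  let j' : K.P := ⟨K.j, j_P K⟩
  let e' : K.P := ⟨e, K.E_le_P he⟩
  have h1 : (⟨p, hp⟩ : K.P) = e' * s' ^ k * j' ^ l := Subtype.ext h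
  have h2 : f e' = 1 := (QuotientGroup.eq_one_iff _).2 he
  have hc : Commute (f s') (f j') := by
    have h3 : s' * j' = j' * s' := Subtype.ext (sj K)
    show f s' * f j' = f j' * f s'
    rw [← map_mul, h3, map_mul]
  have hs : (f s') ^ 4 = 1 := by
    have h3 : s' ^ 4 = 1 := Subtype.ext K.s4
    rw [← map_pow, h3, map_one]
  have hj : (f j') ^ 4 = 1 := by
    have h3 : j' ^ 4 = 1 := Subtype.ext (j4 K)
    rw [← map_pow, h3, map_one]
  have h3 : f (⟨p, hp⟩ ^ 4) = 1 := by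
    rw [map_pow, h1, map_mul, map_mul, h2, one_mul, map_pow, map_pow, (hc.pow_pow k l).mul_pow, ← pow_mul, ← pow_mul,
      mul_comm k, mul_comm l, pow_mul, pow_mul, hs, hj, one_pow, one_pow, one_mul]
  have h4 : (⟨p, hp⟩ : K.P) ^ 4 ∈ K.E.subgroupOf K.P := (QuotientGroup.eq_one_iff _).1 h3
  exact h4

theorem pow5 {e : Y} (he : e ∈ K.E) : e ^ 5 ∈ K.Q := by
  obtain ⟨u, hu, k, h⟩ := K.E_cases e he
  have hN : (K.Q.subgroupOf K.P).Normal := ⟨fun a ha g => K.nor_Q g g.2 a ha⟩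
  let f := QuotientGroup.mk' (K.Q.subgroupOf K.P)
  let x' : K.P := ⟨K.x, K.E_le_P K.x_E⟩
  let u' : K.P := ⟨u, K.E_le_P (K.Q_le_E hu)⟩
  have h1 : (⟨e, K.E_le_P he⟩ : K.P) = u' * x' ^ k := Subtype.ext h
  have h2 : f u' = 1 := (QuotientGroup.eq_one_iff _).2 hu
  have hx : (f x') ^ 5 = 1 := by
    have h3 : x' ^ 5 = 1 := Subtype.ext K.x5
    rw [← map_pow, h3, map_one]
  have h3 : f (⟨e, K.E_le_P he⟩ ^ 5) = 1 := by
    rw [map_pow, h1, map_mul, h2, one_mul, map_pow, ← pow_mul, mul_comm, pow_mul, hx, one_pow]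
  have h4 : (⟨e, K.E_le_P he⟩ : K.P) ^ 5 ∈ K.Q.subgroupOf K.P := (QuotientGroup.eq_one_iff _).1 h3
  exact h4

theorem pow80 {p : Y} (hp : p ∈ K.P) : (p ^ 16) ^ 5 = 1 := by
  have h1 := K.Q_pow _ (pow5 K (pow4 K hp))
  rw [← pow_mul, ← pow_mul] at h1
  rw [← pow_mul]
  exact h1

/-- no element of order 5 centralises `A₁` -/
theorem no5 {y : Y} (hy : y ^ 5 = 1) (hc : ∀ a ∈ K.A₁, y * a = a * y) : y = 1 := by
  by_contra hne
  have hyP : y ∈ K.P := (K.mem_P y).2 (hc _ (z_mem_A₁ K))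
  obtain ⟨u, hu, k, h⟩ := K.syl5 y (K.E_mem y hyP hy) hy hne
  have huU := K.Q_le_U hu
  -- `x ^ k` centralises `A₁`
  have hk : ∀ a ∈ K.A₁, K.x ^ k * a = a * K.x ^ k := by
    intro a ha
    have h1 := hc _ (K.A₁_nor u huU a ha)
    rw [h] at h1
    calc K.x ^ k * a = u⁻¹ * (u * K.x ^ k * u⁻¹ * (u * a * u⁻¹)) * u := by group
      _ = _ := by rw [h1]; group
  have hk5 : ¬ 5 ∣ k := by
    rintro ⟨c, rfl⟩
    apply hne
    rw [h, pow_mul, K.x5, one_pow]; group
  have hcop : Nat.Coprime k 5 := ((Nat.Prime.coprime_iff_not_dvd Nat.prime_five).2 hk5).symm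
  obtain ⟨m, hm⟩ := Nat.exists_mul_mod_eq_one_of_coprime hcop (by norm_num)
  have hx : (K.x ^ k) ^ m = K.x := by
    rw [← pow_mul, ← Nat.div_add_mod (k * m) 5, hm.2, pow_add, pow_mul, K.x5, one_pow, one_mul, pow_one]
  have hxa : ∀ a ∈ K.A₁, K.x * a = a * K.x := by
    intro a ha
    have h1 : Commute (K.x ^ k) a := hk a ha
    have h2 := h1.pow_left m
    rw [hx] at h2
    exact h2
  -- so `A₁ ≤ ⟨z⟩`
  have hz4 : ∀ l : ℕ, (K.z ^ l) ^ 5 = K.z ^ l := by
    intro l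
    have : K.z ^ 5 = K.z := by
      have e : K.z ^ 5 = K.z ^ 2 * K.z ^ 2 * K.z := by rw [← pow_add, ← pow_succ]
      rw [e, pow_two, K.zz, one_mul, one_mul]
    rw [← pow_mul, mul_comm, pow_mul, this]
  have hj5 : ∀ l : ℕ, (K.j ^ l) ^ 5 = K.j ^ l := by
    intro l
    have : K.j ^ 5 = K.j := by
      rw [pow_succ, j4 K, one_mul]
    rw [← pow_mul, mul_comm, pow_mul, this]
  have hzj : K.z * K.j = K.j * K.z := ((K.mem_P _).1 (j_P K)).symm
  have hsmall : ∀ a ∈ K.A₁, a = 1 ∨ a = K.z := by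
    intro a ha
    have haP : a ∈ K.P := K.E_le_P (K.Q_le_E (K.A₁_le ha))
    obtain ⟨k', l, m', h1⟩ := K.cent_x a haP (hxa a ha).symm
    have hxz : K.x * K.z = K.z * K.x := (K.mem_P _).1 (K.E_le_P K.x_E)
    have hxj : K.x * K.j = K.j * K.x := by
      rcases K.j_or with h | ⟨-, h⟩
      · rw [h, mul_one, one_mul]
      · have h1 := h K.x
        rw [K.τx] at h1
        calc K.x * K.j = (K.j * K.x * K.j⁻¹) * K.j := by rw [← h1]
          _ = _ := by group
    have ha5 : a ^ 5 = a := by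
      have e : a ^ 5 = a ^ 2 * a ^ 2 * a := by rw [← pow_add, ← pow_succ]
      rw [e, pow_two, K.A₁_sq a ha, one_mul, one_mul]
    have h2 : a = K.z ^ l * K.j ^ m' := by
      have c1 : Commute (K.x ^ k') (K.z ^ l) := Commute.pow_pow hxz _ _
      have c2 : Commute (K.x ^ k') (K.j ^ m') := Commute.pow_pow hxj _ _
      have c3 : Commute (K.z ^ l) (K.j ^ m') := Commute.pow_pow hzj _ _
      have c4 : Commute (K.x ^ k' * K.z ^ l) (K.j ^ m') := c2.mul_left c3
      rw [← ha5, h1, c4.mul_pow, c1.mul_pow, hz4, hj5, ← pow_mul, mul_comm k', pow_mul, K.x5, one_pow, one_mul]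
    rcases K.j_or with hj | ⟨hj, -⟩
    · rw [hj, one_pow, mul_one] at h2
      rcases Nat.even_or_odd' l with ⟨c, rfl | rfl⟩
      · left; rw [h2, pow_mul, pow_two, K.zz, one_pow]
      · right; rw [h2, pow_succ, pow_mul, pow_two, K.zz, one_pow, one_mul]
    · -- `j² = z`
      have hsq : K.j ^ (2 * m') = 1 := by
        have h3 := K.A₁_sq a ha
        rw [h2] at h3
        have c3 : Commute (K.z ^ l) (K.j ^ m') := Commute.pow_pow hzj _ _
        have e : K.z ^ l * K.j ^ m' * (K.z ^ l * K.j ^ m') = (K.z ^ l * K.j ^ m') ^ 2 := (pow_two _).symm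
        rw [e, c3.mul_pow, ← pow_mul, ← pow_mul, mul_comm l, pow_mul, pow_two K.z, K.zz, one_pow, one_mul, mul_comm] at h3
        exact h3
      have hzm : K.z ^ m' = 1 := by
        rw [← hj, ← pow_two, ← pow_mul]; exact hsq
      rcases Nat.even_or_odd' m' with ⟨c, rfl | rfl⟩
      · have h4 : K.j ^ (2 * c) = K.z ^ c := by rw [pow_mul, pow_two, hj]
        rw [h4, ← pow_add] at h2
        rcases Nat.even_or_odd' (l + c) with ⟨d, hd | hd⟩
        · left; rw [h2, hd, pow_mul, pow_two, K.zz, one_pow]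
        · right; rw [h2, hd, pow_succ, pow_mul, pow_two, K.zz, one_pow, one_mul]
      · exfalso
        rw [pow_succ, pow_mul, pow_two, K.zz, one_pow, one_mul] at hzm
        exact K.z1 hzm
  have := K.fin
  let F : Bool → Y := fun b => if b then K.z else 1
  have h3 : Nat.card K.A₁ ≤ Nat.card Bool := by
    choose f hf using fun s : K.A₁ => (show ∃ b, F b = s from by
      rcases hsmall s s.2 with h | h
      · exact ⟨false, h.symm⟩
      · exact ⟨true, h.symm⟩)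
    refine Nat.card_le_card_of_injective f ?_
    intro a b hab
    exact Subtype.ext (by rw [← hf a, ← hf b, hab])
  rw [K.A₁_card, Nat.card_eq_fintype_card (α := Bool), Fintype.card_bool] at h3
  norm_num at h3

/-- **`C_Y(A₁) ≤ A₁`** -/
theorem cent_A₁ {y : Y} (hc : ∀ a ∈ K.A₁, y * a = a * y) : y ∈ K.A₁ := by
  let C : Subgroup Y := centralizer (K.A₁ : Set Y)
  have hC : ∀ {c : Y}, c ∈ C ↔ ∀ a ∈ K.A₁, c * a = a * c := by
    intro c
    rw [mem_centralizer_iff]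
    exact ⟨fun h a ha => (h a ha).symm, fun h a ha => (h a ha).symm⟩
  have hCp : IsPGroup 2 C := by
    rintro ⟨c, hc⟩
    refine ⟨4, Subtype.ext ?_⟩
    show c ^ 2 ^ 4 = 1
    have hcP : c ∈ K.P := (K.mem_P c).2 (hC.1 hc _ (z_mem_A₁ K))
    exact no5 K (pow80 K hcP) (hC.1 (pow_mem hc 16))
  have hCU : C ≤ K.U := by
    refine le_U K C hCp fun u hu c hc => hC.2 fun a ha => ?_
    have h1 : u⁻¹ * a * u ∈ K.A₁ := by
      have := K.A₁_nor u⁻¹ (inv_mem hu) a ha
      rwa [inv_inv] at this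
    have h2 := hC.1 hc _ h1
    calc u * c * u⁻¹ * a = u * (c * (u⁻¹ * a * u)) * u⁻¹ := by group
      _ = _ := by rw [h2]; group
  exact K.cent_A₁ y (hCU (hC.2 hc)) hc

end Cfsg.Agent.OddHalf.D7Tits.ZeroK
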