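import Cfsg.Agent.OddHalf.D7Tits.ZeroPack
import Cfsg.Agent.OddHalf.D7Tits.ZeroK

/-!
# D7, `K` = Tits group: the end for `c(s) = 0` (helper123; text: bb ODD 16464)

`end_zero` : `Pos`, `Th`, `P` centralises `n` and the K-fact `KE` give a contradiction. CL and OUT.
-/

set_option autoImplicit false
set_option linter.unusedSectionVars false
set_option linter.unusedVariables false

namespace Cfsg.Agent.OddHalf.D7Tits.EndZero

open Defs Subgroup ZeroBase ZeroPack ZeroK

universe u v

variable {Y : Type u} [Group Y] {G : Type v} [Group G]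

/-- the K-fact: in the Tits group `[A₁, B] ≤ ⟨z⟩` implies `|B| ≤ 2^6` -/
def KE (K : KT Y) : Prop :=
  K.j = 1 → ∀ B : Subgroup Y, (∀ u ∈ B, ∀ a ∈ K.A₁, u * a * u⁻¹ = a ∨ u * a * u⁻¹ = a * K.z) → Nat.card B ≤ 2 ^ 6

variable {K : KT Y} {i : Y →* G} {t n : G} (H : Pos K i t n) {M : Subgroup G} {m₀ : G} (P : Pk K i t M m₀)

section pk

include H P

theorem tM {m : G} (hm : m ∈ M) : t * m * t ∈ M := by
  have := P.TM t H.t_TT m hm
  rwa [H.t_inv] at this

theorem t_not : t ∉ M := by
  have := P.noT 1
  rwa [one_mul, inv_one, mul_one] at this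

theorem hz1 : i K.z ≠ 1 := z_ne H

/-- `C_M(t)` -/
theorem m₀_t : t * m₀ ≠ m₀ * t := by
  intro h
  have h1 := P.mt
  rw [h, mul_assoc, H.tt, mul_one] at h1
  exact hz1 H P (mul_left_cancel (h1.symm.trans (mul_one m₀).symm))

/-- an element of `⟨z, m₀⟩` that commutes with `t` -/
theorem V_t {x : G} (hx : InV (i K.z) m₀ x) (ht : t * x = x * t) : x = 1 ∨ x = i K.z := by
  rcases hx with h | h | h | h
  · exact Or.inl h
  · exact Or.inr h
  · exact absurd (by rwa [h] at ht) (m₀_t H P)
  · exfalso
    apply m₀_t H P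
    rw [h] at ht
    have h1 : t * m₀ * i K.z = m₀ * t * i K.z := by
      calc t * m₀ * i K.z = t * (m₀ * i K.z) := by group
        _ = m₀ * i K.z * t := ht
        _ = m₀ * (t * i K.z) := by rw [H.ti]; group
        _ = _ := by group
    exact mul_right_cancel h1

theorem card_B_ge : 2 ^ 5 ≤ Nat.card ↥(M ⊓ centralizer ({t} : Set G)) := by
  have := H.finG
  let τ : M →* M :=
    { toFun := fun m => ⟨t * m * t, tM H P m.2⟩
      map_one' := Subtype.ext (by show t * 1 * t = 1; rw [mul_one, H.tt])
      map_mul' := fun x y => Subtype.ext (by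
        show t * (x * y : G) * t = t * x * t * (t * y * t)
        calc t * (x * y : G) * t = t * x * 1 * y * t := by group
          _ = t * x * (t * t) * y * t := by rw [H.tt]
          _ = _ := by group) }
  have h1 := Count.fix_sq (fun m : M => Subtype.ext (P.sq m m.2)) τ (fun m => Subtype.ext (by
    show t * (t * (m : G) * t) * t = m
    calc t * (t * (m : G) * t) * t = (t * t) * m * (t * t) := by group
      _ = m := by rw [H.tt]; group))
  have h2 : Nat.card {q : M // τ q = q} ≤ Nat.card ↥(M ⊓ centralizer ({t} : Set G)) := by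
    refine Nat.card_le_card_of_injective (fun q => ⟨q.1.1, q.1.2, mem_centralizer_singleton_iff.2 ?_⟩) ?_
    · have h3 : t * (q.1 : G) * t = q.1 := congrArg Subtype.val q.2
      calc (q.1 : G) * t = t * (q.1 : G) * t * t := by rw [h3]
        _ = t * q.1 := by rw [mul_assoc _ t t, H.tt, mul_one]
    · intro a b hab
      have h3 : (a.1.1 : G) = b.1.1 :=
        congrArg (fun z : ↥(M ⊓ centralizer ({t} : Set G)) => (z : G)) hab
      exact Subtype.ext (Subtype.ext h3)
  rw [P.card] at h1
  by_contra hcon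
  have h3 : Nat.card {q : M // τ q = q} ≤ 31 := by omega
  have := Nat.mul_le_mul h3 h3
  omega

/-- the projection of `C_M(t)` -/
def BY (i : Y →* G) (t : G) (M : Subgroup G) (tt : t * t = 1) (ti : ∀ y, t * i y = i y * t) : Subgroup Y where
  carrier := {y | i y ∈ M ∨ t * i y ∈ M}
  one_mem' := Or.inl (by rw [map_one]; exact one_mem _)
  mul_mem' := by
    rintro a b (ha | ha) (hb | hb)
    · left; rw [map_mul]; exact mul_mem ha hb
    · right
      have := mul_mem ha hb
      have e : i a * (t * i b) = t * i (a * b) := by rw [← mul_assoc, ← ti, map_mul, mul_assoc]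
      rwa [e] at this
    · right
      have := mul_mem ha hb
      have e : t * i a * i b = t * i (a * b) := by rw [map_mul, mul_assoc]
      rwa [e] at this
    · left
      have := mul_mem ha hb
      have e : t * i a * (t * i b) = i (a * b) := by
        calc t * i a * (t * i b) = i a * (t * t) * i b := by rw [ti]; group
          _ = i (a * b) := by rw [tt, mul_one, map_mul]
      rwa [e] at this
  inv_mem' := by
    rintro a (ha | ha)
    · left; rw [map_inv]; exact inv_mem ha
    · right
      have := inv_mem ha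
      have e : (t * i a)⁻¹ = t * i a⁻¹ := by
        rw [ti, mul_inv_rev, inv_eq_of_mul_eq_one_left tt, map_inv]
      rwa [e] at this

/-- `B_Y` -/
abbrev B' (H : Pos K i t n) (M : Subgroup G) : Subgroup Y := BY i t M H.tt H.ti

theorem mem_B' {y : Y} : y ∈ B' H M ↔ i y ∈ M ∨ t * i y ∈ M := Iff.rfl

theorem card_B_le : Nat.card ↥(M ⊓ centralizer ({t} : Set G)) ≤ Nat.card (B' H M) := by
  have := K.fin
  have h1 : ∀ b : ↥(M ⊓ centralizer ({t} : Set G)), ∃ y : B' H M, (b : G) = i y ∨ (b : G) = t * i y := by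
    rintro ⟨b, hb, hbt⟩
    obtain ⟨y, hy⟩ := H.cen b (mem_centralizer_singleton_iff.1 hbt)
    rcases hy with rfl | rfl
    · exact ⟨⟨y, Or.inl hb⟩, Or.inl rfl⟩
    · exact ⟨⟨y, Or.inr hb⟩, Or.inr rfl⟩
  choose f hf using h1
  refine Nat.card_le_card_of_injective f ?_
  intro a b hab
  apply Subtype.ext
  have ha := hf a
  have hb := hf b
  rw [← hab] at hb
  rcases ha with h | h <;> rcases hb with h' | h'
  · rw [h, h']
  · exfalso
    apply t_not H P
    have := mul_mem b.2.1 (Subgroup.inv_mem _ a.2.1)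
    rwa [h', h, mul_inv_cancel_right] at this
  · exfalso
    apply t_not H P
    have := mul_mem a.2.1 (Subgroup.inv_mem _ b.2.1)
    rwa [h', h, mul_inv_cancel_right] at this
  · rw [h, h']

theorem B'_cases : B' H M = K.A ∨ B' H M = K.A₁ := by
  have := K.fin
  have hsq : ∀ a ∈ B' H M, a * a = 1 := by
    intro a ha
    apply H.inj
    rw [map_mul, map_one]
    rcases ha with h | h
    · exact P.sq _ h
    · have h1 := P.sq _ h
      calc i a * i a = t * t * i a * i a := by rw [H.tt, one_mul]
        _ = t * (t * i a) * i a := by group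
        _ = t * (i a * t) * i a := by rw [H.ti]
        _ = t * i a * (t * i a) := by group
        _ = 1 := h1
  have hU : ∀ u ∈ K.U, ∀ a ∈ B' H M, u * a * u⁻¹ ∈ B' H M := by
    intro u hu a ha
    have huT : i u ∈ TT K i t := H.mem_TT.2 ⟨u, hu, Or.inl rfl⟩
    rcases ha with h | h
    · left
      have := P.TM _ huT _ h
      rwa [← map_inv, ← map_mul, ← map_mul] at this
    · right
      have := P.TM _ huT _ h
      have e : i u * (t * i a) * (i u)⁻¹ = t * i (u * a * u⁻¹) := by
        rw [map_mul, map_mul, map_inv]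
        calc i u * (t * i a) * (i u)⁻¹ = (i u * t) * i a * (i u)⁻¹ := by group
          _ = _ := by rw [← H.ti]; group
      rwa [e] at this
  have hp : IsPGroup 2 (B' H M) := by
    rintro ⟨a, ha⟩
    refine ⟨1, Subtype.ext ?_⟩
    show a ^ 2 ^ 1 = 1
    rw [pow_one, pow_two]
    exact hsq a ha
  exact K.K2 _ (le_U K _ hp hU) hsq hU ((card_B_ge H P).trans (card_B_le H P))

theorem card_B : Nat.card ↥(M ⊓ centralizer ({t} : Set G)) ≤ 2 ^ 5 := by
  refine (card_B_le H P).trans ?_
  rcases B'_cases H P with h | h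
  · rw [h, K.card_A]
  · rw [h, K.A₁_card]

/-- `C_Λ(t)` -/
abbrev CL (H : Pos K i t n) (P : Pk K i t M m₀) : Subgroup G := P.Λ ⊓ centralizer ({t} : Set G)

theorem card_CL : 2 ^ 7 ≤ Nat.card ↥(CL H P) := by
  have := H.finG
  have h1 := P.count H.tt (H.ti _) H.t_TT
  rw [P.card] at h1
  have h2 := Nat.mul_le_mul_right (Nat.card ↥(P.Λ ⊓ centralizer ({t} : Set G))) (card_B H P)
  have h3 : Nat.card ↥(CL H P) = Nat.card ↥(P.Λ ⊓ centralizer ({t} : Set G)) := rfl
  omega

end pk

/-! ### The case `A` -/

section caseA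

variable {Θ : Subgroup G} (hΘ : Th K i t n Θ) (h0 : ∀ p ∈ K.P, i p * n = n * i p) (hA : B' H M = K.A)

include H P hΘ h0 hA

theorem A_le_M {a : Y} (ha : a ∈ K.A) : i a ∈ M := by
  have h1 : K.A ≤ M.comap i := by
    refine K.A_gen.trans ((closure_le _).2 ?_)
    rintro y (hy | ⟨k, rfl⟩)
    · rw [Set.mem_singleton_iff] at hy
      rw [hy]
      exact P.z_mem
    · have h2 : K.q k ∈ B' H M := by rw [hA]; exact K.q_A k
      rcases h2 with h2 | h2
      · exact h2
      · exfalso
        obtain ⟨g, hg⟩ := K.pt k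
        apply P.noT ((i g)⁻¹ * n * i g)
        have h3 := nv_t H g
        rw [hg] at h3
        have h4 := nv_sq H g
        have hmΘ : (i g)⁻¹ * n * i g ∈ Θ := hΘ.pt g (by rw [hg]; exact K.q_A k)
        have h5 := A_cent H hΘ (K.q_A k) hmΘ
        obtain ⟨m, hm⟩ : ∃ m, m = (i g)⁻¹ * n * i g := ⟨_, rfl⟩
        rw [← hm] at h3 h4 h5 ⊢
        have e : m * t * m⁻¹ = t * i (K.q k) := by
          rw [inv_eq_of_mul_eq_one_left h4]
          calc m * t * m = (t * t) * m * t * m := by rw [H.tt, one_mul]
            _ = t * (t * m * t) * m := by group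
            _ = t * (m * i (K.q k)) * m := by rw [h3]
            _ = t * (i (K.q k) * (m * m)) := by rw [← h5]; group
            _ = _ := by rw [h4, mul_one]
        rw [e]
        exact h2
  exact h1 ha

theorem fixM {m : G} (hm : m ∈ M) (hmt : m * t = t * m) : ∃ a ∈ K.A, m = i a := by
  obtain ⟨y, hy⟩ := H.cen m hmt
  have hyA : y ∈ K.A := by
    rw [← hA]
    rcases hy with rfl | rfl
    · exact Or.inl hm
    · exact Or.inr hm
  rcases hy with h | h
  · exact ⟨y, hyA, h⟩
  · exfalso
    apply t_not H P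
    have := mul_mem hm (inv_mem (A_le_M H P hΘ h0 hA hyA))
    rwa [h, mul_inv_cancel_right] at this

theorem dich {w : G} (hw : w ∈ M) : w ∈ Θ ∨ ∃ c, (∀ m ∈ Θ, c * m = m * c) ∧ w = t * c := by
  have hcomm : ∀ a ∈ K.A, i a * w = w * i a := fun a ha => P.ab _ (A_le_M H P hΘ h0 hA ha) _ hw
  have hw1 : t * w * t * w ∈ M := mul_mem (tM H P hw) hw
  have hw2 : t * w * t * w * t = t * (t * w * t * w) := by
    have h1 := P.ab _ (tM H P hw) _ hw
    calc t * w * t * w * t = (t * t) * t * w * t * w * t := by rw [H.tt, one_mul]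
      _ = t * t * (t * w * t * w) * t := by group
      _ = t * t * (w * (t * w * t)) * t := by rw [h1]
      _ = t * (t * w * t * w) * (t * t) := by group
      _ = _ := by rw [H.tt, mul_one]
  obtain ⟨a, ha, hwa⟩ := fixM H P hΘ h0 hA hw1 hw2
  obtain ⟨θ, hθ, hθt⟩ := hΘ.sur a ha
  have hww := P.sq w hw
  have hθθ := hΘ.sq θ hθ
  have htw : t * w * t = i a * w := by
    rw [← hwa, mul_assoc _ w w, hww, mul_one]
  have haa : i a * i a = 1 := by rw [← map_mul, K.sq_A a ha, map_one]
  have haθ := A_cent H hΘ ha hθ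
  have hc : w * θ * t = t * (w * θ) := by
    have h1 : t * (w * θ) * t = w * θ := by
      calc t * (w * θ) * t = t * w * 1 * θ * t := by group
        _ = (t * w * t) * (t * θ * t) := by rw [← H.tt]; group
        _ = i a * w * (θ * i a) := by rw [htw, hθt]
        _ = (i a * w) * (i a * θ) := by rw [haθ]
        _ = w * (i a * i a) * θ := by rw [hcomm a ha]; group
        _ = w * θ := by rw [haa, mul_one]
    calc w * θ * t = t * (w * θ) * t * t := by rw [h1]
      _ = _ := by rw [mul_assoc _ t t, H.tt, mul_one]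
  obtain ⟨y, hy⟩ := H.cen _ hc
  have hyA : ∀ b ∈ K.A, y * b = b * y := by
    intro b hb
    apply H.inj
    rw [map_mul, map_mul]
    have h1 : w * θ * i b = i b * (w * θ) := by
      calc w * θ * i b = w * (i b * θ) := by rw [A_cent H hΘ hb hθ]; group
        _ = (i b * w) * θ := by rw [hcomm b hb]; group
        _ = _ := by group
    rcases hy with h | h
    · rw [← h]; exact h1
    · rw [h] at h1
      have h2 : t * (i y * i b) = t * (i b * i y) := by
        calc t * (i y * i b) = t * i y * i b := by group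
          _ = i b * (t * i y) := h1
          _ = (i b * t) * i y := by group
          _ = _ := by rw [← H.ti]; group
      exact mul_left_cancel h2
  obtain ⟨a', ha', l, hl⟩ := K.cent_A y hyA
  have hyΘ : ∀ m ∈ Θ, i y * m = m * i y := by
    intro m hm
    have h1 : Commute m (i K.j) := hΘ.nj m hm
    have h2 : Commute m (i K.j ^ l) := h1.pow_right l
    have h3 : Commute m (i a') := (A_cent H hΘ ha' hm).symm
    rw [hl, map_mul, map_pow]
    exact (h3.mul_right h2).symm
  rcases hy with h | h
  · left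
    have hwy : w = i y * θ := by rw [← h, mul_assoc, hθθ, mul_one]
    have hyy : i y * i y = 1 := by
      calc i y * i y = i y * (θ * θ) * i y := by rw [hθθ, mul_one]
        _ = i y * θ * (θ * i y) := by group
        _ = i y * θ * (i y * θ) := by rw [hyΘ θ hθ]
        _ = 1 := by rw [← hwy]; exact hww
    have hyy' : y * y = 1 := by
      apply H.inj
      rw [map_mul, hyy, map_one]
    -- `y ∈ A`
    have hyA' : y ∈ K.A := by
      rcases K.j_or with hj | ⟨hj, -⟩
      · rw [hj, one_pow, mul_one] at hl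
        rw [hl]; exact ha'
      · have hzj : K.j ^ 2 = K.z := by rw [pow_two, hj]
        have haj : Commute a' (K.j) := by
          have h1 : i a' * i K.j = i K.j * i a' := hΘ.nj _ (hΘ.A_le ⟨_, ha', rfl⟩)
          rw [← map_mul, ← map_mul] at h1
          exact H.inj h1
        have h1 : K.j ^ (2 * l) = 1 := by
          have h2 : (a' * K.j ^ l) ^ 2 = 1 := by rw [← hl, pow_two, hyy']
          rw [(haj.pow_right l).mul_pow, pow_two a', K.sq_A a' ha', one_mul, ← pow_mul, mul_comm] at h2
          exact h2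
        rw [pow_mul, hzj] at h1
        rcases Nat.even_or_odd' l with ⟨c, rfl | rfl⟩
        · rw [hl, pow_mul, hzj]
          exact mul_mem ha' (pow_mem K.z_A c)
        · exfalso
          rw [pow_succ, pow_mul, pow_two, K.zz, one_pow, one_mul] at h1
          exact K.z1 h1
    rw [hwy]
    exact mul_mem (hΘ.A_le ⟨_, hyA', rfl⟩) hθ
  · right
    refine ⟨i y * θ, fun m hm => ?_, ?_⟩
    · calc i y * θ * m = i y * (θ * m) := by group
        _ = i y * m * θ := by rw [hΘ.ab θ hθ m hm]; group
        _ = m * (i y * θ) := by rw [hyΘ m hm]; group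
    · calc w = w * θ * θ := by rw [mul_assoc, hθθ, mul_one]
        _ = t * i y * θ := by rw [h]
        _ = _ := by group

theorem M_le : M ≤ Θ := by
  have := K.fin
  have := H.finG
  intro w₀ hw₀
  by_contra hn
  have hno : ¬ ∀ m ∈ Θ, t * m = m * t := by
    intro h
    have h1 := h n hΘ.n_mem
    have h2 := H.nt
    rw [h1, mul_assoc, H.tt, mul_one] at h2
    exact z_ne H (mul_left_cancel (h2.symm.trans (mul_one n).symm))
  obtain ⟨c₀, hc₀, hw₀c⟩ := (dich H P hΘ h0 hA hw₀).resolve_left hn
  have hcom : ∀ m ∈ M, m ∈ Θ → ∃ a ∈ K.A, m = i a := by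
    intro m hm hmΘ
    refine fixM H P hΘ h0 hA hm ?_
    have h1 := P.ab m hm w₀ hw₀
    rw [hw₀c] at h1
    have h2 := hc₀ m hmΘ
    have h3 : m * t * c₀ = t * m * c₀ := by
      calc m * t * c₀ = m * (t * c₀) := by group
        _ = t * c₀ * m := h1
        _ = t * (c₀ * m) := by group
        _ = _ := by rw [h2]; group
    exact mul_right_cancel h3
  have hcov : ∀ m ∈ M, m ∉ Θ → ∃ a ∈ K.A, m = i a * w₀ := by
    intro m hm hmΘ
    obtain ⟨c, hc, hmc⟩ := (dich H P hΘ h0 hA hm).resolve_left hmΘ
    have hmw := mul_mem hm hw₀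
    have hcc : ∀ x ∈ Θ, m * w₀ * x = x * (m * w₀) := by
      intro x hx
      have hx' := hΘ.nt x hx
      rw [hmc, hw₀c]
      calc t * c * (t * c₀) * x = t * c * t * (c₀ * x) := by group
        _ = t * c * t * x * c₀ := by rw [hc₀ x hx]; group
        _ = t * c * (t * x * t) * (t * c₀) := by
          calc t * c * t * x * c₀ = t * c * t * x * (t * t) * c₀ := by rw [H.tt, mul_one]
            _ = _ := by group
        _ = t * (c * (t * x * t)) * (t * c₀) := by group
        _ = t * t * x * t * c * (t * c₀) := by rw [hc _ hx']; group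
        _ = x * (t * c * (t * c₀)) := by rw [H.tt]; group
    have h1 : m * w₀ ∈ Θ := by
      rcases dich H P hΘ h0 hA hmw with h | ⟨c₂, hc₂, h⟩
      · exact h
      · exfalso
        apply hno
        intro x hx
        have h2 := hcc x hx
        rw [h] at h2
        have h3 : t * x * c₂ = x * t * c₂ := by
          calc t * x * c₂ = t * (c₂ * x) := by rw [hc₂ x hx]; group
            _ = t * c₂ * x := by group
            _ = x * (t * c₂) := h2
            _ = _ := by group
        exact mul_right_cancel h3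
    obtain ⟨a, ha, h2⟩ := hcom _ hmw h1
    refine ⟨a, ha, ?_⟩
    rw [← h2, mul_assoc, P.sq w₀ hw₀, mul_one]
  let F : K.A × Bool → G := fun p => if p.2 then i p.1 * w₀ else i p.1
  have h1 := card_le_of_cover F M (by
    intro m hm
    by_cases h : m ∈ Θ
    · obtain ⟨a, ha, h2⟩ := hcom m hm h
      exact ⟨(⟨a, ha⟩, false), h2.symm⟩
    · obtain ⟨a, ha, h2⟩ := hcov m hm h
      exact ⟨(⟨a, ha⟩, true), h2.symm⟩)
  rw [Nat.card_prod, P.card, K.card_A, Nat.card_eq_fintype_card (α := Bool), Fintype.card_bool] at h1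
  norm_num at h1

theorem M_eq : M = Θ := by
  have := H.finG
  exact Subgroup.eq_of_le_of_card_ge (M_le H P hΘ h0 hA) (by rw [P.card, hΘ.card])

theorem move (k : ZMod 5) : ∃ u ∈ K.Q, u * K.q k * u⁻¹ = K.q k * K.z := by
  have hz : ∀ y : Y, y ∈ K.P → y⁻¹ * K.z * y = K.z := by
    intro y hy
    rw [mul_assoc, ← (K.mem_P y).1 hy]; group
  -- `r` moves `q 0`, so a conjugate of `r` moves `q k`
  have hrr : K.r * K.q 0 * K.r⁻¹ = K.q 0 * K.z := by
    have h1 := K.q_Q K.r⁻¹ (inv_mem K.r_Q) 0
    rw [inv_inv] at h1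
    rcases h1 with h1 | h1
    · exfalso
      have h2 := K.r0
      have h3 : K.r⁻¹ * K.q 0 * K.r = K.q 0 := by
        calc K.r⁻¹ * K.q 0 * K.r = K.r⁻¹ * (K.r * K.q 0 * K.r⁻¹) * K.r := by rw [h1]
          _ = _ := by group
      rw [h3] at h2
      exact K.z1 (mul_left_cancel (h2.symm.trans (mul_one _).symm))
    · exact h1
  have hk : ∀ m : ℕ, ∃ u ∈ K.Q, u * K.q (m : ZMod 5) * u⁻¹ = K.q (m : ZMod 5) * K.z := by
    intro m
    induction m with
    | zero => exact ⟨K.r, K.r_Q, by rw [Nat.cast_zero]; exact hrr⟩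
    | succ m ih =>
      obtain ⟨u, hu, h⟩ := ih
      have hxP : K.x ∈ K.P := K.E_le_P K.x_E
      refine ⟨K.x⁻¹ * u * K.x, ?_, ?_⟩
      · have := K.nor_Q K.x⁻¹ (inv_mem hxP) u hu
        rwa [inv_inv] at this
      · have h1 : K.q ((m + 1 : ℕ) : ZMod 5) = K.x⁻¹ * K.q (m : ZMod 5) * K.x := by
          rw [K.q_x]; push_cast; rfl
        rw [h1]
        calc K.x⁻¹ * u * K.x * (K.x⁻¹ * K.q (m : ZMod 5) * K.x) * (K.x⁻¹ * u * K.x)⁻¹
            = K.x⁻¹ * (u * K.q (m : ZMod 5) * u⁻¹) * K.x := by group
          _ = K.x⁻¹ * (K.q (m : ZMod 5) * K.z) * K.x := by rw [h]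
          _ = K.x⁻¹ * K.q (m : ZMod 5) * K.x * (K.x⁻¹ * K.z * K.x) := by group
          _ = _ := by rw [hz _ hxP]
  have h1 := hk k.val
  have h2 : ((k.val : ℕ) : ZMod 5) = k := ZMod.natCast_zmod_val k
  rwa [h2] at h1

theorem caseA (hne : M = Θ → m₀ ≠ n ∧ m₀ ≠ n * i K.z) : False := by
  have := K.fin
  have := H.finG
  have hMΘ := M_eq H P hΘ h0 hA
  obtain ⟨hn1, hn2⟩ := hne hMΘ
  have hzc : ∀ p ∈ K.P, i p * i K.z = i K.z * i p := fun p hp => by rw [← map_mul, (K.mem_P p).1 hp, map_mul]
  have key : ∀ x ∈ CL H P, ∃ a ∈ K.A, x = i a ∨ x = i a * i K.j := by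
    rintro x ⟨hxΛ, hxt⟩
    have hxt' : x * t = t * x := mem_centralizer_singleton_iff.1 hxt
    obtain ⟨hx1, hx2, hx3, hx4⟩ := mem_Lam.1 hxΛ
    obtain ⟨y, hy⟩ := H.cen x hxt'
    have hyP : y ∈ K.P := by
      rw [K.mem_P]
      apply H.inj
      rw [map_mul, map_mul]
      rcases hy with h | h
      · rw [← h]; exact hx2
      · rw [h] at hx2
        have h2 : t * (i y * i K.z) = t * (i K.z * i y) := by
          calc t * (i y * i K.z) = t * i y * i K.z := by group
            _ = i K.z * (t * i y) := hx2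
            _ = (i K.z * t) * i y := by group
            _ = _ := by rw [← H.ti]; group
        exact mul_left_cancel h2
    -- `x b x⁻¹ = i (y b y⁻¹)`
    have hxy : ∀ b : Y, x * i b * x⁻¹ = i (y * b * y⁻¹) := by
      intro b
      rw [map_mul, map_mul, map_inv]
      rcases hy with h | h
      · rw [h]
      · rw [h]
        calc t * i y * i b * (t * i y)⁻¹ = t * (i y * i b * (i y)⁻¹) * t⁻¹ := by group
          _ = t * i (y * b * y⁻¹) * t := by rw [H.t_inv, map_mul, map_mul, map_inv]
          _ = i (y * b * y⁻¹) * (t * t) := by rw [H.ti]; group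
          _ = _ := by rw [H.tt, mul_one, map_mul, map_mul, map_inv]
    have hyA : ∀ a ∈ K.A, y * a * y⁻¹ = a ∨ y * a * y⁻¹ = a * K.z := by
      intro a ha
      have h1 := hx4 _ (A_le_M H P hΘ h0 hA ha)
      rw [hxy a, ← map_inv, ← map_mul] at h1
      rcases V_t H P h1 (H.ti _) with h2 | h2
      · left
        have h3 : y * a * y⁻¹ * a⁻¹ = 1 := H.inj (by rw [h2, map_one])
        exact mul_inv_eq_one.1 h3
      · right
        have h3 : y * a * y⁻¹ * a⁻¹ = K.z := H.inj h2
        have h4 : a * K.z = K.z * a := (K.mem_P a).1 (K.E_le_P (K.Q_le_E (K.A_le_Q ha)))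
        rw [h4, ← h3]; group
    have hyn := h0 y hyP
    -- some point is fixed
    have hfix : ∃ k : ZMod 5, y * K.q k * y⁻¹ = K.q k := by
      by_contra hcon
      push Not at hcon
      have hall : ∀ k, y * K.q k * y⁻¹ = K.q k * K.z := fun k => (hyA _ (K.q_A k)).resolve_left (hcon k)
      have hqz : ∀ k, K.q k * K.z = K.z * K.q k := fun k =>
        (K.mem_P _).1 (K.E_le_P (K.Q_le_E (K.A_le_Q (K.q_A k))))
      have h1 : y * (K.q 0 * K.q 1 * K.q 2 * K.q 3 * K.q 4) * y⁻¹ =
          (y * K.q 0 * y⁻¹) * (y * K.q 1 * y⁻¹) * (y * K.q 2 * y⁻¹) * (y * K.q 3 * y⁻¹) * (y * K.q 4 * y⁻¹) := by group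
      have hab : ∀ (a : Y) (k : ZMod 5), a * K.z * (K.q k * K.z) = a * K.q k := by
        intro a k
        calc a * K.z * (K.q k * K.z) = a * (K.z * K.q k) * K.z := by group
          _ = a * K.q k * (K.z * K.z) := by rw [← hqz]; group
          _ = a * K.q k := by rw [K.zz, mul_one]
      rw [hall, hall, hall, hall, hall, K.q_prod] at h1
      have h2 : K.q 0 * K.z * (K.q 1 * K.z) * (K.q 2 * K.z) * (K.q 3 * K.z) * (K.q 4 * K.z) =
          K.q 0 * K.q 1 * K.q 2 * K.q 3 * K.q 4 * K.z := by
        rw [hab, ← mul_assoc (K.q 0 * K.q 1), hab, ← mul_assoc]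
      rw [h2, K.q_prod, mul_one, mul_inv_cancel, one_mul] at h1
      exact K.z1 h1.symm
    -- `x = i y`
    have hxiy : x = i y := by
      rcases hy with h | h
      · exact h
      · exfalso
        obtain ⟨k, hk⟩ := hfix
        obtain ⟨g, hg⟩ := K.pt k
        have h1 : y * (g⁻¹ * K.z * g) = g⁻¹ * K.z * g * y := by
          rw [hg]
          calc y * K.q k = y * K.q k * y⁻¹ * y := by group
            _ = _ := by rw [hk]
        have h2 := nv_comm H h0 h1
        have h3 := nv_t H g
        rw [hg] at h3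
        have hmΘ : (i g)⁻¹ * n * i g ∈ Θ := hΘ.pt g (by rw [hg]; exact K.q_A k)
        have h4 := A_cent H hΘ (K.q_A k) hmΘ
        have h5 := hx4 _ (by rw [hMΘ]; exact hmΘ)
        obtain ⟨m, hm⟩ : ∃ m, m = (i g)⁻¹ * n * i g := ⟨_, rfl⟩
        rw [← hm] at h2 h3 h4 h5
        have h6 : x * m * x⁻¹ * m⁻¹ = i (K.q k) := by
          rw [h]
          calc t * i y * m * (t * i y)⁻¹ * m⁻¹ = t * (i y * m) * (i y)⁻¹ * t⁻¹ * m⁻¹ := by group
            _ = t * m * t * m⁻¹ := by rw [h2, H.t_inv]; group
            _ = i (K.q k) := by rw [h3, ← h4]; group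
        rw [h6] at h5
        obtain ⟨u, hu, hu'⟩ := move H P hΘ h0 hA k
        rcases V_t H P h5 (H.ti _) with h7 | h7
        · have h8 : K.q k = 1 := H.inj (by rw [h7, map_one])
          rw [h8, mul_one, mul_inv_cancel, one_mul] at hu'
          exact K.z1 hu'.symm
        · have h8 : K.q k = K.z := H.inj h7
          rw [h8, (K.mem_P u).1 (K.E_le_P (K.Q_le_E hu)), mul_inv_cancel_right, K.zz] at hu'
          exact K.z1 hu'
    -- `y` fixes all points
    have hfixall : ∀ k : ZMod 5, y * K.q k * y⁻¹ = K.q k := by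
      intro k
      rcases hyA _ (K.q_A k) with h | h
      · exact h
      · exfalso
        obtain ⟨u, hu, hu'⟩ := move H P hΘ h0 hA k
        obtain ⟨g, hg⟩ := K.pt k
        have huP := K.E_le_P (K.Q_le_E hu)
        have hmΘ : (i g)⁻¹ * n * i g ∈ Θ := hΘ.pt g (by rw [hg]; exact K.q_A k)
        have h1 := Q_pt H hΘ h0 hu k hg
        have hmm := nv_sq H g
        have hyz : y * K.z = K.z * y := (K.mem_P y).1 hyP
        have h2 : (y * u) * (g⁻¹ * K.z * g) = g⁻¹ * K.z * g * (y * u) := by
          rw [hg]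
          calc y * u * K.q k = y * (u * K.q k * u⁻¹) * u := by group
            _ = (y * K.q k * y⁻¹) * (y * K.z) * u := by rw [hu']; group
            _ = K.q k * (K.z * (K.z * y)) * u := by rw [h, hyz]; group
            _ = K.q k * (K.z * K.z) * y * u := by group
            _ = _ := by rw [K.zz]; group
        have h3 := nv_comm H h0 h2
        have h4 := hx4 _ (by rw [hMΘ]; exact hmΘ)
        have hcΘ := hΘ.nP u huP _ hmΘ
        obtain ⟨m, hm⟩ : ∃ m, m = (i g)⁻¹ * n * i g := ⟨_, rfl⟩
        rw [← hm] at h1 h3 h4 hmm hmΘ hcΘ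
        rw [hxiy] at h4
        -- `n' = (u m u⁻¹) m ∈ {n, n z}`
        obtain ⟨n', hn', hn'⟩ : ∃ n', n' = i u * m * (i u)⁻¹ * m ∧ (n' = n ∨ n' = n * i K.z) := by
          refine ⟨_, rfl, ?_⟩
          rcases h1 with ⟨h5, -⟩ | ⟨-, h5⟩
          · exfalso
            rw [hu'] at h5
            exact K.z1 (mul_left_cancel (h5.trans (mul_one _).symm))
          · exact h5
        have hyn' : i y * n' = n' * i y := by
          rcases hn' with h5 | h5
          · rw [h5]; exact hyn
          · rw [h5, ← mul_assoc, hyn, mul_assoc, hzc y hyP, mul_assoc]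
        have hn'n' : n' * n' = 1 := by
          rcases hn' with h5 | h5
          · rw [h5]; exact H.nn
          · rw [h5]
            calc n * i K.z * (n * i K.z) = n * (i K.z * n) * i K.z := by group
              _ = (n * n) * (i K.z * i K.z) := by rw [← H.nz]; group
              _ = 1 := by rw [H.nn, zz H, mul_one]
        have h5 : i u * m * (i u)⁻¹ = n' * m := by
          rw [‹n' = i u * m * (i u)⁻¹ * m›, mul_assoc _ m m, hmm, mul_one]
        have h6 : i y * (n' * m) * (i y)⁻¹ = m := by
          rw [← h5]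
          rw [map_mul] at h3
          calc i y * (i u * m * (i u)⁻¹) * (i y)⁻¹ = (i y * i u * m) * (i u)⁻¹ * (i y)⁻¹ := by group
            _ = _ := by rw [h3]; group
        have h7 : i y * m * (i y)⁻¹ * m⁻¹ = n' := by
          have h8 : n' * (i y * m * (i y)⁻¹) = m := by
            calc n' * (i y * m * (i y)⁻¹) = (n' * i y) * m * (i y)⁻¹ := by group
              _ = (i y * n') * m * (i y)⁻¹ := by rw [hyn']
              _ = i y * (n' * m) * (i y)⁻¹ := by group
              _ = m := h6
          calc i y * m * (i y)⁻¹ * m⁻¹ = (n' * n') * (i y * m * (i y)⁻¹) * m⁻¹ := by rw [hn'n', one_mul]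
            _ = n' * (n' * (i y * m * (i y)⁻¹)) * m⁻¹ := by group
            _ = n' * m * m⁻¹ := by rw [h8]
            _ = n' := by group
        rw [h7] at h4
        have hnt : t * n ≠ n * t := by
          intro h8
          have h9 := H.nt
          rw [h8, mul_assoc, H.tt, mul_one] at h9
          exact z_ne H (mul_left_cancel (h9.symm.trans (mul_one n).symm))
        have hn't : t * n' ≠ n' * t := by
          rcases hn' with h8 | h8
          · rw [h8]; exact hnt
          · rw [h8]
            intro h9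
            apply hnt
            have h10 : t * n * i K.z = n * t * i K.z := by
              calc t * n * i K.z = t * (n * i K.z) := by group
                _ = n * i K.z * t := h9
                _ = n * (t * i K.z) := by rw [H.ti]; group
                _ = _ := by group
            exact mul_right_cancel h10
        rcases h4 with h8 | h8 | h8 | h8
        · apply hn't; rw [h8, mul_one, one_mul]
        · apply hn't; rw [h8]; exact H.ti _
        · rcases hn' with h9 | h9
          · exact hn1 (h8.symm.trans h9)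
          · exact hn2 (h8.symm.trans h9)
        · rcases hn' with h9 | h9
          · apply hn2
            rw [← h9, h8, mul_assoc, zz H, mul_one]
          · apply hn1
            exact mul_right_cancel (h8.symm.trans h9)
    -- `y` centralises `A`
    have hyc : ∀ a ∈ K.A, y * a = a * y := by
      have h1 : K.A ≤ centralizer ({y} : Set Y) := by
        refine K.A_gen.trans ((closure_le _).2 ?_)
        rintro b (hb | ⟨k, rfl⟩)
        · rw [Set.mem_singleton_iff] at hb
          rw [hb]
          exact mem_centralizer_singleton_iff.2 ((K.mem_P y).1 hyP).symm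
        · refine mem_centralizer_singleton_iff.2 ?_
          calc K.q k * y = (y * K.q k * y⁻¹) * y := by rw [hfixall k]
            _ = _ := by group
      intro a ha
      exact (mem_centralizer_singleton_iff.1 (h1 ha)).symm
    obtain ⟨a, ha, l, hl⟩ := K.cent_A y hyc
    rw [hxiy, hl]
    rcases K.j_or with hj | ⟨hj, -⟩
    · exact ⟨a, ha, Or.inl (by rw [hj, one_pow, mul_one])⟩
    · have hzj : K.j ^ 2 = K.z := by rw [pow_two, hj]
      rcases Nat.even_or_odd' l with ⟨c, rfl | rfl⟩
      · exact ⟨a * K.z ^ c, mul_mem ha (pow_mem K.z_A c), Or.inl (by rw [pow_mul, hzj])⟩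
      · exact ⟨a * K.z ^ c, mul_mem ha (pow_mem K.z_A c), Or.inr (by
          rw [pow_succ, pow_mul, hzj, ← map_mul, mul_assoc])⟩
  let F : K.A × Bool → G := fun p => if p.2 then i p.1 * i K.j else i p.1
  have h1 := card_le_of_cover F (CL H P) (by
    intro x hx
    obtain ⟨a, ha, h | h⟩ := key x hx
    · exact ⟨(⟨a, ha⟩, false), h.symm⟩
    · exact ⟨(⟨a, ha⟩, true), h.symm⟩)
  rw [Nat.card_prod, K.card_A, Nat.card_eq_fintype_card (α := Bool), Fintype.card_bool] at h1
  have h2 := card_CL H P
  omega

end caseA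

/-! ### The case `A₁` -/

section caseA₁

variable (hA : B' H M = K.A₁)

include H P hA

/-- an element of `C(t) ∩ C(M)` is in `M ∪ t M` -/
theorem cent_cases {x : G} (hxt : x * t = t * x) (hxM : ∀ m ∈ M, x * m = m * x) : x ∈ M := by
  obtain ⟨y, hy⟩ := H.cen x hxt
  have hyA : ∀ a ∈ K.A₁, y * a = a * y := by
    intro a ha
    apply H.inj
    rw [map_mul, map_mul]
    have ha' : a ∈ B' H M := by rw [hA]; exact ha
    have h1 : x * i a = i a * x := by
      rcases ha' with h | h
      · exact hxM _ h
      · have h2 := hxM _ h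
        have h3 : t * (x * i a) = t * (i a * x) := by
          calc t * (x * i a) = (t * x) * i a := by group
            _ = x * (t * i a) := by rw [← hxt]; group
            _ = t * i a * x := h2
            _ = _ := by group
        exact mul_left_cancel h3
    rcases hy with h | h
    · rw [← h]; exact h1
    · rw [h] at h1
      have h2 : t * (i y * i a) = t * (i a * i y) := by
        calc t * (i y * i a) = t * i y * i a := by group
          _ = i a * (t * i y) := h1
          _ = (i a * t) * i y := by group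
          _ = _ := by rw [← H.ti]; group
      exact mul_left_cancel h2
  have hyA₁ := ZeroK.cent_A₁ K hyA
  have hyB : y ∈ B' H M := by rw [hA]; exact hyA₁
  have hno : ¬ (t * x ∈ M) := by
    intro h
    apply m₀_t H P
    have h1 := P.ab _ h _ P.m_mem
    have h2 := hxM _ P.m_mem
    have h3 : t * m₀ * x = m₀ * t * x := by
      calc t * m₀ * x = t * (x * m₀) := by rw [h2]; group
        _ = t * x * m₀ := by group
        _ = m₀ * (t * x) := h1
        _ = _ := by group
    exact mul_right_cancel h3
  rcases hy with h | h <;> rcases hyB with h' | h'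
  · rw [h]; exact h'
  · exact absurd (by rw [h]; exact h') hno
  · exfalso
    apply hno
    rw [h, ← mul_assoc, H.tt, one_mul]
    exact h'
  · rw [h]; exact h'

theorem caseOut (hj : K.j ≠ 1) : False := by
  have := H.finG
  obtain ⟨j', hj', hjz⟩ := P.jj hj
  set C := centralizer (M : Set G) with hC
  have hCm : ∀ {c : G}, c ∈ C ↔ ∀ m ∈ M, c * m = m * c := by
    intro c
    rw [hC, mem_centralizer_iff]
    exact ⟨fun h a ha => (h a ha).symm, fun h a ha => (h a ha).symm⟩
  have hMC : M ≤ C := fun m hm => hCm.2 fun a ha => P.ab m hm a ha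
  have htC : ∀ c ∈ C, t * c * t ∈ C := by
    intro c hc
    refine hCm.2 fun m hm => ?_
    have h1 := hCm.1 hc _ (tM H P hm)
    calc t * c * t * m = t * c * t * m * (t * t) := by rw [H.tt, mul_one]
      _ = t * (c * (t * m * t)) * t := by group
      _ = t * t * m * (t * c * t) := by rw [h1]; group
      _ = _ := by rw [H.tt, one_mul]
  have hN : (M.subgroupOf C).Normal := ⟨fun m hm x => by
    rw [mem_subgroupOf] at hm ⊢
    have h1 := hCm.1 x.2 _ hm
    show (x : G) * m * (x : G)⁻¹ ∈ M
    rw [h1, mul_inv_cancel_right]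
    exact hm⟩
  let cj : C →* C :=
    { toFun := fun x => ⟨t * x * t, htC x x.2⟩
      map_one' := Subtype.ext (by show t * 1 * t = 1; rw [mul_one, H.tt])
      map_mul' := fun x y => Subtype.ext (by
        show t * (x * y : G) * t = t * x * t * (t * y * t)
        calc t * (x * y : G) * t = t * x * 1 * y * t := by group
          _ = t * x * (t * t) * y * t := by rw [H.tt]
          _ = _ := by group) }
  let τ : (C ⧸ M.subgroupOf C) →* (C ⧸ M.subgroupOf C) := QuotientGroup.map _ _ cj (fun c hc => tM H P hc)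
  have hτ : ∀ q, τ (τ q) = q := by
    intro q
    obtain ⟨x, rfl⟩ := QuotientGroup.mk_surjective q
    show (QuotientGroup.mk (cj (cj x)) : C ⧸ M.subgroupOf C) = QuotientGroup.mk x
    congr 1
    apply Subtype.ext
    show t * (t * (x : G) * t) * t = x
    calc t * (t * (x : G) * t) * t = (t * t) * x * (t * t) := by group
      _ = x := by rw [H.tt]; group
  have h2 : 2 ∣ Nat.card (C ⧸ M.subgroupOf C) := by
    have h3 : orderOf (QuotientGroup.mk (⟨j', hj'⟩ : C) : C ⧸ M.subgroupOf C) = 2 := by
      refine orderOf_eq_prime ?_ ?_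
      · rw [pow_two]
        show (QuotientGroup.mk ((⟨j', hj'⟩ : C) * ⟨j', hj'⟩) : C ⧸ M.subgroupOf C) = 1
        rw [QuotientGroup.eq_one_iff, mem_subgroupOf]
        show j' * j' ∈ M
        rw [hjz]; exact P.z_mem
      · intro h
        rw [QuotientGroup.eq_one_iff, mem_subgroupOf] at h
        have h4 : j' ∈ M := h
        have h5 := P.sq _ h4
        rw [hjz] at h5
        exact z_ne H h5
    rw [← h3]
    exact orderOf_dvd_natCard _
  obtain ⟨q, hq1, hq⟩ := invol_fixed τ hτ h2 1 (map_one τ)
  obtain ⟨⟨x, hx⟩, rfl⟩ := QuotientGroup.mk_surjective q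
  have hxM : x ∉ M := by
    intro h
    apply hq1
    exact (QuotientGroup.eq_one_iff _).2 h
  have hxt : (t * x * t)⁻¹ * x ∈ M := by
    have h3 : (QuotientGroup.mk (cj ⟨x, hx⟩) : C ⧸ M.subgroupOf C) = QuotientGroup.mk ⟨x, hx⟩ := hq
    have h4 := QuotientGroup.eq.1 h3
    exact h4
  -- `t x t = x m`
  obtain ⟨m, hm⟩ : ∃ m, m = (t * x * t)⁻¹ * x := ⟨_, rfl⟩
  rw [← hm] at hxt
  have hmm := P.sq m hxt
  have htx : t * x * t = x * m := by
    have : x = t * x * t * m := by rw [hm]; group
    calc t * x * t = t * x * t * (m * m) := by rw [hmm, mul_one]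
      _ = (t * x * t * m) * m := by group
      _ = x * m := by rw [← this]
  have hmt : m * t = t * m := by
    have h3 : x = x * m * (t * m * t) := by
      calc x = (t * t) * x * (t * t) := by rw [H.tt]; group
        _ = t * (t * x * t) * t := by group
        _ = t * (x * m) * t := by rw [htx]
        _ = t * x * (t * t) * m * t := by rw [H.tt]; group
        _ = (t * x * t) * (t * m * t) := by group
        _ = _ := by rw [htx]
    have h4 : m * (t * m * t) = 1 := by
      have h5 : x * (m * (t * m * t)) = x * 1 := by rw [mul_one, ← mul_assoc]; exact h3.symm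
      exact mul_left_cancel h5
    have h6 : t * m * t = m := by
      calc t * m * t = (m * m) * (t * m * t) := by rw [hmm, one_mul]
        _ = m * (m * (t * m * t)) := by group
        _ = m := by rw [h4, mul_one]
    calc m * t = (t * m * t) * t := by rw [h6]
      _ = _ := by rw [mul_assoc, H.tt, mul_one]
  -- `[M, t] = C_M(t)`
  let f : M →* G :=
    { toFun := fun w => w * (t * w * t)
      map_one' := by show (1 : G) * (t * 1 * t) = 1; rw [mul_one, H.tt, mul_one]
      map_mul' := fun a b => by
        have h3 := P.ab _ b.2 _ (tM H P a.2)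
        show (a * b : G) * (t * (a * b : G) * t) = a * (t * a * t) * (b * (t * b * t))
        calc (a * b : G) * (t * (a * b : G) * t) = a * b * (t * a * 1 * b * t) := by group
          _ = a * (b * (t * a * t)) * (t * b * t) := by rw [← H.tt]; group
          _ = _ := by rw [h3]; group }
  have hrange : f.range ≤ M ⊓ centralizer ({t} : Set G) := by
    rintro _ ⟨w, rfl⟩
    refine ⟨mul_mem w.2 (tM H P w.2), mem_centralizer_singleton_iff.2 ?_⟩
    show (w : G) * (t * w * t) * t = t * (w * (t * w * t))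
    have h3 := P.ab _ w.2 _ (tM H P w.2)
    calc (w : G) * (t * w * t) * t = w * t * w * (t * t) := by group
      _ = w * t * w := by rw [H.tt, mul_one]
      _ = (t * t) * w * t * w := by rw [H.tt, one_mul]
      _ = t * ((t * w * t) * w) := by group
      _ = _ := by rw [← h3]
  have hker : Nat.card f.ker ≤ Nat.card ↥(M ⊓ centralizer ({t} : Set G)) := by
    refine Nat.card_le_card_of_injective (fun w => ⟨w.1.1, w.1.2, mem_centralizer_singleton_iff.2 ?_⟩) ?_
    · have h3 : (w.1 : G) * (t * w.1 * t) = 1 := w.2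
      have h4 := P.sq _ w.1.2
      have h5 : t * (w.1 : G) * t = w.1 := by
        calc t * (w.1 : G) * t = ((w.1 : G) * w.1) * (t * w.1 * t) := by rw [h4, one_mul]
          _ = w.1 * (w.1 * (t * w.1 * t)) := by group
          _ = w.1 := by rw [h3, mul_one]
      calc (w.1 : G) * t = (t * (w.1 : G) * t) * t := by rw [h5]
        _ = _ := by rw [mul_assoc _ t t, H.tt, mul_one]
    · intro a b hab
      have h3 : (a.1.1 : G) = b.1.1 :=
        congrArg (fun z : ↥(M ⊓ centralizer ({t} : Set G)) => (z : G)) hab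
      exact Subtype.ext (Subtype.ext h3)
  have hcard : Nat.card f.ker * Nat.card f.range = Nat.card M := by
    rw [← Subgroup.index_ker]
    exact f.ker.card_mul_index
  have hB := card_B H P
  have hr : 2 ^ 5 ≤ Nat.card f.range := by
    rw [P.card] at hcard
    by_contra hcon
    have h3 : Nat.card f.range ≤ 31 := by omega
    have := Nat.mul_le_mul (hker.trans hB) h3
    omega
  have hreq : f.range = M ⊓ centralizer ({t} : Set G) := Subgroup.eq_of_le_of_card_ge hrange (hB.trans hr)
  have hmB : m ∈ M ⊓ centralizer ({t} : Set G) := ⟨hxt, mem_centralizer_singleton_iff.2 hmt⟩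
  rw [← hreq] at hmB
  obtain ⟨w, hw⟩ := hmB
  have hw' : (w : G) * (t * w * t) = m := hw
  have hxw : x * w * t = t * (x * w) := by
    have h3 : t * (x * w) * t = x * w := by
      have h4 := P.sq _ (tM H P w.2)
      calc t * (x * w) * t = t * x * 1 * w * t := by group
        _ = (t * x * t) * (t * w * t) := by rw [← H.tt]; group
        _ = x * (w * (t * w * t)) * (t * w * t) := by rw [htx, ← hw']
        _ = x * w * (t * w * t * (t * w * t)) := by group
        _ = x * w := by rw [h4, mul_one]
    calc x * w * t = t * (x * w) * t * t := by rw [h3]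
      _ = _ := by rw [mul_assoc _ t t, H.tt, mul_one]
  have hxwC : x * w ∈ C := mul_mem hx (hMC w.2)
  have h3 := cent_cases H P hA hxw (hCm.1 hxwC)
  apply hxM
  have := mul_mem h3 (inv_mem w.2)
  rwa [mul_inv_cancel_right] at this

theorem caseCl (hKE : KE K) (hj : K.j = 1) : False := by
  have := K.fin
  have := H.finG
  have htΛ : t ∉ P.Λ := by
    intro h
    exact m₀_t H P (mem_Lam.1 h).2.2.1
  let D : Subgroup Y := BY i t P.Λ H.tt H.ti
  have hD : ∀ {y}, y ∈ D ↔ i y ∈ P.Λ ∨ t * i y ∈ P.Λ := Iff.rfl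
  have h1 : Nat.card ↥(CL H P) ≤ Nat.card D := by
    have h1 : ∀ b : ↥(CL H P), ∃ y : D, (b : G) = i y ∨ (b : G) = t * i y := by
      rintro ⟨b, hb, hbt⟩
      obtain ⟨y, hy⟩ := H.cen b (mem_centralizer_singleton_iff.1 hbt)
      rcases hy with rfl | rfl
      · exact ⟨⟨y, Or.inl hb⟩, Or.inl rfl⟩
      · exact ⟨⟨y, Or.inr hb⟩, Or.inr rfl⟩
    choose f hf using h1
    refine Nat.card_le_card_of_injective f ?_
    intro a b hab
    apply Subtype.ext
    have ha := hf a
    have hb := hf b
    rw [← hab] at hb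
    rcases ha with h | h <;> rcases hb with h' | h'
    · rw [h, h']
    · exfalso
      apply htΛ
      have := mul_mem b.2.1 (Subgroup.inv_mem _ a.2.1)
      rwa [h', h, mul_inv_cancel_right] at this
    · exfalso
      apply htΛ
      have := mul_mem a.2.1 (Subgroup.inv_mem _ b.2.1)
      rwa [h', h, mul_inv_cancel_right] at this
    · rw [h, h']
  have h2 := hKE hj D (by
    intro y hy a ha
    have ha' : a ∈ B' H M := by rw [hA]; exact ha
    -- `x = i y` or `t (i y)`
    obtain ⟨x, hxΛ, hxt, hxy⟩ : ∃ x ∈ P.Λ, x * t * x⁻¹ = t ∧ ∀ b : Y, x * i b * x⁻¹ = i (y * b * y⁻¹) := by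
      rcases hy with h | h
      · exact ⟨_, h, by rw [← H.ti]; group, fun b => by rw [map_mul, map_mul, map_inv]⟩
      · refine ⟨_, h, ?_, fun b => ?_⟩
        · calc t * i y * t * (t * i y)⁻¹ = t * (i y * t) * (i y)⁻¹ * t⁻¹ := by group
            _ = t := by rw [← H.ti]; group
        calc t * i y * i b * (t * i y)⁻¹ = t * (i y * i b * (i y)⁻¹) * t⁻¹ := by group
          _ = t * i (y * b * y⁻¹) * t := by rw [H.t_inv, map_mul, map_mul, map_inv]
          _ = i (y * b * y⁻¹) * (t * t) := by rw [H.ti]; group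
          _ = _ := by rw [H.tt, mul_one]
    have h3 : InV (i K.z) m₀ (i (y * a * y⁻¹ * a⁻¹)) := by
      rcases ha' with h | h
      · have h4 := (mem_Lam.1 hxΛ).2.2.2 _ h
        rwa [hxy, ← map_inv, ← map_mul] at h4
      · have h4 := (mem_Lam.1 hxΛ).2.2.2 _ h
        have e : x * (t * i a) * x⁻¹ * (t * i a)⁻¹ = i (y * a * y⁻¹ * a⁻¹) := by
          calc x * (t * i a) * x⁻¹ * (t * i a)⁻¹ = (x * t * x⁻¹) * (x * i a * x⁻¹) * (i a)⁻¹ * t⁻¹ := by group
            _ = t * i (y * a * y⁻¹ * a⁻¹) * t := by rw [hxt, hxy, H.t_inv, map_mul _ _ a⁻¹, map_inv]; group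
            _ = i (y * a * y⁻¹ * a⁻¹) * (t * t) := by rw [H.ti]; group
            _ = _ := by rw [H.tt, mul_one]
        rwa [e] at h4
    rcases V_t H P h3 (H.ti _) with h4 | h4
    · left
      have h5 : y * a * y⁻¹ * a⁻¹ = 1 := H.inj (by rw [h4, map_one])
      exact mul_inv_eq_one.1 h5
    · right
      have h5 : y * a * y⁻¹ * a⁻¹ = K.z := H.inj h4
      have h6 : a * K.z = K.z * a := (K.mem_P a).1 (K.E_le_P (K.Q_le_E (K.A₁_le ha)))
      rw [h6, ← h5]; group)
  have h3 := card_CL H P
  omega

end caseA₁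

include H in
/-- **The end for `c(s) = 0`.** -/
theorem end_zero {Θ : Subgroup G} (hΘ : Th K i t n Θ) (h0 : ∀ p ∈ K.P, i p * n = n * i p) (hKE : KE K) : False := by
  obtain ⟨M, m₀, P, hne⟩ := exists_pk H hΘ h0
  rcases B'_cases H P with hA | hA
  · exact caseA H P hΘ h0 hA hne
  · by_cases hj : K.j = 1
    · exact caseCl H P hA hKE hj
    · exact caseOut H P hA hj

end Cfsg.Agent.OddHalf.D7Tits.EndZero
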