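import Cfsg.Agent.OddHalf.D7Out.Claim

/-!
# D7, K = Tits: the T-formula on a 2-group (helper868)

`T` Sylow in `C(t)`, `T ≤ S`, `S` a 2-group, `C_S(t) = T`, `mu : S → A` a homomorphism with `mu t ≠ 1`.
If every conjugate `g⁻¹ t g` of `t` with `T^g ≤ S` is `S`-conjugate to `t` or killed by `mu`, then `G` is not perfect.
-/

set_option autoImplicit false

namespace Cfsg.Agent.OddHalf.D7Tits.ExtT

open Subgroup

variable {G : Type*} [Group G]

/-- `T` is a maximal 2-subgroup of `C(t)` -/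
theorem max_of_odd [Finite G] {t : G} {T : Subgroup G}
    (hodd : ¬ 2 ∣ T.relIndex (centralizer ({t} : Set G))) :
    ∀ P : Subgroup G, IsPGroup 2 P → T ≤ P → (∀ x ∈ P, x * t = t * x) → P ≤ T := by
  intro P hP hTP hPt
  by_contra hne
  apply hodd
  have h1 := relIndex_mul_relIndex T P (centralizer ({t} : Set G)) hTP
    (fun x hx => mem_centralizer_singleton_iff.2 (hPt x hx))
  rw [← h1]
  apply Dvd.dvd.mul_right
  have h3 : (T.subgroupOf P).index ≠ 1 := by
    rw [Ne, index_eq_one, subgroupOf_eq_top]; exact hne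
  obtain ⟨n, hn⟩ := hP.index (T.subgroupOf P)
  have hn0 : n ≠ 0 := by
    rintro rfl; exact h3 (by rw [hn]; simp)
  show 2 ∣ (T.subgroupOf P).index
  rw [hn]
  exact dvd_pow_self 2 hn0

theorem false_of [Finite G] (hG : commutator G = ⊤) {t : G} (tt : t * t = 1) {T S : Subgroup G} (hTS : T ≤ S)
    (hS2 : IsPGroup 2 S) (htT : t ∈ T) (hTt : ∀ x ∈ T, x * t = t * x)
    (hodd : ¬ 2 ∣ T.relIndex (centralizer ({t} : Set G)))
    (CS : ∀ x ∈ S, x * t = t * x → x ∈ T) {A : Type*} [CommGroup A] (mu : S →* A)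
    (hmu : mu ⟨t, hTS htT⟩ ≠ 1)
    (hext : ∀ g : G, (∀ x ∈ T, g⁻¹ * x * g ∈ S) → ∀ h : g⁻¹ * t * g ∈ S,
      (∃ y ∈ S, y * t * y⁻¹ = g⁻¹ * t * g) ∨ mu ⟨g⁻¹ * t * g, h⟩ = 1) : False := by
  classical
  have := Fintype.ofFinite (G ⧸ S)
  have hT2 : IsPGroup 2 T := hS2.to_le hTS
  have hmax := max_of_odd hodd
  obtain ⟨f, hf, s, hs, hprod⟩ := TFormula.transfer_eq_prod S mu t tt T hT2 hTt
  have hone := TFormula.hom_eq_one hG (MonoidHom.transfer mu) t
  rw [hprod] at hone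
  have hmem : ∀ x g : G, x • (g : G ⧸ S) = g ↔ g⁻¹ * x * g ∈ S := by
    intro x g
    rw [MulAction.Quotient.smul_mk, smul_eq_mul, QuotientGroup.eq]
    constructor
    · intro h
      have := S.inv_mem h
      have e : ((x * g)⁻¹ * g)⁻¹ = g⁻¹ * x * g := by group
      rwa [e] at this
    · intro h
      have := S.inv_mem h
      have e : (g⁻¹ * x * g)⁻¹ = (x * g)⁻¹ * g := by group
      rwa [e] at this
  set a := mu ⟨t, hTS htT⟩ with ha
  have haa : a * a = 1 := by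
    rw [ha, ← map_mul]
    have : (⟨t, hTS htT⟩ : S) * ⟨t, hTS htT⟩ = 1 := Subtype.ext tt
    rw [this, map_one]
  set N := centralizer ({t} : Set G) ⊓ normalizer (T : Set G) with hN
  have hval : ∀ q ∈ s, f q = if q ∈ MulAction.orbit ↥N ((1 : G) : G ⧸ S) then a else 1 := by
    intro q hq
    obtain ⟨g, rfl⟩ := QuotientGroup.mk_surjective q
    obtain ⟨h1, h2⟩ := (hs _).1 hq
    have h3 : g⁻¹ * t * g ∈ S := (hmem t g).1 h1
    have h4 : ∀ x ∈ T, g⁻¹ * x * g ∈ S := fun x hx => (hmem x g).1 (h2 x hx)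
    rw [hf _ g rfl h3]
    by_cases hq1 : ((g : G) : G ⧸ S) ∈ MulAction.orbit ↥N ((1 : G) : G ⧸ S)
    · rw [if_pos hq1]
      obtain ⟨⟨n, hn⟩, hn'⟩ := hq1
      change n • ((1 : G) : G ⧸ S) = g at hn'
      rw [MulAction.Quotient.smul_mk, smul_eq_mul, mul_one, QuotientGroup.eq] at hn'
      have hnt : n * t = t * n := mem_centralizer_singleton_iff.1 hn.1
      have e : g⁻¹ * t * g = (n⁻¹ * g)⁻¹ * t * (n⁻¹ * g) := by
        calc g⁻¹ * t * g = g⁻¹ * (t * n) * (n⁻¹ * g) := by group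
          _ = g⁻¹ * (n * t) * (n⁻¹ * g) := by rw [hnt]
          _ = (n⁻¹ * g)⁻¹ * t * (n⁻¹ * g) := by group
      have e2 : (⟨g⁻¹ * t * g, h3⟩ : S) = ⟨n⁻¹ * g, hn'⟩⁻¹ * ⟨t, hTS htT⟩ * ⟨n⁻¹ * g, hn'⟩ :=
        Subtype.ext e
      rw [e2, map_mul, map_mul, map_inv, mul_comm (mu ⟨n⁻¹ * g, hn'⟩)⁻¹, inv_mul_cancel_right]
    · rw [if_neg hq1]
      rcases hext g h4 h3 with ⟨y, hyS, e1⟩ | h
      · exfalso
        apply hq1
        have hc : (g * y) * t = t * (g * y) := by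
          calc (g * y) * t = g * (y * t * y⁻¹) * y := by group
            _ = g * (g⁻¹ * t * g) * y := by rw [e1]
            _ = t * (g * y) := by group
        have hnorm : ∀ x ∈ T, (g * y)⁻¹ * x * (g * y) ∈ T := by
          intro x hx
          apply CS
          · have h5 := h4 x hx
            have e : (g * y)⁻¹ * x * (g * y) = y⁻¹ * (g⁻¹ * x * g) * y := by group
            rw [e]
            exact mul_mem (mul_mem (inv_mem hyS) h5) hyS
          · have c1 : Commute (g * y) t := hc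
            have c2 : Commute x t := hTt x hx
            exact ((c1.inv_left.mul_left c2).mul_left c1).eq
        have hnorm2 : g * y ∈ normalizer (T : Set G) := by
          have h5 : (g * y)⁻¹ ∈ normalizer (T : Set G) := by
            apply D7Out.Claim.mem_norm
            intro x hx
            rw [inv_inv]
            exact hnorm x hx
          have := inv_mem h5
          rwa [inv_inv] at this
        refine ⟨⟨g * y, mem_inf.2 ⟨mem_centralizer_singleton_iff.2 hc, hnorm2⟩⟩, ?_⟩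
        show (g * y) • ((1 : G) : G ⧸ S) = g
        rw [MulAction.Quotient.smul_mk, smul_eq_mul, mul_one, QuotientGroup.eq]
        have e : (g * y)⁻¹ * g = y⁻¹ := by group
        rw [e]; exact inv_mem hyS
      · exact h
  rw [Finset.prod_congr rfl hval, Finset.prod_ite, Finset.prod_const, Finset.prod_const_one, mul_one]
    at hone
  have hcard : ¬ 2 ∣ (s.filter (fun q => q ∈ MulAction.orbit ↥N ((1 : G) : G ⧸ S))).card := by
    have h1 := D7Out.Claim.card_orbit_odd hTS hTt CS hodd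
    rw [Set.ncard_eq_toFinset_card'] at h1
    have e : s.filter (fun q => q ∈ MulAction.orbit ↥N ((1 : G) : G ⧸ S)) =
        (MulAction.orbit ↥N ((1 : G) : G ⧸ S)).toFinset := by
      ext q
      rw [Finset.mem_filter, Set.mem_toFinset]
      constructor
      · exact fun h => h.2
      · intro h
        refine ⟨(hs q).2 ?_, h⟩
        obtain ⟨⟨n, hn⟩, rfl⟩ := h
        have hnn := hn.2
        have key : ∀ x ∈ T, x • (n • ((1 : G) : G ⧸ S)) = n • ((1 : G) : G ⧸ S) := by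
          intro x hx
          rw [MulAction.Quotient.smul_mk, smul_eq_mul, mul_one, hmem]
          have h5 : n⁻¹ ∈ normalizer (T : Set G) := inv_mem hnn
          have := (mem_normalizer_iff.1 h5 x).1 hx
          rw [inv_inv] at this
          exact hTS this
        exact ⟨key t htT, fun x hx => key x hx⟩
    rw [e]; exact h1
  obtain ⟨k, hk⟩ : Odd (s.filter (fun q => q ∈ MulAction.orbit ↥N ((1 : G) : G ⧸ S))).card := by
    rw [← Nat.not_even_iff_odd]
    intro h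
    exact hcard h.two_dvd
  rw [hk, pow_succ, pow_mul, pow_two, haa, one_pow, one_mul] at hone
  exact hmu hone

/-! ### Commutators in a group with an abelian subgroup of index two -/

/-- `L` abelian, `Q = L ∪ s⁻¹ L`: the commutators of `Q` are the `l s l⁻¹ s⁻¹`, `l ∈ L`. -/
theorem comm_of_index_two {Q : Type*} [Group Q] {L : Subgroup Q} {s : Q} (hL : ∀ g : Q, g ∈ L ∨ s⁻¹ * g ∈ L)
    (hab : ∀ a ∈ L, ∀ b ∈ L, a * b = b * a) (hs : ∀ a ∈ L, s * a * s⁻¹ ∈ L) (hss : s * s ∈ L) {g : Q}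
    (hg : g ∈ commutator Q) : ∃ l ∈ L, g = l * (s * l⁻¹ * s⁻¹) := by
  let D : Subgroup Q :=
    { carrier := {g | ∃ l ∈ L, g = l * (s * l⁻¹ * s⁻¹)}
      one_mem' := ⟨1, L.one_mem, by group⟩
      mul_mem' := by
        rintro _ _ ⟨a, ha, rfl⟩ ⟨b, hb, rfl⟩
        refine ⟨a * b, mul_mem ha hb, ?_⟩
        have h1 := hab _ (hs _ (inv_mem ha)) b hb
        have h2 := hab _ (inv_mem ha) _ (inv_mem hb)
        calc a * (s * a⁻¹ * s⁻¹) * (b * (s * b⁻¹ * s⁻¹)) = a * ((s * a⁻¹ * s⁻¹) * b) * (s * b⁻¹ * s⁻¹) := by group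
          _ = a * (b * (s * a⁻¹ * s⁻¹)) * (s * b⁻¹ * s⁻¹) := by rw [h1]
          _ = a * b * (s * (a⁻¹ * b⁻¹) * s⁻¹) := by group
          _ = a * b * (s * (b⁻¹ * a⁻¹) * s⁻¹) := by rw [h2]
          _ = a * b * (s * (a * b)⁻¹ * s⁻¹) := by group
      inv_mem' := by
        rintro _ ⟨a, ha, rfl⟩
        refine ⟨a⁻¹, inv_mem ha, ?_⟩
        have h1 := hab _ (hs _ ha) _ (inv_mem ha)
        calc (a * (s * a⁻¹ * s⁻¹))⁻¹ = (s * a * s⁻¹) * a⁻¹ := by group
          _ = a⁻¹ * (s * a * s⁻¹) := h1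
          _ = a⁻¹ * (s * a⁻¹⁻¹ * s⁻¹) := by group }
  have hD : commutator Q ≤ D := by
    rw [commutator_eq_closure, closure_le]
    rintro _ ⟨g, h, rfl⟩
    -- write `g = s^a l`
    have key : ∀ g : Q, ∃ l ∈ L, g = l ∨ g = s * l := by
      intro g
      rcases hL g with h | h
      · exact ⟨g, h, Or.inl rfl⟩
      · exact ⟨_, h, Or.inr (by group)⟩
    obtain ⟨a, ha, hga | hga⟩ := key g <;> obtain ⟨b, hb, hgb | hgb⟩ := key h <;> rw [hga, hgb]
    · -- both in L
      refine ⟨1, L.one_mem, ?_⟩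
      have h1 := hab a ha b hb
      rw [commutatorElement_def, h1]; group
    · -- [a, s b]
      refine ⟨a, ha, ?_⟩
      rw [commutatorElement_def]
      have h1 := hab b hb _ (inv_mem ha)
      calc a * (s * b) * a⁻¹ * (s * b)⁻¹ = a * s * (b * a⁻¹) * b⁻¹ * s⁻¹ := by group
        _ = a * s * (a⁻¹ * b) * b⁻¹ * s⁻¹ := by rw [h1]
        _ = a * (s * a⁻¹ * s⁻¹) := by group
    · -- [s a, b]
      refine ⟨b⁻¹, inv_mem hb, ?_⟩
      rw [commutatorElement_def]
      have h1 := hab a ha b hb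
      have h2 := hab _ (hs _ hb) _ (inv_mem hb)
      calc s * a * b * (s * a)⁻¹ * b⁻¹ = s * (a * b) * a⁻¹ * s⁻¹ * b⁻¹ := by group
        _ = s * (b * a) * a⁻¹ * s⁻¹ * b⁻¹ := by rw [h1]
        _ = (s * b * s⁻¹) * b⁻¹ := by group
        _ = b⁻¹ * (s * b * s⁻¹) := h2
        _ = b⁻¹ * (s * b⁻¹⁻¹ * s⁻¹) := by group
    · -- [s a, s b]
      refine ⟨b * a⁻¹, mul_mem hb (inv_mem ha), ?_⟩
      rw [commutatorElement_def]
      have h1 := hab _ hss _ (mul_mem hb (inv_mem ha))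
      have h2 := hab _ (hs _ ha) _ (mul_mem hb (inv_mem ha))
      calc s * a * (s * b) * (s * a)⁻¹ * (s * b)⁻¹
          = (s * a * s⁻¹) * ((s * s) * (b * a⁻¹)) * (s * s)⁻¹ * (s * b⁻¹ * s⁻¹) := by group
        _ = (s * a * s⁻¹) * ((b * a⁻¹) * (s * s)) * (s * s)⁻¹ * (s * b⁻¹ * s⁻¹) := by rw [h1]
        _ = ((s * a * s⁻¹) * (b * a⁻¹)) * (s * b⁻¹ * s⁻¹) := by group
        _ = ((b * a⁻¹) * (s * a * s⁻¹)) * (s * b⁻¹ * s⁻¹) := by rw [h2]
        _ = b * a⁻¹ * (s * (b * a⁻¹)⁻¹ * s⁻¹) := by group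
  exact hD hg

end Cfsg.Agent.OddHalf.D7Tits.ExtT
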