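import Cfsg.Agent.OddHalf.D7Out.FrontCyc

/-!
# ODD D7, `K` = the Tits group: the front (helper841)

`C_K(z)` is solvable, so `t ≁ z` does not follow from a perfect subgroup of `C_K(z)` as in `FrGen.fr0`; here it follows
from `z ∈ U''` and `T'' ≤ U`.

* `KH U z` : the facts on the group `Y = K`; `Two Y` : two outer automorphisms differ by an inner one;
* `frT` : the frame `FrT t v K U ⟨z⟩ T`;
* `Out`, `front` (from `Start`), `front_ctx` (from `Ctx`, `Std`, `Cyc`): `v = t`, `T`, `n ∈ N(T)`, `n² ∈ T`,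
  `n t n⁻¹ = t z`, `n z = z n`, the `T`-formula for `C(z)`; `C(t) = ⟨t⟩ × K` or `⟨t⟩ K` has index two in `C(t)`;
* `aut_of` : the field `aut` of `KH` from two subgroups `Q`, `R ≤ U`.
-/

set_option autoImplicit false

namespace Cfsg.Agent.OddHalf.D7Tits.Front

open Subgroup Cfsg.Agent.OddHalf.D7Out Cfsg.Agent.OddHalf.D7Out.Defs Cfsg.Agent.OddHalf.D7Out.TwChoice
open Cfsg.Agent.OddHalf
open scoped commutatorElement

/-! ### The facts on `K` -/

/-- the facts on the group `Y = K` used by the front -/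
structure KH {Y : Type*} [Group Y] (U : Subgroup Y) (z : Y) : Prop where
  pU : IsPGroup 2 ↥U
  maxU : ∀ P : Subgroup Y, IsPGroup 2 ↥P → U ≤ P → P ≤ U
  zc : ∀ u ∈ U, u * z = z * u
  zz : z * z = 1
  z1 : z ≠ 1
  /-- `z ∈ U''` -/
  uu : z ∈ ⁅⁅U, U⁆, ⁅U, U⁆⁆
  /-- a 2-automorphism trivial on `U` is `1` or the conjugation by `z` -/
  aut : ∀ α : MulAut Y, (∃ n : ℕ, α ^ 2 ^ n = 1) → (∀ u ∈ U, α u = u) → α = 1 ∨ ∀ x, α x = z * x * z⁻¹

/-- `|Out Y| ≤ 2` : two outer automorphisms differ by an inner one -/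
def Two (Y : Type*) [Group Y] : Prop :=
  ∀ α β : MulAut Y, (¬ ∃ x, α = MulAut.conj x) → (¬ ∃ x, β = MulAut.conj x) → ∃ x, α * β = MulAut.conj x

theorem Two.cycOut {Y : Type*} [Group Y] (h : Two Y) : CycOut Y := by
  intro A _
  by_cases hA : ∀ α ∈ A, ∃ x, α = MulAut.conj x
  · refine ⟨1, one_mem _, fun β hβ => ?_⟩
    obtain ⟨x, hx⟩ := hA β hβ
    exact ⟨0, x, by rw [zpow_zero, one_mul, hx]⟩
  · push Not at hA
    obtain ⟨α, hα, hαo⟩ := hA
    refine ⟨α, hα, fun β hβ => ?_⟩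
    by_cases hb : ∃ x, β = MulAut.conj x
    · obtain ⟨x, hx⟩ := hb
      exact ⟨0, x, by rw [zpow_zero, one_mul, hx]⟩
    · have h1 : ¬ ∃ x, α⁻¹ = MulAut.conj x := by
        rintro ⟨x, hx⟩
        exact hαo x⁻¹ (by rw [map_inv, ← hx, inv_inv])
      obtain ⟨x, hx⟩ := h _ _ h1 hb
      exact ⟨1, x, by rw [zpow_one, ← hx, mul_inv_cancel_left]⟩

theorem Two.of_equiv {Y Y' : Type*} [Group Y] [Group Y'] (e : Y ≃* Y') (h : Two Y) : Two Y' := by
  have key : ∀ γ : MulAut Y', (∃ x, MulAut.congr e.symm γ = MulAut.conj x) → ∃ x, γ = MulAut.conj x := by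
    rintro γ ⟨x, hx⟩
    refine ⟨e x, ?_⟩
    ext y
    have h1 := DFunLike.congr_fun hx (e.symm y)
    have h2 : e.symm (γ y) = x * e.symm y * x⁻¹ := by
      have e1 : MulAut.congr e.symm γ (e.symm y) = e.symm (γ y) := by
        show e.symm (γ (e.symm.symm (e.symm y))) = _
        simp
      rw [← e1, h1]
      rfl
    have h3 := congrArg e h2
    simpa using h3
  have key' : ∀ γ : MulAut Y', (∃ x, γ = MulAut.conj x) → ∃ x, MulAut.congr e.symm γ = MulAut.conj x := by
    rintro γ ⟨x, rfl⟩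
    refine ⟨e.symm x, ?_⟩
    ext y
    show e.symm (x * e.symm.symm y * x⁻¹) = e.symm x * y * (e.symm x)⁻¹
    simp
  intro α β hα hβ
  apply key
  obtain ⟨x, hx⟩ := h _ _ (fun h1 => hα (key _ h1)) (fun h1 => hβ (key _ h1))
  exact ⟨x, by rw [map_mul, hx]⟩

namespace KH

variable {Y : Type*} [Group Y] {U : Subgroup Y} {z : Y}

theorem zU (H : KH U z) : z ∈ U := by
  have h1 : ⁅U, U⁆ ≤ U := commutator_le_self U
  exact h1 (commutator_mono h1 h1 H.uu)

end KH

/-! ### The frame -/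

section InG

variable {G : Type*} [Group G] {K : Subgroup G} {t v : G}

/-- if `T`, Sylow in `C(t)`, centralises a conjugate of `t`, then `N(T)` moves `t` to this conjugate -/
theorem exists_norm [Finite G] {T : Subgroup G} (pT : IsPGroup 2 T) (tc : ∀ x ∈ T, x * t = t * x)
    (max : ∀ P : Subgroup G, IsPGroup 2 P → T ≤ P → (∀ x ∈ P, x * t = t * x) → P ≤ T) {g : G}
    (hgc : ∀ x ∈ T, x * (g * t * g⁻¹) = g * t * g⁻¹ * x) :
    ∃ n ∈ normalizer (T : Set G), n * t * n⁻¹ = g * t * g⁻¹ := by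
  set u : G := g * t * g⁻¹ with hu
  set Tg : Subgroup G := T.map (MulAut.conj g).toMonoidHom with hTg
  have hmem : ∀ x : G, x ∈ Tg ↔ g⁻¹ * x * g ∈ T := by
    intro x
    constructor
    · rintro ⟨y, hy, rfl⟩
      show g⁻¹ * (g * y * g⁻¹) * g ∈ T
      have e : g⁻¹ * (g * y * g⁻¹) * g = y := by group
      rw [e]; exact hy
    · intro hx
      refine ⟨g⁻¹ * x * g, hx, ?_⟩
      show g * (g⁻¹ * x * g) * g⁻¹ = x
      group
  have hcomm : ∀ x : G, x * u = u * x ↔ g⁻¹ * x * g * t = t * (g⁻¹ * x * g) := by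
    intro x
    rw [hu]
    constructor
    · intro hx
      calc g⁻¹ * x * g * t = g⁻¹ * (x * (g * t * g⁻¹)) * g := by group
        _ = g⁻¹ * (g * t * g⁻¹ * x) * g := by rw [hx]
        _ = t * (g⁻¹ * x * g) := by group
    · intro hx
      calc x * (g * t * g⁻¹) = g * (g⁻¹ * x * g * t) * g⁻¹ := by group
        _ = g * (t * (g⁻¹ * x * g)) * g⁻¹ := by rw [hx]
        _ = g * t * g⁻¹ * x := by group
  have hpTg : IsPGroup 2 Tg := pT.map _
  have hTgC : Tg ≤ centralizer ({u} : Set G) := fun x hx =>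
    mem_centralizer_singleton_iff.2 ((hcomm x).2 (tc _ ((hmem x).1 hx)))
  have hTgm : ∀ R : Subgroup G, IsPGroup 2 R → Tg ≤ R → R ≤ centralizer ({u} : Set G) → R ≤ Tg := by
    intro R hR hle hRC
    have h1 := max (R.map (MulAut.conj g⁻¹).toMonoidHom) (hR.map _) ?_ ?_
    · intro x hx
      rw [hmem]
      exact h1 ⟨x, hx, by show g⁻¹ * x * g⁻¹⁻¹ = _; rw [inv_inv]⟩
    · intro x hx
      refine ⟨g * x * g⁻¹, hle ((hmem _).2 ?_), ?_⟩
      · have e : g⁻¹ * (g * x * g⁻¹) * g = x := by group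
        rw [e]; exact hx
      · show g⁻¹ * (g * x * g⁻¹) * g⁻¹⁻¹ = x
        group
    · rintro _ ⟨x, hx, rfl⟩
      have h2 := (hcomm x).1 (mem_centralizer_singleton_iff.1 (hRC hx))
      show g⁻¹ * x * g⁻¹⁻¹ * t = t * (g⁻¹ * x * g⁻¹⁻¹)
      rwa [inv_inv]
  have hcard : Nat.card Tg = Nat.card T :=
    (Nat.card_congr (T.equivMapOfInjective _ (MulAut.conj g).injective).toEquiv).symm
  have hTC : T ≤ centralizer ({u} : Set G) := fun x hx => mem_centralizer_singleton_iff.2 (hgc x hx)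
  -- `T` is maximal as well, by order
  have hTm : ∀ R : Subgroup G, IsPGroup 2 R → T ≤ R → R ≤ centralizer ({u} : Set G) → R ≤ T := by
    intro R hR hle hRC
    set C : Subgroup G := centralizer ({u} : Set G) with hC
    let S : Sylow 2 C :=
      { toSubgroup := Tg.subgroupOf C
        isPGroup' := hpTg.comap_of_injective C.subtype C.subtype_injective
        is_maximal' := by
          intro P hP hPle
          apply le_antisymm _ hPle
          have h1 : P.map C.subtype ≤ Tg := by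
            apply hTgm _ (hP.map C.subtype)
            · intro y hy
              exact ⟨⟨y, hTgC hy⟩, hPle (by exact hy), rfl⟩
            · rintro _ ⟨y, -, rfl⟩
              exact y.2
          intro y hy
          exact h1 ⟨y, hy, rfl⟩ }
    obtain ⟨P, hP⟩ := (hR.comap_of_injective C.subtype C.subtype_injective).exists_le_sylow
    have h1 : Nat.card (R.subgroupOf C) = Nat.card R := Nat.card_congr (subgroupOfEquivOfLe hRC).toEquiv
    have h2 : Nat.card (Tg.subgroupOf C) = Nat.card Tg := Nat.card_congr (subgroupOfEquivOfLe hTgC).toEquiv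
    have : Fact (Nat.Prime 2) := ⟨Nat.prime_two⟩
    have h3 : Nat.card P = Nat.card S := by rw [P.card_eq_multiplicity, S.card_eq_multiplicity]
    have h4 : Nat.card (R.subgroupOf C) ≤ Nat.card P := Nat.card_le_card_of_injective _
      (inclusion_injective hP)
    have h5 : Nat.card S = Nat.card (Tg.subgroupOf C) := rfl
    exact (Subgroup.eq_of_le_of_card_ge hle (by omega)).ge
  obtain ⟨c, hc, hcx⟩ := Cfsg.Agent.OddHalf.D7Out.Front.exists_conj_of_max hpTg hTgC hTgm pT hTC hTm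
  refine ⟨c * g, ?_, ?_⟩
  · rw [mem_normalizer_iff]
    intro x
    rw [hcx (c * g * x * (c * g)⁻¹), hmem]
    have e : g⁻¹ * (c⁻¹ * (c * g * x * (c * g)⁻¹) * c) * g = x := by group
    rw [e]
  · have h1 := mem_centralizer_singleton_iff.1 hc
    calc c * g * t * (c * g)⁻¹ = c * (g * t * g⁻¹) * c⁻¹ := by group
      _ = c * u * c⁻¹ := by rw [hu]
      _ = u := by rw [h1]; group

/-- `T'' ≤ U` if `T / R U` is cyclic -/
theorem derived_le {U T : Subgroup G} (S : Cfsg.Agent.OddHalf.Front.FE.Start0 K t v) (hT : CycT t v K)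
    (pT : IsPGroup 2 T) (vT : v ∈ T) (tc : ∀ x ∈ T, x * t = t * x) (hU : T ⊓ K = U) :
    ⁅⁅T, T⁆, ⁅T, T⁆⁆ ≤ U := by
  have hUK : U ≤ K := by rw [← hU]; exact inf_le_right
  have hUT : U ≤ T := by rw [← hU]; exact inf_le_left
  have hRT : zpowers v ≤ T := zpowers_le.2 vT
  have hUR : ∀ u ∈ U, ∀ r ∈ zpowers v, u * r = r * u := fun u hu r hr => S.QK r hr u (hUK hu)
  have hRR : ∀ r ∈ zpowers v, ∀ r' ∈ zpowers v, r * r' = r' * r := by
    intro r hr r' hr'
    obtain ⟨i, rfl⟩ := mem_zpowers_iff.1 hr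
    obtain ⟨j, rfl⟩ := mem_zpowers_iff.1 hr'
    rw [← zpow_add, ← zpow_add, add_comm]
  -- `N = U R`
  let N : Subgroup G :=
    { carrier := {x | ∃ u ∈ U, ∃ r ∈ zpowers v, x = u * r}
      one_mem' := ⟨1, one_mem _, 1, one_mem _, by group⟩
      mul_mem' := by
        rintro _ _ ⟨u, hu, r, hr, rfl⟩ ⟨u', hu', r', hr', rfl⟩
        refine ⟨u * u', mul_mem hu hu', r * r', mul_mem hr hr', ?_⟩
        calc u * r * (u' * r') = u * (r * u') * r' := by group
          _ = u * (u' * r) * r' := by rw [hUR u' hu' r hr]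
          _ = _ := by group
      inv_mem' := by
        rintro _ ⟨u, hu, r, hr, rfl⟩
        refine ⟨u⁻¹, U.inv_mem hu, r⁻¹, (zpowers v).inv_mem hr, ?_⟩
        rw [mul_inv_rev, hUR _ (U.inv_mem hu) _ ((zpowers v).inv_mem hr)] }
  have hNU : ⁅N, N⁆ ≤ U := by
    rw [commutator_le]
    rintro _ ⟨u, hu, r, hr, rfl⟩ _ ⟨u', hu', r', hr', rfl⟩
    have e : ⁅u * r, u' * r'⁆ = ⁅u, u'⁆ := by
      rw [commutatorElement_def, commutatorElement_def]
      have h1 : u * r * (u' * r') = u * u' * (r * r') := by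
        calc u * r * (u' * r') = u * (r * u') * r' := by group
          _ = u * (u' * r) * r' := by rw [hUR u' hu' r hr]
          _ = _ := by group
      have h2 : u' * r' * (u * r) = u' * u * (r * r') := by
        calc u' * r' * (u * r) = u' * (r' * u) * r := by group
          _ = u' * (u * r') * r := by rw [hUR u hu r' hr']
          _ = u' * u * (r' * r) := by group
          _ = _ := by rw [hRR r' hr' r hr]
      calc u * r * (u' * r') * (u * r)⁻¹ * (u' * r')⁻¹ = (u * r * (u' * r')) * (u' * r' * (u * r))⁻¹ := by group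
        _ = u * u' * (r * r') * (u' * u * (r * r'))⁻¹ := by rw [h1, h2]
        _ = _ := by group
    rw [e, commutatorElement_def]
    exact mul_mem (mul_mem (mul_mem hu hu') (inv_mem hu)) (inv_mem hu')
  have hnN : ∀ d ∈ T, ∀ x ∈ N, d * x * d⁻¹ ∈ N := by
    rintro d hd _ ⟨u, hu, r, hr, rfl⟩
    have hdt := tc d hd
    refine ⟨d * u * d⁻¹, ?_, d * r * d⁻¹, ?_, by group⟩
    · rw [← hU]
      exact ⟨mul_mem (mul_mem hd (hUT hu)) (T.inv_mem hd), (mem_normalizer_iff.1 (S.nK d hdt) u).1 (hUK hu)⟩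
    · apply S.cK
      · have h1 := S.Qt r hr
        have h2 : d⁻¹ * t = t * d⁻¹ := by rw [inv_mul_eq_iff_eq_mul, ← mul_assoc, hdt, mul_inv_cancel_right]
        calc d * r * d⁻¹ * t = d * r * (d⁻¹ * t) := by group
          _ = d * (r * t) * d⁻¹ := by rw [h2]; group
          _ = (d * t) * r * d⁻¹ := by rw [h1]; group
          _ = t * (d * r * d⁻¹) := by rw [hdt]; group
      · intro x hx
        have h2 : d⁻¹ * x * d ∈ K := by
          apply (mem_normalizer_iff.1 (S.nK d hdt) _).2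
          have e : d * (d⁻¹ * x * d) * d⁻¹ = x := by group
          rw [e]; exact hx
        have h3 := S.QK r hr _ h2
        calc x * (d * r * d⁻¹) = d * (d⁻¹ * x * d * r) * d⁻¹ := by group
          _ = d * (r * (d⁻¹ * x * d)) * d⁻¹ := by rw [h3]
          _ = _ := by group
  have hTN : ⁅T, T⁆ ≤ N := by
    have hNn : (N.subgroupOf T).Normal := by
      constructor
      intro x hx d
      rw [mem_subgroupOf] at hx ⊢
      exact hnN d d.2 _ hx
    obtain ⟨y, hy, h1⟩ := hT T pT tc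
    set π : T →* T ⧸ N.subgroupOf T := QuotientGroup.mk' (N.subgroupOf T) with hπ
    have hgen : ∀ x : T, ∃ i : ℤ, π x = π ⟨y, hy⟩ ^ i := by
      rintro ⟨x, hx⟩
      obtain ⟨i, k, hk, r, hr, e⟩ := h1 x hx
      have hkT : k ∈ T := by
        have e' : k = (y ^ i)⁻¹ * x * r⁻¹ := by rw [e]; group
        rw [e']
        exact mul_mem (mul_mem (inv_mem (zpow_mem hy i)) hx) (inv_mem (hRT hr))
      refine ⟨i, ?_⟩
      rw [← map_zpow, hπ, QuotientGroup.mk'_apply, QuotientGroup.mk'_apply, eq_comm, QuotientGroup.eq,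
        mem_subgroupOf]
      refine ⟨k, by rw [← hU]; exact ⟨hkT, hk⟩, r, hr, ?_⟩
      show (y ^ i)⁻¹ * x = k * r
      rw [e]; group
    rw [commutator_le]
    intro a ha b hb
    have h2 : π ⁅(⟨a, ha⟩ : T), ⟨b, hb⟩⁆ = 1 := by
      rw [map_commutatorElement, commutatorElement_eq_one_iff_mul_comm]
      obtain ⟨i, hi⟩ := hgen ⟨a, ha⟩
      obtain ⟨j, hj⟩ := hgen ⟨b, hb⟩
      rw [hi, hj, ← zpow_add, ← zpow_add, add_comm]
    rw [hπ, QuotientGroup.mk'_apply, QuotientGroup.eq_one_iff, mem_subgroupOf] at h2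
    exact h2
  exact (commutator_mono hTN hTN).trans hNU

theorem mem_zp {z : G} (hz : z * z = 1) (x : G) : x ∈ zpowers z ↔ x = 1 ∨ x = z := by
  constructor
  · intro hx
    obtain ⟨i, rfl⟩ := mem_zpowers_iff.1 hx
    obtain ⟨j, rfl | rfl⟩ := Int.even_or_odd' i
    · left
      rw [zpow_mul, zpow_two, hz, one_zpow]
    · right
      rw [zpow_add, zpow_mul, zpow_two, hz, one_zpow, one_mul, zpow_one]
  · rintro (rfl | rfl)
    · exact one_mem _
    · exact mem_zpowers _

/-- an element of `C(t)` inducing an inner automorphism of `K` -/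
theorem mem_of_inner (S : Cfsg.Agent.OddHalf.Front.FE.Start0 K t v) {x : G} (hx : x * t = t * x) {k : G} (hk : k ∈ K)
    (h : ∀ y ∈ K, x * y * x⁻¹ = k * y * k⁻¹) : k⁻¹ * x ∈ zpowers v := by
  apply S.cK
  · have h2 := S.Kt k hk
    have h3 : k⁻¹ * t = t * k⁻¹ := by
      rw [inv_mul_eq_iff_eq_mul, ← mul_assoc, h2, mul_inv_cancel_right]
    calc k⁻¹ * x * t = k⁻¹ * t * x := by rw [mul_assoc, hx, ← mul_assoc]
      _ = t * (k⁻¹ * x) := by rw [h3, mul_assoc]
  · intro y hy
    have h4 := h y hy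
    symm
    calc k⁻¹ * x * y = k⁻¹ * (x * y * x⁻¹) * x := by group
      _ = k⁻¹ * (k * y * k⁻¹) * x := by rw [h4]
      _ = y * (k⁻¹ * x) := by group

/-- **The frame.** -/
theorem frT [Finite G] (S : Cfsg.Agent.OddHalf.Front.FE.Start K t v) {U : Subgroup ↥K} {z : ↥K} (H : KH U z)
    (hc : CycOut ↥K) : ∃ T : Subgroup G, FrT t v K (U.map K.subtype) (zpowers (z : G)) T ∧
      (z : G) ∈ ⁅⁅T, T⁆, ⁅T, T⁆⁆ ∧ ⁅⁅T, T⁆, ⁅T, T⁆⁆ ≤ U.map K.subtype := by
  have : Fact (Nat.Prime 2) := ⟨Nat.prime_two⟩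
  have hUp : IsPGroup 2 ↥(U.map K.subtype) := H.pU.map _
  have hUK : U.map K.subtype ≤ K := Subgroup.map_subtype_le _
  have hUm : ∀ P : Subgroup G, IsPGroup 2 ↥P → U.map K.subtype ≤ P → P ≤ K → P ≤ U.map K.subtype := by
    intro P hP hle hPK
    have h1 : IsPGroup 2 ↥(P.subgroupOf K) := hP.comap_of_injective K.subtype K.subtype_injective
    have h2 := H.maxU _ h1 (fun x hx => hle ⟨x, hx, rfl⟩)
    intro x hx
    have h3 : (⟨x, hPK hx⟩ : ↥K) ∈ P.subgroupOf K := hx
    exact ⟨_, h2 h3, rfl⟩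
  obtain ⟨T, pT, vT, tc, max, hTK⟩ := FrGen.exists_T S.toStart0 hUp hUK hUm
  have hKR : ∀ x ∈ K, x ∈ Subgroup.zpowers v → x = 1 := by
    intro x hx hxv
    exact S.cen x hx fun y hy => S.QK x hxv y hy
  have hzz : (z : G) * z = 1 := congrArg Subtype.val H.zz
  have hz1 : (z : G) ≠ 1 := fun h => H.z1 (Subtype.ext h)
  have hzU : (z : G) ∈ U.map K.subtype := ⟨z, H.zU, rfl⟩
  have hmz := mem_zp hzz
  have hcU : ∀ x ∈ T, (∀ u ∈ U.map K.subtype, x * u = u * x) → x ∈ zpowers v ∨ (z : G)⁻¹ * x ∈ zpowers v := by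
    intro x hx hxU
    have hxN := S.nK x (tc x hx)
    obtain ⟨m, hm⟩ := pT ⟨x, hx⟩
    have hm' : x ^ 2 ^ m = 1 := congrArg Subtype.val hm
    rcases H.aut (FrGen.cjK hxN) ⟨m, by
      ext k
      rw [FrGen.cjK_pow, hm']
      simp⟩ (fun u hu => by
      apply Subtype.ext
      change x * u * x⁻¹ = u
      rw [hxU u ⟨u, hu, rfl⟩, mul_inv_cancel_right]) with h | h
    · left
      have h1 := mem_of_inner S.toStart0 (tc x hx) (one_mem K) (fun y hy => by
        have h2 : (FrGen.cjK hxN ⟨y, hy⟩ : ↥K) = ⟨y, hy⟩ := by rw [h]; rfl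
        have h3 : x * y * x⁻¹ = y := congrArg Subtype.val h2
        rw [h3]; group)
      rwa [inv_one, one_mul] at h1
    · right
      exact mem_of_inner S.toStart0 (tc x hx) z.2 (fun y hy => congrArg Subtype.val (h ⟨y, hy⟩))
  -- an element of `K ∩ T` centralising `U` is `1` or `z`
  have hcUK : ∀ x ∈ T, x ∈ K → (∀ u ∈ U.map K.subtype, x * u = u * x) → x = 1 ∨ x = z := by
    intro x hx hxK hxU
    rcases hcU x hx hxU with h | h
    · exact Or.inl (hKR x hxK h)
    · right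
      have h1 := hKR _ (mul_mem (inv_mem z.2) hxK) h
      rwa [inv_mul_eq_one, eq_comm] at h1
  have hUT : U.map K.subtype ≤ T := by rw [← hTK]; exact inf_le_left
  have hzT : ∀ x ∈ T, x * z = z * x := by
    intro x hx
    have h1 : x * z * x⁻¹ ∈ K := (mem_normalizer_iff.1 (S.nK x (tc x hx)) _).1 z.2
    have h2 : x * z * x⁻¹ ∈ T := mul_mem (mul_mem hx (hUT hzU)) (inv_mem hx)
    rcases hcUK _ h2 h1 (fun u hu => by
      have h3 : x⁻¹ * u * x ∈ U.map K.subtype := by
        rw [← hTK]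
        refine ⟨mul_mem (mul_mem (T.inv_mem hx) (hUT hu)) hx, ?_⟩
        apply (mem_normalizer_iff.1 (S.nK x (tc x hx)) _).2
        have e : x * (x⁻¹ * u * x) * x⁻¹ = u := by group
        rw [e]; exact hUK hu
      obtain ⟨w, hw, hw'⟩ := h3
      have h4 : (x⁻¹ * u * x) * z = z * (x⁻¹ * u * x) := by
        rw [← hw']
        exact congrArg Subtype.val (H.zc w hw)
      calc x * z * x⁻¹ * u = x * (z * (x⁻¹ * u * x)) * x⁻¹ := by group
        _ = x * ((x⁻¹ * u * x) * z) * x⁻¹ := by rw [h4]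
        _ = _ := by group) with h | h
    · exfalso
      apply hz1
      rw [mul_inv_eq_one] at h
      exact mul_eq_left.1 h
    · rwa [mul_inv_eq_iff_eq_mul] at h
  have hD : ⁅⁅T, T⁆, ⁅T, T⁆⁆ ≤ U.map K.subtype := derived_le S.toStart0 (cycT_of S.toStart0 hc) pT vT tc hTK
  have hzD : (z : G) ∈ ⁅⁅T, T⁆, ⁅T, T⁆⁆ := by
    have h1 : (⁅⁅U, U⁆, ⁅U, U⁆⁆).map K.subtype ≤ ⁅⁅T, T⁆, ⁅T, T⁆⁆ := by
      rw [map_commutator, map_commutator]
      have h2 : ⁅U.map K.subtype, U.map K.subtype⁆ ≤ ⁅T, T⁆ := commutator_mono hUT hUT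
      exact commutator_mono h2 h2
    exact h1 ⟨z, H.uu, rfl⟩
  refine ⟨T, ⟨?_, ?_⟩, hzD, hD⟩
  · constructor
    · exact S.tt
    · exact S.t1
    · exact S.pQ
    · exact S.tQ
    · exact S.nK
    · exact S.qK
    · exact S.cK
    · exact hKR
    · exact pT
    · exact vT
    · exact tc
    · exact max
    · exact hTK.symm
    · rw [zpowers_le]; exact hzU
    · intro x hx u hu
      rcases (hmz x).1 hx with rfl | rfl
      · rw [one_mul, mul_one]
      · exact hzT u (hUT hu)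
    · intro x hx
      rcases (hmz x).1 hx with rfl | rfl
      · rw [one_mul]
      · exact hzz
    · intro h0
      rw [zpowers_eq_bot] at h0
      exact hz1 h0
    · intro x hx hxU
      rcases hcU x hx hxU with h | h
      · exact ⟨x, h, 1, one_mem _, by rw [mul_one]⟩
      · refine ⟨_, h, z, mem_zpowers _, ?_⟩
        rw [← S.QK _ h z z.2]; group
    · intro x hx g hg
      rcases (hmz x).1 hx with rfl | rfl
      · rw [mul_inv_eq_one] at hg
        exact S.t1 (mul_eq_left.1 hg)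
      · obtain ⟨n, hn, hnt⟩ := exists_norm (g := g) pT tc max (fun x hx => by rw [hg]; exact hzT x hx)
        rw [hg] at hnt
        have hnT : T.map (MulAut.conj n).toMonoidHom = T := by
          rw [Cfsg.Agent.OddHalf.Front.FE.mem_normalizer_iff_map] at hn
          exact hn
        have h1 : n * z * n⁻¹ ∈ ⁅⁅T, T⁆, ⁅T, T⁆⁆ := by
          have h2 : n * z * n⁻¹ ∈ (⁅⁅T, T⁆, ⁅T, T⁆⁆).map (MulAut.conj n).toMonoidHom := ⟨z, hzD, rfl⟩
          rwa [map_commutator, map_commutator, hnT] at h2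
        have h3 := hD h1
        rcases hcUK _ (hUT h3) (hUK h3) (fun u hu => by
          have h4 : n⁻¹ * u * n ∈ T := by
            apply (mem_normalizer_iff.1 hn _).2
            have e : n * (n⁻¹ * u * n) * n⁻¹ = u := by group
            rw [e]; exact hUT hu
          have h5 := hzT _ h4
          calc n * z * n⁻¹ * u = n * (z * (n⁻¹ * u * n)) * n⁻¹ := by group
            _ = n * ((n⁻¹ * u * n) * z) * n⁻¹ := by rw [h5]
            _ = _ := by group) with h | h
        · apply hz1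
          rw [mul_inv_eq_one] at h
          exact mul_eq_left.1 h
        · rw [← hnt] at h
          have h6 : (z : G) = t := by
            have := mul_right_cancel h
            rw [hnt] at this
            exact mul_left_cancel this
          exact hz1 (hKR z z.2 (by rw [h6]; exact S.tQ))
  · intro x hx y hy hx1 hy1
    rcases (hmz x).1 hx with rfl | rfl
    · exact absurd rfl hx1
    rcases (hmz y).1 hy with rfl | rfl
    · exact absurd rfl hy1
    exact ⟨1, one_mem _, by group⟩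

/-! ### The front -/

/-- the output of the front -/
structure Out (t : G) (K : Subgroup G) (U : Subgroup G) (T : Subgroup G) (z n : G) : Prop extends
    FrontCyc.Out t K U (zpowers z) T n z where
  /-- `z ∈ T''` and `T'' ≤ U` -/
  zD : z ∈ ⁅⁅T, T⁆, ⁅T, T⁆⁆
  DU : ⁅⁅T, T⁆, ⁅T, T⁆⁆ ≤ U
  /-- `N(T)` centralises `z` -/
  zN : ∀ m ∈ normalizer (T : Set G), m * z = z * m
  /-- `⟨t⟩ K` has index at most two in `C(t)` -/
  two : ∀ x y : G, x * t = t * x → y * t = t * y → (¬ ∃ k ∈ K, x = k ∨ x = t * k) →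
    (¬ ∃ k ∈ K, y = k ∨ y = t * k) → ∃ k ∈ K, x * y = k ∨ x * y = t * k
  /-- an element of `C(t)` inducing an inner automorphism of `K` lies in `⟨t⟩ K` -/
  inn : ∀ x : G, x * t = t * x → ∀ k ∈ K, (∀ y ∈ K, x * y * x⁻¹ = k * y * k⁻¹) → x = k ∨ x = t * k

/-- **The front.** -/
theorem front [Finite G] (hG : commutator G = ⊤) (S : Cfsg.Agent.OddHalf.Front.FE.Start K t v) {U : Subgroup ↥K}
    {z : ↥K} (H : KH U z) (h2 : Two ↥K) : v = t ∧ ∃ (T : Subgroup G) (n : G), Out t K (U.map K.subtype) T z n := by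
  obtain ⟨T, hT, hzD, hD⟩ := frT S H h2.cycOut
  obtain ⟨hv, n, w, hO⟩ := FrontCyc.front_T hG (cycT_of S.toStart0 h2.cycOut) hT
  subst hv
  have hzz : (z : G) * z = 1 := congrArg Subtype.val H.zz
  have hw : w = z := by
    rcases (mem_zp hzz w).1 hO.sw.zZ with h | h
    · exact absurd h hO.sw.z1
    · exact h
  subst hw
  have hfr := hO.fr
  have hzt := mem_zp (z := v) S.tt
  have hinn : ∀ x : G, x * v = v * x → ∀ k ∈ K, (∀ y ∈ K, x * y * x⁻¹ = k * y * k⁻¹) → x = k ∨ x = v * k := by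
    intro x hx k hk h
    have h1 := mem_of_inner S.toStart0 hx hk h
    rcases (hzt _).1 h1 with h3 | h3
    · left
      rw [inv_mul_eq_one] at h3
      exact h3.symm
    · right
      rw [inv_mul_eq_iff_eq_mul] at h3
      rw [h3]; exact S.toStart0.Kt k hk
  refine ⟨rfl, T, n, hO, hzD, hD, ?_, ?_, hinn⟩
  · intro m hm
    have hmT : T.map (MulAut.conj m).toMonoidHom = T := by
      rw [Cfsg.Agent.OddHalf.Front.FE.mem_normalizer_iff_map] at hm
      exact hm
    have h1 : m * z * m⁻¹ ∈ ⁅⁅T, T⁆, ⁅T, T⁆⁆ := by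
      have h2 : m * z * m⁻¹ ∈ (⁅⁅T, T⁆, ⁅T, T⁆⁆).map (MulAut.conj m).toMonoidHom := ⟨z, hzD, rfl⟩
      rwa [map_commutator, map_commutator, hmT] at h2
    have h3 := hD h1
    have hUK : U.map K.subtype ≤ K := Subgroup.map_subtype_le _
    have hUT : U.map K.subtype ≤ T := by rw [hfr.U_eq]; exact inf_le_left
    obtain ⟨r, hr, w, hw, e⟩ := hfr.cU _ (hUT h3) (fun u hu => by
      have h4 : m⁻¹ * u * m ∈ T := by
        apply (mem_normalizer_iff.1 hm _).2
        have e : m * (m⁻¹ * u * m) * m⁻¹ = u := by group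
        rw [e]; exact hUT hu
      have h5 := hO.sw.zT _ h4
      calc m * z * m⁻¹ * u = m * (z * (m⁻¹ * u * m)) * m⁻¹ := by group
        _ = m * ((m⁻¹ * u * m) * z) * m⁻¹ := by rw [h5]
        _ = _ := by group)
    have hwK : w ∈ K := (zpowers_le.2 z.2) hw
    have hr1 : r = 1 := by
      refine hfr.KR r ?_ hr
      have e' : r = m * z * m⁻¹ * w⁻¹ := by rw [e]; group
      rw [e']
      exact mul_mem (hUK h3) (inv_mem hwK)
    rw [hr1, one_mul] at e
    rcases (mem_zp hzz w).1 hw with rfl | rfl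
    · exfalso
      rw [mul_inv_eq_one] at e
      exact hO.sw.z1 (mul_eq_left.1 e)
    · rwa [mul_inv_eq_iff_eq_mul] at e
  · intro x y hx hy hxo hyo
    have key : ∀ x : G, ∀ hx : x * v = v * x, (¬ ∃ k ∈ K, x = k ∨ x = v * k) →
        ¬ ∃ k, FrGen.cjK (S.nK x hx) = MulAut.conj k := by
      rintro x hx hxo ⟨k, hk⟩
      exact hxo ⟨k, k.2, hinn x hx k k.2 fun y hy => by
        have h1 : FrGen.cjK (S.nK x hx) ⟨y, hy⟩ = MulAut.conj k ⟨y, hy⟩ := by rw [hk]
        exact congrArg Subtype.val h1⟩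
    obtain ⟨k, hk⟩ := h2 _ _ (key x hx hxo) (key y hy hyo)
    have hxy : x * y * v = v * (x * y) := by rw [mul_assoc, hy, ← mul_assoc, hx, mul_assoc]
    refine ⟨k, k.2, hinn _ hxy k k.2 fun u hu => ?_⟩
    have h1 : (FrGen.cjK (S.nK x hx) * FrGen.cjK (S.nK y hy)) ⟨u, hu⟩ = MulAut.conj k ⟨u, hu⟩ := by rw [hk]
    have h3 : x * (y * u * y⁻¹) * x⁻¹ = k * u * (k : G)⁻¹ := congrArg Subtype.val h1
    rw [← h3]; group

end InG

section Ctx

open Cfsg.Agent.OddHalf.Iface

universe u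

variable {G : Type u} [Group G] {K : Subgroup G}

/-- **The front**, from the interface. -/
theorem front_ctx (C : Ctx G) (S : Std G K) (hcyc : Cyc K) (hcen : center ↥K = ⊥) {U : Subgroup ↥K} {z : ↥K}
    (H : KH U z) (h2 : Two ↥K) :
    ∃ (t : G) (T : Subgroup G) (n : G), Cfsg.Agent.OddHalf.Front.FE.Start K t t ∧
      Out t K (U.map K.subtype) T z n := by
  have := C.fin
  obtain ⟨t, v, h⟩ := Cfsg.Agent.OddHalf.Front.FE.exists_start C S hcyc hcen
  obtain ⟨hv, T, n, hT⟩ := front (Cfsg.Agent.OddHalf.Front.FE.commutator_eq_top C) h H h2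
  subst hv
  exact ⟨v, T, n, h, hT⟩

end Ctx

/-! ### The field `aut` from local data -/

section Aut

variable {Y : Type*} [Group Y] {U Q R : Subgroup Y} {z w x y s r : Y}

/-- local data: `Q`, `R` (the 2-radicals of the two parabolics over `U`), `x` of order `5`, `y` of order `3` -/
structure AutData (U : Subgroup Y) (z : Y) (Q R : Subgroup Y) (w x y s r : Y) : Prop where
  QU : Q ≤ U
  RU : R ≤ U
  /-- `C(Q) = ⟨z⟩` -/
  cQ : ∀ k : Y, (∀ q ∈ Q, k * q = q * k) → k = 1 ∨ k = z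
  /-- `C(R) = ⟨z, w⟩` -/
  cR : ∀ k : Y, (∀ q ∈ R, k * q = q * k) → k = 1 ∨ k = z ∨ k = w ∨ k = z * w
  wR : ∀ q ∈ R, w * q = q * w
  xQ : ∀ q ∈ Q, x * q * x⁻¹ ∈ Q
  xz : x * z = z * x
  x5 : x ^ 5 = 1
  yR : ∀ q ∈ R, y * q * y⁻¹ ∈ R
  yz : y * z * y⁻¹ = w
  yw : y * w * y⁻¹ = z * w
  sU : s ∈ U
  sw : s * w * s⁻¹ = z * w
  rR : r ∈ R
  sy : s * y * s⁻¹ = y⁻¹ * r
  gen : ∀ L : Subgroup Y, U ≤ L → x ∈ L → y ∈ L → L = ⊤

theorem aut_of (D : AutData U z Q R w x y s r) (zc : ∀ u ∈ U, u * z = z * u) (zz : z * z = 1) (z1 : z ≠ 1)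
    (α : MulAut Y) (hα : ∀ u ∈ U, α u = u) : α = 1 ∨ ∀ x, α x = z * x * z⁻¹ := by
  have zi : z⁻¹ = z := inv_eq_of_mul_eq_one_left zz
  have ww : w * w = 1 := by
    rw [← D.yz]
    calc y * z * y⁻¹ * (y * z * y⁻¹) = y * (z * z) * y⁻¹ := by group
      _ = 1 := by rw [zz]; group
  have w1 : w ≠ 1 := by
    intro h
    have h1 := D.yz
    rw [h, mul_inv_eq_one] at h1
    exact z1 (mul_eq_left.1 h1)
  have wz : w ≠ z := by
    intro h
    have h1 := D.yw
    have h2 := D.yz
    rw [h] at h1 h2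
    rw [h2, zz] at h1
    exact z1 h1
  have hzw : w * z = z * w := by
    have h4 : (z * w) * (z * w) = 1 := by
      rw [← D.yw]
      calc y * w * y⁻¹ * (y * w * y⁻¹) = y * (w * w) * y⁻¹ := by group
        _ = 1 := by rw [ww]; group
    have h5 : (z * w)⁻¹ = z * w := inv_eq_of_mul_eq_one_left h4
    rw [mul_inv_rev, zi, inv_eq_of_mul_eq_one_left ww] at h5
    exact h5
  -- the restrictions
  have key : ∀ (g : Y) (B : Subgroup Y), B ≤ U → (∀ q ∈ B, g * q * g⁻¹ ∈ B) →
      ∀ q ∈ B, (g⁻¹ * α g) * q = q * (g⁻¹ * α g) := by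
    intro g B hB hg q hq
    have h1 : α (g * q * g⁻¹) = g * q * g⁻¹ := hα _ (hB (hg q hq))
    rw [map_mul, map_mul, hα q (hB hq), map_inv] at h1
    calc g⁻¹ * α g * q = g⁻¹ * (α g * q * (α g)⁻¹) * α g := by group
      _ = g⁻¹ * (g * q * g⁻¹) * α g := by rw [h1]
      _ = q * (g⁻¹ * α g) := by group
  have hx : α x = x := by
    rcases D.cQ _ (key x Q D.QU D.xQ) with h | h
    · rw [inv_mul_eq_one] at h
      exact h.symm
    · exfalso
      rw [inv_mul_eq_iff_eq_mul] at h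
      have h1 : α (x ^ 5) = 1 := by rw [D.x5, map_one]
      rw [map_pow, h, (show Commute x z from D.xz).mul_pow, D.x5, one_mul] at h1
      apply z1
      have e : z ^ 5 = z * z * (z * z) * z := by
        simp only [pow_succ, pow_zero, one_mul, mul_assoc]
      rw [e, zz, one_mul, one_mul] at h1
      exact h1
  have hy : α y = y ∨ α y = z * y * z⁻¹ := by
    have hs := hα s D.sU
    have hr := hα r (D.RU D.rR)
    obtain ⟨c, hc⟩ : ∃ c, c = y⁻¹ * α y := ⟨_, rfl⟩
    have hyc : α y = y * c := by rw [hc]; group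
    have hcR : ∀ q ∈ R, c * q = q * c := by rw [hc]; exact key y R D.RU D.yR
    have h1 : s * c * s⁻¹ = y * c⁻¹ * y⁻¹ := by
      have h2 := congrArg α D.sy
      rw [map_mul, map_mul, map_mul, map_inv, map_inv, hs, hr, hyc] at h2
      have h3 : (s * c * s⁻¹) * r = r * (s * c * s⁻¹) := by
        have h4 : c ∈ ({1, z, w, z * w} : Set Y) := D.cR c hcR
        have hrz : r * z = z * r := zc r (D.RU D.rR)
        have hrw : w * r = r * w := D.wR r D.rR
        have hsz : s * z * s⁻¹ = z := by rw [zc s D.sU]; group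
        rcases h4 with rfl | rfl | rfl | rfl
        · group
        · rw [hsz, hrz]
        · rw [D.sw, mul_assoc, hrw, ← mul_assoc, ← hrz, mul_assoc]
        · have e : s * (z * w) * s⁻¹ = (s * z * s⁻¹) * (s * w * s⁻¹) := by group
          rw [e, hsz, D.sw, ← mul_assoc, zz, one_mul, hrw]
      have h5 : y⁻¹ * (s * c * s⁻¹) * r = c⁻¹ * y⁻¹ * r := by
        calc y⁻¹ * (s * c * s⁻¹) * r = y⁻¹ * ((s * c * s⁻¹) * r) := by group
          _ = y⁻¹ * (r * (s * c * s⁻¹)) := by rw [h3]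
          _ = (y⁻¹ * r) * (s * c * s⁻¹) := by group
          _ = (s * y * s⁻¹) * (s * c * s⁻¹) := by rw [D.sy]
          _ = s * (y * c) * s⁻¹ := by group
          _ = (y * c)⁻¹ * r := h2
          _ = c⁻¹ * y⁻¹ * r := by group
      have h6 := mul_right_cancel h5
      calc s * c * s⁻¹ = y * (y⁻¹ * (s * c * s⁻¹)) := by group
        _ = y * c⁻¹ * y⁻¹ := by rw [h6]; group
    have hsz : s * z * s⁻¹ = z := by rw [zc s D.sU]; group
    rcases D.cR c hcR with h | h | h | h
    · left; rw [hyc, h, mul_one]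
    · exfalso
      rw [h, hsz, zi, D.yz] at h1
      exact wz h1.symm
    · right
      rw [hyc, h, zi]
      have h2 : y⁻¹ * z * y = z * w := by
        have h3 : y * (z * w) * y⁻¹ = z := by
          have e : y * (z * w) * y⁻¹ = (y * z * y⁻¹) * (y * w * y⁻¹) := by group
          rw [e, D.yz, D.yw, ← mul_assoc, hzw, mul_assoc, ww, mul_one]
        calc y⁻¹ * z * y = y⁻¹ * (y * (z * w) * y⁻¹) * y := by rw [h3]
          _ = z * w := by group
      calc y * w = y * (z * (z * w)) := by rw [← mul_assoc z, zz, one_mul]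
        _ = (y * z * y⁻¹) * (y * (z * w) * y⁻¹) * y := by group
        _ = (y * z * y⁻¹) * (y * (y⁻¹ * z * y) * y⁻¹) * y := by rw [h2]
        _ = w * z * y := by rw [D.yz]; group
        _ = z * y * z := by rw [hzw, ← D.yz]; group
    · exfalso
      have h2 : (z * w)⁻¹ = z * w := by
        apply inv_eq_of_mul_eq_one_left
        rw [← D.yw]
        calc y * w * y⁻¹ * (y * w * y⁻¹) = y * (w * w) * y⁻¹ := by group
          _ = 1 := by rw [ww]; group
      have e1 : s * (z * w) * s⁻¹ = w := by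
        have e : s * (z * w) * s⁻¹ = (s * z * s⁻¹) * (s * w * s⁻¹) := by group
        rw [e, hsz, D.sw, ← mul_assoc, zz, one_mul]
      have e2 : y * (z * w) * y⁻¹ = w * (z * w) := by
        have e : y * (z * w) * y⁻¹ = (y * z * y⁻¹) * (y * w * y⁻¹) := by group
        rw [e, D.yz, D.yw]
      rw [h, h2, e1, e2] at h1
      have h3 : z * w = 1 := mul_eq_left.1 h1.symm
      apply wz
      rw [mul_eq_one_iff_eq_inv] at h3
      rw [h3, inv_eq_of_mul_eq_one_left ww]
  rcases hy with hy | hy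
  · left
    let L : Subgroup Y :=
      { carrier := {g | α g = g}
        one_mem' := map_one α
        mul_mem' := fun {a b} (ha : α a = a) (hb : α b = b) => by
          show α (a * b) = a * b
          rw [map_mul, ha, hb]
        inv_mem' := fun {a} (ha : α a = a) => by
          show α a⁻¹ = a⁻¹
          rw [map_inv, ha] }
    have hL : L = ⊤ := D.gen L (fun u hu => hα u hu) hx hy
    ext g
    have hg : g ∈ L := by rw [hL]; exact mem_top g
    exact hg
  · right
    let L : Subgroup Y :=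
      { carrier := {g | α g = z * g * z⁻¹}
        one_mem' := by
          show α 1 = z * 1 * z⁻¹
          rw [map_one]; group
        mul_mem' := fun {a b} (ha : α a = z * a * z⁻¹) (hb : α b = z * b * z⁻¹) => by
          show α (a * b) = z * (a * b) * z⁻¹
          rw [map_mul, ha, hb]; group
        inv_mem' := fun {a} (ha : α a = z * a * z⁻¹) => by
          show α a⁻¹ = z * a⁻¹ * z⁻¹
          rw [map_inv, ha]; group }
    have hL : L = ⊤ := D.gen L (fun u hu => by
      show α u = z * u * z⁻¹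
      rw [hα u hu, ← zc u hu, mul_inv_cancel_right]) (by
      show α x = z * x * z⁻¹
      rw [hx, ← D.xz, mul_inv_cancel_right]) hy
    intro g
    have hg : g ∈ L := by rw [hL]; exact mem_top g
    exact hg

/-- `KH` from local data -/
theorem KH.of_data (pU : IsPGroup 2 ↥U) (maxU : ∀ P : Subgroup Y, IsPGroup 2 ↥P → U ≤ P → P ≤ U)
    (zc : ∀ u ∈ U, u * z = z * u) (zz : z * z = 1) (z1 : z ≠ 1) (uu : z ∈ ⁅⁅U, U⁆, ⁅U, U⁆⁆)
    (D : AutData U z Q R w x y s r) : KH U z where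
  pU := pU
  maxU := maxU
  zc := zc
  zz := zz
  z1 := z1
  uu := uu
  aut := fun α _ hα => aut_of D zc zz z1 α hα

end Aut

end Cfsg.Agent.OddHalf.D7Tits.Front
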