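import Cfsg.Agent.OddHalf.D7Tits.Front
import Cfsg.Agent.OddHalf.D7Tits.Defs

/-!
# ODD D7, `K` = the Tits group: from the front to `Pos0` (helper841)

* `Mod K K₀` : the facts on the model `K₀ ≤ Y` besides `KT`;
* `kh`, `two` : the facts `KH`, `Two` of the front from `KT` and `Mod`;
* `exists_pos0` : from `Ctx`, `Std`, `Cyc` and the two models (`Y` the Tits group, `Y = ²F₄(2)`) to `Defs.Pos0`.
-/

set_option autoImplicit false

namespace Cfsg.Agent.OddHalf.D7Tits.FrontPos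

open Subgroup Cfsg.Agent.OddHalf.D7Tits.Defs Cfsg.Agent.OddHalf.D7Tits.Front
open scoped commutatorElement

universe u v

/-- the facts on the model besides `KT`. `K₀` is the Tits group in `Y`. -/
structure Mod {Y : Type u} [Group Y] (K : KT Y) (K₀ : Subgroup Y) : Prop where
  EK : K.E ≤ K₀
  sK : K.s ∈ K₀
  /-- `Y = K₀⟨j⟩` -/
  Yj : ∀ y : Y, y ∈ K₀ ∨ y * K.j⁻¹ ∈ K₀
  τK : ∀ y ∈ K₀, K.τ y ∈ K₀
  odd : ¬ 2 ∣ (K.U.subgroupOf K₀).index
  /-- `τ` is not inner on `K₀` -/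
  out : ∀ k ∈ K₀, ¬ ∀ u ∈ K.U, u ∈ K₀ → k * K.τ u * k⁻¹ = u
  /-- `Aut K₀ = Inn K₀ ⟨τ⟩` -/
  aut : ∀ α : MulAut ↥K₀, (∃ k, α = MulAut.conj k) ∨ ∃ k : ↥K₀, ∀ y : ↥K₀, (α y : Y) = k * K.τ y * (k : Y)⁻¹

section KH

variable {Y : Type u} [Group Y] {K : KT Y} {K₀ : Subgroup Y}

theorem Mod.zK (M : Mod K K₀) : K.z ∈ K₀ := M.EK (K.Q_le_E (K.A_le_Q K.z_A))

/-- `z ∈ (U ∩ K₀)''` -/
theorem z_mem (M : Mod K K₀) : K.z ∈ ⁅⁅K.U ⊓ K₀, K.U ⊓ K₀⁆, ⁅K.U ⊓ K₀, K.U ⊓ K₀⁆⁆ := by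
  have hQ : K.Q ≤ K.U ⊓ K₀ := le_inf K.Q_le_U (K.Q_le_E.trans M.EK)
  have hA : K.A ≤ ⁅K.U ⊓ K₀, K.U ⊓ K₀⁆ := by
    rw [← K.comm_Q]
    exact commutator_mono hQ hQ
  have hs : K.s ∈ K.U ⊓ K₀ := ⟨K.s_U, M.sK⟩
  have hr : K.r ∈ K.U ⊓ K₀ := hQ K.r_Q
  have hc : ⁅K.s, K.r⁆ ∈ ⁅K.U ⊓ K₀, K.U ⊓ K₀⁆ := commutator_mem_commutator hs hr
  have hq : K.q 3 ∈ ⁅K.U ⊓ K₀, K.U ⊓ K₀⁆ := hA (K.q_A 3)
  have hz : ∀ g ∈ K.U, g * K.z = K.z * g := fun g hg => (K.mem_P g).1 (K.U_le_P hg)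
  have e1 : K.s⁻¹ * K.q 3 * K.s = K.q 1 := by
    rw [K.q_s]
    congr 1
  have e2 := K.r1
  have e3 := K.r3
  have hsz := hz _ K.s_U
  have hrz := hz _ (K.Q_le_U K.r_Q)
  have e4 : K.s * K.q 1 * K.s⁻¹ = K.q 3 := by rw [← e1]; group
  have e5 : K.r * K.q 3 * K.r⁻¹ = K.q 3 := by
    calc K.r * K.q 3 * K.r⁻¹ = K.r * (K.r⁻¹ * K.q 3 * K.r) * K.r⁻¹ := by rw [e3]
      _ = K.q 3 := by group
  have key : ⁅K.s, K.r⁆⁻¹ * K.q 3 * ⁅K.s, K.r⁆ = K.q 3 * K.z := by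
    rw [commutatorElement_def]
    calc (K.s * K.r * K.s⁻¹ * K.r⁻¹)⁻¹ * K.q 3 * (K.s * K.r * K.s⁻¹ * K.r⁻¹)
        = K.r * (K.s * (K.r⁻¹ * (K.s⁻¹ * K.q 3 * K.s) * K.r) * K.s⁻¹) * K.r⁻¹ := by group
      _ = K.r * (K.s * (K.q 1 * K.z) * K.s⁻¹) * K.r⁻¹ := by rw [e1, e2]
      _ = K.r * ((K.s * K.q 1) * (K.z * K.s⁻¹)) * K.r⁻¹ := by group
      _ = K.r * ((K.s * K.q 1 * K.s⁻¹) * K.z) * K.r⁻¹ := by
          have h1 : K.z * K.s⁻¹ = K.s⁻¹ * K.z := by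
            rw [← hz _ (inv_mem K.s_U)]
          rw [h1]; group
      _ = (K.r * K.q 3) * (K.z * K.r⁻¹) := by rw [e4]; group
      _ = (K.r * K.q 3 * K.r⁻¹) * K.z := by
          have h1 : K.z * K.r⁻¹ = K.r⁻¹ * K.z := by
            rw [← hz _ (inv_mem (K.Q_le_U K.r_Q))]
          rw [h1]; group
      _ = K.q 3 * K.z := by rw [e5]
  have h1 : ⁅⁅K.s, K.r⁆⁻¹, K.q 3⁆ = K.z := by
    rw [commutatorElement_def, inv_inv, key, hz _ (K.Q_le_U (K.A_le_Q (K.q_A 3)))]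
    group
  rw [← h1]
  exact commutator_mem_commutator (inv_mem hc) hq

/-- **The facts of the front.** -/
theorem kh (M : Mod K K₀) : KH (K.U.subgroupOf K₀) (⟨K.z, M.zK⟩ : ↥K₀) where
  pU := K.U_p.comap_subtype
  maxU := by
    have := K.fin
    have : Fact (Nat.Prime 2) := ⟨Nat.prime_two⟩
    intro P hP hle
    exact ((K.U_p.comap_subtype : IsPGroup 2 ↥(K.U.subgroupOf K₀)).toSylow M.odd |>.is_maximal' hP hle).le
  zc := fun u hu => Subtype.ext ((K.mem_P u).1 (K.U_le_P hu))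
  zz := Subtype.ext K.zz
  z1 := fun h => K.z1 (congrArg Subtype.val h)
  uu := by
    have h1 : (⁅⁅K.U.subgroupOf K₀, K.U.subgroupOf K₀⁆, ⁅K.U.subgroupOf K₀, K.U.subgroupOf K₀⁆⁆).map K₀.subtype =
        ⁅⁅K.U ⊓ K₀, K.U ⊓ K₀⁆, ⁅K.U ⊓ K₀, K.U ⊓ K₀⁆⁆ := by
      rw [map_commutator, map_commutator, subgroupOf_map_subtype]
    have hd := z_mem M
    rw [← h1] at hd
    obtain ⟨x, hx, hxz⟩ := hd
    have h2 : x = ⟨K.z, M.zK⟩ := Subtype.ext hxz
    rwa [h2] at hx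
  aut := by
    intro α _ hα
    have hU : ∀ u ∈ K.U, ∀ hu : u ∈ K₀, (α ⟨u, hu⟩ : Y) = u := fun u hu hu0 => congrArg Subtype.val (hα ⟨u, hu0⟩ hu)
    rcases M.aut α with ⟨k, rfl⟩ | ⟨k, hk⟩
    · have h1 : ∀ e ∈ K.Q, (k : Y) * e = e * k := by
        intro e he
        have h2 : (k : Y) * e * (k : Y)⁻¹ = e := hU e (K.Q_le_U he) (M.EK (K.Q_le_E he))
        rwa [mul_inv_eq_iff_eq_mul] at h2
      rcases K.cent_Q _ h1 with h2 | h2
      · left
        have h3 : k = 1 := Subtype.ext h2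
        rw [h3, map_one]
      · right
        intro x
        apply Subtype.ext
        show (k : Y) * x * (k : Y)⁻¹ = K.z * x * K.z⁻¹
        rw [h2]
    · exfalso
      refine M.out k k.2 fun u hu hu0 => ?_
      rw [← hk ⟨u, hu0⟩]
      exact hU u hu hu0

theorem two (M : Mod K K₀) : Two ↥K₀ := by
  intro α β hα hβ
  rcases M.aut α with h | ⟨k, hk⟩
  · exact absurd h hα
  rcases M.aut β with h | ⟨l, hl⟩
  · exact absurd h hβ
  refine ⟨k * ⟨K.τ l, M.τK l l.2⟩ * ⟨K.z, M.zK⟩, ?_⟩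
  ext y
  show (α (β y) : Y) = k * K.τ l * K.z * y * (k * K.τ l * K.z : Y)⁻¹
  rw [hk, hl, map_mul, map_mul, K.ττ, map_inv]
  group

end KH

/-! ### Transport -/

theorem khMap {Y Y' : Type*} [Group Y] [Group Y'] (e : Y ≃* Y') {U : Subgroup Y} {z : Y} (H : KH U z) :
    KH (U.map e.toMonoidHom) (e z) where
  pU := H.pU.map _
  maxU := by
    intro P hP hle
    have h1 : IsPGroup 2 ↥(P.map e.symm.toMonoidHom) := hP.map _
    have h2 := H.maxU _ h1 (fun u hu => ⟨e u, hle ⟨u, hu, rfl⟩, by simp⟩)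
    intro x hx
    exact ⟨e.symm x, h2 ⟨x, hx, rfl⟩, by simp⟩
  zc := by
    rintro _ ⟨u, hu, rfl⟩
    show e u * e z = e z * e u
    rw [← map_mul, ← map_mul, H.zc u hu]
  zz := by rw [← map_mul, H.zz, map_one]
  z1 := fun h => H.z1 (e.injective (by rw [h, map_one]))
  uu := by
    have h1 : e z ∈ (⁅⁅U, U⁆, ⁅U, U⁆⁆).map e.toMonoidHom := ⟨z, H.uu, rfl⟩
    rwa [map_commutator, map_commutator] at h1
  aut := by
    rintro α ⟨n, hn⟩ hα
    have hpow : ∀ k : ℕ, ((MulAut.congr e.symm) α) ^ k = (MulAut.congr e.symm) (α ^ k) := fun k => by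
      rw [map_pow]
    rcases H.aut ((MulAut.congr e.symm) α) ⟨n, by rw [hpow, hn, map_one]⟩ (fun u hu => by
      have h2 := hα (e u) ⟨u, hu, rfl⟩
      show e.symm (α (e u)) = u
      rw [h2, MulEquiv.symm_apply_apply]) with h | h
    · left
      have h1 : α = (MulAut.congr e.symm).symm (MulAut.congr e.symm α) := (MulEquiv.symm_apply_apply _ _).symm
      rw [h1, h, map_one]
    · right
      intro x
      have h2 : e.symm (α (e (e.symm x))) = z * e.symm x * z⁻¹ := h (e.symm x)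
      have h3 := congrArg e h2
      simpa using h3

/-! ### The position -/

section Pos

variable {Y : Type u} [Group Y] {K : KT Y} {K₀ : Subgroup Y} {G : Type v} [Group G] {N : Subgroup G} {t v : G}

/-- the embedding -/
def emb (e : ↥K₀ ≃* ↥N) : ↥K₀ →* G := N.subtype.comp e.toMonoidHom

theorem emb_injective (e : ↥K₀ ≃* ↥N) : Function.Injective (emb e) := fun _ _ h => e.injective (Subtype.ext h)

theorem emb_mem (e : ↥K₀ ≃* ↥N) (y : ↥K₀) : emb e y ∈ N := (e y).2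

theorem exists_emb (e : ↥K₀ ≃* ↥N) {x : G} (hx : x ∈ N) : ∃ y, emb e y = x :=
  ⟨e.symm ⟨x, hx⟩, by show ((e (e.symm ⟨x, hx⟩) : ↥N) : G) = x; rw [e.apply_symm_apply]⟩

/-- the action of `c ∈ C(t)` on `K₀` -/
theorem exists_act [Finite G] (St : Cfsg.Agent.OddHalf.Front.FE.Start N t v) (M : Mod K K₀) (e : ↥K₀ ≃* ↥N) {c : G}
    (hc : c * t = t * c) : (∃ k : ↥K₀, ∀ y, c * emb e y * c⁻¹ = emb e (k * y * k⁻¹)) ∨
      ∃ k : ↥K₀, ∀ y : ↥K₀, c * emb e y * c⁻¹ = emb e (k * ⟨K.τ y, M.τK y y.2⟩ * k⁻¹) := by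
  have hcN := St.nK c hc
  let β : MulAut ↥K₀ := MulAut.congr e.symm (Cfsg.Agent.OddHalf.D7Out.FrGen.cjK hcN)
  have hβ : ∀ y, emb e (β y) = c * emb e y * c⁻¹ := by
    intro y
    show ((e (e.symm ((Cfsg.Agent.OddHalf.D7Out.FrGen.cjK hcN) (e.symm.symm y))) : ↥N) : G) = _
    rw [e.apply_symm_apply]
    rfl
  rcases M.aut β with ⟨k, hk⟩ | ⟨k, hk⟩
  · left
    refine ⟨k, fun y => ?_⟩
    rw [← hβ, hk]
    rfl
  · right
    refine ⟨k, fun y => ?_⟩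
    rw [← hβ]
    congr 1
    exact Subtype.ext (hk y)

/-- **`Pos0`** from `Start`. -/
theorem pos0_of [Finite G] (hG : commutator G = ⊤) (St : Cfsg.Agent.OddHalf.Front.FE.Start N t v) (M : Mod K K₀)
    (e : ↥K₀ ≃* ↥N) :
    v = t ∧ ((∀ c, c * t = t * c → ∃ k ∈ N, c = k ∨ c = t * k) → K.j = 1 → Pos0 K K₀ (emb e) t 1) ∧
      ((¬ ∀ c, c * t = t * c → ∃ k ∈ N, c = k ∨ c = t * k) → K.j ∉ K₀ → ∃ f, Pos0 K K₀ (emb e) t f) := by
  obtain ⟨hv, T, n, O⟩ := Front.front hG St (khMap e (kh M)) ((two M).of_equiv e)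
  subst hv
  have hKt : ∀ y, v * emb e y = emb e y * v := fun y => (St.toStart0.Kt _ (emb_mem e y)).symm
  have hvN : ∀ y, emb e y ≠ v := by
    intro y h
    refine St.t1 (St.cen v ?_ fun y hy => St.toStart0.Kt y hy)
    rw [← h]
    exact emb_mem e y
  have hvi : v⁻¹ = v := inv_eq_of_mul_eq_one_left St.tt
  have hfus : ∃ n : G, n * v * n⁻¹ = v * emb e ⟨K.z, M.zK⟩ ∧ n * emb e ⟨K.z, M.zK⟩ = emb e ⟨K.z, M.zK⟩ * n :=
    ⟨n, O.sw.nt, O.sw.nz⟩
  -- elements of `C(t)` acting as `k ∈ K₀`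
  have hin : ∀ c : G, c * v = v * c → ∀ k : ↥K₀, (∀ y, c * emb e y * c⁻¹ = emb e (k * y * k⁻¹)) →
      c = emb e k ∨ c = v * emb e k := by
    intro c hc k hk
    refine O.inn c hc _ (emb_mem e k) fun y hy => ?_
    obtain ⟨y, rfl⟩ := exists_emb e hy
    rw [hk, map_mul, map_mul, map_inv]
  refine ⟨rfl, fun hCL hj => ?_, fun hOUT hj => ?_⟩
  · exact
      { finG := inferInstance
        perf := hG
        inj := emb_injective e
        tt := St.tt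
        t1 := St.t1
        ti := hKt
        tY := hvN
        EK := M.EK
        sK := M.sK
        Yj := M.Yj
        fj := Or.inl ⟨hj, rfl⟩
        ft := by rw [one_mul, mul_one]
        τK := M.τK
        fi := fun h => absurd rfl h
        cen := fun c hc => by
          obtain ⟨k, hk, h1⟩ := hCL c hc
          obtain ⟨y, rfl⟩ := exists_emb e hk
          exact ⟨y, h1.elim Or.inl fun h => Or.inr (Or.inl h)⟩
        fus := hfus }
  · -- an element acting as `τ`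
    obtain ⟨f, hf, hfi⟩ : ∃ f : G, f * v = v * f ∧ ∀ y : ↥K₀, f * emb e y * f⁻¹ = emb e ⟨K.τ y, M.τK y y.2⟩ := by
      push Not at hOUT
      obtain ⟨c, hc, hco⟩ := hOUT
      rcases exists_act St M e hc with ⟨k, hk⟩ | ⟨k, hk⟩
      · exfalso
        rcases hin c hc k hk with h1 | h1
        · exact (hco _ (emb_mem e k)).1 h1
        · exact (hco _ (emb_mem e k)).2 h1
      · refine ⟨(emb e k)⁻¹ * c, ?_, fun y => ?_⟩
        · have h1 : (emb e k)⁻¹ * v = v * (emb e k)⁻¹ := by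
            have := hKt k⁻¹
            rw [map_inv] at this
            exact this.symm
          rw [mul_assoc, hc, ← mul_assoc, h1, mul_assoc]
        · calc (emb e k)⁻¹ * c * emb e y * ((emb e k)⁻¹ * c)⁻¹ = (emb e k)⁻¹ * (c * emb e y * c⁻¹) * emb e k := by group
            _ = _ := by
              rw [hk, map_mul, map_mul, map_inv]; group
    have hff : f * f * v = v * (f * f) := by rw [mul_assoc, hf, ← mul_assoc, hf, mul_assoc]
    have hf2 : f * f = emb e ⟨K.z, M.zK⟩ ∨ f * f = v * emb e ⟨K.z, M.zK⟩ := by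
      refine hin _ hff _ fun y => ?_
      calc f * f * emb e y * (f * f)⁻¹ = f * (f * emb e y * f⁻¹) * f⁻¹ := by group
        _ = emb e ⟨K.τ (K.τ y), M.τK _ (M.τK y y.2)⟩ := by rw [hfi, hfi]
        _ = _ := by
          congr 1
          exact Subtype.ext (K.ττ y)
    exact ⟨f,
      { finG := inferInstance
        perf := hG
        inj := emb_injective e
        tt := St.tt
        t1 := St.t1
        ti := hKt
        tY := hvN
        EK := M.EK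
        sK := M.sK
        Yj := M.Yj
        fj := Or.inr (hf2.imp (fun h => ⟨hj, h⟩) fun h => ⟨hj, h⟩)
        ft := hf
        τK := M.τK
        fi := fun _ y hy => hfi ⟨y, hy⟩
        cen := fun c hc => by
          rcases exists_act St M e hc with ⟨k, hk⟩ | ⟨k, hk⟩
          · exact ⟨k, (hin c hc k hk).elim Or.inl fun h => Or.inr (Or.inl h)⟩
          · have hcf : c * f⁻¹ * v = v * (c * f⁻¹) := by
              have h1 : f⁻¹ * v = v * f⁻¹ := by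
                rw [inv_mul_eq_iff_eq_mul, ← mul_assoc, hf, mul_inv_cancel_right]
              rw [mul_assoc, h1, ← mul_assoc, hc, mul_assoc]
            have h1 := hin (c * f⁻¹) hcf k fun y => by
              obtain ⟨w, hw⟩ : ∃ w : ↥K₀, (⟨K.τ w, M.τK w w.2⟩ : ↥K₀) = y := by
                refine ⟨⟨K.z, M.zK⟩⁻¹ * ⟨K.τ y, M.τK y y.2⟩ * ⟨K.z, M.zK⟩, Subtype.ext ?_⟩
                show K.τ (K.z⁻¹ * K.τ y * K.z) = y
                rw [map_mul, map_mul, map_inv, K.τz, K.ττ]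
                group
              calc c * f⁻¹ * emb e y * (c * f⁻¹)⁻¹ = c * (f⁻¹ * emb e y * f) * c⁻¹ := by group
                _ = c * (f⁻¹ * (f * emb e w * f⁻¹) * f) * c⁻¹ := by rw [hfi, hw]
                _ = c * emb e w * c⁻¹ := by group
                _ = emb e (k * y * k⁻¹) := by rw [hk, hw]
            refine ⟨k, Or.inr (Or.inr ?_)⟩
            rcases h1 with h1 | h1
            · left
              rw [← h1, inv_mul_cancel_right]
            · right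
              rw [← h1, inv_mul_cancel_right]
        fus := hfus }⟩

end Pos

section Ctx

open Cfsg.Agent.OddHalf.Iface

/-- **The front for `K` = the Tits group**: `Pos0` in one of the two models. -/
theorem exists_pos0 {G : Type v} [Group G] (C : Ctx G) {N : Subgroup G} (S : Std G N) (hcyc : Cyc N)
    {Yc : Type u} [Group Yc] {Kc : KT Yc} {Kc₀ : Subgroup Yc} (Mc : Mod Kc Kc₀) (hc : Kc.j = 1) (ec : ↥Kc₀ ≃* ↥N)
    {Yo : Type u} [Group Yo] {Ko : KT Yo} {Ko₀ : Subgroup Yo} (Mo : Mod Ko Ko₀) (ho : Ko.j ∉ Ko₀) (eo : ↥Ko₀ ≃* ↥N)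
    (hcen : center ↥N = ⊥) :
    (∃ t, Pos0 Kc Kc₀ (emb ec) t 1) ∨ ∃ t f, Pos0 Ko Ko₀ (emb eo) t f := by
  have := C.fin
  have hG := Cfsg.Agent.OddHalf.Front.FE.commutator_eq_top C
  obtain ⟨t, v, h⟩ := Cfsg.Agent.OddHalf.Front.FE.exists_start C S hcyc hcen
  by_cases hCL : ∀ c, c * t = t * c → ∃ k ∈ N, c = k ∨ c = t * k
  · exact Or.inl ⟨t, (pos0_of hG h Mc ec).2.1 hCL hc⟩
  · exact Or.inr ⟨t, (pos0_of hG h Mo eo).2.2 hCL ho⟩

end Ctx

end Cfsg.Agent.OddHalf.D7Tits.FrontPos
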