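import Cfsg.Agent.OddHalf.D7Tits.FrontPos
import Cfsg.Agent.TitsK.Main

/-!
# ODD D7, `K` = the Tits group: `Mod` from `TitsK.TData` (helper841)

* `mod_out` : `Y = H = ²F₄(2)`, `K₀ = T`; `mod_cl` : `Y = K₀ = T`;
* `exists_pos0` : `Pos0` from `Ctx`, `Std`, `Cyc`, `N ≅ D.T` and the two instances of `KT`.
-/

set_option autoImplicit false
set_option linter.unusedSectionVars false

namespace Cfsg.Agent.OddHalf.D7Tits.ModInst

open Subgroup Cfsg.Agent.TitsK Cfsg.Agent.OddHalf.D7Tits.Defs Cfsg.Agent.OddHalf.D7Tits.Front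
open Cfsg.Agent.OddHalf.D7Tits.FrontPos

universe u v

variable {G : Type u} [Group G] [Finite G] (D : TData G)

/-- `k j` with `k ∈ T`, `j ∈ H ∖ T` does not centralise `S` -/
theorem out_aux {j k : G} (hj : j ∈ D.H) (hjT : j ∉ D.T) (hk : k ∈ D.T)
    (h : ∀ s ∈ D.S, k * (j * s * j⁻¹) * k⁻¹ = s) : False := by
  have hz : D.z ∈ D.T := D.V_le_T D.z_mem_V
  have h1 : ∀ s ∈ D.S, (k * j) * s = s * (k * j) := by
    intro s hs
    have h2 := h s hs
    calc k * j * s = (k * (j * s * j⁻¹) * k⁻¹) * (k * j) := by group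
      _ = s * (k * j) := by rw [h2]
  rcases D.cent_S' (mul_mem (D.T_le hk) hj) h1 with h2 | h2
  · apply hjT
    rw [mul_eq_one_iff_eq_inv'] at h2
    rw [h2]
    exact inv_mem hk
  · apply hjT
    have h3 : j = k⁻¹ * D.z := by rw [← h2]; group
    rw [h3]
    exact mul_mem (inv_mem hk) hz

/-- every automorphism of `T` is inner or inner times `j` -/
theorem aut_aux {j : G} (hj : j ∈ D.H) (hjT : j ∉ D.T) (α : MulAut ↥D.T) :
    (∃ k, α = MulAut.conj k) ∨ ∃ k : ↥D.T, ∀ y : ↥D.T, (α y : G) = k * (j * y * j⁻¹) * (k : G)⁻¹ := by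
  obtain ⟨h, rfl⟩ := D.PhiT_surjective α
  by_cases hT : (h : G) ∈ D.T
  · exact Or.inl ⟨_, D.PhiT_inn h hT⟩
  · right
    have h1 : (h : G) * j⁻¹ ∈ D.T := by
      rw [D.mul_mem_iff h.2 (inv_mem hj)]
      exact ⟨fun h2 => absurd h2 hT, fun h2 => absurd (by simpa using inv_mem h2) hjT⟩
    refine ⟨⟨_, h1⟩, fun y => ?_⟩
    rw [TData.PhiT_apply]
    show (h : G) * y * (h : G)⁻¹ = (h : G) * j⁻¹ * (j * y * j⁻¹) * ((h : G) * j⁻¹)⁻¹
    group

/-- **OUT** -/
theorem mod_out (K : KT ↥D.H) (hU : K.U = D.U.subgroupOf D.H) (hE : ∀ y ∈ K.E, (y : G) ∈ D.T)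
    (hs : (K.s : G) ∈ D.T) (hj : (K.j : G) ∉ D.T) : Mod K (D.T.subgroupOf D.H) := by
  have hτ : ∀ y, K.τ y = K.j * y * K.j⁻¹ := by
    rcases K.j_or with h | h
    · exfalso
      apply hj
      rw [h]
      exact one_mem _
    · exact h.2
  refine
    { EK := fun y hy => hE y hy
      sK := hs
      Yj := fun y => ?_
      τK := fun y hy => ?_
      odd := ?_
      out := fun k hk h => ?_
      aut := fun α => ?_ }
  · by_cases hy : (y : G) ∈ D.T
    · exact Or.inl hy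
    · right
      show (y : G) * (K.j : G)⁻¹ ∈ D.T
      rw [D.mul_mem_iff y.2 (inv_mem K.j.2)]
      exact ⟨fun h2 => absurd h2 hy, fun h2 => absurd (by simpa using inv_mem h2) hj⟩
  · rw [hτ]
    exact D.T_conj _ K.j.2 _ hy
  · rw [hU]
    show ¬ 2 ∣ (D.U.subgroupOf D.H).relIndex (D.T.subgroupOf D.H)
    rw [relIndex_subgroupOf D.T_le, ← inf_relIndex_right]
    exact D.odd_S
  · refine out_aux D K.j.2 hj hk fun s hs => ?_
    have hsH : s ∈ D.H := D.U_le hs.1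
    have h1 := h ⟨s, hsH⟩ (by rw [hU]; exact hs.1) hs.2
    rw [hτ] at h1
    exact congrArg Subtype.val h1
  · let e : ↥(D.T.subgroupOf D.H) ≃* ↥D.T := subgroupOfEquivOfLe D.T_le
    have he : ∀ y : ↥(D.T.subgroupOf D.H), ((e y : ↥D.T) : G) = ((y : ↥D.H) : G) := fun _ => rfl
    have he' : ∀ y : ↥D.T, (((e.symm y : ↥(D.T.subgroupOf D.H)) : ↥D.H) : G) = (y : G) := fun _ => rfl
    have hα : ∀ y, MulAut.congr e α (e y) = e (α y) := by
      intro y
      show e (α (e.symm (e y))) = _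
      rw [e.symm_apply_apply]
    rcases aut_aux D K.j.2 hj (MulAut.congr e α) with ⟨k, hk⟩ | ⟨k, hk⟩
    · left
      refine ⟨e.symm k, ?_⟩
      apply MulEquiv.ext
      intro y
      apply e.injective
      rw [← hα, hk]
      show k * e y * k⁻¹ = e (e.symm k * y * (e.symm k)⁻¹)
      rw [map_mul, map_mul, map_inv, e.apply_symm_apply]
    · right
      refine ⟨e.symm k, fun y => ?_⟩
      apply Subtype.ext
      have h1 := hk (e y)
      rw [hα] at h1
      rw [hτ]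
      exact h1

/-- **CL** -/
theorem mod_cl (K : KT ↥D.T) (hU : K.U = D.S.subgroupOf D.T) {j : G} (hj : j ∈ D.H) (hjT : j ∉ D.T)
    (hτ : ∀ y : ↥D.T, (K.τ y : G) = j * y * j⁻¹) : Mod K ⊤ := by
  refine
    { EK := le_top
      sK := mem_top _
      Yj := fun y => Or.inl (mem_top _)
      τK := fun y hy => mem_top _
      odd := ?_
      out := fun k hk h => ?_
      aut := fun α => ?_ }
  · rw [hU]
    show ¬ 2 ∣ (D.S.subgroupOf D.T).relIndex ⊤
    rw [relIndex_top_right]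
    exact D.odd_S
  · refine out_aux D hj hjT k.2 fun s hs => ?_
    have h1 := h ⟨s, D.S_le_T hs⟩ (by rw [hU]; exact hs) (mem_top _)
    have h2 := congrArg Subtype.val h1
    rw [← hτ ⟨s, D.S_le_T hs⟩]
    exact h2
  · let e : ↥(⊤ : Subgroup ↥D.T) ≃* ↥D.T := topEquiv
    have hα : ∀ y, MulAut.congr e α (e y) = e (α y) := by
      intro y
      show e (α (e.symm (e y))) = _
      rw [e.symm_apply_apply]
    rcases aut_aux D hj hjT (MulAut.congr e α) with ⟨k, hk⟩ | ⟨k, hk⟩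
    · left
      refine ⟨e.symm k, ?_⟩
      apply MulEquiv.ext
      intro y
      apply e.injective
      rw [← hα, hk]
      show k * e y * k⁻¹ = e (e.symm k * y * (e.symm k)⁻¹)
      rw [map_mul, map_mul, map_inv, e.apply_symm_apply]
    · right
      refine ⟨e.symm k, fun y => ?_⟩
      apply Subtype.ext
      have h1 := hk (e y)
      rw [hα] at h1
      show ((α y : ↥(⊤ : Subgroup ↥D.T)) : ↥D.T).1 = (k : G) * (K.τ y : G) * (k : G)⁻¹
      rw [hτ]
      exact h1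

theorem center_eq_bot {N : Type v} [Group N] (e : ↥D.T ≃* N) : center N = ⊥ := by
  rw [eq_bot_iff]
  intro x hx
  rw [mem_bot]
  have h1 : ((e.symm x : ↥D.T) : G) = 1 := by
    refine D.cent_T (D.T_le (e.symm x).2) fun t ht => ?_
    have h2 := mem_center_iff.1 hx (e ⟨t, ht⟩)
    have h3 := congrArg e.symm h2
    rw [map_mul, map_mul, e.symm_apply_apply] at h3
    exact (congrArg Subtype.val h3).symm
  have h2 : e.symm x = 1 := Subtype.ext h1
  rw [← e.apply_symm_apply x, h2, map_one]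

theorem equiv_TT {N : Type v} [Group N] (h : Cfsg.Lie.IsoTits N) : Nonempty (↥TT ≃* N) := by
  obtain ⟨e⟩ := h
  obtain ⟨e'⟩ := exists_equiv
  exact ⟨(e.trans e').symm⟩

section Ctx

open Cfsg.Agent.OddHalf.Iface

/-- **`Pos0` for `N ≅ T`.** -/
theorem exists_pos0 {X : Type v} [Group X] (C : Ctx X) {N : Subgroup X} (S : Std X N) (hcyc : Cyc N)
    (Kc : KT ↥D.T) (hUc : Kc.U = D.S.subgroupOf D.T) (hjc : Kc.j = 1) {j : G} (hj : j ∈ D.H) (hjT : j ∉ D.T)
    (hτ : ∀ y : ↥D.T, (Kc.τ y : G) = j * y * j⁻¹)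
    (Ko : KT ↥D.H) (hUo : Ko.U = D.U.subgroupOf D.H) (hEo : ∀ y ∈ Ko.E, (y : G) ∈ D.T)
    (hso : (Ko.s : G) ∈ D.T) (hjo : (Ko.j : G) ∉ D.T) (e : ↥D.T ≃* ↥N) :
    (∃ t, Pos0 Kc ⊤ (emb (topEquiv.trans e)) t 1) ∨
      ∃ t f, Pos0 Ko (D.T.subgroupOf D.H) (emb ((subgroupOfEquivOfLe D.T_le).trans e)) t f :=
  FrontPos.exists_pos0 C S hcyc (mod_cl D Kc hUc hj hjT hτ) hjc _ (mod_out D Ko hUo hEo hso hjo) hjo _ (center_eq_bot D e)

end Ctx

end Cfsg.Agent.OddHalf.D7Tits.ModInst
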