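import Cfsg.Agent.OddHalf.D7Tits.Defs
import Cfsg.Agent.OddHalf.D7Tits.Front
import Cfsg.Agent.TitsK.SheetT

/-!
# ODD D7, `K` = the Tits group: from the front to `Pos0` (helper956)

`Pair D KC KO` : compatibility of the K-facts `KC : KT ↥D.T` (`j = 1`) and `KO : KT ↥D.H` (`j * j = z`).
`pos0_of` : `Ctx G`, `Std G K`, `Cyc K`, `↥K ≃* ↥D.T` give a position `Pos0`, of type CL (`Y = T`) or OUT (`Y = H`).
-/

set_option autoImplicit false

namespace Cfsg.Agent.OddHalf.D7Tits.PosOf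

open Subgroup Cfsg.Agent.OddHalf.D7Tits.Defs Cfsg.Agent.OddHalf.D7Tits.Front
open scoped commutatorElement

universe u v

/-! ### The facts of the front -/

section KH

variable {Y : Type u} [Group Y]

theorem conj_r (K : KT Y) {w : Y} {k : ZMod 5} (m : ℕ) :
    (((K.x ^ m)⁻¹ * w * K.x ^ m)⁻¹ * K.q (k + m) * ((K.x ^ m)⁻¹ * w * K.x ^ m) = K.q (k + m) ↔
      w⁻¹ * K.q k * w = K.q k) := by
  have hq : ∀ (m : ℕ) (k : ZMod 5), (K.x ^ m)⁻¹ * K.q k * K.x ^ m = K.q (k + m) := by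
    intro m
    induction m with
    | zero => intro k; simp
    | succ m ih =>
      intro k
      have e : (K.x ^ (m + 1))⁻¹ * K.q k * K.x ^ (m + 1) = K.x⁻¹ * ((K.x ^ m)⁻¹ * K.q k * K.x ^ m) * K.x := by
        rw [pow_succ]; group
      rw [e, ih, K.q_x]
      congr 1
      push_cast
      ring
  have e : ((K.x ^ m)⁻¹ * w * K.x ^ m)⁻¹ * K.q (k + m) * ((K.x ^ m)⁻¹ * w * K.x ^ m) =
      (K.x ^ m)⁻¹ * (w⁻¹ * K.q k * w) * K.x ^ m := by
    rw [← hq m k]; group
  rw [e, ← hq m k]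
  constructor
  · intro h1
    have h2 : K.x ^ m * ((K.x ^ m)⁻¹ * (w⁻¹ * K.q k * w) * K.x ^ m) * (K.x ^ m)⁻¹ =
        K.x ^ m * ((K.x ^ m)⁻¹ * K.q k * K.x ^ m) * (K.x ^ m)⁻¹ := by rw [h1]
    have e1 : K.x ^ m * ((K.x ^ m)⁻¹ * (w⁻¹ * K.q k * w) * K.x ^ m) * (K.x ^ m)⁻¹ = w⁻¹ * K.q k * w := by group
    have e2 : K.x ^ m * ((K.x ^ m)⁻¹ * K.q k * K.x ^ m) * (K.x ^ m)⁻¹ = K.q k := by group
    rwa [e1, e2] at h2
  · intro h1
    rw [h1]

theorem z_central (K : KT Y) {u : Y} (hu : u ∈ K.P) : u * K.z = K.z * u := (K.mem_P u).1 hu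

theorem q_z (K : KT Y) (k : ZMod 5) : K.q k * K.z = K.z * K.q k :=
  z_central K (K.E_le_P (K.Q_le_E (K.A_le_Q (K.q_A k))))

theorem q_ne (K : KT Y) (k : ZMod 5) : K.q k * K.z ≠ K.q k := fun h => K.z1 (mul_eq_left.1 h)

/-- the facts of the front -/
theorem kh_of (K : KT Y) (hs : ∀ (P : Sylow 2 Y) (α : MulAut Y), (∀ x ∈ P, α x = x) → ∃ y, α = MulAut.conj y) :
    KH K.U K.z := by
  have : Fact (Nat.Prime 2) := ⟨Nat.prime_two⟩
  have := K.fin
  set S : Sylow 2 Y := K.U_p.toSylow K.U_odd with hS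
  have zinv : K.z⁻¹ = K.z := inv_eq_of_mul_eq_one_left K.zz
  refine ⟨K.U_p, ?_, fun u hu => z_central K (K.U_le_P hu), K.zz, K.z1, ?_, ?_⟩
  · intro P hP hle
    exact (S.is_maximal' hP hle).le
  · -- `z ∈ U''`
    obtain ⟨a, ha, hKS⟩ := K.KS
    set y := (K.x ^ 3)⁻¹ * K.r * K.x ^ 3 with hy
    set w := (K.x ^ 4)⁻¹ * K.r * K.x ^ 4 with hw
    -- action on `q 1`
    have hxP : K.x ∈ K.P := K.E_le_P K.x_E
    have hQc : ∀ m : ℕ, (K.x ^ m)⁻¹ * K.r * K.x ^ m ∈ K.Q := by
      intro m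
      have h1 := K.nor_Q (K.x ^ m)⁻¹ (inv_mem (pow_mem hxP m)) K.r K.r_Q
      rwa [inv_inv] at h1
    have hyQ : y ∈ K.Q := hQc 3
    have hwQ : w ∈ K.Q := hQc 4
    have y1 : y⁻¹ * K.q 1 * y = K.q 1 := by
      have h1 := (conj_r K (w := K.r) (k := 3) 3).2 K.r3
      have e : (3 : ZMod 5) + (3 : ℕ) = 1 := by decide
      rw [e] at h1
      exact h1
    have w1 : w⁻¹ * K.q 1 * w = K.q 1 := by
      have h1 := (conj_r K (w := K.r) (k := 2) 4).2 K.r2
      have e : (2 : ZMod 5) + (4 : ℕ) = 1 := by decide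
      rw [e] at h1
      exact h1
    have aA : a⁻¹ * K.q 1 * a = K.q 1 := by
      have h1 : (a * K.q 1) * (a * K.q 1) = 1 := K.sq_A _ (mul_mem ha (K.q_A 1))
      have h2 := K.sq_A a ha
      have h3 := K.sq_A _ (K.q_A 1)
      have ai : a⁻¹ = a := inv_eq_of_mul_eq_one_left h2
      rw [ai]
      calc a * K.q 1 * a = a * K.q 1 * a * (K.q 1 * K.q 1) := by rw [h3, mul_one]
        _ = (a * K.q 1) * (a * K.q 1) * K.q 1 := by group
        _ = K.q 1 := by rw [h1, one_mul]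
    -- `c = [s, r]`
    set c := K.s * K.r * K.s⁻¹ * K.r⁻¹ with hc
    have rz : K.r⁻¹ * K.z * K.r = K.z := by
      rw [mul_assoc, ← z_central K (K.E_le_P (K.Q_le_E K.r_Q))]; group
    have c1 : c⁻¹ * K.q 1 * c = K.q 1 * K.z := by
      have e : c⁻¹ * K.q 1 * c = K.r * (a⁻¹ * (w⁻¹ * (y⁻¹ * K.q 1 * y) * w) * a) * K.r⁻¹ := by
        rw [hc, hKS]; group
      rw [e, y1, w1, aA]
      have h1 := K.r1
      -- `r q₁ r⁻¹ = q₁ z`
      have h2 : K.r * (K.r⁻¹ * K.q 1 * K.r) * K.r⁻¹ = K.q 1 := by group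
      rw [h1] at h2
      have h3 : K.r * K.q 1 * K.r⁻¹ * (K.r * K.z * K.r⁻¹) = K.q 1 := by
        calc K.r * K.q 1 * K.r⁻¹ * (K.r * K.z * K.r⁻¹) = K.r * (K.q 1 * K.z) * K.r⁻¹ := by group
          _ = K.q 1 := h2
      have h4 : K.r * K.z * K.r⁻¹ = K.z := by
        rw [z_central K (K.E_le_P (K.Q_le_E K.r_Q))]; group
      rw [h4] at h3
      calc K.r * K.q 1 * K.r⁻¹ = K.r * K.q 1 * K.r⁻¹ * (K.z * K.z) := by rw [K.zz, mul_one]
        _ = K.r * K.q 1 * K.r⁻¹ * K.z * K.z := by group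
        _ = K.q 1 * K.z := by rw [h3]
    have hcU : c ∈ ⁅K.U, K.U⁆ := commutator_mem_commutator K.s_U (K.Q_le_U K.r_Q)
    have hqU : K.q 1 ∈ ⁅K.U, K.U⁆ := by
      have h1 : K.q 1 ∈ ⁅K.Q, K.Q⁆ := by rw [K.comm_Q]; exact K.q_A 1
      exact commutator_mono K.Q_le_U K.Q_le_U h1
    have h1 : ⁅c⁻¹, K.q 1⁆ = K.z := by
      rw [commutatorElement_def, inv_inv, c1, q_z, mul_assoc, mul_inv_cancel, mul_one]
    rw [← h1]
    exact commutator_mem_commutator (inv_mem hcU) hqU
  · intro α _ hα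
    obtain ⟨y, rfl⟩ := hs S α hα
    have h1 : ∀ u ∈ K.U, y * u = u * y := by
      intro u hu
      have h2 := hα u hu
      rw [MulAut.conj_apply, mul_inv_eq_iff_eq_mul] at h2
      exact h2
    rcases K.cent_U y h1 with rfl | rfl
    · left
      rw [map_one]
    · right
      intro x
      rw [MulAut.conj_apply]

theorem kh_equiv {Y' : Type v} [Group Y'] (e : Y ≃* Y') {U : Subgroup Y} {z : Y} (h : KH U z) :
    KH (U.map e.toMonoidHom) (e z) where
  pU := h.pU.map _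
  maxU := by
    intro P hP hle
    have h1 := h.maxU (P.comap e.toMonoidHom) (hP.comap_of_injective _ e.injective)
      (fun u hu => hle ⟨u, hu, rfl⟩)
    intro p hp
    have h2 : e.symm p ∈ P.comap e.toMonoidHom := by
      show e (e.symm p) ∈ P
      rw [e.apply_symm_apply]; exact hp
    exact ⟨e.symm p, h1 h2, e.apply_symm_apply p⟩
  zc := by
    rintro _ ⟨u, hu, rfl⟩
    show e u * e z = e z * e u
    rw [← map_mul, h.zc u hu, map_mul]
  zz := by rw [← map_mul, h.zz, map_one]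
  z1 := fun h1 => h.z1 (e.injective (by rw [h1, map_one]))
  uu := by
    have h1 : e.toMonoidHom z ∈ (⁅⁅U, U⁆, ⁅U, U⁆⁆).map e.toMonoidHom := ⟨z, h.uu, rfl⟩
    rw [map_commutator, map_commutator] at h1
    exact h1
  aut := by
    intro α ⟨n, hn⟩ hα
    have hc : ∀ (k : ℕ) (y : Y), ((MulAut.congr e.symm) α ^ k) y = e.symm ((α ^ k) (e y)) := by
      intro k y
      rw [← map_pow]
      rfl
    rcases h.aut (MulAut.congr e.symm α) ⟨n, by
      ext y
      rw [hc, hn]
      simp⟩ (by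
      intro u hu
      have h1 := hα (e u) ⟨u, hu, rfl⟩
      show e.symm (α (e u)) = u
      rw [h1, e.symm_apply_apply]) with h1 | h1
    · left
      ext y
      have h2 := DFunLike.congr_fun h1 (e.symm y)
      have h3 : e.symm (α y) = e.symm y := by
        have e1 : MulAut.congr e.symm α (e.symm y) = e.symm (α y) := by
          show e.symm (α (e (e.symm y))) = _
          rw [e.apply_symm_apply]
        rw [← e1, h2]; rfl
      exact e.symm.injective h3
    · right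
      intro y
      have h2 := h1 (e.symm y)
      have e1 : MulAut.congr e.symm α (e.symm y) = e.symm (α y) := by
        show e.symm (α (e (e.symm y))) = _
        rw [e.apply_symm_apply]
      rw [e1] at h2
      have h3 := congrArg e h2
      rw [e.apply_symm_apply, map_mul, map_mul, map_inv, e.apply_symm_apply] at h3
      exact h3

end KH

/-! ### The pair -/

/-- compatibility of the K-facts of the Tits group and of `²F₄(2)` -/
structure Pair {G' : Type v} [Group G'] (D : TitsK.TData G') (KC : KT ↥D.T) (KO : KT ↥D.H) : Prop where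
  jC : KC.j = 1
  jO : KO.j * KO.j = KO.z
  jT : (KO.j : G') ∉ D.T
  zz : (KO.z : G') = KC.z
  EK : ∀ e ∈ KO.E, (e : G') ∈ D.T
  sK : (KO.s : G') ∈ D.T

theorem two_of {G' : Type v} [Group G'] [Finite G'] (D : TitsK.TData G') : Two ↥D.T := by
  intro α β hα hβ
  have hn : ((MulAut.conj : ↥D.T →* MulAut ↥D.T).range).Normal := by
    refine ⟨?_⟩
    rintro _ ⟨k, rfl⟩ γ
    refine ⟨γ k, ?_⟩
    ext x
    simp [MulAut.conj_apply, MulAut.mul_apply, MulAut.inv_def]
  have hα' : α ∉ (MulAut.conj : ↥D.T →* MulAut ↥D.T).range := by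
    rintro ⟨x, hx⟩
    exact hα ⟨x, hx.symm⟩
  have hβ' : β ∉ (MulAut.conj : ↥D.T →* MulAut ↥D.T).range := by
    rintro ⟨x, hx⟩
    exact hβ ⟨x, hx.symm⟩
  have h1 : (MulAut.conj : ↥D.T →* MulAut ↥D.T).range.index = 2 := by
    rcases (Nat.dvd_prime Nat.prime_two).1 D.index_inn with h1 | h1
    · rw [index_eq_one] at h1
      exact absurd (by rw [h1]; exact mem_top _) hα'
    · exact h1
  have h2 : α * β ∈ (MulAut.conj : ↥D.T →* MulAut ↥D.T).range := by
    rw [mul_mem_iff_of_index_two h1]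
    exact ⟨fun h => absurd h hα', fun h => absurd h hβ'⟩
  obtain ⟨x, hx⟩ := h2
  exact ⟨x, hx.symm⟩

theorem center_eq_bot {G' : Type v} [Group G'] [Finite G'] (D : TitsK.TData G') : center ↥D.T = ⊥ := by
  rw [eq_bot_iff]
  intro x hx
  rw [mem_bot]
  apply Subtype.ext
  exact D.cent_T (D.T_le x.2) fun t ht => by
    have h1 := (mem_center_iff.1 hx ⟨t, ht⟩).symm
    exact congrArg Subtype.val h1

/-! ### The position -/

section Pos

open Cfsg.Agent.OddHalf.Iface

variable {G' : Type v} [Group G'] [Finite G'] {G : Type u} [Group G] {K : Subgroup G}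

/-- `↥(T ∩ H) → ↥T` -/
def sig (D : TitsK.TData G') : ↥(D.T.subgroupOf D.H) →* ↥D.T where
  toFun y := ⟨((y : ↥D.H) : G'), y.2⟩
  map_one' := rfl
  map_mul' _ _ := rfl

omit [Finite G'] in
theorem sig_injective (D : TitsK.TData G') : Function.Injective (sig D) := by
  intro a b h
  apply Subtype.ext
  apply Subtype.ext
  exact congrArg (fun w : ↥D.T => (w : G')) h

/-- **`Pos0`** -/
theorem pos0_of (C : Ctx G) (S : Std G K) (hcyc : Cyc K) (D : TitsK.TData G') (KC : KT ↥D.T) (KO : KT ↥D.H)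
    (H : Pair D KC KO) (e : ↥K ≃* ↥D.T) :
    (∃ (i₀ : ↥(⊤ : Subgroup ↥D.T) →* G) (t : G), Pos0 KC ⊤ i₀ t 1) ∨
      ∃ (i₀ : ↥(D.T.subgroupOf D.H) →* G) (t f : G), Pos0 KO (D.T.subgroupOf D.H) i₀ t f := by
  have := C.fin
  have hKH : KH KC.U KC.z := kh_of KC fun P α hα => D.sylAut P α hα
  have hKH' := kh_equiv e.symm hKH
  have hcen : center ↥K = ⊥ := by
    rw [eq_bot_iff]
    intro x hx
    have h1 : e x ∈ center ↥D.T := by
      rw [mem_center_iff] at hx ⊢
      intro g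
      have h2 := congrArg e (hx (e.symm g))
      rwa [map_mul, map_mul, e.apply_symm_apply] at h2
    rw [center_eq_bot D, mem_bot] at h1
    rw [mem_bot]
    exact e.injective (by rw [h1, map_one])
  obtain ⟨t, T, n, hst, hO⟩ := front_ctx C S hcyc hcen hKH' ((two_of D).of_equiv e.symm)
  have hperf := Cfsg.Agent.OddHalf.Front.FE.commutator_eq_top C
  have hKt : ∀ x ∈ K, x * t = t * x := hst.toStart0.Kt
  have htK : t ∉ K := fun h1 => hst.t1 (hst.cen t h1 fun y hy => hKt y hy)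
  by_cases hcl : ∀ c : G, c * t = t * c → ∃ k ∈ K, c = k ∨ c = t * k
  · -- CL
    left
    let i₀ : ↥(⊤ : Subgroup ↥D.T) →* G := K.subtype.comp (e.symm.toMonoidHom.comp (Subgroup.subtype ⊤))
    have hi₀ : ∀ y : ↥(⊤ : Subgroup ↥D.T), i₀ y = ((e.symm (y : ↥D.T) : ↥K) : G) := fun _ => rfl
    refine ⟨i₀, t,
      { finG := C.fin
        perf := hperf
        inj := ?_
        tt := hst.tt
        t1 := hst.t1
        ti := ?_
        tY := ?_
        EK := fun _ _ => mem_top _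
        sK := mem_top _
        Yj := fun _ => Or.inl (mem_top _)
        fj := Or.inl ⟨H.jC, rfl⟩
        ft := by rw [one_mul, mul_one]
        τK := fun _ _ => mem_top _
        fi := fun h => absurd rfl h
        cen := ?_
        fus := ?_ }⟩
    · intro a b hab
      apply Subtype.ext
      apply e.symm.injective
      exact Subtype.ext hab
    · intro y
      rw [hi₀]
      exact (hKt _ (e.symm _).2).symm
    · intro y h1
      apply htK
      rw [← h1, hi₀]
      exact (e.symm _).2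
    · intro c hc
      obtain ⟨k, hk, h1⟩ := hcl c hc
      refine ⟨⟨e ⟨k, hk⟩, mem_top _⟩, ?_⟩
      have h2 : i₀ ⟨e ⟨k, hk⟩, mem_top _⟩ = k := by
        rw [hi₀]
        show ((e.symm (e ⟨k, hk⟩) : ↥K) : G) = k
        rw [e.symm_apply_apply]
      rw [h2]
      rcases h1 with h1 | h1
      · exact Or.inl h1
      · exact Or.inr (Or.inl h1)
    · exact ⟨n, hO.sw.nt, hO.sw.nz⟩
  · -- OUT
    right
    push Not at hcl
    obtain ⟨g, hg, hgo⟩ := hcl
    have hgo' : ¬ ∃ k ∈ K, g = k ∨ g = t * k := by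
      rintro ⟨k, hk, h1 | h1⟩
      · exact (hgo k hk).1 h1
      · exact (hgo k hk).2 h1
    let i₀ : ↥(D.T.subgroupOf D.H) →* G := K.subtype.comp (e.symm.toMonoidHom.comp (sig D))
    have hi₀ : ∀ y : ↥(D.T.subgroupOf D.H), i₀ y = ((e.symm (sig D y) : ↥K) : G) := fun _ => rfl
    -- the automorphism induced by `g`
    have hgN : g ∈ normalizer (K : Set G) := hst.nK g hg
    let α : MulAut ↥D.T := MulAut.congr e (K.normalizerMonoidHom ⟨g, hgN⟩)
    have hα : ∀ y : ↥D.T, ((e.symm (α y) : ↥K) : G) = g * (e.symm y : ↥K) * g⁻¹ := by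
      intro y
      have h1 : α y = e (K.normalizerMonoidHom ⟨g, hgN⟩ (e.symm y)) := rfl
      rw [h1, e.symm_apply_apply, normalizerMonoidHom_apply_apply_coe]
    obtain ⟨⟨h, hh⟩, hhα⟩ := D.PhiT_surjective α
    have hαh : ∀ y : ↥D.T, ((α y : ↥D.T) : G') = h * y * h⁻¹ := by
      intro y
      rw [← hhα]
      exact D.PhiT_apply ⟨h, hh⟩ y
    have hhT : h ∉ D.T := by
      intro h1
      apply hgo'
      have h2 := hO.inn g hg (e.symm ⟨h, h1⟩ : ↥K) (e.symm ⟨h, h1⟩ : ↥K).2 (by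
        intro y hy
        have h3 := hα (e ⟨y, hy⟩)
        have h4 : α (e ⟨y, hy⟩) = ⟨h, h1⟩ * e ⟨y, hy⟩ * (⟨h, h1⟩ : ↥D.T)⁻¹ := Subtype.ext (hαh _)
        rw [h4, map_mul, map_mul, map_inv, e.symm_apply_apply] at h3
        exact h3.symm)
      exact ⟨_, (e.symm ⟨h, h1⟩ : ↥K).2, h2⟩
    -- `h = k j`
    have hjH : (KO.j : G') ∈ D.H := KO.j.2
    have hTn : ∀ a ∈ D.H, ∀ b ∈ D.H, a ∉ D.T → b ∉ D.T → a * b⁻¹ ∈ D.T := by
      intro a ha b hb haT hbT
      rw [D.mul_mem_iff ha (D.H.inv_mem hb)]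
      exact ⟨fun h => absurd h haT, fun h => absurd ((inv_mem_iff).1 h) hbT⟩
    have hk : h * (KO.j : G')⁻¹ ∈ D.T := hTn h hh _ hjH hhT H.jT
    -- `f = k⁻¹ g`
    set k₀ : ↥K := e.symm ⟨h * (KO.j : G')⁻¹, hk⟩ with hk₀
    set f : G := (k₀ : G)⁻¹ * g with hf
    have hft : f * t = t * f := by
      have h1 := hKt _ (K.inv_mem k₀.2)
      calc f * t = (k₀ : G)⁻¹ * (g * t) := by rw [hf]; group
        _ = (k₀ : G)⁻¹ * t * g := by rw [hg]; group
        _ = t * f := by rw [h1, hf]; group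
    have hfo : ¬ ∃ k ∈ K, f = k ∨ f = t * k := by
      rintro ⟨k, hk, h1⟩
      apply hgo'
      have e1 : g = (k₀ : G) * f := by rw [hf]; group
      refine ⟨k₀ * k, K.mul_mem k₀.2 hk, ?_⟩
      rcases h1 with h1 | h1
      · left; rw [e1, h1]
      · right
        rw [e1, h1, ← mul_assoc, hKt _ k₀.2]; group
    -- action of `f`
    have hfi : ∀ y : ↥D.T, ∀ w : ↥D.T, (w : G') = (KO.j : G') * y * (KO.j : G')⁻¹ →
        f * (e.symm y : ↥K) * f⁻¹ = (e.symm w : ↥K) := by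
      intro y w hw
      have h1 : f * (e.symm y : ↥K) * f⁻¹ = (k₀ : G)⁻¹ * (g * (e.symm y : ↥K) * g⁻¹) * k₀ := by rw [hf]; group
      rw [h1, ← hα y]
      have h2 : w = (⟨h * (KO.j : G')⁻¹, hk⟩ : ↥D.T)⁻¹ * α y * ⟨h * (KO.j : G')⁻¹, hk⟩ := by
        apply Subtype.ext
        show (w : G') = (h * (KO.j : G')⁻¹)⁻¹ * (α y : ↥D.T) * (h * (KO.j : G')⁻¹)
        rw [hw, hαh]; group
      rw [h2, map_mul, map_mul, map_inv]
      rfl
    have hτ : ∀ y : ↥D.H, KO.τ y = KO.j * y * KO.j⁻¹ := by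
      rcases KO.j_or with h1 | h1
      · exfalso
        have h2 := H.jO
        rw [h1, mul_one] at h2
        exact KO.z1 h2.symm
      · exact h1.2
    have hτK : ∀ y ∈ D.T.subgroupOf D.H, KO.τ y ∈ D.T.subgroupOf D.H := by
      intro y hy
      rw [hτ]
      exact D.T_conj _ hjH _ hy
    have hE : KO.E ≤ D.T.subgroupOf D.H := fun y hy => H.EK y hy
    have hzz : (KO.z : G') = KC.z := H.zz
    have hzi : i₀ ⟨KO.z, hE (KO.Q_le_E (KO.A_le_Q KO.z_A))⟩ = ((e.symm KC.z : ↥K) : G) := by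
      rw [hi₀]
      have h1 : sig D ⟨KO.z, hE (KO.Q_le_E (KO.A_le_Q KO.z_A))⟩ = KC.z := Subtype.ext hzz
      rw [h1]
    have hcent : ∀ c : G, c * t = t * c → (∀ x ∈ K, x * c = c * x) → c = 1 ∨ c = t := by
      intro c hc hcK
      have h1 := hst.cK c hc hcK
      exact (mem_zp hst.tt c).1 h1
    have hff : f * f = i₀ ⟨KO.z, hE (KO.Q_le_E (KO.A_le_Q KO.z_A))⟩ ∨
        f * f = t * i₀ ⟨KO.z, hE (KO.Q_le_E (KO.A_le_Q KO.z_A))⟩ := by
      rw [hzi]
      set zK : ↥K := e.symm KC.z with hzK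
      have hzz2 : (zK : G) * zK = 1 := by
        have h1 : zK * zK = 1 := by rw [hzK, ← map_mul, KC.zz, map_one]
        exact congrArg Subtype.val h1
      have hzi' : (zK : G)⁻¹ = zK := inv_eq_of_mul_eq_one_left hzz2
      have h1 : ∀ x ∈ K, x * (f * f * (zK : G)) = f * f * (zK : G) * x := by
        intro x hx
        -- `f f x (f f)⁻¹ = z x z⁻¹`
        have hy1 : ∀ y : ↥D.T, (KO.j : G') * y * (KO.j : G')⁻¹ ∈ D.T := fun y => D.T_conj _ hjH _ y.2
        have h2 := hfi (e ⟨x, hx⟩) ⟨_, hy1 _⟩ rfl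
        rw [e.symm_apply_apply] at h2
        have h3 := hfi ⟨(KO.j : G') * (e ⟨x, hx⟩ : ↥D.T) * (KO.j : G')⁻¹, hy1 _⟩ (KC.z * e ⟨x, hx⟩ * KC.z⁻¹) (by
          show (KC.z : G') * (e ⟨x, hx⟩ : ↥D.T) * (KC.z : G')⁻¹ = _
          rw [← hzz, show (KO.z : G') = KO.j * KO.j from (congrArg Subtype.val H.jO).symm]
          group)
        rw [← h2, map_mul, map_mul, map_inv, e.symm_apply_apply] at h3
        have h4 : f * (f * x * f⁻¹) * f⁻¹ = (zK : G) * x * (zK : G)⁻¹ := h3
        have h5 : f * f * x = (zK : G) * x * zK * (f * f) := by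
          calc f * f * x = (f * (f * x * f⁻¹) * f⁻¹) * (f * f) := by group
            _ = (zK : G) * x * (zK : G)⁻¹ * (f * f) := by rw [h4]
            _ = _ := by rw [hzi']
        -- `z` commutes with `f f`
        have h6 : f * f * (zK : G) = (zK : G) * (f * f) := by
          have h7 := hfi KC.z KC.z (by
            rw [← hzz]
            have h8 : KO.j * KO.z = KO.z * KO.j := by rw [← H.jO, mul_assoc]
            have h9 : (KO.j : G') * KO.z = KO.z * KO.j := congrArg Subtype.val h8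
            rw [h9]; group)
          rw [mul_inv_eq_iff_eq_mul] at h7
          rw [mul_assoc, h7, ← mul_assoc, h7, mul_assoc]
        have h7 : f * f * (zK : G) * x = (zK : G) * (f * f * x) := by rw [h6]; group
        rw [h7, h5, h6]
        calc x * (zK * (f * f)) = 1 * x * zK * (f * f) := by group
          _ = (zK * zK) * x * zK * (f * f) := by rw [hzz2]
          _ = zK * (zK * x * zK * (f * f)) := by group
      have h2 : (f * f * (zK : G)) * t = t * (f * f * (zK : G)) := by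
        have h3 := hKt _ zK.2
        calc (f * f * (zK : G)) * t = f * (f * (zK * t)) := by group
          _ = f * (f * t) * zK := by rw [h3]; group
          _ = f * (t * f) * zK := by rw [hft]
          _ = (f * t) * (f * zK) := by group
          _ = (t * f) * (f * zK) := by rw [hft]
          _ = t * (f * f * (zK : G)) := by group
      rcases hcent _ h2 h1 with h3 | h3
      · left
        rw [mul_eq_one_iff_eq_inv, hzi'] at h3
        exact h3
      · right
        have h4 : f * f = f * f * (zK : G) * zK := by rw [mul_assoc (f * f), hzz2, mul_one]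
        rw [h4, h3]
    refine ⟨i₀, t, f,
      { finG := C.fin
        perf := hperf
        inj := ?_
        tt := hst.tt
        t1 := hst.t1
        ti := ?_
        tY := ?_
        EK := hE
        sK := H.sK
        Yj := ?_
        fj := ?_
        ft := hft
        τK := hτK
        fi := ?_
        cen := ?_
        fus := ?_ }⟩
    · intro a b hab
      apply sig_injective D
      apply e.symm.injective
      exact Subtype.ext hab
    · intro y
      rw [hi₀]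
      exact (hKt _ (e.symm _).2).symm
    · intro y h1
      apply htK
      rw [← h1, hi₀]
      exact (e.symm _).2
    · intro y
      by_cases hy : (y : G') ∈ D.T
      · exact Or.inl hy
      · exact Or.inr (hTn y y.2 _ hjH hy H.jT)
    · have hjK : KO.j ∉ D.T.subgroupOf D.H := H.jT
      rcases hff with h1 | h1
      · exact Or.inr (Or.inl ⟨hjK, h1⟩)
      · exact Or.inr (Or.inr ⟨hjK, h1⟩)
    · intro _ y hy
      rw [hi₀, hi₀]
      apply hfi
      show ((KO.τ y : ↥D.H) : G') = KO.j * y * (KO.j : G')⁻¹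
      rw [hτ]
      rfl
    · intro c hc
      have hval : ∀ k (hk : k ∈ K), ∃ y, i₀ y = k := by
        intro k hk
        refine ⟨⟨⟨(e ⟨k, hk⟩ : ↥D.T), D.T_le (e ⟨k, hk⟩).2⟩, (e ⟨k, hk⟩).2⟩, ?_⟩
        rw [hi₀]
        have h1 : sig D ⟨⟨(e ⟨k, hk⟩ : ↥D.T), D.T_le (e ⟨k, hk⟩).2⟩, (e ⟨k, hk⟩).2⟩ = e ⟨k, hk⟩ := rfl
        rw [h1, e.symm_apply_apply]
      by_cases hco : ∃ k ∈ K, c = k ∨ c = t * k
      · obtain ⟨k, hk, h1⟩ := hco
        obtain ⟨y, hy⟩ := hval k hk
        refine ⟨y, ?_⟩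
        rw [hy]
        rcases h1 with h1 | h1
        · exact Or.inl h1
        · exact Or.inr (Or.inl h1)
      · have hfi' : f⁻¹ * t = t * f⁻¹ := by
          rw [inv_mul_eq_iff_eq_mul, ← mul_assoc, hft, mul_inv_cancel_right]
        have hfo' : ¬ ∃ k ∈ K, f⁻¹ = k ∨ f⁻¹ = t * k := by
          rintro ⟨k, hk, h1⟩
          apply hfo
          refine ⟨k⁻¹, K.inv_mem hk, ?_⟩
          rcases h1 with h1 | h1
          · left; rw [← h1, inv_inv]
          · right
            have h2 : f = (t * k)⁻¹ := by rw [← h1, inv_inv]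
            have ti : t⁻¹ = t := inv_eq_of_mul_eq_one_left hst.tt
            rw [h2, mul_inv_rev, ti, hKt _ (K.inv_mem hk)]
        obtain ⟨k, hk, h1⟩ := hO.two c f⁻¹ hc hfi' hco hfo'
        obtain ⟨y, hy⟩ := hval k hk
        refine ⟨y, ?_⟩
        rw [hy]
        rcases h1 with h1 | h1
        · exact Or.inr (Or.inr (Or.inl (by rw [← h1]; group)))
        · exact Or.inr (Or.inr (Or.inr (by rw [← h1]; group)))
    · rw [hzi]
      exact ⟨n, hO.sw.nt, hO.sw.nz⟩

end Pos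

end Cfsg.Agent.OddHalf.D7Tits.PosOf
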