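import Cfsg.Agent.OddHalf.D7Tits.WExt

/-!
# D7, K = Tits, type W (helper868): type W is impossible

`WKill.false_of : KTW K → PosW K i t y → False`.
-/

set_option autoImplicit false
set_option linter.unusedSectionVars false
set_option linter.unusedVariables false

namespace Cfsg.Agent.OddHalf.D7Tits.WKill

open Cfsg.Agent.OddHalf.D7Tits.Defs Cfsg.Agent.OddHalf.D7Tits.WDefs
open Cfsg.Agent.OddHalf.D7Tits.WFacts Cfsg.Agent.OddHalf.D7Tits.WPos Cfsg.Agent.OddHalf.D7Tits.WSys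
open Cfsg.Agent.OddHalf.D7Tits.WSys.P Cfsg.Agent.OddHalf.D7Tits.WHom Cfsg.Agent.OddHalf.D7Tits.WExt

universe u v

/-! ### Small identities -/

section Comm

variable {C : Type*} [CommGroup C]

theorem id1 {z a b c : C} (hz : z * z = 1) (ha : a * a = 1) : z * (a * b) * (z * a * c) = b * c := by
  calc z * (a * b) * (z * a * c) = (z * z) * (a * a) * (b * c) := by ac_rfl
    _ = b * c := by rw [hz, ha, one_mul, one_mul]

theorem id2 {a b : C} (ha : a * a = 1) : a * (a * b) = b := by rw [← mul_assoc, ha, one_mul]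

theorem id3 {z a b c : C} (ha : a * a = 1) : z * (a * b) * (a * c) = z * b * c := by
  calc z * (a * b) * (a * c) = (a * a) * (z * b * c) := by ac_rfl
    _ = z * b * c := by rw [ha, one_mul]

theorem id4 {z a b : C} (hz : z * z = 1) (ha : a * a = 1) : z * a * (z * a * b) = b := by
  calc z * a * (z * a * b) = (z * z) * (a * a) * b := by ac_rfl
    _ = b := by rw [hz, ha, one_mul, one_mul]

theorem id5 {z a b c : C} (ha : a * a = 1) : a * b * (z * a * c) = z * b * c := by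
  calc a * b * (z * a * c) = (a * a) * (z * b * c) := by ac_rfl
    _ = z * b * c := by rw [ha, one_mul]

theorem id6 {a b : C} (ha : a * a = 1) : a * b * a = b := by
  calc a * b * a = (a * a) * b := by ac_rfl
    _ = b := by rw [ha, one_mul]

end Comm

variable {Y : Type u} [Group Y] {K : KT Y} {G : Type v} [Group G] {i : Y →* G} {t y : G}
  (W : KTW K) (H : WDefs.PosW K i t y)

include H

theorem vv_mem_A {m : Y} (h : m ∈ vv K ∨ ∃ p ∈ K.P, p⁻¹ * (K.q 0 * K.q 4) * p = m) : m ∈ K.A := by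
  rcases h with h | ⟨p, hp, rfl⟩
  · exact vv_A h
  · have h1 := K.nor_A p⁻¹ (inv_mem hp) _ (mul_mem (K.q_A 0) (K.q_A 4))
    rwa [inv_inv] at h1

/-- every involution of `A` is conjugate to `z` -/
theorem fused (W : KTW K) {a : Y} (ha : a ∈ K.A) (h1 : a ≠ 1) : ∃ g : G, g⁻¹ * i K.z * g = i a := by
  have hpt : ∀ n, ∃ g : G, g⁻¹ * i K.z * g = i (K.q n) := by
    intro n
    obtain ⟨g, hg⟩ := K.pt n
    exact ⟨i g, by rw [← map_inv, ← map_mul, ← map_mul, hg]⟩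
  rcases W.A_cases a ha with rfl | rfl | ⟨n, rfl | rfl⟩ | ⟨p, hp, rfl⟩
  · exact absurd rfl h1
  · exact ⟨1, by group⟩
  · exact hpt n
  · obtain ⟨g, hg⟩ := K.pt' n
    exact ⟨i g, by rw [← map_inv, ← map_mul, ← map_mul, hg]⟩
  · obtain ⟨g, hg⟩ := hpt 1
    refine ⟨g * y2 W i y * i p, ?_⟩
    have h2 := y2_q1 W H
    have h3 := y2_inv W H
    calc (g * y2 W i y * i p)⁻¹ * i K.z * (g * y2 W i y * i p)
        = (i p)⁻¹ * ((y2 W i y)⁻¹ * (g⁻¹ * i K.z * g) * y2 W i y) * i p := by group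
      _ = i (p⁻¹ * (K.q 0 * K.q 4) * p) := by rw [hg, h3, h2, ← map_inv, ← map_mul, ← map_mul]

/-- `t` is not conjugate to `z` -/
theorem t_z (W : KTW K) (g : G) : g⁻¹ * t * g ≠ i K.z := by
  intro h
  have := H.finG
  have h1 : (SS H).map (MulAut.conj g).toMonoidHom ≤ Subgroup.centralizer ({t} : Set G) := by
    rintro _ ⟨s, hs, rfl⟩
    rw [Subgroup.mem_centralizer_singleton_iff]
    have h2 : s * i K.z = i K.z * s := hs.1.1
    have e : t = g * i K.z * g⁻¹ := by rw [← h]; group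
    show g * s * g⁻¹ * t = t * (g * s * g⁻¹)
    rw [e]
    calc g * s * g⁻¹ * (g * i K.z * g⁻¹) = g * (s * i K.z) * g⁻¹ := by group
      _ = g * (i K.z * s) * g⁻¹ := by rw [h2]
      _ = _ := by group
  have h2 := Subgroup.card_dvd_of_le h1
  have h3 : Nat.card ((SS H).map (MulAut.conj g).toMonoidHom) = Nat.card (SS H) :=
    (Nat.card_congr ((SS H).equivMapOfInjective _ (MulAut.conj g).injective).toEquiv).symm
  have h4 := Subgroup.card_mul_index ((T H).subgroupOf (Subgroup.centralizer ({t} : Set G)))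
  rw [Nat.card_congr (Subgroup.subgroupOfEquivOfLe (T_le_C H)).toEquiv] at h4
  rw [h3, card_SS W H, ← h4, mul_comm 4] at h2
  have h5 : 4 ∣ ((T H).subgroupOf (Subgroup.centralizer ({t} : Set G))).index :=
    Nat.dvd_of_mul_dvd_mul_left Nat.card_pos h2
  exact T_odd H (dvd_trans (by norm_num) h5)

/-- `t` is not conjugate into `A` -/
theorem t_A (W : KTW K) (g : G) {a : Y} (ha : a ∈ K.A) : g⁻¹ * t * g ≠ i a := by
  intro h
  by_cases h1 : a = 1
  · rw [h1, map_one] at h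
    exact conj_ne H g h
  · obtain ⟨g', hg'⟩ := fused H W ha h1
    apply t_z H W (g * g'⁻¹)
    calc (g * g'⁻¹)⁻¹ * t * (g * g'⁻¹) = g' * (g⁻¹ * t * g) * g'⁻¹ := by group
      _ = g' * (g'⁻¹ * i K.z * g') * g'⁻¹ := by rw [h, hg']
      _ = i K.z := by group

/-- `S` normalises `i A` -/
theorem SS_A (W : KTW K) {g : G} (hg : g ∈ SS H) {m : Y} (hm : m ∈ K.A) : ∃ m' ∈ K.A, g * i m * g⁻¹ = i m' := by
  have hT : ∀ a ∈ T H, ∀ m ∈ K.A, ∃ m' ∈ K.A, a * i m * a⁻¹ = i m' := by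
    intro a ha m hm
    obtain ⟨b, hb, rfl | rfl⟩ := ha
    · exact ⟨_, K.nor_A b (K.U_le_P hb) m hm, by rw [map_mul, map_mul, map_inv]⟩
    · refine ⟨_, K.nor_A b (K.U_le_P hb) m hm, ?_⟩
      have h2 := H.ti (b * m * b⁻¹)
      calc t * i b * i m * (t * i b)⁻¹ = t * i (b * m * b⁻¹) * t⁻¹ := by rw [map_mul, map_mul, map_inv]; group
        _ = i (b * m * b⁻¹) := by rw [h2]; group
  have hy : ∀ m ∈ K.A, ∃ m' ∈ K.A, y * i m * y⁻¹ = i m' := by
    intro m hm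
    rw [P.y_inv H]
    exact ⟨m, hm, P.y_A H hm⟩
  have hy2 : ∀ m ∈ K.A, ∃ m' ∈ K.A, y2 W i y * i m * (y2 W i y)⁻¹ = i m' := by
    intro m hm
    rw [y2_inv W H]
    exact y2_A W H hm
  have hmul : ∀ a b : G, (∀ m ∈ K.A, ∃ m' ∈ K.A, a * i m * a⁻¹ = i m') →
      (∀ m ∈ K.A, ∃ m' ∈ K.A, b * i m * b⁻¹ = i m') → ∀ m ∈ K.A, ∃ m' ∈ K.A, a * b * i m * (a * b)⁻¹ = i m' := by
    intro a b ha hb m hm
    obtain ⟨m', hm', h⟩ := hb m hm
    obtain ⟨m'', hm'', h'⟩ := ha m' hm'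
    refine ⟨m'', hm'', ?_⟩
    rw [← h', ← h]
    group
  obtain ⟨a, ha, rfl | rfl | rfl | rfl⟩ := SS_cases W H hg
  · exact hT _ ha m hm
  · exact hmul _ _ hy (hT a ha) m hm
  · exact hmul _ _ hy2 (hT a ha) m hm
  · exact hmul _ _ (hmul _ _ hy hy2) (hT a ha) m hm

/-! ### The group `Γ` -/

/-- `N(i A) ∩ {x | x t x⁻¹ ∈ t (i A)}` -/
def Gam (H : WDefs.PosW K i t y) : Subgroup G where
  carrier := {x | (∀ a ∈ K.A, ∃ a' ∈ K.A, x * i a * x⁻¹ = i a') ∧ (∀ a ∈ K.A, ∃ a' ∈ K.A, x⁻¹ * i a * x = i a') ∧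
    ∃ a ∈ K.A, x * t * x⁻¹ = t * i a}
  one_mem' := ⟨fun a ha => ⟨a, ha, by group⟩, fun a ha => ⟨a, ha, by group⟩, 1, one_mem _, by rw [map_one]; group⟩
  mul_mem' := by
    rintro x x' ⟨h1, h2, a, ha, h3⟩ ⟨h1', h2', a', ha', h3'⟩
    refine ⟨fun b hb => ?_, fun b hb => ?_, ?_⟩
    · obtain ⟨c, hc, e⟩ := h1' b hb
      obtain ⟨d, hd, e'⟩ := h1 c hc
      exact ⟨d, hd, by rw [← e', ← e]; group⟩
    · obtain ⟨c, hc, e⟩ := h2 b hb
      obtain ⟨d, hd, e'⟩ := h2' c hc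
      exact ⟨d, hd, by rw [← e', ← e]; group⟩
    · obtain ⟨c, hc, e⟩ := h1 a' ha'
      refine ⟨a * c, mul_mem ha hc, ?_⟩
      calc x * x' * t * (x * x')⁻¹ = x * (x' * t * x'⁻¹) * x⁻¹ := by group
        _ = (x * t * x⁻¹) * (x * i a' * x⁻¹) := by rw [h3']; group
        _ = t * i (a * c) := by rw [h3, e, map_mul]; group
  inv_mem' := by
    rintro x ⟨h1, h2, a, ha, h3⟩
    refine ⟨fun b hb => ?_, fun b hb => ?_, ?_⟩
    · rw [inv_inv]
      exact h2 b hb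
    · rw [inv_inv]
      exact h1 b hb
    · obtain ⟨c, hc, e⟩ := h2 a ha
      refine ⟨c⁻¹, inv_mem hc, ?_⟩
      rw [inv_inv, map_inv, ← e]
      calc x⁻¹ * t * x = x⁻¹ * (t * i a) * x * (x⁻¹ * i a * x)⁻¹ := by group
        _ = x⁻¹ * (x * t * x⁻¹) * x * (x⁻¹ * i a * x)⁻¹ := by rw [h3]
        _ = _ := by group

theorem mem_Gam {x : G} : x ∈ Gam H ↔ (∀ a ∈ K.A, ∃ a' ∈ K.A, x * i a * x⁻¹ = i a') ∧
    (∀ a ∈ K.A, ∃ a' ∈ K.A, x⁻¹ * i a * x = i a') ∧ ∃ a ∈ K.A, x * t * x⁻¹ = t * i a := Iff.rfl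

theorem y_Gam : y ∈ Gam H := by
  have h := P.y_inv H
  refine ⟨fun a ha => ⟨a, ha, ?_⟩, fun a ha => ⟨a, ha, ?_⟩, K.z, K.z_A, ?_⟩
  · rw [h]; exact P.y_A H ha
  · rw [h]; exact P.y_A H ha
  · rw [h]; exact H.yt

theorem y2_Gam (W : KTW K) : y2 W i y ∈ Gam H := by
  have h := y2_inv W H
  refine ⟨fun a ha => ?_, fun a ha => ?_, K.q 0, K.q_A 0, ?_⟩
  · rw [h]; exact y2_A W H ha
  · rw [h]; exact y2_A W H ha
  · rw [h]; exact y2_t W H

theorem P_Gam {p : Y} (hp : p ∈ K.P) : i p ∈ Gam H := by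
  refine ⟨fun a ha => ⟨_, K.nor_A p hp a ha, by rw [map_mul, map_mul, map_inv]⟩, fun a ha => ⟨p⁻¹ * a * p, ?_, by
    rw [map_mul, map_mul, map_inv]⟩, 1, one_mem _, by rw [map_one, mul_one, t_k' H]⟩
  have h1 := K.nor_A p⁻¹ (inv_mem hp) a ha
  rwa [inv_inv] at h1

theorem t_Gam : t ∈ Gam H := by
  have hti := P.t_inv H
  refine ⟨fun a ha => ⟨a, ha, ?_⟩, fun a ha => ⟨a, ha, ?_⟩, 1, one_mem _, by rw [map_one]; group⟩
  · rw [H.ti, mul_inv_cancel_right]
  · rw [mul_assoc, ← H.ti, inv_mul_cancel_left]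

/-- `C_Γ(t) = ⟨t⟩ × i P` -/
theorem Gam_cent {x : G} (hx : x ∈ Gam H) : x * t = t * x ↔ x ∈ dbl i t H.tt H.ti K.P := by
  constructor
  · intro h
    obtain ⟨b, hb⟩ := H.cen x h
    refine ⟨b, K.norm_A b fun a ha => ?_, hb⟩
    obtain ⟨a', ha', e⟩ := hx.1 a ha
    have e2 : i (b * a * b⁻¹) = i a' := by
      rw [← e, map_mul, map_mul, map_inv]
      rcases hb with rfl | rfl
      · rfl
      · have h2 := H.ti (b * a * b⁻¹)
        rw [map_mul, map_mul, map_inv] at h2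
        calc i b * i a * (i b)⁻¹ = (t * (i b * i a * (i b)⁻¹)) * t⁻¹ := by rw [h2]; group
          _ = _ := by group
    rw [H.inj e2]
    exact ha'
  · exact fun h => dbl_comm H h

theorem dbl_Gam : dbl i t H.tt H.ti K.P ≤ Gam H := by
  rintro x ⟨p, hp, rfl | rfl⟩
  · exact P_Gam H hp
  · exact mul_mem (t_Gam H) (P_Gam H hp)

/-! ### The element of order 3 -/

theorem three_dvd (W : KTW K) : 3 ∣ Nat.card (Gam H) := by
  have := H.finG
  letI : CommGroup K.A := { (inferInstance : Group K.A) with mul_comm := fun a b => Subtype.ext (SOne.a_comm K a.2 b.2) }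
  let z' : K.A := ⟨K.z, K.z_A⟩
  let q' : ZMod 5 → K.A := fun n => ⟨K.q n, K.q_A n⟩
  have hz' : z' * z' = 1 := Subtype.ext K.zz
  have hq' : ∀ n, q' n * q' n = 1 := fun n => Subtype.ext (q_sq n)
  set h : G := (i K.x)⁻¹ * y2 W i y with hh
  have hG : h ∈ Gam H := mul_mem (inv_mem (P_Gam H (SOne.x_P K))) (y2_Gam H W)
  -- the action
  have hact : ∀ a b : K.A, y2 W i y * i (a : Y) * y2 W i y = i (b : Y) → ∀ c : K.A, K.x⁻¹ * (b : Y) * K.x = c →
      h * i (a : Y) * h⁻¹ = i (c : Y) := by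
    intro a b h1 c h2
    have h3 := y2_inv W H
    rw [← h2, map_mul, map_mul, map_inv, ← h1, hh]
    calc (i K.x)⁻¹ * y2 W i y * i (a : Y) * ((i K.x)⁻¹ * y2 W i y)⁻¹
        = (i K.x)⁻¹ * (y2 W i y * i (a : Y) * (y2 W i y)⁻¹) * i K.x := by group
      _ = _ := by rw [h3]
  have hmul : ∀ a a' b b' : K.A, h * i (a : Y) * h⁻¹ = i (a' : Y) → h * i (b : Y) * h⁻¹ = i (b' : Y) →
      h * i ((a * b : K.A) : Y) * h⁻¹ = i ((a' * b' : K.A) : Y) := by
    intro a a' b b' h1 h2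
    show h * i ((a : Y) * b) * h⁻¹ = i ((a' : Y) * b')
    rw [map_mul, map_mul, ← h1, ← h2]
    group
  have hxz : K.x⁻¹ * K.z * K.x = K.z := by
    rw [mul_assoc, ← SOne.z_x K, inv_mul_cancel_left]
  have hx : ∀ a b : Y, K.x⁻¹ * (a * b) * K.x = (K.x⁻¹ * a * K.x) * (K.x⁻¹ * b * K.x) := fun a b => by group
  have az : h * i (z' : Y) * h⁻¹ = i (z' : Y) := hact z' z' (y2_z W H) z' hxz
  have a0 : h * i (q' 0 : Y) * h⁻¹ = i (q' 1 : Y) := hact (q' 0) (q' 0) (y2_q0 W H) (q' 1) (by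
    show K.x⁻¹ * K.q 0 * K.x = K.q 1
    rw [K.q_x, zero_add])
  have a1 : h * i (q' 1 : Y) * h⁻¹ = i ((q' 1 * q' 0 : K.A) : Y) := hact (q' 1) (q' 0 * q' 4) (y2_q1 W H) _ (by
    show K.x⁻¹ * (K.q 0 * K.q 4) * K.x = K.q 1 * K.q 0
    rw [hx, K.q_x, K.q_x]
    congr 2)
  have a2 : h * i (q' 2 : Y) * h⁻¹ = i ((z' * q' 1 * q' 3 : K.A) : Y) := hact (q' 2) (z' * q' 0 * q' 2) (y2_q2 W H) _ (by
    show K.x⁻¹ * (K.z * K.q 0 * K.q 2) * K.x = K.z * K.q 1 * K.q 3
    rw [hx, hx, hxz, K.q_x, K.q_x]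
    congr 2)
  have a3 : h * i (q' 3 : Y) * h⁻¹ = i ((z' * q' 1 * q' 4 : K.A) : Y) := hact (q' 3) (z' * q' 0 * q' 3) (y2_q3 W H) _ (by
    show K.x⁻¹ * (K.z * K.q 0 * K.q 3) * K.x = K.z * K.q 1 * K.q 4
    rw [hx, hx, hxz, K.q_x, K.q_x]
    congr 2)
  have a4 : h * i (q' 4 : Y) * h⁻¹ = i ((q' 1 * q' 2 : K.A) : Y) := hact (q' 4) (q' 0 * q' 1) (y2_q4 W H) _ (by
    show K.x⁻¹ * (K.q 0 * K.q 1) * K.x = K.q 1 * K.q 2
    rw [hx, K.q_x, K.q_x]
    congr 2)
  -- `h³` centralises the generators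
  have h3 : ∀ a b c : K.A, h * i (a : Y) * h⁻¹ = i (b : Y) → h * i (b : Y) * h⁻¹ = i (c : Y) →
      h * i (c : Y) * h⁻¹ = i (a : Y) → h ^ 3 * i (a : Y) = i (a : Y) * h ^ 3 := by
    intro a b c e1 e2 e3
    have e4 : h ^ 3 * i (a : Y) * (h ^ 3)⁻¹ = i (a : Y) := by
      calc h ^ 3 * i (a : Y) * (h ^ 3)⁻¹ = h * (h * (h * i (a : Y) * h⁻¹) * h⁻¹) * h⁻¹ := by
            simp only [pow_succ, pow_zero, one_mul]
            group
        _ = i (a : Y) := by rw [e1, e2, e3]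
    calc h ^ 3 * i (a : Y) = (h ^ 3 * i (a : Y) * (h ^ 3)⁻¹) * h ^ 3 := by group
      _ = _ := by rw [e4]
  have c0 : h ^ 3 * i (q' 0 : Y) = i (q' 0 : Y) * h ^ 3 := by
    refine h3 (q' 0) (q' 1) (q' 1 * q' 0) a0 a1 ?_
    have e := hmul _ _ _ _ a1 a0
    rw [e]
    congr 2
    rw [id6 (hq' 1)]
  have c1 : h ^ 3 * i (q' 1 : Y) = i (q' 1 : Y) * h ^ 3 := by
    refine h3 (q' 1) (q' 1 * q' 0) (q' 0) a1 ?_ a0
    have e := hmul _ _ _ _ a1 a0
    rw [e]
    congr 2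
    rw [id6 (hq' 1)]
  have c2 : h ^ 3 * i (q' 2 : Y) = i (q' 2 : Y) * h ^ 3 := by
    refine h3 (q' 2) (z' * q' 1 * q' 3) (q' 0 * q' 4) a2 ?_ ?_
    · have e := hmul _ _ _ _ (hmul _ _ _ _ az a1) a3
      rw [e]
      congr 2
      exact id1 hz' (hq' 1)
    · have e := hmul _ _ _ _ a0 a4
      rw [e]
      congr 2
      exact id2 (hq' 1)
  have c3 : h ^ 3 * i (q' 3 : Y) = i (q' 3 : Y) * h ^ 3 := by
    refine h3 (q' 3) (z' * q' 1 * q' 4) (z' * q' 0 * q' 2) a3 ?_ ?_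
    · have e := hmul _ _ _ _ (hmul _ _ _ _ az a1) a4
      rw [e]
      congr 2
      exact id3 (hq' 1)
    · have e := hmul _ _ _ _ (hmul _ _ _ _ az a0) a2
      rw [e]
      congr 2
      exact id4 hz' (hq' 1)
  have c4 : h ^ 3 * i (q' 4 : Y) = i (q' 4 : Y) * h ^ 3 := by
    refine h3 (q' 4) (q' 1 * q' 2) (z' * q' 0 * q' 3) a4 ?_ ?_
    · have e := hmul _ _ _ _ a1 a2
      rw [e]
      congr 2
      exact id5 (hq' 1)
    · have e := hmul _ _ _ _ (hmul _ _ _ _ az a0) a3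
      rw [e]
      congr 2
      exact id4 hz' (hq' 1)
  -- `3 ∣ orderOf h`
  have ho : 3 ∣ orderOf h := by
    by_contra hn
    have hcop : Nat.Coprime (orderOf h) 3 := by
      rw [Nat.coprime_comm]
      exact (Nat.Prime.coprime_iff_not_dvd Nat.prime_three).2 hn
    obtain ⟨k, hk⟩ := exists_pow_eq_self_of_coprime hcop.symm
    have h0 : h * i (q' 0 : Y) * h⁻¹ = i (q' 0 : Y) := by
      have hc : Commute (h ^ 3) (i (q' 0 : Y)) := c0
      have hc2 : Commute ((h ^ 3) ^ k) (i (q' 0 : Y)) := hc.pow_left k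
      rw [hk] at hc2
      rw [hc2.eq, mul_inv_cancel_right]
    rw [a0] at h0
    have h1 : K.q 1 = K.q 0 := H.inj h0
    have h2 := q_eq (K := K) (Or.inl h1)
    exact absurd h2 (by decide)
  have ho2 : orderOf (⟨h, hG⟩ : Gam H) ∣ Nat.card (Gam H) := orderOf_dvd_natCard _
  have ho3 : orderOf (⟨h, hG⟩ : Gam H) = orderOf h := by
    rw [← Subgroup.orderOf_coe]
  rw [ho3] at ho2
  exact dvd_trans ho ho2

/-! ### The last case -/

/-- `T^g = C_S(g⁻¹ t g)` -/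
theorem cent_x (W : KTW K) {g : G} (hg : ∀ x ∈ T H, g⁻¹ * x * g ∈ SS H) {s : G} (hs : s ∈ SS H)
    (hsx : s * (g⁻¹ * t * g) = g⁻¹ * t * g * s) : g * s * g⁻¹ ∈ T H := by
  have := H.finG
  set D : Subgroup G := (SS H ⊓ Subgroup.centralizer ({g⁻¹ * t * g} : Set G)).map (MulAut.conj g).toMonoidHom with hD
  have hmax := ExtT.max_of_odd (T_odd H) D ?_ ?_ ?_
  · apply hmax
    exact ⟨s, Subgroup.mem_inf.2 ⟨hs, Subgroup.mem_centralizer_singleton_iff.2 hsx⟩, rfl⟩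
  · exact ((SS_p W H).to_le inf_le_left).map _
  · intro x hx
    refine ⟨g⁻¹ * x * g, Subgroup.mem_inf.2 ⟨hg x hx, Subgroup.mem_centralizer_singleton_iff.2 ?_⟩, ?_⟩
    · have h := T_comm H hx
      calc g⁻¹ * x * g * (g⁻¹ * t * g) = g⁻¹ * (x * t) * g := by group
        _ = g⁻¹ * (t * x) * g := by rw [h]
        _ = _ := by group
    · show g * (g⁻¹ * x * g) * g⁻¹ = x
      group
  · rintro _ ⟨s, hs, rfl⟩
    have h := Subgroup.mem_centralizer_singleton_iff.1 (Subgroup.mem_inf.1 hs).2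
    show g * s * g⁻¹ * t = t * (g * s * g⁻¹)
    calc g * s * g⁻¹ * t = g * (s * (g⁻¹ * t * g)) * g⁻¹ := by group
      _ = g * (g⁻¹ * t * g * s) * g⁻¹ := by rw [h]
      _ = _ := by group

/-- the points: `t a` is conjugate to `t` under `Γ` -/
def OB (H : WDefs.PosW K i t y) (a : Y) : Prop := ∃ x ∈ Gam H, x * t * x⁻¹ = t * i a

theorem OB.conj {a p : Y} (h : OB H a) (hp : p ∈ K.P) : OB H (p⁻¹ * a * p) := by
  obtain ⟨x, hx, e⟩ := h
  refine ⟨(i p)⁻¹ * x, mul_mem (inv_mem (P_Gam H hp)) hx, ?_⟩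
  have h1 := t_k H p
  calc (i p)⁻¹ * x * t * ((i p)⁻¹ * x)⁻¹ = (i p)⁻¹ * (x * t * x⁻¹) * i p := by group
    _ = ((i p)⁻¹ * t * i p) * ((i p)⁻¹ * i a * i p) := by rw [e]; group
    _ = t * i (p⁻¹ * a * p) := by rw [h1, map_mul, map_mul, map_inv]

theorem OB_one : OB H 1 := ⟨1, one_mem _, by rw [map_one]; group⟩

theorem OB_z : OB H K.z := ⟨y, y_Gam H, by rw [P.y_inv H]; exact H.yt⟩

theorem OB_q0 (W : KTW K) : OB H (K.q 0) := ⟨y2 W i y, y2_Gam H W, by rw [y2_inv W H]; exact y2_t W H⟩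

theorem OB_zq0 (W : KTW K) : OB H (K.z * K.q 0) := by
  refine ⟨y * y2 W i y, mul_mem (y_Gam H) (y2_Gam H W), ?_⟩
  have h1 := y2_t W H
  have h2 := H.yt
  have h3 := P.y_A H (K.q_A 0)
  have hyi := P.y_inv H
  have hyi2 := y2_inv W H
  calc y * y2 W i y * t * (y * y2 W i y)⁻¹ = y * (y2 W i y * t * (y2 W i y)⁻¹) * y⁻¹ := by group
    _ = y * (t * i (K.q 0)) * y := by rw [hyi2, h1, hyi]
    _ = y * t * 1 * i (K.q 0) * y := by group
    _ = (y * t * y) * (y * i (K.q 0) * y) := by rw [← H.yy]; group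
    _ = t * i (K.z * K.q 0) := by rw [h2, h3, map_mul]; group

theorem OB_pt (W : KTW K) (n : ZMod 5) : OB H (K.q n) ∧ OB H (K.z * K.q n) := by
  have h := q_xpow (K := K) n.val 0
  have hn : (0 : ZMod 5) + (n.val : ZMod 5) = n := by rw [zero_add, ZMod.natCast_zmod_val]
  rw [hn] at h
  have hxP : K.x ^ n.val ∈ K.P := pow_mem (SOne.x_P K) _
  have hz := SOne.Pz K hxP
  constructor
  · have h1 := OB.conj H (OB_q0 H W) hxP
    rwa [h] at h1
  · have h1 := OB.conj H (OB_zq0 H W) hxP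
    have e : (K.x ^ n.val)⁻¹ * (K.z * K.q 0) * K.x ^ n.val = K.z * K.q n := by
      rw [← h]
      calc (K.x ^ n.val)⁻¹ * (K.z * K.q 0) * K.x ^ n.val = (K.x ^ n.val)⁻¹ * (K.z * K.x ^ n.val) *
            ((K.x ^ n.val)⁻¹ * K.q 0 * K.x ^ n.val) := by group
        _ = _ := by rw [← hz]; group
    rwa [e] at h1

/-- `g i A g⁻¹ = i A` -/
theorem conj_A (W : KTW K) {g : G} (hg : ∀ x ∈ T H, g⁻¹ * x * g ∈ SS H) {m : Y} (hm : m ∈ K.A)
    (h : g⁻¹ * t * g = t * i m) :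
    (∀ a ∈ K.A, ∃ a' ∈ K.A, g * i a * g⁻¹ = i a') ∧ ∀ a ∈ K.A, ∃ a' ∈ K.A, g⁻¹ * i a * g = i a' := by
  have := K.fin
  have hAU : ∀ a ∈ K.A, a ∈ K.U := fun a ha => K.Q_le_U (K.A_le_Q ha)
  have hAS : ∀ a ∈ K.U, i a ∈ SS H := fun a ha => T_le W H ⟨a, ha, Or.inl rfl⟩
  -- `g (i c) g⁻¹ ∈ T` if `c` commutes with `m`
  have hT : ∀ c ∈ K.U, c * m = m * c → g * i c * g⁻¹ ∈ T H := by
    intro c hc hcm
    apply cent_x H W hg (hAS c hc)
    rw [h]
    have h1 := H.ti c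
    calc i c * (t * i m) = (i c * t) * i m := by group
      _ = t * i (c * m) := by rw [← h1, map_mul]; group
      _ = t * i m * i c := by rw [hcm, map_mul]; group
  -- the relation between `A` and its projection
  let Rl : Y → Y → Prop := fun a b => g * i a * g⁻¹ = i b ∨ g * i a * g⁻¹ = t * i b
  have hRl : ∀ a ∈ K.A, ∃ b ∈ K.U, Rl a b := fun a ha => hT a (hAU a ha) (SOne.a_comm K ha hm)
  have hmul : ∀ {a a' b b' : Y}, Rl a b → Rl a' b' → Rl (a * a') (b * b') := by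
    intro a a' b b' h1 h2
    have e : g * i (a * a') * g⁻¹ = (g * i a * g⁻¹) * (g * i a' * g⁻¹) := by rw [map_mul]; group
    have htb := H.ti b
    show g * i (a * a') * g⁻¹ = i (b * b') ∨ g * i (a * a') * g⁻¹ = t * i (b * b')
    rw [e, map_mul]
    rcases h1 with h1 | h1 <;> rcases h2 with h2 | h2 <;> rw [h1, h2]
    · exact Or.inl rfl
    · right
      calc i b * (t * i b') = (i b * t) * i b' := by group
        _ = _ := by rw [← htb]; group
    · right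
      group
    · left
      calc t * i b * (t * i b') = t * (i b * t) * i b' := by group
        _ = (t * t) * (i b * i b') := by rw [← htb]; group
        _ = _ := by rw [H.tt, one_mul]
  have hinv : ∀ {a b : Y}, Rl a b → Rl a⁻¹ b⁻¹ := by
    intro a b h1
    have e : g * i a⁻¹ * g⁻¹ = (g * i a * g⁻¹)⁻¹ := by rw [map_inv]; group
    show g * i a⁻¹ * g⁻¹ = i b⁻¹ ∨ g * i a⁻¹ * g⁻¹ = t * i b⁻¹
    have htb := H.ti b⁻¹
    rw [e, map_inv]
    rw [map_inv] at htb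
    rcases h1 with h1 | h1 <;> rw [h1]
    · exact Or.inl rfl
    · right
      rw [mul_inv_rev, P.t_inv H, htb]
  -- injectivity
  have hRinj : ∀ {a a' b : Y}, a ∈ K.A → a' ∈ K.A → Rl a b → Rl a' b → a = a' := by
    intro a a' b ha ha' h1 h2
    have key : ∀ c c' : Y, c ∈ K.A → c' ∈ K.A → g * i c * g⁻¹ = i b → g * i c' * g⁻¹ = t * i b → False := by
      intro c c' hc hc' e1 e2
      apply t_A H W g (mul_mem hc' (inv_mem hc))
      rw [map_mul, map_inv]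
      have e3 : t = (g * i c' * g⁻¹) * (g * i c * g⁻¹)⁻¹ := by rw [e1, e2]; group
      rw [e3]
      group
    rcases h1 with h1 | h1 <;> rcases h2 with h2 | h2
    · exact H.inj (by have := h1.trans h2.symm; simpa using this)
    · exact (key a a' ha ha' h1 h2).elim
    · exact (key a' a ha' ha h2 h1).elim
    · exact H.inj (by have := h1.trans h2.symm; simpa using this)
  -- the projection `B`
  let B : Subgroup Y :=
    { carrier := {b | ∃ a ∈ K.A, Rl a b}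
      one_mem' := ⟨1, one_mem _, Or.inl (by rw [map_one]; group)⟩
      mul_mem' := by
        rintro b b' ⟨a, ha, h1⟩ ⟨a', ha', h2⟩
        exact ⟨_, mul_mem ha ha', hmul h1 h2⟩
      inv_mem' := by
        rintro b ⟨a, ha, h1⟩
        exact ⟨_, inv_mem ha, hinv h1⟩ }
  have hRU : ∀ {a b : Y}, a ∈ K.A → Rl a b → b ∈ K.U := by
    intro a b ha h1
    obtain ⟨b', hb', h2⟩ := hRl a ha
    have e : b = b' := by
      have key : ∀ c c' : Y, i c ≠ t * i c' := by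
        intro c c' e
        apply H.tY (c * c'⁻¹)
        rw [map_mul, map_inv, e]
        group
      rcases h1 with h1 | h1 <;> rcases h2 with h2 | h2
      · exact H.inj (h1.symm.trans h2)
      · exact (key _ _ (h1.symm.trans h2)).elim
      · exact (key _ _ (h2.symm.trans h1)).elim
      · exact H.inj (mul_left_cancel (h1.symm.trans h2))
    rw [e]
    exact hb'
  have hBU : B ≤ K.U := by
    rintro b ⟨a, ha, h1⟩
    exact hRU ha h1
  have hBsq : ∀ b ∈ B, b * b = 1 := by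
    rintro b ⟨a, ha, h1⟩
    have h2 := hmul h1 h1
    rw [K.sq_A a ha] at h2
    rcases h2 with h2 | h2
    · apply H.inj
      rw [← h2, map_one]
      group
    · exfalso
      apply H.tY (b * b)⁻¹
      have h3 : t * i (b * b) = 1 := by rw [← h2, map_one]; group
      rw [map_inv]
      exact inv_eq_of_mul_eq_one_left h3
  have hBn : ∀ u ∈ K.U, ∀ b ∈ B, u * b * u⁻¹ ∈ B := by
    rintro u hu b ⟨a, ha, h1⟩
    have hu' : g⁻¹ * i u * g ∈ SS H := hg _ ⟨u, hu, Or.inl rfl⟩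
    obtain ⟨a', ha', h2⟩ := SS_A H W hu' ha
    refine ⟨a', ha', ?_⟩
    have e : g * i a' * g⁻¹ = i u * (g * i a * g⁻¹) * (i u)⁻¹ := by rw [← h2]; group
    have htu := H.ti u
    show g * i a' * g⁻¹ = i (u * b * u⁻¹) ∨ g * i a' * g⁻¹ = t * i (u * b * u⁻¹)
    rw [e, map_mul, map_mul, map_inv]
    rcases h1 with h1 | h1 <;> rw [h1]
    · exact Or.inl rfl
    · right
      calc i u * (t * i b) * (i u)⁻¹ = (i u * t) * i b * (i u)⁻¹ := by group
        _ = _ := by rw [← htu]; group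
  have hBc : 2 ^ 5 ≤ Nat.card B := by
    rw [← K.card_A]
    have hch : ∀ a : K.A, ∃ b : B, Rl a b := fun a => by
      obtain ⟨b, hb, h1⟩ := hRl a a.2
      exact ⟨⟨b, a, a.2, h1⟩, h1⟩
    choose F hF using hch
    apply Nat.card_le_card_of_injective F
    intro a a' e
    apply Subtype.ext
    have h1 := hF a
    rw [e] at h1
    exact hRinj a.2 a'.2 h1 (hF a')
  rcases K.K2 B hBU hBsq hBn hBc with hB | hB
  · -- `B = A`
    -- `t a` conjugate to `t` excludes `g (i a') g⁻¹ = t a`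
    have hob : ∀ b ∈ K.A, OB H b → ∃ a ∈ K.A, g * i a * g⁻¹ = i b := by
      intro b hb hob
      have hbB : b ∈ B := by rw [hB]; exact hb
      obtain ⟨a, ha, h1⟩ := hbB
      rcases h1 with h1 | h1
      · exact ⟨a, ha, h1⟩
      · exfalso
        obtain ⟨x, hx, e⟩ := hob
        apply t_A H W (x⁻¹ * g) ha
        calc (x⁻¹ * g)⁻¹ * t * (x⁻¹ * g) = g⁻¹ * (x * t * x⁻¹) * g := by group
          _ = g⁻¹ * (g * i a * g⁻¹) * g := by rw [e, h1]
          _ = i a := by group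
    let D : Subgroup Y :=
      { carrier := {b | ∃ a ∈ K.A, g * i a * g⁻¹ = i b}
        one_mem' := ⟨1, one_mem _, by rw [map_one]; group⟩
        mul_mem' := by
          rintro b b' ⟨a, ha, h1⟩ ⟨a', ha', h2⟩
          exact ⟨_, mul_mem ha ha', by rw [map_mul, map_mul, ← h1, ← h2]; group⟩
        inv_mem' := by
          rintro b ⟨a, ha, h1⟩
          exact ⟨_, inv_mem ha, by rw [map_inv, map_inv, ← h1]; group⟩ }
    have hAD : K.A ≤ D := by
      refine le_trans K.A_gen ?_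
      rw [Subgroup.closure_le]
      rintro b (hb | ⟨n, rfl⟩)
      · rw [Set.mem_singleton_iff] at hb
        rw [hb]
        exact hob _ K.z_A (OB_z H)
      · exact hob _ (K.q_A n) (OB_pt H W n).1
    have h2 : ∀ a ∈ K.A, ∃ a' ∈ K.A, g⁻¹ * i a * g = i a' := by
      intro a ha
      obtain ⟨a', ha', e⟩ := hAD ha
      exact ⟨a', ha', by rw [← e]; group⟩
    refine ⟨fun a ha => ?_, h2⟩
    obtain ⟨b, hb, h1⟩ := hRl a ha
    have hbA : b ∈ K.A := by
      rw [← hB]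
      exact ⟨a, ha, h1⟩
    rcases h1 with h1 | h1
    · exact ⟨b, hbA, h1⟩
    · exfalso
      obtain ⟨a', ha', e⟩ := hAD hbA
      apply t_A H W g (mul_mem ha (inv_mem ha'))
      have e3 : t = (g * i a * g⁻¹) * (g * i a' * g⁻¹)⁻¹ := by rw [e, h1]; group
      rw [e3, map_mul, map_inv]
      group
  · -- `B = A₁`
    exfalso
    have hjm : K.j * m = m * K.j := j_comm W hm
    obtain ⟨c, hc, h1⟩ := hT K.j K.j_U hjm
    have hcA : c ∈ K.A₁ := by
      apply K.cent_A₁ c hc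
      intro b hb
      rw [← hB] at hb
      obtain ⟨a, ha, h2⟩ := hb
      have h3 : Rl (K.j * a) (c * b) := hmul h1 h2
      have h4 : Rl (a * K.j) (b * c) := hmul h2 h1
      rw [← j_comm W ha] at h4
      have key : ∀ c c' : Y, i c ≠ t * i c' := by
        intro c c' e
        apply H.tY (c * c'⁻¹)
        rw [map_mul, map_inv, e]
        group
      rcases h3 with h3 | h3 <;> rcases h4 with h4 | h4
      · exact H.inj (h3.symm.trans h4)
      · exact (key _ _ (h3.symm.trans h4)).elim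
      · exact (key _ _ (h4.symm.trans h3)).elim
      · exact H.inj (mul_left_cancel (h3.symm.trans h4))
    have h5 : Rl (K.j * K.j) (c * c) := hmul h1 h1
    rw [K.A₁_sq c hcA, W.jj] at h5
    rcases h5 with h5 | h5
    · have h6 : i K.z = 1 := by
        calc i K.z = g⁻¹ * (g * i K.z * g⁻¹) * g := by group
          _ = 1 := by rw [h5, map_one]; group
      exact K.z1 (H.inj (by rw [h6, map_one]))
    · apply t_A H W g K.z_A
      have e3 : t = g * i K.z * g⁻¹ := by rw [h5, map_one, mul_one]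
      rw [e3]
      group

/-- the last case of `ext` is impossible -/
theorem last (W : KTW K) {g : G} (hg : ∀ x ∈ T H, g⁻¹ * x * g ∈ SS H) {m p : Y} (hp : p ∈ K.P)
    (hm : p⁻¹ * (K.q 0 * K.q 4) * p = m) (h : g⁻¹ * t * g = t * i m) : False := by
  have := K.fin
  have := H.finG
  have hmA : m ∈ K.A := vv_mem_A H (Or.inr ⟨p, hp, hm⟩)
  obtain ⟨h1, h2⟩ := conj_A H W hg hmA h
  have hG : g⁻¹ ∈ Gam H := by
    refine ⟨fun a ha => ?_, fun a ha => ?_, m, hmA, ?_⟩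
    · rw [inv_inv]
      exact h2 a ha
    · rw [inv_inv]
      exact h1 a ha
    · rw [inv_inv]
      exact h
  have hobm : OB H m := ⟨g⁻¹, hG, by rw [inv_inv]; exact h⟩
  have hobq : OB H (K.q 0 * K.q 4) := by
    have h3 := OB.conj H hobm (inv_mem hp)
    have e : p⁻¹⁻¹ * m * p⁻¹ = K.q 0 * K.q 4 := by rw [← hm]; group
    rwa [e] at h3
  have hall : ∀ a ∈ K.A, OB H a := by
    intro a ha
    rcases W.A_cases a ha with rfl | rfl | ⟨n, rfl | rfl⟩ | ⟨p', hp', rfl⟩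
    · exact OB_one H
    · exact OB_z H
    · exact (OB_pt H W n).1
    · exact (OB_pt H W n).2
    · exact OB.conj H hobq hp'
  have h4 := card_orbit (S := Gam H) (T := dbl i t H.tt H.ti K.P) H.inj (V := K.A) (dbl_Gam H)
    (fun x hx => Gam_cent H hx) (fun x hx => hx.2.2) hall
  rw [card_dbl H.inj H.tY, K.card_A] at h4
  have h5 := three_dvd H W
  rw [h4] at h5
  have h6 := not_three_dvd W
  have h7 : Nat.Prime 3 := Nat.prime_three
  rcases (h7.dvd_mul).1 h5 with h8 | h8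
  · norm_num at h8
  · rcases (h7.dvd_mul).1 h8 with h9 | h9
    · norm_num at h9
    · exact h6 h9

/-- **Type W is impossible.** -/
theorem false_of (W : KTW K) : False := by
  classical
  have := H.finG
  refine ExtT.false_of H.perf H.tt (T_le W H) (SS_p W H) (t_T H) (fun x hx => T_comm H hx) (T_odd H)
    (fun x hx h => (SS_cent W H hx).1 h) (Abelianization.of (G := SS H)) ?_ ?_
  · intro h
    exact t_comm H W ((QuotientGroup.eq_one_iff _).1 h)
  · intro g hg hgS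
    left
    obtain ⟨m, hm, h1, h2⟩ := ext H W hg
    have hmA := vv_mem_A H h2
    rcases h1 with h1 | h1
    · exact (t_A H W g hmA h1).elim
    · rcases h2 with h2 | ⟨p, hp, h2⟩
      · obtain ⟨s, hs, e⟩ := SS_orbit W H m h2
        exact ⟨s, hs, by rw [e, h1]⟩
      · exact (last H W hg hp h2 h1).elim

end Cfsg.Agent.OddHalf.D7Tits.WKill
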