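import Cfsg.Agent.OddHalf.D7.Cases
import Cfsg.Agent.OddHalf.D7Tits.CloseO
import Cfsg.Agent.OddHalf.D7Tits.WKill
import Cfsg.Agent.TitsK.PairInst

/-!
# ODD D7, the row `K = ²F₄(2)'` (helper853)

`node_of` : the row from the last two K-facts `XZero.K5 ktTD` (type X0) and `WDefs.KTW ktHD` (type W).
-/

set_option autoImplicit false

namespace Cfsg.Agent.OddHalf.D7Tits.Row

open Cfsg.Agent.OddHalf.D7Tits.Defs

universe u v w

/-- OUT : `j ≠ 1` -/
theorem j_ne {Y : Type v} [Group Y] {K : KT Y} (h : K.j * K.j = K.z) : K.j ≠ 1 := by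
  intro h1
  apply K.z1
  rw [← h, h1, mul_one]

/-- OUT, all types -/
theorem false_out {Y : Type v} [Group Y] {K : KT Y} {G : Type w} [Group G] {K₀ : Subgroup Y} {i₀ : ↥K₀ →* G} {t f : G}
    (W : WDefs.KTW K) (H : Pos0 K K₀ i₀ t f) : False :=
  CloseO.false_out H (j_ne W.jj) W (fun _ _ P => WKill.false_of P W)

/-- **the row Tits** of node D7 -/
theorem node_of (h5 : XZero.K5 TitsK.ktTD) (W : WDefs.KTW TitsK.ktHD) :
    D7.Cases.Node.{u} @Cfsg.Lie.IsoTits.{u} := by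
  intro G _ C K S c h
  rcases TitsK.pos0 C S c h with ⟨i₀, t, H⟩ | ⟨i₀, t, f, H⟩
  · exact CloseO.false_cl H TitsK.ktTD_j h5
  · exact false_out W H

end Cfsg.Agent.OddHalf.D7Tits.Row
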