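import Cfsg.Agent.OddHalf.D7Tits.Defs

/-!
# ODD D7, `K = ²F₄(2)'`: section 1 (helper853; text: bb ODD 15617, 1.1 and 1.3)

From `Pos0` (the front): an element `n` with `n t n⁻¹ = t z` that centralises `x`, `A` and acts on `E` trivially (type O), as
`j` (type X0, only CL), or by type W (only OUT). In type O, `Pos`.
-/

set_option autoImplicit false
set_option linter.unusedSectionVars false
set_option linter.unusedVariables false

namespace Cfsg.Agent.OddHalf.D7Tits.SOne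

open Cfsg.Agent.OddHalf.D7Tits.Defs
open scoped commutatorElement

universe u v

variable {Y : Type u} [Group Y] {G : Type v} [Group G]

/-! ### K-facts -/

section KFacts

variable (K : KT Y)

theorem z_Q : K.z ∈ K.Q := K.A_le_Q K.z_A
theorem z_E : K.z ∈ K.E := K.Q_le_E (z_Q K)
theorem r_E : K.r ∈ K.E := K.Q_le_E K.r_Q
theorem A_E {a : Y} (h : a ∈ K.A) : a ∈ K.E := K.Q_le_E (K.A_le_Q h)
theorem x_P : K.x ∈ K.P := K.E_le_P K.x_E
theorem s_P : K.s ∈ K.P := K.U_le_P K.s_U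
theorem j_P : K.j ∈ K.P := K.U_le_P K.j_U

theorem Pz {p : Y} (hp : p ∈ K.P) : p * K.z = K.z * p := (K.mem_P p).1 hp

theorem a_inv {a : Y} (h : a ∈ K.A) : a⁻¹ = a := inv_eq_of_mul_eq_one_left (K.sq_A a h)

theorem a_comm {a b : Y} (ha : a ∈ K.A) (hb : b ∈ K.A) : a * b = b * a := by
  have h := K.sq_A _ (mul_mem ha hb)
  have h1 : (a * b)⁻¹ = a * b := inv_eq_of_mul_eq_one_left h
  rw [mul_inv_rev, a_inv K ha, a_inv K hb] at h1
  exact h1.symm

theorem sq_Q {u : Y} (hu : u ∈ K.Q) : u * u ∈ K.A := by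
  refine K.Q_ker _ (mul_mem hu hu) fun k => ?_
  have hz := K.nor_Q
  have hzu : u⁻¹ * K.z * u = K.z := by
    have h := Pz K (K.E_le_P (K.Q_le_E hu))
    calc u⁻¹ * K.z * u = u⁻¹ * (K.z * u) := by group
      _ = u⁻¹ * (u * K.z) := by rw [h]
      _ = K.z := by group
  have e : (u * u)⁻¹ * K.q k * (u * u) = u⁻¹ * (u⁻¹ * K.q k * u) * u := by group
  rw [e]
  rcases K.q_Q u hu k with h | h
  · rw [h, h]
  · rw [h]
    calc u⁻¹ * (K.q k * K.z) * u = (u⁻¹ * K.q k * u) * (u⁻¹ * K.z * u) := by group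
      _ = K.q k * (K.z * K.z) := by rw [h, hzu]; group
      _ = K.q k := by rw [K.zz, mul_one]

theorem comm_Q {u w : Y} (hu : u ∈ K.Q) (hw : w ∈ K.Q) : ⁅u, w⁆ ∈ K.A := by
  rw [← K.comm_Q]
  exact Subgroup.commutator_mem_commutator hu hw

theorem norQ' {p a : Y} (hp : p ∈ K.P) (ha : a ∈ K.Q) : p⁻¹ * a * p ∈ K.Q := by
  have h := K.nor_Q p⁻¹ (inv_mem hp) a ha
  rwa [inv_inv] at h

theorem norA' {p a : Y} (hp : p ∈ K.P) (ha : a ∈ K.A) : p⁻¹ * a * p ∈ K.A := by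
  have h := K.nor_A p⁻¹ (inv_mem hp) a ha
  rwa [inv_inv] at h

theorem norE' {p a : Y} (hp : p ∈ K.P) (ha : a ∈ K.E) : p⁻¹ * a * p ∈ K.E := by
  have h := K.nor_E p⁻¹ (inv_mem hp) a ha
  rwa [inv_inv] at h

theorem xp {k : ℕ} : K.x ^ k ∈ K.P := pow_mem (x_P K) k

theorem xpE {k : ℕ} : K.x ^ k ∈ K.E := pow_mem K.x_E k

theorem s_x : K.s * K.x * K.s⁻¹ = K.x ^ 3 := by
  have h := K.x_s
  have h1 : K.s⁻¹ * K.x ^ 3 * K.s = K.x := by
    have e : K.s⁻¹ * K.x ^ 3 * K.s = (K.s⁻¹ * K.x * K.s) ^ 3 := by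
      simp only [pow_succ, pow_zero, one_mul]
      group
    rw [e, h, ← pow_two, ← pow_mul]
    have h5 := K.x5
    calc K.x ^ (2 * 3) = K.x ^ 5 * K.x := by rw [← pow_succ]
      _ = K.x := by rw [h5, one_mul]
  calc K.s * K.x * K.s⁻¹ = K.s * (K.s⁻¹ * K.x ^ 3 * K.s) * K.s⁻¹ := by rw [h1]
    _ = K.x ^ 3 := by group

/-- `s^{-l} x^k s^l = x^(2^l k)` -/
theorem x_pow_s (l k : ℕ) : (K.s ^ l)⁻¹ * K.x ^ k * K.s ^ l = K.x ^ (2 ^ l * k) := by
  induction l with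
  | zero => simp
  | succ l ih =>
    calc (K.s ^ (l + 1))⁻¹ * K.x ^ k * K.s ^ (l + 1) = K.s⁻¹ * ((K.s ^ l)⁻¹ * K.x ^ k * K.s ^ l) * K.s := by
          rw [pow_succ]; group
      _ = K.s⁻¹ * K.x ^ (2 ^ l * k) * K.s := by rw [ih]
      _ = (K.s⁻¹ * K.x * K.s) ^ (2 ^ l * k) := by
        have := conj_pow (i := 2 ^ l * k) (a := K.s⁻¹) (b := K.x)
        rw [inv_inv] at this
        exact this.symm
      _ = K.x ^ (2 ^ (l + 1) * k) := by
        rw [K.x_s, ← pow_two, ← pow_mul]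
        congr 1
        ring

theorem x_pow_mod (k : ℕ) : K.x ^ k = K.x ^ (k % 5) := by
  conv_lhs => rw [← Nat.div_add_mod k 5, pow_add, pow_mul, K.x5, one_pow, one_mul]

/-- a power of `s` conjugates a nontrivial power of `x` to `x` -/
theorem exists_s {k : ℕ} (h : K.x ^ k ≠ 1) : ∃ l : ℕ, (K.s ^ l)⁻¹ * K.x ^ k * K.s ^ l = K.x := by
  have h0 : k % 5 ≠ 0 := fun h1 => h (by rw [x_pow_mod, h1, pow_zero])
  have h5 : k % 5 < 5 := Nat.mod_lt _ (by norm_num)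
  have key : ∀ l, (2 ^ l * k) % 5 = 1 → (K.s ^ l)⁻¹ * K.x ^ k * K.s ^ l = K.x := by
    intro l hl
    rw [x_pow_s, x_pow_mod, hl, pow_one]
  have h1 : k % 5 = 1 ∨ k % 5 = 2 ∨ k % 5 = 3 ∨ k % 5 = 4 := by omega
  rcases h1 with h1 | h1 | h1 | h1
  · exact ⟨0, key 0 (by omega)⟩
  · exact ⟨3, key 3 (by omega)⟩
  · exact ⟨1, key 1 (by omega)⟩
  · exact ⟨2, key 2 (by omega)⟩

theorem z_x : K.x * K.z = K.z * K.x := Pz K (x_P K)

end KFacts

/-! ### The map `ι` -/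

section Iota

variable {K : KT Y} {K₀ : Subgroup Y} {i₀ : ↥K₀ →* G} {t f : G}

open Classical in
/-- `i₀` on `Y` (junk outside `K₀`) -/
noncomputable def io (i₀ : ↥K₀ →* G) (y : Y) : G := if h : y ∈ K₀ then i₀ ⟨y, h⟩ else 1

theorem io_eq {y : Y} (h : y ∈ K₀) : io i₀ y = i₀ ⟨y, h⟩ := by
  unfold io
  rw [dif_pos h]

theorem io_coe (y : ↥K₀) : io i₀ (y : Y) = i₀ y := io_eq y.2

theorem io_mul {y y' : Y} (h : y ∈ K₀) (h' : y' ∈ K₀) : io i₀ (y * y') = io i₀ y * io i₀ y' := by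
  rw [io_eq h, io_eq h', io_eq (mul_mem h h'), ← map_mul]
  rfl

theorem io_one : io i₀ (1 : Y) = 1 := by
  rw [io_eq (one_mem K₀)]
  exact map_one i₀

theorem io_inv {y : Y} (h : y ∈ K₀) : io i₀ y⁻¹ = (io i₀ y)⁻¹ := by
  rw [io_eq h, io_eq (inv_mem h), ← map_inv]
  rfl

theorem io_pow {y : Y} (h : y ∈ K₀) (k : ℕ) : io i₀ (y ^ k) = io i₀ y ^ k := by
  induction k with
  | zero => rw [pow_zero, pow_zero, io_one]
  | succ k ih => rw [pow_succ, pow_succ, io_mul (pow_mem h k) h, ih]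

theorem io_conj {y y' : Y} (h : y ∈ K₀) (h' : y' ∈ K₀) : io i₀ (y * y' * y⁻¹) = io i₀ y * io i₀ y' * (io i₀ y)⁻¹ := by
  rw [io_mul (mul_mem h h') (inv_mem h), io_mul h h', io_inv h]

theorem io_conj' {y y' : Y} (h : y ∈ K₀) (h' : y' ∈ K₀) : io i₀ (y⁻¹ * y' * y) = (io i₀ y)⁻¹ * io i₀ y' * io i₀ y := by
  rw [io_mul (mul_mem (inv_mem h) h') h, io_mul (inv_mem h) h', io_inv h]

variable (H : Pos0 K K₀ i₀ t f)

include H

theorem io_inj {y y' : Y} (h : y ∈ K₀) (h' : y' ∈ K₀) (e : io i₀ y = io i₀ y') : y = y' := by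
  rw [io_eq h, io_eq h'] at e
  exact congrArg Subtype.val (H.inj e)

theorem io_t {y : Y} (h : y ∈ K₀) : t * io i₀ y = io i₀ y * t := by
  rw [io_eq h]
  exact H.ti _

theorem io_ne_t {y : Y} (h : y ∈ K₀) : io i₀ y ≠ t := by
  rw [io_eq h]
  exact H.tY _

theorem z_K : K.z ∈ K₀ := H.EK (z_E K)
theorem x_K : K.x ∈ K₀ := H.EK K.x_E
theorem r_K : K.r ∈ K₀ := H.EK (r_E K)

theorem t_inv : t⁻¹ = t := inv_eq_of_mul_eq_one_left H.tt

theorem zz' : io i₀ K.z * io i₀ K.z = 1 := by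
  rw [← io_mul (z_K H) (z_K H), K.zz, io_one]

theorem z'_ne : io i₀ K.z ≠ 1 := by
  intro h
  exact K.z1 (io_inj H (z_K H) (one_mem _) (by rw [h, io_one]))

theorem fus' : ∃ n : G, n * t * n⁻¹ = t * io i₀ K.z ∧ n * io i₀ K.z = io i₀ K.z * n := by
  obtain ⟨n, h1, h2⟩ := H.fus
  refine ⟨n, ?_, ?_⟩
  · rw [h1, io_eq]
  · rw [io_eq (z_K H)]
    exact h2

theorem fi' (hf : f ≠ 1) {y : Y} (h : y ∈ K₀) : f * io i₀ y * f⁻¹ = io i₀ (K.τ y) := by
  rw [io_eq h, io_eq (H.τK y h)]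
  exact H.fi hf y h

/-- OUT : `τ` is the conjugation by `j`, `j * j = z`, `f ≠ 1` -/
theorem out_facts (hj : K.j ∉ K₀) : f ≠ 1 ∧ K.j * K.j = K.z ∧ ∀ y, K.τ y = K.j * y * K.j⁻¹ := by
  have hj1 : K.j ≠ 1 := fun h => hj (h ▸ one_mem _)
  have h1 := K.j_or.resolve_left hj1
  refine ⟨?_, h1.1, h1.2⟩
  rintro rfl
  rcases H.fj with ⟨h, -⟩ | ⟨-, h⟩ | ⟨-, h⟩
  · exact hj1 h
  · rw [one_mul] at h
    exact z'_ne H (by rw [io_eq (z_K H)]; exact h.symm)
  · rw [one_mul] at h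
    have h2 : io i₀ K.z = t := by
      rw [io_eq (z_K H)]
      calc i₀ ⟨K.z, _⟩ = t⁻¹ * (t * i₀ ⟨K.z, _⟩) := by group
        _ = t := by rw [← h, mul_one, t_inv H]
    exact io_ne_t H (z_K H) h2

/-- the values of `f * f` -/
theorem ff (hj : K.j ∉ K₀) : f * f = io i₀ K.z ∨ f * f = t * io i₀ K.z := by
  rcases H.fj with ⟨h, -⟩ | ⟨-, h⟩ | ⟨-, h⟩
  · exact absurd (h ▸ one_mem _ : K.j ∈ K₀) hj
  · left
    rw [h, io_eq]
  · right
    rw [h, io_eq]

theorem f_cl (hj : K.j ∈ K₀) : K.j = 1 ∧ f = 1 := by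
  rcases H.fj with h | ⟨h, -⟩ | ⟨h, -⟩
  · exact h
  · exact absurd hj h
  · exact absurd hj h

/-- `f ∉ ⟨t⟩ i₀ K₀` -/
theorem no_f (hj : K.j ∉ K₀) {y y' : Y} (h : y ∈ K₀) (h' : y' ∈ K₀) :
    io i₀ y * f ≠ io i₀ y' ∧ io i₀ y * f ≠ t * io i₀ y' := by
  obtain ⟨hf, hjj, hτ⟩ := out_facts H hj
  -- `f` would act as an element of `K₀`
  have key : ∀ w ∈ K₀, (∀ e ∈ K.E, f * io i₀ e * f⁻¹ = io i₀ w * io i₀ e * (io i₀ w)⁻¹) → False := by
    intro w hw h1
    have h2 : w⁻¹ * K.j = 1 ∨ w⁻¹ * K.j = K.z := by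
      apply K.cent_E
      intro e he
      have h3 := h1 e he
      rw [fi' H hf (H.EK he), ← io_conj hw (H.EK he)] at h3
      have h4 := io_inj H (H.τK _ (H.EK he)) (mul_mem (mul_mem hw (H.EK he)) (inv_mem hw)) h3
      rw [hτ] at h4
      calc w⁻¹ * K.j * e = w⁻¹ * (K.j * e * K.j⁻¹) * K.j := by group
        _ = w⁻¹ * (w * e * w⁻¹) * K.j := by rw [h4]
        _ = e * (w⁻¹ * K.j) := by group
    apply hj
    have e : K.j = w * (w⁻¹ * K.j) := by group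
    rw [e]
    rcases h2 with h2 | h2
    · rw [h2]
      exact mul_mem hw (one_mem _)
    · rw [h2]
      exact mul_mem hw (z_K H)
  constructor
  · intro e1
    have hfe : f = io i₀ (y⁻¹ * y') := by
      rw [io_mul (inv_mem h) h', io_inv h, ← e1]
      group
    exact key _ (mul_mem (inv_mem h) h') fun e _ => by rw [hfe]
  · intro e1
    have hfe : f = t * io i₀ (y⁻¹ * y') := by
      rw [io_mul (inv_mem h) h', io_inv h]
      have h2 : (io i₀ y)⁻¹ * t = t * (io i₀ y)⁻¹ := by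
        have := io_t H (inv_mem h)
        rw [io_inv h] at this
        exact this.symm
      calc f = (io i₀ y)⁻¹ * (io i₀ y * f) := by group
        _ = ((io i₀ y)⁻¹ * t) * io i₀ y' := by rw [e1]; group
        _ = _ := by rw [h2]; group
    refine key _ (mul_mem (inv_mem h) h') fun e he => ?_
    rw [hfe]
    have h2 := io_t H (H.EK he)
    have h3 := io_t H (mul_mem (inv_mem h) h')
    set w := io i₀ (y⁻¹ * y')
    have hwe : t * (w * io i₀ e * w⁻¹) = (w * io i₀ e * w⁻¹) * t := by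
      have h4 : t * w⁻¹ = w⁻¹ * t := by
        calc t * w⁻¹ = w⁻¹ * (w * t) * w⁻¹ := by group
          _ = w⁻¹ * (t * w) * w⁻¹ := by rw [h3]
          _ = _ := by group
      calc t * (w * io i₀ e * w⁻¹) = (t * w) * io i₀ e * w⁻¹ := by group
        _ = w * (t * io i₀ e) * w⁻¹ := by rw [h3]; group
        _ = w * io i₀ e * (t * w⁻¹) := by rw [h2]; group
        _ = _ := by rw [h4]; group
    calc t * w * io i₀ e * (t * w)⁻¹ = (t * (w * io i₀ e * w⁻¹)) * t⁻¹ := by group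
      _ = _ := by rw [hwe]; group

theorem f_z : f * io i₀ K.z = io i₀ K.z * f := by
  by_cases hf : f = 1
  · rw [hf, one_mul, mul_one]
  · have h := fi' H hf (z_K H)
    rw [K.τz] at h
    calc f * io i₀ K.z = (f * io i₀ K.z * f⁻¹) * f := by group
      _ = _ := by rw [h]

theorem f_x : f * io i₀ K.x = io i₀ K.x * f := by
  by_cases hf : f = 1
  · rw [hf, one_mul, mul_one]
  · have h := fi' H hf (x_K H)
    rw [K.τx] at h
    calc f * io i₀ K.x = (f * io i₀ K.x * f⁻¹) * f := by group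
      _ = _ := by rw [h]

theorem mem_P_of {k : Y} (hk : k ∈ K₀) (h : io i₀ k * io i₀ K.z = io i₀ K.z * io i₀ k) : k ∈ K.P := by
  rw [K.mem_P]
  exact io_inj H (mul_mem hk (z_K H)) (mul_mem (z_K H) hk) (by rw [io_mul hk (z_K H), io_mul (z_K H) hk, h])

/-- the elements of `C_G(t, z)` -/
theorem cenM {g : G} (h1 : g * t = t * g) (h2 : g * io i₀ K.z = io i₀ K.z * g) :
    ∃ k ∈ K₀, k ∈ K.P ∧ (g = io i₀ k ∨ g = t * io i₀ k ∨ g = io i₀ k * f ∨ g = t * io i₀ k * f) := by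
  obtain ⟨y, hy⟩ := H.cen g h1
  rw [← io_coe y] at hy
  refine ⟨y, y.2, ?_, hy⟩
  apply mem_P_of H y.2
  have hfz := f_z H
  have htz := io_t H (z_K H)
  have hti := t_inv H
  rcases hy with rfl | rfl | rfl | rfl
  · exact h2
  · have e : io i₀ (y : Y) = t⁻¹ * (t * io i₀ (y : Y)) := by group
    have h3 : t⁻¹ * io i₀ K.z = io i₀ K.z * t⁻¹ := by rw [hti, htz]
    calc io i₀ (y : Y) * io i₀ K.z = t⁻¹ * (t * io i₀ (y : Y) * io i₀ K.z) := by group
      _ = t⁻¹ * io i₀ K.z * (t * io i₀ (y : Y)) := by rw [h2]; group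
      _ = io i₀ K.z * io i₀ (y : Y) := by rw [h3]; group
  · calc io i₀ (y : Y) * io i₀ K.z = io i₀ (y : Y) * (f * io i₀ K.z) * f⁻¹ * (io i₀ K.z)⁻¹ * io i₀ K.z := by
          rw [hfz]; group
      _ = (io i₀ (y : Y) * f * io i₀ K.z) * f⁻¹ := by group
      _ = io i₀ K.z * io i₀ (y : Y) := by rw [h2]; group
  · have h3 : t⁻¹ * io i₀ K.z = io i₀ K.z * t⁻¹ := by rw [hti, htz]
    calc io i₀ (y : Y) * io i₀ K.z = io i₀ (y : Y) * (f * io i₀ K.z) * f⁻¹ * (io i₀ K.z)⁻¹ * io i₀ K.z := by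
          rw [hfz]; group
      _ = t⁻¹ * (t * io i₀ (y : Y) * f * io i₀ K.z) * f⁻¹ := by group
      _ = t⁻¹ * io i₀ K.z * (t * io i₀ (y : Y)) := by rw [h2]; group
      _ = io i₀ K.z * io i₀ (y : Y) := by rw [h3]; group

/-- `(k f)² ∈ ⟨t⟩ K₀` -/
theorem sq_kf (hj : K.j ∉ K₀) {k : Y} (hk : k ∈ K₀) :
    ∃ w ∈ K₀, (io i₀ k * f) * (io i₀ k * f) = io i₀ w ∨ (io i₀ k * f) * (io i₀ k * f) = t * io i₀ w := by
  obtain ⟨hf, -, -⟩ := out_facts H hj
  have h1 := fi' H hf hk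
  have e : (io i₀ k * f) * (io i₀ k * f) = io i₀ k * (f * io i₀ k * f⁻¹) * (f * f) := by group
  rw [e, h1]
  have hτk := H.τK k hk
  refine ⟨k * K.τ k * K.z, mul_mem (mul_mem hk hτk) (z_K H), ?_⟩
  rw [io_mul (mul_mem hk hτk) (z_K H), io_mul hk hτk]
  rcases ff H hj with h | h
  · left
    rw [h]
  · right
    rw [h]
    have h2 := io_t H hk
    have h3 := io_t H hτk
    calc io i₀ k * io i₀ (K.τ k) * (t * io i₀ K.z) = io i₀ k * (io i₀ (K.τ k) * t) * io i₀ K.z := by group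
      _ = (io i₀ k * t) * io i₀ (K.τ k) * io i₀ K.z := by rw [← h3]; group
      _ = _ := by rw [← h2]; group

/-- elements of order 5 of `C_G(t, z)` -/
theorem five {g : G} (h1 : g * t = t * g) (h2 : g * io i₀ K.z = io i₀ K.z * g) (h5 : g ^ 5 = 1) :
    ∃ e ∈ K.E, e ^ 5 = 1 ∧ g = io i₀ e := by
  obtain ⟨k, hk, hkP, hg⟩ := cenM H h1 h2
  have hcomm : Commute t (io i₀ k) := io_t H hk
  have ht5 : t ^ 5 = t := by
    calc t ^ 5 = (t * t) * (t * t) * t := by simp only [pow_succ, pow_zero, one_mul, mul_assoc]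
      _ = t := by rw [H.tt]; group
  -- the elements outside `⟨t⟩ K₀` do not have order 5
  have hout : ∀ w : G, (w = io i₀ k * f ∨ w = t * (io i₀ k * f)) → K.j ∉ K₀ → w ^ 5 = 1 → False := by
    intro w hw hj hw5
    obtain ⟨v, hv, hsq⟩ := sq_kf H hj hk
    have hft : t * (io i₀ k * f) = (io i₀ k * f) * t := by
      calc t * (io i₀ k * f) = (t * io i₀ k) * f := by group
        _ = io i₀ k * (t * f) := by rw [io_t H hk]; group
        _ = _ := by rw [← H.ft]; group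
    have hww : w * w = (io i₀ k * f) * (io i₀ k * f) := by
      rcases hw with rfl | rfl
      · rfl
      · calc t * (io i₀ k * f) * (t * (io i₀ k * f)) = (t * (io i₀ k * f)) * t * (io i₀ k * f) := by group
          _ = (io i₀ k * f) * (t * t) * (io i₀ k * f) := by rw [hft]; group
          _ = _ := by rw [H.tt]; group
    -- `w = (w⁴)⁻¹`
    have hw4 : w = ((w * w) * (w * w))⁻¹ := by
      rw [eq_inv_iff_mul_eq_one]
      calc w * (w * w * (w * w)) = w ^ 5 := by simp only [pow_succ, pow_zero, one_mul, mul_assoc]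
        _ = 1 := hw5
    have h4 : (w * w) * (w * w) = io i₀ (v * v) := by
      rw [hww, io_mul hv hv]
      have hcv := io_t H hv
      rcases hsq with h | h
      · rw [h]
      · rw [h]
        calc t * io i₀ v * (t * io i₀ v) = t * (io i₀ v * t) * io i₀ v := by group
          _ = (t * t) * io i₀ v * io i₀ v := by rw [← hcv]; group
          _ = _ := by rw [H.tt, one_mul]
    rw [h4, ← io_inv (mul_mem hv hv)] at hw4
    have hvm := inv_mem (mul_mem hv hv)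
    rcases hw with rfl | rfl
    · exact (no_f H hj hk hvm).1 hw4
    · apply (no_f H hj hk hvm).2
      calc io i₀ k * f = t⁻¹ * (t * (io i₀ k * f)) := by group
        _ = t * io i₀ (v * v)⁻¹ := by rw [hw4, t_inv H]
  rcases hg with rfl | rfl | hg | hg
  · have hk5 : k ^ 5 = 1 := io_inj H (pow_mem hk 5) (one_mem _) (by rw [io_pow hk, h5, io_one])
    exact ⟨k, K.E_mem k hkP hk5, hk5, rfl⟩
  · exfalso
    rw [hcomm.mul_pow, ht5, ← io_pow hk] at h5
    have h6 : io i₀ (k ^ 5) = t := by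
      calc io i₀ (k ^ 5) = t⁻¹ * (t * io i₀ (k ^ 5)) := by group
        _ = t := by rw [h5, mul_one, t_inv H]
    exact io_ne_t H (pow_mem hk 5) h6
  · by_cases hj : K.j ∈ K₀
    · obtain ⟨-, hf⟩ := f_cl H hj
      rw [hf, mul_one] at hg
      subst hg
      have hk5 : k ^ 5 = 1 := io_inj H (pow_mem hk 5) (one_mem _) (by rw [io_pow hk, h5, io_one])
      exact ⟨k, K.E_mem k hkP hk5, hk5, rfl⟩
    · exact (hout g (Or.inl hg) hj h5).elim
  · by_cases hj : K.j ∈ K₀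
    · obtain ⟨-, hf⟩ := f_cl H hj
      rw [hf, mul_one] at hg
      subst hg
      exfalso
      rw [hcomm.mul_pow, ht5, ← io_pow hk] at h5
      have h6 : io i₀ (k ^ 5) = t := by
        calc io i₀ (k ^ 5) = t⁻¹ * (t * io i₀ (k ^ 5)) := by group
          _ = t := by rw [h5, mul_one, t_inv H]
      exact io_ne_t H (pow_mem hk 5) h6
    · exact (hout g (Or.inr (by rw [hg, mul_assoc])) hj h5).elim

end Iota

/-! ### The element `n` -/

/-- `n t n⁻¹ = t z`, `n z = z n` -/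
structure Mv (K : KT Y) {K₀ : Subgroup Y} (i₀ : ↥K₀ →* G) (t : G) (n : G) : Prop where
  nt : n * t * n⁻¹ = t * io i₀ K.z
  nz : n * io i₀ K.z = io i₀ K.z * n

section MvS

variable {K : KT Y} {K₀ : Subgroup Y} {i₀ : ↥K₀ →* G} {t f n : G} (H : Pos0 K K₀ i₀ t f) (N : Mv K i₀ t n)

include H N

theorem n_t : n * t = t * io i₀ K.z * n := by
  rw [← N.nt]
  group

theorem n_tz : n * (t * io i₀ K.z) = t * n := by
  calc n * (t * io i₀ K.z) = (n * t) * io i₀ K.z := by group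
    _ = t * io i₀ K.z * (n * io i₀ K.z) := by rw [n_t H N]; group
    _ = t * (io i₀ K.z * io i₀ K.z) * n := by rw [N.nz]; group
    _ = t * n := by rw [zz' H, mul_one]

/-- `n` normalises `C_G(t, z)` -/
theorem nM {g : G} (h1 : g * t = t * g) (h2 : g * io i₀ K.z = io i₀ K.z * g) :
    (n * g * n⁻¹) * t = t * (n * g * n⁻¹) ∧ (n * g * n⁻¹) * io i₀ K.z = io i₀ K.z * (n * g * n⁻¹) := by
  have e1 : n⁻¹ * t = t * io i₀ K.z * n⁻¹ := by
    calc n⁻¹ * t = n⁻¹ * (t * n) * n⁻¹ := by group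
      _ = n⁻¹ * (n * (t * io i₀ K.z)) * n⁻¹ := by rw [n_tz H N]
      _ = _ := by group
  have e2 : n⁻¹ * io i₀ K.z = io i₀ K.z * n⁻¹ := by
    calc n⁻¹ * io i₀ K.z = n⁻¹ * (io i₀ K.z * n) * n⁻¹ := by group
      _ = n⁻¹ * (n * io i₀ K.z) * n⁻¹ := by rw [N.nz]
      _ = _ := by group
  constructor
  · calc (n * g * n⁻¹) * t = n * g * (n⁻¹ * t) := by group
      _ = n * (g * t) * io i₀ K.z * n⁻¹ := by rw [e1]; group
      _ = n * t * (g * io i₀ K.z) * n⁻¹ := by rw [h1]; group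
      _ = (n * (t * io i₀ K.z)) * g * n⁻¹ := by rw [h2]; group
      _ = t * (n * g * n⁻¹) := by rw [n_tz H N]; group
  · calc (n * g * n⁻¹) * io i₀ K.z = n * g * (n⁻¹ * io i₀ K.z) := by group
      _ = n * (g * io i₀ K.z) * n⁻¹ := by rw [e2]; group
      _ = (n * io i₀ K.z) * g * n⁻¹ := by rw [h2]; group
      _ = io i₀ K.z * (n * g * n⁻¹) := by rw [N.nz]; group

theorem io_M {p : Y} (hp : p ∈ K.P) (hk : p ∈ K₀) :
    io i₀ p * t = t * io i₀ p ∧ io i₀ p * io i₀ K.z = io i₀ K.z * io i₀ p := by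
  refine ⟨(io_t H hk).symm, ?_⟩
  rw [← io_mul hk (z_K H), ← io_mul (z_K H) hk, Pz K hp]

/-- `n` normalises `E` -/
theorem nEE {e : Y} (he : e ∈ K.E) : ∃ e' ∈ K.E, n * io i₀ e * n⁻¹ = io i₀ e' := by
  have h1 := K.E_le he
  have key : ∀ y ∈ Subgroup.closure {p | p ∈ K.P ∧ p ^ 5 = 1}, y ∈ K₀ ∧ ∃ e' ∈ K.E, n * io i₀ y * n⁻¹ = io i₀ e' := by
    intro y hy
    induction hy using Subgroup.closure_induction with
    | mem p hp =>
      have hpE := K.E_mem p hp.1 hp.2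
      have hpK := H.EK hpE
      obtain ⟨h2, h3⟩ := io_M H N hp.1 hpK
      obtain ⟨h4, h5⟩ := nM H N h2 h3
      obtain ⟨e', he', -, h6⟩ := five H h4 h5 (by rw [conj_pow, ← io_pow hpK, hp.2, io_one]; group)
      exact ⟨hpK, e', he', h6⟩
    | one => exact ⟨one_mem _, 1, one_mem _, by rw [io_one]; group⟩
    | mul a b _ _ ha hb =>
      obtain ⟨ha0, a', ha', h2⟩ := ha
      obtain ⟨hb0, b', hb', h3⟩ := hb
      refine ⟨mul_mem ha0 hb0, a' * b', mul_mem ha' hb', ?_⟩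
      rw [io_mul ha0 hb0, io_mul (H.EK ha') (H.EK hb'), ← h2, ← h3]
      group
    | inv a _ ha =>
      obtain ⟨ha0, a', ha', h2⟩ := ha
      refine ⟨inv_mem ha0, a'⁻¹, inv_mem ha', ?_⟩
      rw [io_inv ha0, io_inv (H.EK ha'), ← h2]
      group
  exact (key e h1).2

/-- `n` normalises `Q` -/
theorem nQQ {e : Y} (he : e ∈ K.Q) : ∃ e' ∈ K.Q, n * io i₀ e * n⁻¹ = io i₀ e' := by
  obtain ⟨e', he', h⟩ := nEE H N (K.Q_le_E he)
  refine ⟨e', K.Q_mem e' he' (io_inj H (pow_mem (H.EK he') 4) (one_mem _) ?_), h⟩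
  rw [io_pow (H.EK he'), ← h, conj_pow, ← io_pow (H.EK (K.Q_le_E he)), K.Q_pow e he, io_one]
  group

/-- `n` normalises `A` -/
theorem nAA {a : Y} (ha : a ∈ K.A) : ∃ a' ∈ K.A, n * io i₀ a * n⁻¹ = io i₀ a' := by
  have h1 : a ∈ ⁅K.Q, K.Q⁆ := by rw [K.comm_Q]; exact ha
  have key : ∀ y ∈ ⁅K.Q, K.Q⁆, y ∈ K₀ ∧ ∃ e' ∈ K.A, n * io i₀ y * n⁻¹ = io i₀ e' := by
    intro y hy
    rw [Subgroup.commutator_def] at hy
    induction hy using Subgroup.closure_induction with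
    | mem p hp =>
      obtain ⟨u, hu, w, hw, rfl⟩ := hp
      have huK := H.EK (K.Q_le_E hu)
      have hwK := H.EK (K.Q_le_E hw)
      obtain ⟨u', hu', h2⟩ := nQQ H N hu
      obtain ⟨w', hw', h3⟩ := nQQ H N hw
      have hu'K := H.EK (K.Q_le_E hu')
      have hw'K := H.EK (K.Q_le_E hw')
      refine ⟨?_, ⁅u', w'⁆, comm_Q K hu' hw', ?_⟩
      · rw [commutatorElement_def]
        exact mul_mem (mul_mem (mul_mem huK hwK) (inv_mem huK)) (inv_mem hwK)
      · rw [commutatorElement_def, commutatorElement_def,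
          io_mul (mul_mem (mul_mem huK hwK) (inv_mem huK)) (inv_mem hwK), io_mul (mul_mem huK hwK) (inv_mem huK),
          io_mul huK hwK, io_inv huK, io_inv hwK,
          io_mul (mul_mem (mul_mem hu'K hw'K) (inv_mem hu'K)) (inv_mem hw'K), io_mul (mul_mem hu'K hw'K) (inv_mem hu'K),
          io_mul hu'K hw'K, io_inv hu'K, io_inv hw'K, ← h2, ← h3]
        group
    | one => exact ⟨one_mem _, 1, one_mem _, by rw [io_one]; group⟩
    | mul a b _ _ ha hb =>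
      obtain ⟨ha0, a', ha', h2⟩ := ha
      obtain ⟨hb0, b', hb', h3⟩ := hb
      refine ⟨mul_mem ha0 hb0, a' * b', mul_mem ha' hb', ?_⟩
      rw [io_mul ha0 hb0, io_mul (H.EK (A_E K ha')) (H.EK (A_E K hb')), ← h2, ← h3]
      group
    | inv a _ ha =>
      obtain ⟨ha0, a', ha', h2⟩ := ha
      refine ⟨inv_mem ha0, a'⁻¹, inv_mem ha', ?_⟩
      rw [io_inv ha0, io_inv (H.EK (A_E K ha')), ← h2]
      group
  exact (key a h1).2

/-- multiplication by an element of `P` -/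
theorem Mv.mul_left {p : Y} (hp : p ∈ K.P) (hk : p ∈ K₀) : Mv K i₀ t (io i₀ p * n) := by
  obtain ⟨h1, h2⟩ := io_M H N hp hk
  constructor
  · calc io i₀ p * n * t * (io i₀ p * n)⁻¹ = io i₀ p * (n * t * n⁻¹) * (io i₀ p)⁻¹ := by group
      _ = (io i₀ p * t) * io i₀ K.z * (io i₀ p)⁻¹ := by rw [N.nt]; group
      _ = t * (io i₀ p * io i₀ K.z) * (io i₀ p)⁻¹ := by rw [h1]; group
      _ = t * io i₀ K.z := by rw [h2]; group
  · calc io i₀ p * n * io i₀ K.z = io i₀ p * (n * io i₀ K.z) := by group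
      _ = (io i₀ p * io i₀ K.z) * n := by rw [N.nz]; group
      _ = _ := by rw [h2]; group

end MvS

/-- **Frattini**: `n` may be taken in `C(x)` -/
theorem exists_x {K : KT Y} {K₀ : Subgroup Y} {i₀ : ↥K₀ →* G} {t f : G} (H : Pos0 K K₀ i₀ t f) :
    ∃ n : G, Mv K i₀ t n ∧ n * io i₀ K.x = io i₀ K.x * n := by
  obtain ⟨n, h1, h2⟩ := fus' H
  have N : Mv K i₀ t n := ⟨h1, h2⟩
  obtain ⟨g, hg, h3⟩ := nEE H N K.x_E
  have hgK := H.EK hg
  have hxK := x_K H
  have hg5 : g ^ 5 = 1 := io_inj H (pow_mem hgK 5) (one_mem _) (by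
    rw [io_pow hgK, ← h3, conj_pow, ← io_pow hxK, K.x5, io_one]
    group)
  have hg1 : g ≠ 1 := by
    rintro rfl
    apply K.x1
    apply io_inj H hxK (one_mem _)
    rw [io_one] at h3 ⊢
    calc io i₀ K.x = n⁻¹ * (n * io i₀ K.x * n⁻¹) * n := by group
      _ = 1 := by rw [h3]; group
  obtain ⟨u, hu, k, hgk⟩ := K.syl5 g hg hg5 hg1
  have hxk : K.x ^ k ≠ 1 := by
    intro h
    apply hg1
    rw [hgk, h]
    group
  obtain ⟨l, hl⟩ := exists_s K hxk
  have huE := K.Q_le_E hu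
  have hpP : (K.s ^ l)⁻¹ * u⁻¹ ∈ K.P := mul_mem (inv_mem (pow_mem (s_P K) l)) (inv_mem (K.E_le_P huE))
  have hpK : (K.s ^ l)⁻¹ * u⁻¹ ∈ K₀ := mul_mem (inv_mem (pow_mem H.sK l)) (inv_mem (H.EK huE))
  refine ⟨io i₀ ((K.s ^ l)⁻¹ * u⁻¹) * n, N.mul_left H hpP hpK, ?_⟩
  have h4 : io i₀ ((K.s ^ l)⁻¹ * u⁻¹) * (n * io i₀ K.x * n⁻¹) * (io i₀ ((K.s ^ l)⁻¹ * u⁻¹))⁻¹ = io i₀ K.x := by
    rw [h3, ← io_conj hpK hgK]
    congr 1
    rw [hgk]
    calc (K.s ^ l)⁻¹ * u⁻¹ * (u * K.x ^ k * u⁻¹) * ((K.s ^ l)⁻¹ * u⁻¹)⁻¹ = (K.s ^ l)⁻¹ * K.x ^ k * K.s ^ l := by group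
      _ = K.x := hl
  calc io i₀ ((K.s ^ l)⁻¹ * u⁻¹) * n * io i₀ K.x =
        (io i₀ ((K.s ^ l)⁻¹ * u⁻¹) * (n * io i₀ K.x * n⁻¹) * (io i₀ ((K.s ^ l)⁻¹ * u⁻¹))⁻¹) *
          (io i₀ ((K.s ^ l)⁻¹ * u⁻¹) * n) := by group
    _ = _ := by rw [h4]

/-! ### The automorphism of `E` -/

theorem r_nA (K : KT Y) : K.r ∉ K.A := by
  intro h
  have h1 := K.r0
  have h2 := a_comm K h (K.q_A 0)
  apply K.z1
  have e : K.r⁻¹ * K.q 0 * K.r = K.q 0 := by
    calc K.r⁻¹ * K.q 0 * K.r = K.r⁻¹ * (K.q 0 * K.r) := by group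
      _ = K.q 0 := by rw [← h2]; group
  rw [e] at h1
  calc K.z = (K.q 0)⁻¹ * (K.q 0 * K.z) := by group
    _ = 1 := by rw [← h1]; group

/-- an automorphism of `E` that centralises `x`, `z`, with square trivial on `A` and `Q / A` -/
structure Al (K : KT Y) (α : Y → Y) : Prop where
  mE : ∀ e ∈ K.E, α e ∈ K.E
  mQ : ∀ e ∈ K.Q, α e ∈ K.Q
  mA : ∀ e ∈ K.A, α e ∈ K.A
  mul : ∀ a ∈ K.E, ∀ b ∈ K.E, α (a * b) = α a * α b
  z : α K.z = K.z
  x : α K.x = K.x
  sqQ : ∀ e ∈ K.Q, α (α e) * e⁻¹ ∈ K.A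
  sqA : ∀ a ∈ K.A, α (α a) = a

namespace Al

variable {K : KT Y} {α : Y → Y} (L : Al K α)

include L

theorem one : α 1 = 1 := by
  have h := L.mul 1 (one_mem _) 1 (one_mem _)
  rw [mul_one] at h
  exact (mul_eq_left (a := α 1)).1 h.symm

theorem inv {a : Y} (ha : a ∈ K.E) : α a⁻¹ = (α a)⁻¹ := by
  have h := L.mul a⁻¹ (inv_mem ha) a ha
  rw [inv_mul_cancel, L.one] at h
  exact eq_inv_of_mul_eq_one_left h.symm

theorem conj {a b : Y} (ha : a ∈ K.E) (hb : b ∈ K.E) : α (a * b * a⁻¹) = α a * α b * (α a)⁻¹ := by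
  rw [L.mul _ (mul_mem ha hb) _ (inv_mem ha), L.mul a ha b hb, L.inv ha]

theorem conj' {a b : Y} (ha : a ∈ K.E) (hb : b ∈ K.E) : α (a⁻¹ * b * a) = (α a)⁻¹ * α b * α a := by
  rw [L.mul _ (mul_mem (inv_mem ha) hb) _ ha, L.mul _ (inv_mem ha) b hb, L.inv ha]

theorem pow {a : Y} (ha : a ∈ K.E) (k : ℕ) : α (a ^ k) = α a ^ k := by
  induction k with
  | zero => rw [pow_zero, pow_zero, L.one]
  | succ k ih => rw [pow_succ, pow_succ, L.mul _ (pow_mem ha k) a ha, ih]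

theorem xk (k : ℕ) : α (K.x ^ k) = K.x ^ k := by
  rw [L.pow K.x_E, L.x]

theorem cx {b : Y} (hb : b ∈ K.E) (k : ℕ) : α (K.x ^ k * b * (K.x ^ k)⁻¹) = K.x ^ k * α b * (K.x ^ k)⁻¹ := by
  rw [L.conj (pow_mem K.x_E k) hb, L.xk]

theorem cx' {b : Y} (hb : b ∈ K.E) (k : ℕ) : α ((K.x ^ k)⁻¹ * b * K.x ^ k) = (K.x ^ k)⁻¹ * α b * K.x ^ k := by
  rw [L.conj' (pow_mem K.x_E k) hb, L.xk]

theorem cx1 {b : Y} (hb : b ∈ K.E) : α (K.x⁻¹ * b * K.x) = K.x⁻¹ * α b * K.x := by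
  rw [L.conj' K.x_E hb, L.x]

/-- `α` is trivial on `A / z` -/
theorem onAz : ∀ a ∈ K.A, α a = a ∨ α a = a * K.z := by
  let B : Subgroup Y :=
    { carrier := {a | a ∈ K.A ∧ (α a = a ∨ α a = a * K.z)}
      one_mem' := ⟨one_mem _, Or.inl L.one⟩
      mul_mem' := by
        rintro a b ⟨ha, h1⟩ ⟨hb, h2⟩
        refine ⟨mul_mem ha hb, ?_⟩
        have e := L.mul a (A_E K ha) b (A_E K hb)
        have hzb : K.z * b = b * K.z := a_comm K K.z_A hb
        rcases h1 with h1 | h1 <;> rcases h2 with h2 | h2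
        · left; rw [e, h1, h2]
        · right; rw [e, h1, h2, mul_assoc]
        · right
          rw [e, h1, h2, mul_assoc, hzb, mul_assoc]
        · left
          rw [e, h1, h2]
          calc a * K.z * (b * K.z) = a * (K.z * b) * K.z := by group
            _ = a * b * (K.z * K.z) := by rw [hzb]; group
            _ = a * b := by rw [K.zz, mul_one]
      inv_mem' := by
        rintro a ⟨ha, h1⟩
        rw [a_inv K ha]
        exact ⟨ha, h1⟩ }
  have hB : ∀ a, a ∈ B ↔ a ∈ K.A ∧ (α a = a ∨ α a = a * K.z) := fun a => Iff.rfl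
  have hz1 : K.z ≠ 1 := K.z1
  have key : K.A ≤ B := by
    apply K.irr_A B
    · exact (hB _).2 ⟨K.z_A, Or.inl L.z⟩
    · exact fun a ha => ha.1
    · rintro b ⟨hb, h⟩
      refine (hB _).2 ⟨norA' K (x_P K) hb, ?_⟩
      rw [L.cx1 (A_E K hb)]
      rcases h with h | h
      · left; rw [h]
      · right
        rw [h]
        have := z_x K
        calc K.x⁻¹ * (b * K.z) * K.x = K.x⁻¹ * b * (K.z * K.x) := by group
          _ = _ := by rw [← this]; group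
    · -- an element outside `⟨z⟩`
      have hq := K.q_A 0
      have hr0 := K.r0
      have hq1 : K.q 0 ≠ 1 := by
        intro h
        rw [h] at hr0
        apply hz1
        calc K.z = 1 * K.z := by group
          _ = 1 := by rw [← hr0]; group
      have hqz : K.q 0 ≠ K.z := by
        intro h
        rw [h, K.zz] at hr0
        apply hz1
        calc K.z = K.r * (K.r⁻¹ * K.z * K.r) * K.r⁻¹ := by group
          _ = 1 := by rw [hr0]; group
      by_cases h : α (K.q 0) = K.q 0 ∨ α (K.q 0) = K.q 0 * K.z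
      · exact ⟨K.q 0, (hB _).2 ⟨hq, h⟩, hq1, hqz⟩
      · push Not at h
        have hαq := L.mA _ hq
        have hqq := K.sq_A _ hq
        refine ⟨K.q 0 * α (K.q 0), (hB _).2 ⟨mul_mem hq hαq, Or.inl ?_⟩, ?_, ?_⟩
        · rw [L.mul _ (A_E K hq) _ (A_E K hαq), L.sqA _ hq]
          exact a_comm K hαq hq
        · intro h1
          apply h.1
          calc α (K.q 0) = (K.q 0)⁻¹ * (K.q 0 * α (K.q 0)) := by group
            _ = K.q 0 := by rw [h1, mul_one, a_inv K hq]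
        · intro h1
          apply h.2
          calc α (K.q 0) = (K.q 0)⁻¹ * (K.q 0 * α (K.q 0)) := by group
            _ = K.q 0 * K.z := by rw [h1, a_inv K hq]
  exact fun a ha => (key ha).2

/-- **`α` is trivial on `A`** -/
theorem onA : ∀ a ∈ K.A, α a = a := by
  have hz := L.onAz
  have hzx := z_x K
  -- the defect is constant on the points
  have hstep : ∀ k, α (K.q k) = K.q k → α (K.q (k + 1)) = K.q (k + 1) := by
    intro k h
    rw [← K.q_x k, L.cx1 (A_E K (K.q_A k)), h]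
  have hstep' : ∀ k, α (K.q k) = K.q k * K.z → α (K.q (k + 1)) = K.q (k + 1) * K.z := by
    intro k h
    rw [← K.q_x k, L.cx1 (A_E K (K.q_A k)), h]
    calc K.x⁻¹ * (K.q k * K.z) * K.x = K.x⁻¹ * K.q k * (K.z * K.x) := by group
      _ = _ := by rw [← hzx]; group
  have h0 : α (K.q 0) = K.q 0 := by
    rcases hz _ (K.q_A 0) with h | h
    · exact h
    · exfalso
      have h1 := hstep' 0 h
      rw [show (0 : ZMod 5) + 1 = 1 from rfl] at h1
      have h2 := hstep' 1 h1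
      rw [show (1 : ZMod 5) + 1 = 2 from rfl] at h2
      have h3 := hstep' 2 h2
      rw [show (2 : ZMod 5) + 1 = 3 from rfl] at h3
      have h4 := hstep' 3 h3
      rw [show (3 : ZMod 5) + 1 = 4 from rfl] at h4
      have m := fun k => A_E K (K.q_A k)
      have e := congrArg α K.q_prod
      rw [L.one, L.mul _ (mul_mem (mul_mem (mul_mem (m 0) (m 1)) (m 2)) (m 3)) _ (m 4),
        L.mul _ (mul_mem (mul_mem (m 0) (m 1)) (m 2)) _ (m 3), L.mul _ (mul_mem (m 0) (m 1)) _ (m 2),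
        L.mul _ (m 0) _ (m 1), h, h1, h2, h3, h4] at e
      have c := fun k => a_comm K K.z_A (K.q_A k)
      have zz := K.zz
      have e2 : K.q 0 * K.z * (K.q 1 * K.z) * (K.q 2 * K.z) * (K.q 3 * K.z) * (K.q 4 * K.z) =
          (K.q 0 * K.q 1 * K.q 2 * K.q 3 * K.q 4) * K.z := by
        have d : ∀ a ∈ K.A, ∀ b ∈ K.A, a * K.z * (b * K.z) = a * b := by
          intro a ha b hb
          calc a * K.z * (b * K.z) = a * (K.z * b) * K.z := by group
            _ = a * b * (K.z * K.z) := by rw [a_comm K K.z_A hb]; group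
            _ = a * b := by rw [zz, mul_one]
        rw [d _ (K.q_A 0) _ (K.q_A 1)]
        calc K.q 0 * K.q 1 * (K.q 2 * K.z) * (K.q 3 * K.z) * (K.q 4 * K.z) =
              ((K.q 0 * K.q 1 * K.q 2) * K.z * (K.q 3 * K.z)) * (K.q 4 * K.z) := by group
          _ = _ := by rw [d _ (mul_mem (mul_mem (K.q_A 0) (K.q_A 1)) (K.q_A 2)) _ (K.q_A 3)]; group
      rw [e2, K.q_prod, one_mul] at e
      exact K.z1 e
  have hall : ∀ k, α (K.q k) = K.q k := by
    have h1 := hstep 0 h0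
    rw [show (0 : ZMod 5) + 1 = 1 from rfl] at h1
    have h2 := hstep 1 h1
    rw [show (1 : ZMod 5) + 1 = 2 from rfl] at h2
    have h3 := hstep 2 h2
    rw [show (2 : ZMod 5) + 1 = 3 from rfl] at h3
    have h4 := hstep 3 h3
    rw [show (3 : ZMod 5) + 1 = 4 from rfl] at h4
    intro k
    have hk : k = 0 ∨ k = 1 ∨ k = 2 ∨ k = 3 ∨ k = 4 := by
      revert k
      decide
    rcases hk with rfl | rfl | rfl | rfl | rfl
    · exact h0
    · exact h1
    · exact h2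
    · exact h3
    · exact h4
  have key : ∀ y ∈ Subgroup.closure ({K.z} ∪ Set.range K.q), y ∈ K.E ∧ α y = y := by
    intro y hy
    induction hy using Subgroup.closure_induction with
    | mem p hp =>
      rcases hp with hp | ⟨k, rfl⟩
      · rw [Set.mem_singleton_iff.1 hp]
        exact ⟨z_E K, L.z⟩
      · exact ⟨A_E K (K.q_A k), hall k⟩
    | one => exact ⟨one_mem _, L.one⟩
    | mul a b _ _ ha hb => exact ⟨mul_mem ha.1 hb.1, by rw [L.mul a ha.1 b hb.1, ha.2, hb.2]⟩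
    | inv a _ ha => exact ⟨inv_mem ha.1, by rw [L.inv ha.1, ha.2]⟩
  exact fun a ha => (key a (K.A_gen ha)).2

/-- **`α` is trivial on `Q / A`** -/
theorem onQ : ∀ u ∈ K.Q, α u * u⁻¹ ∈ K.A := by
  let B : Subgroup Y :=
    { carrier := {u | u ∈ K.Q ∧ α u * u⁻¹ ∈ K.A}
      one_mem' := ⟨one_mem _, by rw [L.one]; simp⟩
      mul_mem' := by
        rintro a b ⟨ha, h1⟩ ⟨hb, h2⟩
        refine ⟨mul_mem ha hb, ?_⟩
        rw [L.mul a (K.Q_le_E ha) b (K.Q_le_E hb)]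
        have e : α a * α b * (a * b)⁻¹ = (α a * a⁻¹) * (a * (α b * b⁻¹) * a⁻¹) := by group
        rw [e]
        exact mul_mem h1 (K.nor_A a (K.E_le_P (K.Q_le_E ha)) _ h2)
      inv_mem' := by
        rintro a ⟨ha, h1⟩
        refine ⟨inv_mem ha, ?_⟩
        rw [L.inv (K.Q_le_E ha)]
        have e : (α a)⁻¹ * a⁻¹⁻¹ = a⁻¹ * (α a * a⁻¹)⁻¹ * a := by group
        rw [e]
        exact norA' K (K.E_le_P (K.Q_le_E ha)) (inv_mem h1) }
  have hB : ∀ u, u ∈ B ↔ u ∈ K.Q ∧ α u * u⁻¹ ∈ K.A := fun u => Iff.rfl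
  have key : K.Q ≤ B := by
    apply K.irr_Q B
    · intro a ha
      refine (hB _).2 ⟨K.A_le_Q ha, ?_⟩
      rw [L.onA a ha, mul_inv_cancel]
      exact one_mem _
    · exact fun a ha => ha.1
    · rintro b ⟨hb, h⟩
      refine (hB _).2 ⟨norQ' K (x_P K) hb, ?_⟩
      rw [L.cx1 (K.Q_le_E hb)]
      have e : K.x⁻¹ * α b * K.x * (K.x⁻¹ * b * K.x)⁻¹ = K.x⁻¹ * (α b * b⁻¹) * K.x := by group
      rw [e]
      exact norA' K (x_P K) h
    · by_cases h : α K.r * K.r⁻¹ ∈ K.A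
      · exact ⟨K.r, (hB _).2 ⟨K.r_Q, h⟩, r_nA K⟩
      · have hr := K.r_Q
        have hαr := L.mQ _ hr
        refine ⟨K.r * α K.r, (hB _).2 ⟨mul_mem hr hαr, ?_⟩, ?_⟩
        · rw [L.mul _ (K.Q_le_E hr) _ (K.Q_le_E hαr)]
          have h1 := L.sqQ _ hr
          have e : α K.r * α (α K.r) * (K.r * α K.r)⁻¹ =
              (α K.r * (α (α K.r) * K.r⁻¹) * (α K.r)⁻¹) * ⁅α K.r, K.r⁆ := by
            rw [commutatorElement_def]
            group
          rw [e]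
          exact mul_mem (K.nor_A _ (K.E_le_P (K.Q_le_E hαr)) _ h1) (comm_Q K hαr hr)
        · intro h1
          apply h
          have e : α K.r * K.r⁻¹ = (K.r⁻¹ * (K.r * α K.r) * K.r) * (K.r * K.r)⁻¹ := by group
          rw [e]
          exact mul_mem (norA' K (K.E_le_P (K.Q_le_E hr)) h1) (inv_mem (sq_Q K hr))
  exact fun a ha => (key ha).2

/-- **the types** -/
theorem types : ∃ a ∈ K.A, α K.r = K.r * a ∧ (a = 1 ∨ a = K.aj ∨ a = K.aw ∨ a = K.aj * K.aw) := by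
  have hr := K.r_Q
  have hrE := K.Q_le_E hr
  have ha : K.r⁻¹ * α K.r ∈ K.A := by
    have e : K.r⁻¹ * α K.r = K.r⁻¹ * (α K.r * K.r⁻¹) * K.r := by group
    rw [e]
    exact norA' K (K.E_le_P hrE) (L.onQ _ hr)
  have e : α K.r = K.r * (K.r⁻¹ * α K.r) := by group
  refine ⟨_, ha, e, ?_⟩
  set a := K.r⁻¹ * α K.r with hadef
  apply K.KA a ha
  · rw [← e, ← L.mul _ hrE _ hrE]
    exact L.onA _ (sq_Q K hr)
  · intro k
    have hxk : K.x ^ k * K.r * (K.x ^ k)⁻¹ ∈ K.Q := K.nor_Q _ (xp K) _ hr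
    have hxkE := K.Q_le_E hxk
    have h1 := L.onA _ (comm_Q K hr hxk)
    rw [commutatorElement_def] at h1
    rw [← e, commutatorElement_def, commutatorElement_def]
    conv_rhs => rw [← h1]
    rw [L.mul _ (mul_mem (mul_mem hrE hxkE) (inv_mem hrE)) _ (inv_mem hxkE), L.mul _ (mul_mem hrE hxkE) _ (inv_mem hrE),
      L.mul _ hrE _ hxkE, L.inv hrE, L.inv hxkE, L.cx hrE]
  · have h1 := L.onA _ K.pr_A
    rw [← e]
    conv_rhs => rw [← h1]
    unfold pr
    have m : ∀ k : ℕ, K.x ^ k * K.r * (K.x ^ k)⁻¹ ∈ K.E := fun k => K.Q_le_E (K.nor_Q _ (xp K) _ hr)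
    have m1 : K.x * K.r * K.x⁻¹ ∈ K.E := by
      have := m 1
      rwa [pow_one] at this
    have c1 : α (K.x * K.r * K.x⁻¹) = K.x * α K.r * K.x⁻¹ := by
      have := L.cx hrE 1
      rwa [pow_one] at this
    rw [L.mul _ (mul_mem (mul_mem (mul_mem hrE m1) (m 2)) (m 3)) _ (m 4), L.mul _ (mul_mem (mul_mem hrE m1) (m 2)) _ (m 3),
      L.mul _ (mul_mem hrE m1) _ (m 2), L.mul _ hrE _ m1, c1, L.cx hrE, L.cx hrE, L.cx hrE]

/-- `α` is determined by `α r` -/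
theorem onE {β : Y → Y} (hβ1 : β 1 = 1) (hβm : ∀ a ∈ K.E, ∀ b ∈ K.E, β (a * b) = β a * β b)
    (hβi : ∀ a ∈ K.E, β a⁻¹ = (β a)⁻¹) (hβx : β K.x = K.x)
    (h : α K.r = β K.r) : ∀ e ∈ K.E, α e = β e := by
  have key : ∀ y ∈ Subgroup.closure {K.r, K.x}, y ∈ K.E ∧ α y = β y := by
    intro y hy
    induction hy using Subgroup.closure_induction with
    | mem p hp =>
      rcases hp with rfl | hp
      · exact ⟨r_E K, h⟩
      · rw [Set.mem_singleton_iff.1 hp]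
        exact ⟨K.x_E, by rw [L.x, hβx]⟩
    | one => exact ⟨one_mem _, by rw [L.one, hβ1]⟩
    | mul a b _ _ ha hb => exact ⟨mul_mem ha.1 hb.1, by rw [L.mul a ha.1 b hb.1, ha.2, hb.2, hβm a ha.1 b hb.1]⟩
    | inv a _ ha => exact ⟨inv_mem ha.1, by rw [L.inv ha.1, ha.2, hβi a ha.1]⟩
  exact fun a ha => (key a (K.E_gen ha)).2

/-- type O -/
theorem onE_one (h : α K.r = K.r) : ∀ e ∈ K.E, α e = e :=
  L.onE (β := fun y => y) rfl (fun _ _ _ _ => rfl) (fun _ _ => rfl) rfl h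

/-- type X0 -/
theorem onE_τ (h : α K.r = K.r * K.aj) : ∀ e ∈ K.E, α e = K.τ e :=
  L.onE (β := fun y => K.τ y) (map_one _) (fun _ _ _ _ => map_mul _ _ _) (fun _ _ => map_inv _ _) K.τx
    (by rw [h, K.τr])

end Al

/-! ### The automorphism induced by `n` -/

section Types

variable {K : KT Y} {K₀ : Subgroup Y} {i₀ : ↥K₀ →* G} {t f : G} (H : Pos0 K K₀ i₀ t f)

include H

/-- the elements of `C_{K₀}(z, x)` -/
theorem cxK {k : Y} (hk : k ∈ K₀) (hP : k ∈ K.P) (h : k * K.x = K.x * k) : ∃ c l : ℕ, k = K.x ^ c * K.z ^ l := by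
  obtain ⟨c, l, m, e⟩ := K.cent_x k hP h
  by_cases hj : K.j ∈ K₀
  · obtain ⟨hj1, -⟩ := f_cl H hj
    exact ⟨c, l, by rw [e, hj1, one_pow, mul_one]⟩
  · obtain ⟨-, hjj, -⟩ := out_facts H hj
    rcases Nat.even_or_odd' m with ⟨m', rfl | rfl⟩
    · refine ⟨c, l + m', ?_⟩
      rw [e, pow_mul, pow_two, hjj, pow_add, mul_assoc]
    · exfalso
      apply hj
      have h1 : K.j = (K.x ^ c * K.z ^ l * K.z ^ m')⁻¹ * k := by
        rw [e, pow_succ, pow_mul, pow_two, hjj]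
        group
      rw [h1]
      exact mul_mem (inv_mem (mul_mem (mul_mem (pow_mem (x_K H) _) (pow_mem (z_K H) _)) (pow_mem (z_K H) _))) hk

theorem t_conj {y : Y} (h : y ∈ K₀) (g : G) : (t * g) * io i₀ y * (t * g)⁻¹ = t * (g * io i₀ y * g⁻¹) * t⁻¹ := by
  group

/-- the centraliser of `t`, `z`, `x` -/
theorem cent3 {g : G} (h1 : g * t = t * g) (h2 : g * io i₀ K.z = io i₀ K.z * g) (h3 : g * io i₀ K.x = io i₀ K.x * g) :
    ∃ c l : ℕ, g = io i₀ (K.x ^ c * K.z ^ l) ∨ g = t * io i₀ (K.x ^ c * K.z ^ l) ∨ g = io i₀ (K.x ^ c * K.z ^ l) * f ∨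
      g = t * io i₀ (K.x ^ c * K.z ^ l) * f := by
  obtain ⟨k, hk, hkP, hg⟩ := cenM H h1 h2
  have hxt := io_t H (x_K H)
  have hfx := f_x H
  have hfx' : f⁻¹ * io i₀ K.x = io i₀ K.x * f⁻¹ := by
    calc f⁻¹ * io i₀ K.x = f⁻¹ * (io i₀ K.x * f) * f⁻¹ := by group
      _ = f⁻¹ * (f * io i₀ K.x) * f⁻¹ := by rw [hfx]
      _ = _ := by group
  have hti := t_inv H
  have hkx : io i₀ k * io i₀ K.x = io i₀ K.x * io i₀ k := by
    have ht' : t⁻¹ * io i₀ K.x = io i₀ K.x * t⁻¹ := by rw [hti, hxt]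
    rcases hg with hg | hg | hg | hg
    · rw [← hg]; exact h3
    · have e : io i₀ k = t⁻¹ * g := by rw [hg]; group
      rw [e]
      calc t⁻¹ * g * io i₀ K.x = t⁻¹ * (g * io i₀ K.x) := by group
        _ = (t⁻¹ * io i₀ K.x) * g := by rw [h3]; group
        _ = _ := by rw [ht']; group
    · have e : io i₀ k = g * f⁻¹ := by rw [hg]; group
      rw [e]
      calc g * f⁻¹ * io i₀ K.x = g * (f⁻¹ * io i₀ K.x) := by group
        _ = (g * io i₀ K.x) * f⁻¹ := by rw [hfx']; group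
        _ = _ := by rw [h3]; group
    · have e : io i₀ k = t⁻¹ * g * f⁻¹ := by rw [hg]; group
      rw [e]
      calc t⁻¹ * g * f⁻¹ * io i₀ K.x = t⁻¹ * g * (f⁻¹ * io i₀ K.x) := by group
        _ = t⁻¹ * (g * io i₀ K.x) * f⁻¹ := by rw [hfx']; group
        _ = (t⁻¹ * io i₀ K.x) * g * f⁻¹ := by rw [h3]; group
        _ = _ := by rw [ht']; group
  have hkx' : k * K.x = K.x * k :=
    io_inj H (mul_mem hk (x_K H)) (mul_mem (x_K H) hk) (by rw [io_mul hk (x_K H), io_mul (x_K H) hk, hkx])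
  obtain ⟨c, l, e⟩ := cxK H hk hkP hkx'
  refine ⟨c, l, ?_⟩
  rw [← e]
  exact hg

/-- the centraliser of `t` and `E` -/
theorem cE {g : G} (h1 : g * t = t * g) (h2 : ∀ e ∈ K.E, g * io i₀ e = io i₀ e * g) :
    g = 1 ∨ g = io i₀ K.z ∨ g = t ∨ g = t * io i₀ K.z := by
  obtain ⟨k, hk, hkP, hg⟩ := cenM H h1 (h2 _ (z_E K))
  have hti := t_inv H
  -- the case without `f`
  have main : (g = io i₀ k ∨ g = t * io i₀ k) → g = 1 ∨ g = io i₀ K.z ∨ g = t ∨ g = t * io i₀ K.z := by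
    intro hg
    have hkc : ∀ e ∈ K.E, k * e = e * k := by
      intro e he
      have heK := H.EK he
      have het := io_t H heK
      refine io_inj H (mul_mem hk heK) (mul_mem heK hk) ?_
      rw [io_mul hk heK, io_mul heK hk]
      rcases hg with hg | hg
      · rw [← hg]
        exact h2 e he
      · have e1 : io i₀ k = t⁻¹ * g := by rw [hg]; group
        rw [e1]
        calc t⁻¹ * g * io i₀ e = t⁻¹ * (g * io i₀ e) := by group
          _ = (t * io i₀ e) * g := by rw [h2 e he, hti]; group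
          _ = _ := by rw [het, hti]; group
    rcases K.cent_E k hkc with h | h
    · rw [h, io_one, mul_one] at hg
      rcases hg with hg | hg
      · exact Or.inl hg
      · exact Or.inr (Or.inr (Or.inl hg))
    · rw [h] at hg
      rcases hg with hg | hg
      · exact Or.inr (Or.inl hg)
      · exact Or.inr (Or.inr (Or.inr hg))
  by_cases hj : K.j ∈ K₀
  · obtain ⟨-, hf⟩ := f_cl H hj
    apply main
    rcases hg with hg | hg | hg | hg
    · exact Or.inl hg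
    · exact Or.inr hg
    · left; rw [hg, hf, mul_one]
    · right; rw [hg, hf, mul_one]
  · obtain ⟨hf, hjj, hτ⟩ := out_facts H hj
    have bad : (∀ e ∈ K.E, (io i₀ k * f) * io i₀ e = io i₀ e * (io i₀ k * f)) → False := by
      intro h3
      have h4 : k * K.j = 1 ∨ k * K.j = K.z := by
        apply K.cent_E
        intro e he
        have heK := H.EK he
        have h5 := h3 e he
        have h6 : io i₀ (k * K.τ e * k⁻¹) = io i₀ e := by
          rw [io_conj hk (H.τK _ heK), ← fi' H hf heK]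
          calc io i₀ k * (f * io i₀ e * f⁻¹) * (io i₀ k)⁻¹ = ((io i₀ k * f) * io i₀ e) * (io i₀ k * f)⁻¹ := by group
            _ = io i₀ e := by rw [h5]; group
        have h7 := io_inj H (mul_mem (mul_mem hk (H.τK _ heK)) (inv_mem hk)) heK h6
        rw [hτ] at h7
        calc k * K.j * e = (k * (K.j * e * K.j⁻¹) * k⁻¹) * (k * K.j) := by group
          _ = e * (k * K.j) := by rw [h7]
      apply hj
      have e : K.j = k⁻¹ * (k * K.j) := by group
      rw [e]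
      rcases h4 with h4 | h4
      · rw [h4]; exact mul_mem (inv_mem hk) (one_mem _)
      · rw [h4]; exact mul_mem (inv_mem hk) (z_K H)
    rcases hg with hg | hg | hg | hg
    · exact main (Or.inl hg)
    · exact main (Or.inr hg)
    · exfalso
      apply bad
      intro e he
      rw [← hg]
      exact h2 e he
    · exfalso
      apply bad
      intro e he
      have het := io_t H (H.EK he)
      have e1 : io i₀ k * f = t⁻¹ * g := by rw [hg]; group
      rw [e1]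
      calc t⁻¹ * g * io i₀ e = t⁻¹ * (g * io i₀ e) := by group
        _ = (t * io i₀ e) * g := by rw [h2 e he, hti]; group
        _ = _ := by rw [het, hti]; group

/-- an element that commutes with `r`, `x` commutes with `E` -/
theorem commE {g : G} (hr : g * io i₀ K.r = io i₀ K.r * g) (hx : g * io i₀ K.x = io i₀ K.x * g) :
    ∀ e ∈ K.E, g * io i₀ e = io i₀ e * g := by
  have key : ∀ y ∈ Subgroup.closure {K.r, K.x}, y ∈ K₀ ∧ g * io i₀ y = io i₀ y * g := by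
    intro y hy
    induction hy using Subgroup.closure_induction with
    | mem p hp =>
      rcases hp with rfl | hp
      · exact ⟨r_K H, hr⟩
      · rw [Set.mem_singleton_iff.1 hp]
        exact ⟨x_K H, hx⟩
    | one => exact ⟨one_mem _, by rw [io_one, mul_one, one_mul]⟩
    | mul a b _ _ ha hb =>
      refine ⟨mul_mem ha.1 hb.1, ?_⟩
      rw [io_mul ha.1 hb.1, ← mul_assoc, ha.2, mul_assoc, hb.2, mul_assoc]
    | inv a _ ha =>
      refine ⟨inv_mem ha.1, ?_⟩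
      rw [io_inv ha.1]
      calc g * (io i₀ a)⁻¹ = (io i₀ a)⁻¹ * (io i₀ a * g) * (io i₀ a)⁻¹ := by group
        _ = (io i₀ a)⁻¹ * (g * io i₀ a) * (io i₀ a)⁻¹ := by rw [ha.2]
        _ = _ := by group
  exact fun e he => (key e (K.E_gen he)).2

/-- `n²` is small -/
theorem exists_two : ∃ n : G, Mv K i₀ t n ∧ n * io i₀ K.x = io i₀ K.x * n ∧
    ((∀ e ∈ K.E, (n * n) * io i₀ e * (n * n)⁻¹ = io i₀ e) ∨
      (f ≠ 1 ∧ ∀ e ∈ K.E, (n * n) * io i₀ e * (n * n)⁻¹ = io i₀ (K.τ e))) := by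
  obtain ⟨n, N, nx⟩ := exists_x H
  have hxK := x_K H
  -- `n²` centralises `t`, `z`, `x`
  have h1 : (n * n) * t = t * (n * n) := by
    calc (n * n) * t = n * (n * t) := by group
      _ = (n * (t * io i₀ K.z)) * n := by rw [n_t H N]; group
      _ = _ := by rw [n_tz H N]; group
  have h2 : (n * n) * io i₀ K.z = io i₀ K.z * (n * n) := by
    calc (n * n) * io i₀ K.z = n * (n * io i₀ K.z) := by group
      _ = n * (io i₀ K.z * n) := by rw [N.nz]
      _ = (n * io i₀ K.z) * n := by group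
      _ = _ := by rw [N.nz]; group
  have h3 : (n * n) * io i₀ K.x = io i₀ K.x * (n * n) := by
    calc (n * n) * io i₀ K.x = n * (n * io i₀ K.x) := by group
      _ = n * (io i₀ K.x * n) := by rw [nx]
      _ = (n * io i₀ K.x) * n := by group
      _ = _ := by rw [nx]; group
  obtain ⟨c, l, hg⟩ := cent3 H h1 h2 h3
  have hxc : K.x ^ (2 * c) ∈ K₀ := pow_mem hxK _
  refine ⟨io i₀ (K.x ^ (2 * c)) * n, N.mul_left H (xp K) hxc, ?_, ?_⟩
  · have e : io i₀ (K.x ^ (2 * c)) * io i₀ K.x = io i₀ K.x * io i₀ (K.x ^ (2 * c)) := by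
      rw [← io_mul hxc hxK, ← io_mul hxK hxc, ← pow_succ, ← pow_succ']
    calc io i₀ (K.x ^ (2 * c)) * n * io i₀ K.x = io i₀ (K.x ^ (2 * c)) * (n * io i₀ K.x) := by group
      _ = (io i₀ (K.x ^ (2 * c)) * io i₀ K.x) * n := by rw [nx]; group
      _ = _ := by rw [e]; group
  · -- the square
    have hnx : n * io i₀ (K.x ^ (2 * c)) = io i₀ (K.x ^ (2 * c)) * n := by
      rw [io_pow hxK]
      exact ((show Commute n (io i₀ K.x) from nx).pow_right (2 * c)).eq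
    have hsq : (io i₀ (K.x ^ (2 * c)) * n) * (io i₀ (K.x ^ (2 * c)) * n) = io i₀ (K.x ^ (4 * c)) * (n * n) := by
      calc (io i₀ (K.x ^ (2 * c)) * n) * (io i₀ (K.x ^ (2 * c)) * n) =
            io i₀ (K.x ^ (2 * c)) * (n * io i₀ (K.x ^ (2 * c))) * n := by group
        _ = (io i₀ (K.x ^ (2 * c)) * io i₀ (K.x ^ (2 * c))) * (n * n) := by rw [hnx]; group
        _ = _ := by
          rw [← io_mul hxc hxc, ← pow_add]
          congr 3
          ring
    have hx4 : K.x ^ (4 * c) ∈ K₀ := pow_mem hxK _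
    have hzl : K.z ^ l ∈ K₀ := pow_mem (z_K H) _
    have hxcl : K.x ^ c * K.z ^ l ∈ K₀ := mul_mem (pow_mem hxK _) hzl
    have hred : io i₀ (K.x ^ (4 * c)) * io i₀ (K.x ^ c * K.z ^ l) = io i₀ (K.z ^ l) := by
      rw [← io_mul hx4 hxcl, ← mul_assoc, ← pow_add]
      have : K.x ^ (4 * c + c) = 1 := by
        rw [show 4 * c + c = 5 * c by ring, pow_mul, K.x5, one_pow]
      rw [this, one_mul]
    have ht4 := io_t H hx4
    -- the action of `z^l`, `t z^l` on `E`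
    have hzE : ∀ e ∈ K.E, io i₀ (K.z ^ l) * io i₀ e * (io i₀ (K.z ^ l))⁻¹ = io i₀ e := by
      intro e he
      rw [← io_conj hzl (H.EK he)]
      congr 1
      have h4 : Commute K.z e := (Pz K (K.E_le_P he)).symm
      rw [(h4.pow_left l).eq, mul_assoc, mul_inv_cancel, mul_one]
    have htE : ∀ e ∈ K₀, t * io i₀ e * t⁻¹ = io i₀ e := by
      intro e he
      rw [io_t H he]
      group
    have hτE : ∀ e ∈ K.E, K.τ e ∈ K.E := by
      intro e he
      by_cases hj : K.j ∈ K₀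
      · obtain ⟨hj1, -⟩ := f_cl H hj
        have key : ∀ y ∈ Subgroup.closure {K.r, K.x}, y ∈ K.E ∧ K.τ y ∈ K.E := by
          intro y hy
          induction hy using Subgroup.closure_induction with
          | mem p hp =>
            rcases hp with rfl | hp
            · exact ⟨r_E K, by rw [K.τr]; exact mul_mem (r_E K) (A_E K K.aj_A)⟩
            · rw [Set.mem_singleton_iff.1 hp]
              exact ⟨K.x_E, by rw [K.τx]; exact K.x_E⟩
          | one => exact ⟨one_mem _, by rw [map_one]; exact one_mem _⟩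
          | mul a b _ _ ha hb => exact ⟨mul_mem ha.1 hb.1, by rw [map_mul]; exact mul_mem ha.2 hb.2⟩
          | inv a _ ha => exact ⟨inv_mem ha.1, by rw [map_inv]; exact inv_mem ha.2⟩
        exact (key e (K.E_gen he)).2
      · obtain ⟨-, -, hτ⟩ := out_facts H hj
        rw [hτ]
        exact K.nor_E _ (j_P K) e he
    rcases hg with hg | hg | hg | hg
    · left
      intro e he
      rw [hsq, hg, hred]
      exact hzE e he
    · left
      intro e he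
      rw [hsq, hg]
      have e1 : io i₀ (K.x ^ (4 * c)) * (t * io i₀ (K.x ^ c * K.z ^ l)) = t * io i₀ (K.z ^ l) := by
        calc io i₀ (K.x ^ (4 * c)) * (t * io i₀ (K.x ^ c * K.z ^ l)) =
              (io i₀ (K.x ^ (4 * c)) * t) * io i₀ (K.x ^ c * K.z ^ l) := by group
          _ = t * (io i₀ (K.x ^ (4 * c)) * io i₀ (K.x ^ c * K.z ^ l)) := by rw [← ht4]; group
          _ = _ := by rw [hred]
      rw [e1]
      calc t * io i₀ (K.z ^ l) * io i₀ e * (t * io i₀ (K.z ^ l))⁻¹ =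
            t * (io i₀ (K.z ^ l) * io i₀ e * (io i₀ (K.z ^ l))⁻¹) * t⁻¹ := by group
        _ = io i₀ e := by rw [hzE e he, htE e (H.EK he)]
    · by_cases hf : f = 1
      · left
        intro e he
        rw [hsq, hg, hf, mul_one, hred]
        exact hzE e he
      · right
        refine ⟨hf, fun e he => ?_⟩
        rw [hsq, hg]
        calc io i₀ (K.x ^ (4 * c)) * (io i₀ (K.x ^ c * K.z ^ l) * f) * io i₀ e *
              (io i₀ (K.x ^ (4 * c)) * (io i₀ (K.x ^ c * K.z ^ l) * f))⁻¹ =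
              (io i₀ (K.x ^ (4 * c)) * io i₀ (K.x ^ c * K.z ^ l)) * (f * io i₀ e * f⁻¹) *
                (io i₀ (K.x ^ (4 * c)) * io i₀ (K.x ^ c * K.z ^ l))⁻¹ := by group
          _ = _ := by rw [hred, fi' H hf (H.EK he), hzE _ (hτE e he)]
    · have e1 : io i₀ (K.x ^ (4 * c)) * (t * io i₀ (K.x ^ c * K.z ^ l) * f) = t * io i₀ (K.z ^ l) * f := by
        calc io i₀ (K.x ^ (4 * c)) * (t * io i₀ (K.x ^ c * K.z ^ l) * f) =
              (io i₀ (K.x ^ (4 * c)) * t) * io i₀ (K.x ^ c * K.z ^ l) * f := by group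
          _ = t * (io i₀ (K.x ^ (4 * c)) * io i₀ (K.x ^ c * K.z ^ l)) * f := by rw [← ht4]; group
          _ = _ := by rw [hred]
      by_cases hf : f = 1
      · left
        intro e he
        rw [hsq, hg, e1, hf, mul_one]
        calc t * io i₀ (K.z ^ l) * io i₀ e * (t * io i₀ (K.z ^ l))⁻¹ =
              t * (io i₀ (K.z ^ l) * io i₀ e * (io i₀ (K.z ^ l))⁻¹) * t⁻¹ := by group
          _ = io i₀ e := by rw [hzE e he, htE e (H.EK he)]
      · right
        refine ⟨hf, fun e he => ?_⟩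
        rw [hsq, hg, e1]
        calc t * io i₀ (K.z ^ l) * f * io i₀ e * (t * io i₀ (K.z ^ l) * f)⁻¹ =
              t * (io i₀ (K.z ^ l) * (f * io i₀ e * f⁻¹) * (io i₀ (K.z ^ l))⁻¹) * t⁻¹ := by group
          _ = _ := by rw [fi' H hf (H.EK he), hzE _ (hτE e he), htE _ (H.τK e (H.EK he))]

/-- the automorphism -/
theorem exists_al {n : G} (N : Mv K i₀ t n) (nx : n * io i₀ K.x = io i₀ K.x * n)
    (hsq : (∀ e ∈ K.E, (n * n) * io i₀ e * (n * n)⁻¹ = io i₀ e) ∨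
      (f ≠ 1 ∧ ∀ e ∈ K.E, (n * n) * io i₀ e * (n * n)⁻¹ = io i₀ (K.τ e))) :
    ∃ α : Y → Y, Al K α ∧ ∀ e ∈ K.E, n * io i₀ e * n⁻¹ = io i₀ (α e) := by
  classical
  have h0 : ∀ e : Y, ∃ e' : Y, e ∈ K.E → e' ∈ K.E ∧ n * io i₀ e * n⁻¹ = io i₀ e' := by
    intro e
    by_cases he : e ∈ K.E
    · obtain ⟨e', h1, h2⟩ := nEE H N he
      exact ⟨e', fun _ => ⟨h1, h2⟩⟩
    · exact ⟨e, fun h => absurd h he⟩
  choose α hα using h0
  have hm : ∀ e ∈ K.E, α e ∈ K.E := fun e he => (hα e he).1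
  have hs : ∀ e ∈ K.E, n * io i₀ e * n⁻¹ = io i₀ (α e) := fun e he => (hα e he).2
  have uq : ∀ e ∈ K.E, ∀ e' ∈ K₀, n * io i₀ e * n⁻¹ = io i₀ e' → α e = e' := by
    intro e he e' he' h
    rw [hs e he] at h
    exact io_inj H (H.EK (hm e he)) he' h
  have hαα : ∀ e ∈ K.E, io i₀ (α (α e)) = (n * n) * io i₀ e * (n * n)⁻¹ := by
    intro e he
    rw [← hs _ (hm e he), ← hs e he]
    group
  refine ⟨α, ⟨hm, ?_, ?_, ?_, ?_, ?_, ?_, ?_⟩, hs⟩
  · intro e he
    obtain ⟨e', h1, h2⟩ := nQQ H N he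
    rw [uq e (K.Q_le_E he) e' (H.EK (K.Q_le_E h1)) h2]
    exact h1
  · intro e he
    obtain ⟨e', h1, h2⟩ := nAA H N he
    rw [uq e (A_E K he) e' (H.EK (A_E K h1)) h2]
    exact h1
  · intro a ha b hb
    apply uq _ (mul_mem ha hb) _ (H.EK (mul_mem (hm a ha) (hm b hb)))
    rw [io_mul (H.EK ha) (H.EK hb), io_mul (H.EK (hm a ha)) (H.EK (hm b hb)), ← hs a ha, ← hs b hb]
    group
  · apply uq _ (z_E K) _ (z_K H)
    rw [N.nz]
    group
  · apply uq _ K.x_E _ (x_K H)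
    rw [nx]
    group
  · intro e he
    have heE := K.Q_le_E he
    have h1 := hαα e heE
    rcases hsq with h | ⟨-, h⟩
    · rw [h e heE] at h1
      rw [io_inj H (H.EK (hm _ (hm e heE))) (H.EK heE) h1, mul_inv_cancel]
      exact one_mem _
    · rw [h e heE] at h1
      rw [io_inj H (H.EK (hm _ (hm e heE))) (H.τK _ (H.EK heE)) h1]
      exact K.τQ e he
  · intro e he
    have heE := A_E K he
    have h1 := hαα e heE
    rcases hsq with h | ⟨-, h⟩
    · rw [h e heE] at h1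
      exact io_inj H (H.EK (hm _ (hm e heE))) (H.EK heE) h1
    · rw [h e heE, K.τA e he] at h1
      exact io_inj H (H.EK (hm _ (hm e heE))) (H.EK heE) h1

/-- **CL: the type is not W** -/
theorem cl_kill (hj : K.j ∈ K₀) {n : G} (N : Mv K i₀ t n) (nx : n * io i₀ K.x = io i₀ K.x * n) {α : Y → Y} (L : Al K α)
    (hs : ∀ e ∈ K.E, n * io i₀ e * n⁻¹ = io i₀ (α e)) {a : Y} (ha : a ∈ K.A) (hr : α K.r = K.r * a)
    (hc : a = K.aw ∨ a = K.aj * K.aw) : False := by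
  obtain ⟨hj1, hf1⟩ := f_cl H hj
  have hsK := H.sK
  have hxK := x_K H
  have hzK := z_K H
  have hst := io_t H hsK
  obtain ⟨-, hsz⟩ := io_M H N (s_P K) hsK
  have hrE := r_E K
  set S := io i₀ K.s with hS
  -- `n⁻¹`
  have e1 : n⁻¹ * (t * io i₀ K.z) = t * n⁻¹ := by
    calc n⁻¹ * (t * io i₀ K.z) = n⁻¹ * (t * io i₀ K.z * n) * n⁻¹ := by group
      _ = t * n⁻¹ := by rw [← n_t H N]; group
  have e2 : n⁻¹ * io i₀ K.z = io i₀ K.z * n⁻¹ := by
    calc n⁻¹ * io i₀ K.z = n⁻¹ * (io i₀ K.z * n) * n⁻¹ := by group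
      _ = n⁻¹ * (n * io i₀ K.z) * n⁻¹ := by rw [N.nz]
      _ = _ := by group
  have e3 : n⁻¹ * io i₀ K.x = io i₀ K.x * n⁻¹ := by
    calc n⁻¹ * io i₀ K.x = n⁻¹ * (io i₀ K.x * n) * n⁻¹ := by group
      _ = n⁻¹ * (n * io i₀ K.x) * n⁻¹ := by rw [nx]
      _ = _ := by group
  have hst' : S⁻¹ * t = t * S⁻¹ := by
    calc S⁻¹ * t = S⁻¹ * (t * S) * S⁻¹ := by group
      _ = S⁻¹ * (S * t) * S⁻¹ := by rw [hst]
      _ = _ := by group
  have hsz' : S⁻¹ * io i₀ K.z = io i₀ K.z * S⁻¹ := by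
    calc S⁻¹ * io i₀ K.z = S⁻¹ * (io i₀ K.z * S) * S⁻¹ := by group
      _ = S⁻¹ * (S * io i₀ K.z) * S⁻¹ := by rw [hsz]
      _ = _ := by group
  -- `c`
  have c1 : (n⁻¹ * (S⁻¹ * n * S)) * t = t * (n⁻¹ * (S⁻¹ * n * S)) := by
    calc (n⁻¹ * (S⁻¹ * n * S)) * t = n⁻¹ * S⁻¹ * n * (S * t) := by group
      _ = n⁻¹ * S⁻¹ * (n * t) * S := by rw [← hst]; group
      _ = n⁻¹ * (S⁻¹ * t) * io i₀ K.z * n * S := by rw [n_t H N]; group
      _ = n⁻¹ * t * (S⁻¹ * io i₀ K.z) * n * S := by rw [hst']; group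
      _ = (n⁻¹ * (t * io i₀ K.z)) * S⁻¹ * n * S := by rw [hsz']; group
      _ = _ := by rw [e1]; group
  have c2 : (n⁻¹ * (S⁻¹ * n * S)) * io i₀ K.z = io i₀ K.z * (n⁻¹ * (S⁻¹ * n * S)) := by
    calc (n⁻¹ * (S⁻¹ * n * S)) * io i₀ K.z = n⁻¹ * S⁻¹ * n * (S * io i₀ K.z) := by group
      _ = n⁻¹ * S⁻¹ * (n * io i₀ K.z) * S := by rw [hsz]; group
      _ = n⁻¹ * (S⁻¹ * io i₀ K.z) * n * S := by rw [N.nz]; group
      _ = (n⁻¹ * io i₀ K.z) * S⁻¹ * n * S := by rw [hsz']; group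
      _ = _ := by rw [e2]; group
  have hx3K : K.x ^ 3 ∈ K₀ := pow_mem hxK 3
  have hnx3 : n * io i₀ (K.x ^ 3) = io i₀ (K.x ^ 3) * n := by
    rw [io_pow hxK]
    exact ((show Commute n (io i₀ K.x) from nx).pow_right 3).eq
  have hsx : S * io i₀ K.x = io i₀ (K.x ^ 3) * S := by
    rw [← s_x K, io_conj hsK hxK, ← hS]
    group
  have hsx' : S⁻¹ * io i₀ (K.x ^ 3) = io i₀ K.x * S⁻¹ := by
    calc S⁻¹ * io i₀ (K.x ^ 3) = S⁻¹ * (io i₀ (K.x ^ 3) * S) * S⁻¹ := by group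
      _ = S⁻¹ * (S * io i₀ K.x) * S⁻¹ := by rw [hsx]
      _ = _ := by group
  have c3 : (n⁻¹ * (S⁻¹ * n * S)) * io i₀ K.x = io i₀ K.x * (n⁻¹ * (S⁻¹ * n * S)) := by
    calc (n⁻¹ * (S⁻¹ * n * S)) * io i₀ K.x = n⁻¹ * S⁻¹ * n * (S * io i₀ K.x) := by group
      _ = n⁻¹ * S⁻¹ * (n * io i₀ (K.x ^ 3)) * S := by rw [hsx]; group
      _ = n⁻¹ * (S⁻¹ * io i₀ (K.x ^ 3)) * n * S := by rw [hnx3]; group
      _ = (n⁻¹ * io i₀ K.x) * S⁻¹ * n * S := by rw [hsx']; group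
      _ = _ := by rw [e3]; group
  obtain ⟨c, l, hc4⟩ := cent3 H c1 c2 c3
  have hzl : K.z ^ l ∈ K₀ := pow_mem hzK l
  have hxc : K.x ^ c ∈ K₀ := pow_mem hxK c
  have hk : K.x ^ c * K.z ^ l ∈ K₀ := mul_mem hxc hzl
  have hkP : K.x ^ c * K.z ^ l ∈ K.P := mul_mem (xp K) (pow_mem (K.E_le_P (z_E K)) l)
  -- the action of `c`
  have hact : ∀ e ∈ K.E, (n⁻¹ * (S⁻¹ * n * S)) * io i₀ e * (n⁻¹ * (S⁻¹ * n * S))⁻¹ = io i₀ (K.x ^ c * e * (K.x ^ c)⁻¹) := by
    intro e he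
    have heK := H.EK he
    have h1 : io i₀ (K.x ^ c * K.z ^ l) * io i₀ e * (io i₀ (K.x ^ c * K.z ^ l))⁻¹ = io i₀ (K.x ^ c * e * (K.x ^ c)⁻¹) := by
      rw [← io_conj hk heK]
      congr 1
      have h4 : Commute (K.z ^ l) e := (show Commute K.z e from (Pz K (K.E_le_P he)).symm).pow_left l
      calc K.x ^ c * K.z ^ l * e * (K.x ^ c * K.z ^ l)⁻¹ = K.x ^ c * (K.z ^ l * e) * (K.z ^ l)⁻¹ * (K.x ^ c)⁻¹ := by group
        _ = K.x ^ c * e * (K.x ^ c)⁻¹ := by rw [h4.eq]; group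
    have h2 := io_t H (mul_mem (mul_mem hxc heK) (inv_mem hxc))
    rcases hc4 with h | h | h | h
    · rw [h, h1]
    · rw [h]
      calc t * io i₀ (K.x ^ c * K.z ^ l) * io i₀ e * (t * io i₀ (K.x ^ c * K.z ^ l))⁻¹ =
            t * (io i₀ (K.x ^ c * K.z ^ l) * io i₀ e * (io i₀ (K.x ^ c * K.z ^ l))⁻¹) * t⁻¹ := by group
        _ = _ := by rw [h1, h2]; group
    · rw [h, hf1, mul_one, h1]
    · rw [h, hf1, mul_one]
      calc t * io i₀ (K.x ^ c * K.z ^ l) * io i₀ e * (t * io i₀ (K.x ^ c * K.z ^ l))⁻¹ =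
            t * (io i₀ (K.x ^ c * K.z ^ l) * io i₀ e * (io i₀ (K.x ^ c * K.z ^ l))⁻¹) * t⁻¹ := by group
        _ = _ := by rw [h1, h2]; group
  -- comparison
  have hcmp : α (K.s * K.r * K.s⁻¹) = K.s * (K.x ^ c * α K.r * (K.x ^ c)⁻¹) * K.s⁻¹ := by
    have hsrE : K.s * K.r * K.s⁻¹ ∈ K.E := K.nor_E _ (s_P K) _ hrE
    have hrK := r_K H
    have hxr : K.x ^ c * K.r * (K.x ^ c)⁻¹ ∈ K.E := K.nor_E _ (xp K) _ hrE
    have hxαr : K.x ^ c * α K.r * (K.x ^ c)⁻¹ ∈ K.E := K.nor_E _ (xp K) _ (L.mE _ hrE)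
    apply io_inj H (H.EK (L.mE _ hsrE)) (mul_mem (mul_mem hsK (H.EK hxαr)) (inv_mem hsK))
    have h1 := hact K.r hrE
    rw [← hs _ hsrE, io_conj hsK hrK, io_conj hsK (H.EK hxαr), ← L.cx hrE c, ← hs _ hxr, ← h1]
    rw [← hS]
    group
  -- the `x`-part
  have hsrQ : K.s * K.r * K.s⁻¹ ∈ K.Q := K.nor_Q _ (s_P K) _ K.r_Q
  have hxc1 : K.x ^ c = 1 := by
    apply K.xr
    have h1 := L.onQ _ hsrQ
    rw [hcmp] at h1
    have h2 : K.x ^ c * α K.r * (K.x ^ c)⁻¹ * K.r⁻¹ ∈ K.A := by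
      have := norA' K (s_P K) h1
      have e : K.s⁻¹ * (K.s * (K.x ^ c * α K.r * (K.x ^ c)⁻¹) * K.s⁻¹ * (K.s * K.r * K.s⁻¹)⁻¹) * K.s =
          K.x ^ c * α K.r * (K.x ^ c)⁻¹ * K.r⁻¹ := by group
      rwa [e] at this
    have h3 := L.onQ _ K.r_Q
    have e : K.x ^ c * K.r * (K.x ^ c)⁻¹ * K.r⁻¹ =
        (K.x ^ c * (α K.r * K.r⁻¹) * (K.x ^ c)⁻¹)⁻¹ * (K.x ^ c * α K.r * (K.x ^ c)⁻¹ * K.r⁻¹) := by group
    rw [e]
    exact mul_mem (inv_mem (K.nor_A _ (xp K) _ h3)) h2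
  rw [hxc1, inv_one, one_mul, mul_one, hr] at hcmp
  obtain ⟨a₀, ha₀, hKS⟩ := K.KS
  apply K.KW a hc
  -- `α (s r s⁻¹)` by `KS`
  have hx' : ∀ k : ℕ, (K.x ^ k)⁻¹ * K.r * K.x ^ k ∈ K.E := fun k => norE' K (xp K) hrE
  have h1 : α (K.s * K.r * K.s⁻¹) = (K.x ^ 3)⁻¹ * (K.r * a) * K.x ^ 3 * ((K.x ^ 4)⁻¹ * (K.r * a) * K.x ^ 4) * a₀ := by
    rw [hKS, L.mul _ (mul_mem (hx' 3) (hx' 4)) _ (A_E K ha₀), L.mul _ (hx' 3) _ (hx' 4), L.cx' hrE, L.cx' hrE, hr,
      L.onA _ ha₀]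
  rw [hcmp] at h1
  have hA3 : (K.x ^ 3)⁻¹ * a * K.x ^ 3 ∈ K.A := norA' K (xp K) ha
  have hA4 : (K.x ^ 4)⁻¹ * a * K.x ^ 4 ∈ K.A := norA' K (xp K) ha
  set X3 := (K.x ^ 3)⁻¹ * K.r * K.x ^ 3 with hX3
  set X4 := (K.x ^ 4)⁻¹ * K.r * K.x ^ 4 with hX4
  have hX4P : X4 ∈ K.P := K.E_le_P (hx' 4)
  have hXA : X4⁻¹ * ((K.x ^ 3)⁻¹ * a * K.x ^ 3) * X4 ∈ K.A := norA' K hX4P hA3
  have h2 : K.s * a * K.s⁻¹ = (K.s * K.r * K.s⁻¹)⁻¹ * (K.s * (K.r * a) * K.s⁻¹) := by group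
  rw [h2, h1, hKS]
  have e4 : (X3 * X4 * a₀)⁻¹ * ((K.x ^ 3)⁻¹ * (K.r * a) * K.x ^ 3 * ((K.x ^ 4)⁻¹ * (K.r * a) * K.x ^ 4) * a₀) =
      a₀⁻¹ * (X4⁻¹ * ((K.x ^ 3)⁻¹ * a * K.x ^ 3) * X4 * ((K.x ^ 4)⁻¹ * a * K.x ^ 4)) * a₀ := by
    rw [hX3, hX4]
    group
  rw [e4]
  have e5 := a_comm K (mul_mem hXA hA4) ha₀
  rw [mul_assoc, e5]
  group

end Types

/-! ### Normal form -/

/-- `n` centralises `x`, `A` and maps `r` to `r a` -/
structure Nn (K : KT Y) {K₀ : Subgroup Y} (i₀ : ↥K₀ →* G) (t : G) (n : G) (a : Y) : Prop where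
  mv : Mv K i₀ t n
  nx : n * io i₀ K.x = io i₀ K.x * n
  nA : ∀ b ∈ K.A, n * io i₀ b = io i₀ b * n
  nr : n * io i₀ K.r = io i₀ (K.r * a) * n
  aA : a ∈ K.A

section Normal

variable {K : KT Y} {K₀ : Subgroup Y} {i₀ : ↥K₀ →* G} {t f : G} (H : Pos0 K K₀ i₀ t f)

include H

theorem f_A (hf : f ≠ 1) {b : Y} (hb : b ∈ K.A) : f * io i₀ b = io i₀ b * f := by
  have h := fi' H hf (H.EK (A_E K hb))
  rw [K.τA b hb] at h
  calc f * io i₀ b = (f * io i₀ b * f⁻¹) * f := by group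
    _ = _ := by rw [h]

theorem f_r (hf : f ≠ 1) : f * io i₀ K.r = io i₀ (K.r * K.aj) * f := by
  have h := fi' H hf (r_K H)
  rw [K.τr] at h
  calc f * io i₀ K.r = (f * io i₀ K.r * f⁻¹) * f := by group
    _ = _ := by rw [h]

theorem Nn.ra {n : G} {a : Y} (M : Nn K i₀ t n a) {b : Y} (hb : b ∈ K.A) :
    n * io i₀ (K.r * b) = io i₀ (K.r * a * b) * n := by
  rw [io_mul (r_K H) (H.EK (A_E K hb)), ← mul_assoc, M.nr, mul_assoc, M.nA b hb, ← mul_assoc,
    ← io_mul (mul_mem (r_K H) (H.EK (A_E K M.aA))) (H.EK (A_E K hb))]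

theorem f_ra (hf : f ≠ 1) {b : Y} (hb : b ∈ K.A) :
    f * io i₀ (K.r * b) = io i₀ (K.r * K.aj * b) * f := by
  rw [io_mul (r_K H) (H.EK (A_E K hb)), ← mul_assoc, f_r H hf, mul_assoc, f_A H hf hb, ← mul_assoc,
    ← io_mul (mul_mem (r_K H) (H.EK (A_E K K.aj_A))) (H.EK (A_E K hb))]

theorem f_inv_r (hf : f ≠ 1) {b : Y} (hb : b ∈ K.A) :
    f⁻¹ * io i₀ (K.r * b) = io i₀ (K.r * (K.aj * b)) * f⁻¹ := by
  have hj2 := K.sq_A _ K.aj_A
  have h := f_ra H hf (mul_mem K.aj_A hb)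
  have e : K.r * K.aj * (K.aj * b) = K.r * b := by
    calc K.r * K.aj * (K.aj * b) = K.r * (K.aj * K.aj) * b := by group
      _ = _ := by rw [hj2, mul_one]
  rw [e] at h
  calc f⁻¹ * io i₀ (K.r * b) = f⁻¹ * (io i₀ (K.r * b) * f) * f⁻¹ := by group
    _ = f⁻¹ * (f * io i₀ (K.r * (K.aj * b))) * f⁻¹ := by rw [h]
    _ = _ := by group

/-- change of `n` by `f` -/
theorem Nn.nf {n : G} {a : Y} (hf : f ≠ 1) (M : Nn K i₀ t n a) : Nn K i₀ t (n * f⁻¹) (K.aj * a) := by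
  have hft := H.ft
  have hfz := f_z H
  have hfx := f_x H
  have inv1 : ∀ g : G, f * g = g * f → f⁻¹ * g = g * f⁻¹ := by
    intro g h
    calc f⁻¹ * g = f⁻¹ * (g * f) * f⁻¹ := by group
      _ = f⁻¹ * (f * g) * f⁻¹ := by rw [h]
      _ = _ := by group
  refine ⟨⟨?_, ?_⟩, ?_, ?_, ?_, mul_mem K.aj_A M.aA⟩
  · calc n * f⁻¹ * t * (n * f⁻¹)⁻¹ = n * (f⁻¹ * t) * f * n⁻¹ := by group
      _ = n * t * n⁻¹ := by rw [inv1 t hft]; group
      _ = _ := M.mv.nt
  · calc n * f⁻¹ * io i₀ K.z = n * (f⁻¹ * io i₀ K.z) := by group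
      _ = (n * io i₀ K.z) * f⁻¹ := by rw [inv1 _ hfz]; group
      _ = _ := by rw [M.mv.nz]; group
  · calc n * f⁻¹ * io i₀ K.x = n * (f⁻¹ * io i₀ K.x) := by group
      _ = (n * io i₀ K.x) * f⁻¹ := by rw [inv1 _ hfx]; group
      _ = _ := by rw [M.nx]; group
  · intro b hb
    calc n * f⁻¹ * io i₀ b = n * (f⁻¹ * io i₀ b) := by group
      _ = (n * io i₀ b) * f⁻¹ := by rw [inv1 _ (f_A H hf hb)]; group
      _ = _ := by rw [M.nA b hb]; group
  · have h1 := f_inv_r H hf (one_mem K.A)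
    rw [mul_one, mul_one] at h1
    calc n * f⁻¹ * io i₀ K.r = n * (f⁻¹ * io i₀ K.r) := by group
      _ = (n * io i₀ (K.r * K.aj)) * f⁻¹ := by rw [h1]; group
      _ = io i₀ (K.r * a * K.aj) * n * f⁻¹ := by rw [M.ra H K.aj_A]
      _ = _ := by
        rw [mul_assoc K.r a K.aj, a_comm K M.aA K.aj_A]
        group

/-- **the types** (after the choice of `n`) -/
theorem types : (K.j ∈ K₀ ∧ ∃ n : G, Mv K i₀ t n ∧ ∀ e ∈ K.E, n * io i₀ e * n⁻¹ = io i₀ (K.τ e)) ∨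
    ∃ (n : G) (a : Y), Nn K i₀ t n a ∧ (a = 1 ∨ (K.j ∉ K₀ ∧ a = K.aw)) := by
  obtain ⟨n, N, nx, hsq⟩ := exists_two H
  obtain ⟨α, L, hs⟩ := exists_al H N nx hsq
  obtain ⟨a, ha, hr, hc⟩ := L.types
  have M : Nn K i₀ t n a := by
    refine ⟨N, nx, ?_, ?_, ha⟩
    · intro b hb
      have h := hs b (A_E K hb)
      rw [L.onA b hb] at h
      calc n * io i₀ b = (n * io i₀ b * n⁻¹) * n := by group
        _ = _ := by rw [h]
    · have h := hs _ (r_E K)
      rw [hr] at h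
      calc n * io i₀ K.r = (n * io i₀ K.r * n⁻¹) * n := by group
        _ = _ := by rw [h]
  by_cases hj : K.j ∈ K₀
  · rcases hc with h | h | h | h
    · exact Or.inr ⟨n, a, M, Or.inl h⟩
    · left
      refine ⟨hj, n, N, fun e he => ?_⟩
      rw [hs e he, L.onE_τ (by rw [hr, h]) e he]
    · exact (cl_kill H hj N nx L hs ha hr (Or.inl h)).elim
    · exact (cl_kill H hj N nx L hs ha hr (Or.inr h)).elim
  · obtain ⟨hf, -, -⟩ := out_facts H hj
    have hj2 := K.sq_A _ K.aj_A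
    right
    rcases hc with h | h | h | h
    · exact ⟨n, a, M, Or.inl h⟩
    · refine ⟨n * f⁻¹, K.aj * a, M.nf H hf, Or.inl ?_⟩
      rw [h, hj2]
    · exact ⟨n, a, M, Or.inr ⟨hj, h⟩⟩
    · refine ⟨n * f⁻¹, K.aj * a, M.nf H hf, Or.inr ⟨hj, ?_⟩⟩
      rw [h, ← mul_assoc, hj2, one_mul]

/-- `n * n = 1` may be assumed -/
theorem Nn.sq {n : G} {a : Y} (M : Nn K i₀ t n a) : ∃ n', Nn K i₀ t n' a ∧ n' * n' = 1 := by
  have hz1 := z'_ne H
  have hzz := zz' H
  have N := M.mv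
  have h1 : (n * n) * t = t * (n * n) := by
    calc (n * n) * t = n * (n * t) := by group
      _ = (n * (t * io i₀ K.z)) * n := by rw [n_t H N]; group
      _ = _ := by rw [n_tz H N]; group
  have hr : (n * n) * io i₀ K.r = io i₀ K.r * (n * n) := by
    calc (n * n) * io i₀ K.r = n * (n * io i₀ K.r) := by group
      _ = (n * io i₀ (K.r * a)) * n := by rw [M.nr]; group
      _ = io i₀ (K.r * (a * a)) * n * n := by rw [M.ra H M.aA, mul_assoc K.r a a]
      _ = _ := by rw [K.sq_A a M.aA, mul_one]; group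
  have hx : (n * n) * io i₀ K.x = io i₀ K.x * (n * n) := by
    calc (n * n) * io i₀ K.x = n * (n * io i₀ K.x) := by group
      _ = n * (io i₀ K.x * n) := by rw [M.nx]
      _ = (n * io i₀ K.x) * n := by group
      _ = _ := by rw [M.nx]; group
  have h2 := cE H h1 (commE H hr hx)
  -- `n` commutes with `n²`
  have hnt : n * t = t * n → False := by
    intro h
    rw [n_t H N] at h
    apply hz1
    calc io i₀ K.z = t⁻¹ * (t * io i₀ K.z * n) * n⁻¹ := by group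
      _ = 1 := by rw [h]; group
  have hnn : n * (n * n) = (n * n) * n := by group
  rcases h2 with h2 | h2 | h2 | h2
  · exact ⟨n, M, h2⟩
  · refine ⟨n * t, ⟨⟨?_, ?_⟩, ?_, ?_, ?_, M.aA⟩, ?_⟩
    · calc n * t * t * (n * t)⁻¹ = n * t * n⁻¹ := by group
        _ = _ := N.nt
    · have := io_t H (z_K H)
      calc n * t * io i₀ K.z = n * (t * io i₀ K.z) := by group
        _ = (n * io i₀ K.z) * t := by rw [this]; group
        _ = _ := by rw [N.nz]; group
    · have := io_t H (x_K H)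
      calc n * t * io i₀ K.x = n * (t * io i₀ K.x) := by group
        _ = (n * io i₀ K.x) * t := by rw [this]; group
        _ = _ := by rw [M.nx]; group
    · intro b hb
      have := io_t H (H.EK (A_E K hb))
      calc n * t * io i₀ b = n * (t * io i₀ b) := by group
        _ = (n * io i₀ b) * t := by rw [this]; group
        _ = _ := by rw [M.nA b hb]; group
    · have := io_t H (r_K H)
      calc n * t * io i₀ K.r = n * (t * io i₀ K.r) := by group
        _ = (n * io i₀ K.r) * t := by rw [this]; group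
        _ = _ := by rw [M.nr]; group
    · calc n * t * (n * t) = n * t * (n * t) := rfl
        _ = n * t * (t * io i₀ K.z * n) := by rw [n_t H N]
        _ = n * (t * t) * io i₀ K.z * n := by group
        _ = (n * io i₀ K.z) * n := by rw [H.tt]; group
        _ = io i₀ K.z * (n * n) := by rw [N.nz]; group
        _ = 1 := by rw [h2, hzz]
  · exfalso
    apply hnt
    rw [h2] at hnn
    exact hnn
  · exfalso
    rw [h2, n_tz H N] at hnn
    have h3 := n_tz H N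
    apply hz1
    have e : t * io i₀ K.z * n = t * n := by rw [← hnn]
    calc io i₀ K.z = t⁻¹ * (t * io i₀ K.z * n) * n⁻¹ := by group
      _ = 1 := by rw [e]; group

/-- comparison of two elements -/
theorem uniq2 {n m : G} (N : Mv K i₀ t n) (nn : n * n = 1) (mm : m * m = 1) (h1 : (n⁻¹ * m) * t = t * (n⁻¹ * m))
    (h2 : ∀ e ∈ K.E, (n⁻¹ * m) * io i₀ e = io i₀ e * (n⁻¹ * m)) : m = n ∨ m = n * io i₀ K.z := by
  have hz1 := z'_ne H
  have hzz := zz' H
  have e : m = n * (n⁻¹ * m) := by group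
  have hc := cE H h1 h2
  set c := n⁻¹ * m
  -- `(n t)² = z`
  have hnt : n * t * (n * t) = io i₀ K.z := by
    calc n * t * (n * t) = n * t * (t * io i₀ K.z * n) := by rw [n_t H N]
      _ = n * (t * t) * io i₀ K.z * n := by group
      _ = (n * io i₀ K.z) * n := by rw [H.tt]; group
      _ = io i₀ K.z * (n * n) := by rw [N.nz]; group
      _ = _ := by rw [nn, mul_one]
  rcases hc with h | h | h | h
  · left; rw [e, h, mul_one]
  · right; rw [e, h]
  · exfalso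
    rw [h] at e
    rw [e, hnt] at mm
    exact hz1 mm
  · exfalso
    rw [h] at e
    have h3 : n * (t * io i₀ K.z) * (n * (t * io i₀ K.z)) = io i₀ K.z := by
      calc n * (t * io i₀ K.z) * (n * (t * io i₀ K.z)) = t * n * (t * n) := by rw [n_tz H N]
        _ = n⁻¹ * (n * t * (n * t)) * n := by group
        _ = n⁻¹ * (io i₀ K.z * n) := by rw [hnt]; group
        _ = io i₀ K.z := by rw [← N.nz]; group
    rw [e, h3] at mm
    exact hz1 mm

/-- **OUT**: `f² = z` and `f n ∈ n f⟨z⟩` -/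
theorem f_n (hf : f ≠ 1) (hj : K.j ∉ K₀) {n : G} {a : Y} (M : Nn K i₀ t n a) (nn : n * n = 1) :
    f * f = io i₀ K.z ∧ (f⁻¹ * n * f = n ∨ f⁻¹ * n * f = n * io i₀ K.z) := by
  have N := M.mv
  have hft := H.ft
  have hfz := f_z H
  have hfx := f_x H
  have hz1 := z'_ne H
  have hzz := zz' H
  have inv1 : ∀ g h : G, h * g = g * h → h⁻¹ * g = g * h⁻¹ := by
    intro g h e
    calc h⁻¹ * g = h⁻¹ * (g * h) * h⁻¹ := by group
      _ = h⁻¹ * (h * g) * h⁻¹ := by rw [e]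
      _ = _ := by group
  have hft' := inv1 _ _ hft
  have hfz' := inv1 _ _ hfz
  have hfx' := inv1 _ _ hfx
  have hnx' := inv1 _ _ M.nx
  have hn1 : n⁻¹ = n := inv_eq_of_mul_eq_one_left nn
  have hm : (f⁻¹ * n * f) * (f⁻¹ * n * f) = 1 := by
    calc (f⁻¹ * n * f) * (f⁻¹ * n * f) = f⁻¹ * (n * n) * f := by group
      _ = 1 := by rw [nn]; group
  have key : f⁻¹ * n * f = n ∨ f⁻¹ * n * f = n * io i₀ K.z := by
    apply uniq2 H N nn hm
    · have e1 : n⁻¹ * (t * io i₀ K.z) = t * n⁻¹ := by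
        calc n⁻¹ * (t * io i₀ K.z) = n⁻¹ * (t * io i₀ K.z * n) * n⁻¹ := by group
          _ = t * n⁻¹ := by rw [← n_t H N]; group
      calc (n⁻¹ * (f⁻¹ * n * f)) * t = n⁻¹ * f⁻¹ * n * (f * t) := by group
        _ = n⁻¹ * f⁻¹ * (n * t) * f := by rw [hft]; group
        _ = n⁻¹ * (f⁻¹ * t) * io i₀ K.z * n * f := by rw [n_t H N]; group
        _ = n⁻¹ * t * (f⁻¹ * io i₀ K.z) * n * f := by rw [hft']; group
        _ = (n⁻¹ * (t * io i₀ K.z)) * f⁻¹ * n * f := by rw [hfz']; group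
        _ = _ := by rw [e1]; group
    · have haA := M.aA
      have haa := K.sq_A a haA
      apply commE H
      · have e1 : n⁻¹ * io i₀ (K.r * a) = io i₀ K.r * n⁻¹ := by
          calc n⁻¹ * io i₀ (K.r * a) = n⁻¹ * (io i₀ (K.r * a) * n) * n⁻¹ := by group
            _ = n⁻¹ * (n * io i₀ K.r) * n⁻¹ := by rw [M.nr]
            _ = _ := by group
        have e2 := f_inv_r H hf (mul_mem M.aA K.aj_A)
        have e3 : K.r * (K.aj * (a * K.aj)) = K.r * a := by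
          rw [a_comm K haA K.aj_A]
          calc K.r * (K.aj * (K.aj * a)) = K.r * (K.aj * K.aj) * a := by group
            _ = _ := by rw [K.sq_A _ K.aj_A, mul_one]
        rw [e3] at e2
        calc (n⁻¹ * (f⁻¹ * n * f)) * io i₀ K.r = n⁻¹ * f⁻¹ * n * (f * io i₀ K.r) := by group
          _ = n⁻¹ * f⁻¹ * (n * io i₀ (K.r * K.aj)) * f := by rw [f_r H hf]; group
          _ = n⁻¹ * (f⁻¹ * io i₀ (K.r * (a * K.aj))) * n * f := by
            rw [M.ra H K.aj_A, mul_assoc K.r a K.aj]; group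
          _ = (n⁻¹ * io i₀ (K.r * a)) * f⁻¹ * n * f := by rw [e2]; group
          _ = _ := by rw [e1]; group
      · calc (n⁻¹ * (f⁻¹ * n * f)) * io i₀ K.x = n⁻¹ * f⁻¹ * n * (f * io i₀ K.x) := by group
          _ = n⁻¹ * f⁻¹ * (n * io i₀ K.x) * f := by rw [hfx]; group
          _ = n⁻¹ * (f⁻¹ * io i₀ K.x) * n * f := by rw [M.nx]; group
          _ = (n⁻¹ * io i₀ K.x) * f⁻¹ * n * f := by rw [hfx']; group
          _ = _ := by rw [hnx']; group
  refine ⟨?_, key⟩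
  rcases ff H hj with h | h
  · exact h
  · exfalso
    -- `n` commutes with `f² = t z`
    have h1 : (f * f)⁻¹ * n * (f * f) = n := by
      have e : (f * f)⁻¹ * n * (f * f) = f⁻¹ * (f⁻¹ * n * f) * f := by group
      rw [e]
      rcases key with h2 | h2
      · rw [h2, h2]
      · rw [h2]
        calc f⁻¹ * (n * io i₀ K.z) * f = f⁻¹ * n * (io i₀ K.z * f) := by group
          _ = (f⁻¹ * n * f) * io i₀ K.z := by rw [← hfz]; group
          _ = n := by rw [h2, mul_assoc, hzz, mul_one]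
    rw [h] at h1
    have h3 : n * (t * io i₀ K.z) = t * io i₀ K.z * n := by
      calc n * (t * io i₀ K.z) = (t * io i₀ K.z) * ((t * io i₀ K.z)⁻¹ * n * (t * io i₀ K.z)) := by group
        _ = _ := by rw [h1]
    rw [n_tz H N] at h3
    apply hz1
    calc io i₀ K.z = t⁻¹ * (t * io i₀ K.z * n) * n⁻¹ := by group
      _ = 1 := by rw [← h3]; group

/-- OUT: `f t` instead of `f` -/
theorem swap (hj : K.j ∉ K₀) (hff : f * f = io i₀ K.z) : Pos0 K K₀ i₀ t (f * t) := by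
  obtain ⟨hf, -, -⟩ := out_facts H hj
  have hft := H.ft
  have hsq : f * t * (f * t) = f * f := by
    calc f * t * (f * t) = f * (t * f) * t := by group
      _ = f * f * (t * t) := by rw [← hft]; group
      _ = _ := by rw [H.tt, mul_one]
  refine { H with fj := Or.inr (Or.inl ⟨hj, ?_⟩), ft := ?_, fi := ?_, cen := ?_ }
  · rw [hsq, hff, io_eq (z_K H)]
  · rw [mul_assoc, H.tt, ← mul_assoc, ← hft, mul_assoc, H.tt]
  · intro _ y hy
    have h := H.fi hf y hy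
    have h2 := H.ti ⟨y, hy⟩
    rw [← h]
    calc f * t * i₀ ⟨y, hy⟩ * (f * t)⁻¹ = f * (t * i₀ ⟨y, hy⟩) * t⁻¹ * f⁻¹ := by group
      _ = _ := by rw [h2]; group
  · intro c hc
    obtain ⟨y, hy⟩ := H.cen c hc
    have h2 := H.ti y
    refine ⟨y, ?_⟩
    rcases hy with h | h | h | h
    · exact Or.inl h
    · exact Or.inr (Or.inl h)
    · right; right; right
      rw [h]
      calc i₀ y * f = i₀ y * f * (t * t) := by rw [H.tt, mul_one]
        _ = i₀ y * (f * t) * t := by group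
        _ = (i₀ y * t) * f * t := by rw [hft]; group
        _ = _ := by rw [← h2]; group
    · right; right; left
      rw [h]
      calc t * i₀ y * f = i₀ y * (t * f) := by rw [h2]; group
        _ = _ := by rw [← hft]

/-- **construction of `i : Y → G`** -/
theorem build (hff : K.j ∉ K₀ → f * f = io i₀ K.z) : ∃ i : Y →* G, Function.Injective i ∧ (∀ y ∈ K₀, i y = io i₀ y) ∧
    i K.j = f ∧ (∀ y, t * i y = i y * t) ∧ (∀ y, i y ≠ t) ∧ ∀ c, c * t = t * c → ∃ y, c = i y ∨ c = t * i y := by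
  classical
  -- outside `K₀`
  have hout : ∀ y : Y, y ∉ K₀ → K.j ∉ K₀ ∧ y * K.j⁻¹ ∈ K₀ := by
    intro y hy
    have h := (H.Yj y).resolve_left hy
    refine ⟨fun hj => ?_, h⟩
    rw [(f_cl H hj).1, inv_one, mul_one] at h
    exact hy h
  let F : Y → G := fun y => if y ∈ K₀ then io i₀ y else io i₀ (y * K.j⁻¹) * f
  have F1 : ∀ y ∈ K₀, F y = io i₀ y := fun y hy => if_pos hy
  have F2 : ∀ y, y ∉ K₀ → F y = io i₀ (y * K.j⁻¹) * f := fun y hy => if_neg hy
  have Fmul : ∀ y y', F (y * y') = F y * F y' := by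
    intro y y'
    by_cases hy : y ∈ K₀ <;> by_cases hy' : y' ∈ K₀
    · rw [F1 _ (mul_mem hy hy'), F1 _ hy, F1 _ hy', io_mul hy hy']
    · have h1 := (hout y' hy').2
      rw [F2 _ (fun h => hy' ((Subgroup.mul_mem_cancel_left K₀ hy).1 h)), F1 _ hy, F2 _ hy', mul_assoc y y', io_mul hy h1,
        mul_assoc]
    · obtain ⟨hj, h1⟩ := hout y hy
      obtain ⟨hf, -, hτ⟩ := out_facts H hj
      have h2 := H.τK y' hy'
      have e : y * y' * K.j⁻¹ = (y * K.j⁻¹) * K.τ y' := by rw [hτ]; group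
      rw [F2 _ (fun h => hy ((Subgroup.mul_mem_cancel_right K₀ hy').1 h)), F2 _ hy, F1 _ hy', e, io_mul h1 h2,
        ← fi' H hf hy']
      group
    · obtain ⟨hj, h1⟩ := hout y hy
      obtain ⟨-, h1'⟩ := hout y' hy'
      obtain ⟨hf, hjj, hτ⟩ := out_facts H hj
      have h2 := H.τK _ h1'
      have e : y * y' = (y * K.j⁻¹) * K.τ (y' * K.j⁻¹) * K.z := by
        rw [hτ]
        calc y * y' = (y * K.j⁻¹) * (K.j * (y' * K.j⁻¹) * K.j⁻¹) * (K.j * K.j) := by group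
          _ = _ := by rw [hjj]
      have hm : y * y' ∈ K₀ := by
        rw [e]
        exact mul_mem (mul_mem h1 h2) (z_K H)
      rw [F1 _ hm, F2 _ hy, F2 _ hy', e, io_mul (mul_mem h1 h2) (z_K H), io_mul h1 h2, ← fi' H hf h1', ← hff hj]
      group
  let i : Y →* G := MonoidHom.mk' F Fmul
  have iF : ∀ y, i y = F y := fun y => rfl
  have hi1 : ∀ y ∈ K₀, i y = io i₀ y := F1
  have hi2 : ∀ y, y ∉ K₀ → i y = io i₀ (y * K.j⁻¹) * f := F2
  have hij : i K.j = f := by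
    by_cases hj : K.j ∈ K₀
    · obtain ⟨h1, h2⟩ := f_cl H hj
      rw [h1, h2, map_one]
    · rw [hi2 _ hj, mul_inv_cancel, io_one, one_mul]
  refine ⟨i, ?_, hi1, hij, ?_, ?_, ?_⟩
  · rw [injective_iff_map_eq_one]
    intro y hy
    by_cases h : y ∈ K₀
    · rw [hi1 y h] at hy
      exact io_inj H h (one_mem _) (by rw [hy, io_one])
    · exfalso
      obtain ⟨hj, h1⟩ := hout y h
      rw [hi2 y h, ← io_one (i₀ := i₀)] at hy
      exact (no_f H hj h1 (one_mem _)).1 hy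
  · intro y
    by_cases h : y ∈ K₀
    · rw [hi1 y h, io_t H h]
    · obtain ⟨hj, h1⟩ := hout y h
      have h2 := io_t H h1
      rw [hi2 y h]
      calc t * (io i₀ (y * K.j⁻¹) * f) = (t * io i₀ (y * K.j⁻¹)) * f := by group
        _ = io i₀ (y * K.j⁻¹) * (t * f) := by rw [h2]; group
        _ = _ := by rw [← H.ft]; group
  · intro y
    by_cases h : y ∈ K₀
    · rw [hi1 y h]
      exact io_ne_t H h
    · obtain ⟨hj, h1⟩ := hout y h
      rw [hi2 y h]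
      intro h2
      apply (no_f H hj h1 (one_mem _)).2
      rw [io_one, mul_one, h2]
  · intro c hc
    obtain ⟨y, hy⟩ := H.cen c hc
    rw [← io_coe y] at hy
    have hyj : ∀ hj : K.j ∉ K₀, i ((y : Y) * K.j) = io i₀ (y : Y) * f := by
      intro hj
      rw [map_mul, hi1 _ y.2, hij]
    have hyj' : i ((y : Y) * K.j) = io i₀ (y : Y) * f := by
      rw [map_mul, hi1 _ y.2, hij]
    rcases hy with h | h | h | h
    · exact ⟨y, Or.inl (by rw [h, hi1 _ y.2])⟩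
    · exact ⟨y, Or.inr (by rw [h, hi1 _ y.2])⟩
    · exact ⟨y * K.j, Or.inl (by rw [h, hyj'])⟩
    · exact ⟨y * K.j, Or.inr (by rw [h, hyj', mul_assoc])⟩

end Normal

/-- **Position W** (only OUT): `n` centralises `x`, `A`, `j` and maps `r` to `r aw` -/
structure PosW (K : KT Y) (i : Y →* G) (t n : G) : Prop where
  finG : Finite G
  perf : commutator G = ⊤
  inj : Function.Injective i
  tt : t * t = 1
  t1 : t ≠ 1
  ti : ∀ y : Y, t * i y = i y * t
  tY : ∀ y : Y, i y ≠ t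
  cen : ∀ c : G, c * t = t * c → ∃ y : Y, c = i y ∨ c = t * i y
  nn : n * n = 1
  nt : t * n * t = n * i K.z
  nA : ∀ a ∈ K.A, n * i a = i a * n
  nx : n * i K.x = i K.x * n
  nj : n * i K.j = i K.j * n
  nr : n * i K.r = i (K.r * K.aw) * n

/-- common part of `Pos` and `PosW` -/
theorem exists_i {K : KT Y} {K₀ : Subgroup Y} {i₀ : ↥K₀ →* G} {t f : G} (H : Pos0 K K₀ i₀ t f) {n : G} {a : Y}
    (M : Nn K i₀ t n a) (nn : n * n = 1) :
    ∃ i : Y →* G, Function.Injective i ∧ (∀ y ∈ K₀, i y = io i₀ y) ∧ (∀ y, t * i y = i y * t) ∧ (∀ y, i y ≠ t) ∧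
      (∀ c, c * t = t * c → ∃ y, c = i y ∨ c = t * i y) ∧ n * i K.j = i K.j * n := by
  by_cases hj : K.j ∈ K₀
  · obtain ⟨hj1, hf⟩ := f_cl H hj
    obtain ⟨i, h1, h2, h3, h4, h5, h6⟩ := build H (fun h => absurd hj h)
    refine ⟨i, h1, h2, h4, h5, h6, ?_⟩
    rw [h3, hf, mul_one, one_mul]
  · obtain ⟨hf, -, -⟩ := out_facts H hj
    obtain ⟨hff, hc⟩ := f_n H hf hj M nn
    rcases hc with hc | hc
    · obtain ⟨i, h1, h2, h3, h4, h5, h6⟩ := build H (fun _ => hff)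
      refine ⟨i, h1, h2, h4, h5, h6, ?_⟩
      rw [h3]
      calc n * f = f * (f⁻¹ * n * f) := by group
        _ = _ := by rw [hc]
    · have H' := swap H hj hff
      have hsq : f * t * (f * t) = io i₀ K.z := by
        calc f * t * (f * t) = f * (t * f) * t := by group
          _ = f * f * (t * t) := by rw [← H.ft]; group
          _ = _ := by rw [H.tt, mul_one, hff]
      obtain ⟨i, h1, h2, h3, h4, h5, h6⟩ := build H' (fun _ => hsq)
      refine ⟨i, h1, h2, h4, h5, h6, ?_⟩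
      rw [h3]
      have hnf : n * f = f * n * io i₀ K.z := by
        calc n * f = f * (f⁻¹ * n * f) := by group
          _ = _ := by rw [hc]; group
      have hzt := io_t H (z_K H)
      have hzz := zz' H
      calc n * (f * t) = (n * f) * t := by group
        _ = f * n * (io i₀ K.z * t) := by rw [hnf]; group
        _ = f * (n * (t * io i₀ K.z)) := by rw [← hzt]; group
        _ = f * (t * n) := by rw [n_tz H M.mv]
        _ = _ := by group

/-- type O -/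
theorem posO {K : KT Y} {K₀ : Subgroup Y} {i₀ : ↥K₀ →* G} {t f : G} (H : Pos0 K K₀ i₀ t f) {n : G}
    (M : Nn K i₀ t n 1) (nn : n * n = 1) : ∃ (i : Y →* G) (n : G), Pos K i t n := by
  obtain ⟨i, h1, h2, h4, h5, h6, hnj⟩ := exists_i H M nn
  have N := M.mv
  have hzK := z_K H
  have hnt : t * n * t = n * i K.z := by
    rw [h2 _ hzK]
    calc t * n * t = t * (n * t) := by group
      _ = (t * t) * (io i₀ K.z * n) := by rw [n_t H N]; group
      _ = _ := by rw [H.tt, one_mul, N.nz]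
  -- type O
  have hrr : n * io i₀ K.r = io i₀ K.r * n := by
    have := M.nr
    rwa [mul_one] at this
  have hE := commE H hrr M.nx
  have nE : ∀ e ∈ K.E, n * i e = i e * n := by
    intro e he
    rw [h2 _ (H.EK he)]
    exact hE e he
  have nP : ∀ p ∈ K.P, (i p)⁻¹ * n * i p = n ∨ (i p)⁻¹ * n * i p = n * i K.z := by
    intro p hp
    have hm : ((i p)⁻¹ * n * i p) * ((i p)⁻¹ * n * i p) = 1 := by
      calc ((i p)⁻¹ * n * i p) * ((i p)⁻¹ * n * i p) = (i p)⁻¹ * (n * n) * i p := by group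
        _ = 1 := by rw [nn]; group
    have hpt := h4 p
    have hpt' : (i p)⁻¹ * t = t * (i p)⁻¹ := by
      have := h4 p⁻¹
      rw [map_inv] at this
      exact this.symm
    have hpz : i p * i K.z = i K.z * i p := by
      rw [← map_mul, ← map_mul, Pz K hp]
    have hpz' : (i p)⁻¹ * i K.z = i K.z * (i p)⁻¹ := by
      calc (i p)⁻¹ * i K.z = (i p)⁻¹ * (i K.z * i p) * (i p)⁻¹ := by group
        _ = (i p)⁻¹ * (i p * i K.z) * (i p)⁻¹ := by rw [hpz]
        _ = _ := by group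
    have e1 : n⁻¹ * (t * i K.z) = t * n⁻¹ := by
      rw [h2 _ hzK]
      calc n⁻¹ * (t * io i₀ K.z) = n⁻¹ * (t * io i₀ K.z * n) * n⁻¹ := by group
        _ = t * n⁻¹ := by rw [← n_t H N]; group
    have hnt2 : n * t = t * i K.z * n := by
      rw [h2 _ hzK]
      exact n_t H N
    rw [h2 _ hzK]
    apply uniq2 H N nn hm
    · calc (n⁻¹ * ((i p)⁻¹ * n * i p)) * t = n⁻¹ * (i p)⁻¹ * n * (i p * t) := by group
        _ = n⁻¹ * (i p)⁻¹ * (n * t) * i p := by rw [← hpt]; group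
        _ = n⁻¹ * ((i p)⁻¹ * t) * i K.z * n * i p := by rw [hnt2]; group
        _ = n⁻¹ * t * ((i p)⁻¹ * i K.z) * n * i p := by rw [hpt']; group
        _ = (n⁻¹ * (t * i K.z)) * (i p)⁻¹ * n * i p := by rw [hpz']; group
        _ = _ := by rw [e1]; group
    · intro e he
      have hpe : p * e * p⁻¹ ∈ K.E := K.nor_E p hp e he
      rw [← h2 _ (H.EK he)]
      have e2 : i p * i e = i (p * e * p⁻¹) * i p := by
        rw [← map_mul, ← map_mul]
        congr 1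
        group
      have e3 : (i p)⁻¹ * i (p * e * p⁻¹) = i e * (i p)⁻¹ := by
        rw [← map_inv, ← map_mul, ← map_mul]
        congr 1
        group
      have e4 : n⁻¹ * i e = i e * n⁻¹ := by
        calc n⁻¹ * i e = n⁻¹ * (i e * n) * n⁻¹ := by group
          _ = n⁻¹ * (n * i e) * n⁻¹ := by rw [nE e he]
          _ = _ := by group
      calc (n⁻¹ * ((i p)⁻¹ * n * i p)) * i e = n⁻¹ * (i p)⁻¹ * n * (i p * i e) := by group
        _ = n⁻¹ * (i p)⁻¹ * (n * i (p * e * p⁻¹)) * i p := by rw [e2]; group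
        _ = n⁻¹ * ((i p)⁻¹ * i (p * e * p⁻¹)) * n * i p := by rw [nE _ hpe]; group
        _ = (n⁻¹ * i e) * (i p)⁻¹ * n * i p := by rw [e3]; group
        _ = _ := by rw [e4]; group
  have hnz : n * i K.z = i K.z * n := nE _ (z_E K)
  refine ⟨i, n, ⟨H.finG, H.perf, h1, H.tt, H.t1, h4, h5, h6, nn, hnt, nE, hnj, nP, ?_⟩⟩
  intro p hp hpp
  obtain ⟨e, he, l, h⟩ := K.sq_E p hp hpp
  have hjl : n * i K.j ^ l = i K.j ^ l * n := ((show Commute n (i K.j) from hnj).pow_right l).eq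
  have hss : n * (i K.s * i K.s) = i K.s * i K.s * n := by
    have hsn := nP K.s (s_P K)
    have hzz : i K.z * i K.z = 1 := by rw [← map_mul, K.zz, map_one]
    have hsz : i K.s * i K.z = i K.z * i K.s := by
      rw [← map_mul, ← map_mul, Pz K (s_P K)]
    have h7 : (i K.s)⁻¹ * ((i K.s)⁻¹ * n * i K.s) * i K.s = n := by
      rcases hsn with h | h
      · rw [h, h]
      · rw [h]
        calc (i K.s)⁻¹ * (n * i K.z) * i K.s = (i K.s)⁻¹ * n * (i K.z * i K.s) := by group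
          _ = ((i K.s)⁻¹ * n * i K.s) * i K.z := by rw [← hsz]; group
          _ = n := by rw [h, mul_assoc, hzz, mul_one]
    calc n * (i K.s * i K.s) = i K.s * i K.s * ((i K.s)⁻¹ * ((i K.s)⁻¹ * n * i K.s) * i K.s) := by group
      _ = _ := by rw [h7]
  rcases h with h | h
  · rw [h, map_mul, map_pow, ← mul_assoc, nE e he, mul_assoc, hjl, mul_assoc]
  · rw [h, map_mul, map_mul, map_mul, map_pow]
    calc n * (i e * (i K.s * i K.s) * i K.j ^ l) = (n * i e) * (i K.s * i K.s) * i K.j ^ l := by group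
      _ = i e * (n * (i K.s * i K.s)) * i K.j ^ l := by rw [nE e he]; group
      _ = i e * (i K.s * i K.s) * (n * i K.j ^ l) := by rw [hss]; group
      _ = _ := by rw [hjl]; group

/-- type W -/
theorem posW {K : KT Y} {K₀ : Subgroup Y} {i₀ : ↥K₀ →* G} {t f : G} (H : Pos0 K K₀ i₀ t f) {n : G}
    (M : Nn K i₀ t n K.aw) (nn : n * n = 1) : ∃ (i : Y →* G) (n : G), PosW K i t n := by
  obtain ⟨i, h1, h2, h4, h5, h6, hnj⟩ := exists_i H M nn
  have N := M.mv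
  have hzK := z_K H
  have hnt : t * n * t = n * i K.z := by
    rw [h2 _ hzK]
    calc t * n * t = t * (n * t) := by group
      _ = (t * t) * (io i₀ K.z * n) := by rw [n_t H N]; group
      _ = _ := by rw [H.tt, one_mul, N.nz]
  refine ⟨i, n, ⟨H.finG, H.perf, h1, H.tt, H.t1, h4, h5, h6, nn, hnt, ?_, ?_, hnj, ?_⟩⟩
  · intro b hb
    rw [h2 _ (H.EK (A_E K hb))]
    exact M.nA b hb
  · rw [h2 _ (x_K H)]
    exact M.nx
  · rw [h2 _ (r_K H), h2 _ (mul_mem (r_K H) (H.EK (A_E K K.aw_A)))]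
    exact M.nr

/-- **Section 1** -/
theorem main {K : KT Y} {K₀ : Subgroup Y} {i₀ : ↥K₀ →* G} {t f : G} (H : Pos0 K K₀ i₀ t f) :
    (K.j = 1 ∧ ∃ (i : Y →* G) (n : G), Function.Injective i ∧ (∀ y, t * i y = i y * t) ∧
      (∀ c, c * t = t * c → ∃ y, c = i y ∨ c = t * i y) ∧ n * t * n⁻¹ = t * i K.z ∧
      ∀ e ∈ K.E, n * i e * n⁻¹ = i (K.τ e)) ∨
    (K.j ≠ 1 ∧ ∃ (i : Y →* G) (n : G), PosW K i t n) ∨ ∃ (i : Y →* G) (n : G), Pos K i t n := by
  rcases types H with ⟨hj, n, N, hn⟩ | ⟨n₀, a, M₀, ha⟩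
  · -- type X0
    left
    obtain ⟨hj1, hf⟩ := f_cl H hj
    obtain ⟨i, h1, h2, h3, h4, h5, h6⟩ := build H (fun h => absurd hj h)
    refine ⟨hj1, i, n, h1, h4, h6, ?_, ?_⟩
    · rw [h2 _ (z_K H)]
      exact N.nt
    · intro e he
      rw [h2 _ (H.EK he), h2 _ (H.τK _ (H.EK he))]
      exact hn e he
  · right
    obtain ⟨n, M, nn⟩ := M₀.sq H
    rcases ha with rfl | ⟨hj, rfl⟩
    · right
      exact posO H M nn
    · left
      exact ⟨fun h => hj (h ▸ one_mem _), posW H M nn⟩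

/-- **extension to `Y`** for both complements (form of helper868) -/
theorem ext {K : KT Y} {K₀ : Subgroup Y} {i₀ : ↥K₀ →* G} {t f : G} (H : Pos0 K K₀ i₀ t f) (hj : K.j ∉ K₀) {f' : G}
    (hf' : f' = f ∨ f' = t * f) (hff : f' * f' = io i₀ K.z) :
    ∃ i : Y →* G, Function.Injective i ∧ (∀ (y : Y) (hy : y ∈ K₀), i y = i₀ ⟨y, hy⟩) ∧ i K.j = f' ∧
      (∀ y, t * i y = i y * t) ∧ (∀ y, i y ≠ t) ∧ ∀ c, c * t = t * c → ∃ y, c = i y ∨ c = t * i y := by
  rcases hf' with rfl | rfl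
  · obtain ⟨i, h1, h2, h3, h4, h5, h6⟩ := build H (fun _ => hff)
    exact ⟨i, h1, fun y hy => by rw [h2 y hy, io_eq hy], h3, h4, h5, h6⟩
  · have e : t * f = f * t := H.ft.symm
    have hff' : f * f = io i₀ K.z := by
      rw [← hff]
      calc f * f = (t * t) * f * f := by rw [H.tt, one_mul]
        _ = t * (t * f) * f := by group
        _ = t * (f * t) * f := by rw [e]
        _ = _ := by group
    obtain ⟨i, h1, h2, h3, h4, h5, h6⟩ := build (swap H hj hff') (fun _ => by rw [← e]; exact hff)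
    exact ⟨i, h1, fun y hy => by rw [h2 y hy, io_eq hy], by rw [h3, e], h4, h5, h6⟩

/-- **Section 1**, with the raw data in type W -/
theorem main' {K : KT Y} {K₀ : Subgroup Y} {i₀ : ↥K₀ →* G} {t f : G} (H : Pos0 K K₀ i₀ t f) :
    (K.j = 1 ∧ ∃ (i : Y →* G) (n : G), Function.Injective i ∧ (∀ y, t * i y = i y * t) ∧
      (∀ c, c * t = t * c → ∃ y, c = i y ∨ c = t * i y) ∧ n * t * n⁻¹ = t * i K.z ∧
      ∀ e ∈ K.E, n * i e * n⁻¹ = i (K.τ e)) ∨
    (K.j ∉ K₀ ∧ ∃ n : G, Nn K i₀ t n K.aw ∧ n * n = 1 ∧ f * f = io i₀ K.z ∧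
      (f⁻¹ * n * f = n ∨ f⁻¹ * n * f = n * io i₀ K.z)) ∨ ∃ (i : Y →* G) (n : G), Pos K i t n := by
  rcases types H with ⟨hj, n, N, hn⟩ | ⟨n₀, a, M₀, ha⟩
  · rcases main H with h | ⟨h, -⟩ | h
    · exact Or.inl h
    · exact absurd (f_cl H hj).1 h
    · exact Or.inr (Or.inr h)
  · rcases ha with rfl | ⟨hj, rfl⟩
    · obtain ⟨n, M, nn⟩ := M₀.sq H
      right; right
      exact posO H M nn
    · obtain ⟨n, M, nn⟩ := M₀.sq H
      obtain ⟨hf, -, -⟩ := out_facts H hj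
      exact Or.inr (Or.inl ⟨hj, n, M, nn, f_n H hf hj M nn⟩)

end Cfsg.Agent.OddHalf.D7Tits.SOne
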