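import Mathlib

/-!
# ODD D7, `K = ²F₄(2)'`: the group `Θ` (helper583; text bb ODD 15617, section 2 and 3.1; (S3) of bb ODD 15678)

`Th t A J V n` : the input. `A = A_z` (order `2⁵`), `J = C_G(A) ∩ C(t)` up to `⟨t⟩` (`J = A` in the clean case, `J = A⟨j⟩` in the
outer case), `V = D ∩ A` the points of `A`, `n v` the involutions with `t ^ (n v) = t v`, commuting with each other.

* `TH A V n = ⟨A, n v⟩` is elementary abelian of order `|A| ^ 2`, `C_Θ(t) = [Θ, t] = A`, `J` centralises `Θ`;
* `gamma` : `{y ∈ C(A) : [t, y] ∈ A} = Θ ⟨t⟩ J`;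
* `unique` : a `T`-invariant conjugate of `Θ` is `Θ`.
-/

set_option autoImplicit false

namespace Cfsg.Agent.OddHalf.D7Tits.Theta

variable {G : Type*} [Group G]

/-- Input for `Θ`. -/
structure Th (t : G) (A J : Subgroup G) (V : Set G) (n : G → G) : Prop where
  tt : t * t = 1
  tJ : ∀ j ∈ J, t * j = j * t
  tnJ : t ∉ J
  AJ : A ≤ J
  Asq : ∀ a ∈ A, a * a = 1
  JA : ∀ j ∈ J, ∀ a ∈ A, j * a = a * j
  Jsq : ∀ j ∈ J, j * j = 1 → j ∈ A
  cent : ∀ c, t * c = c * t → (∀ a ∈ A, c * a = a * c) → ∃ j ∈ J, c = j ∨ c = t * j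
  VA : V ⊆ A
  gen : A ≤ Subgroup.closure V
  nsq : ∀ v ∈ V, n v * n v = 1
  nt : ∀ v ∈ V, t * n v * t = n v * v
  nJ : ∀ v ∈ V, ∀ j ∈ J, n v * j = j * n v
  nn : ∀ v ∈ V, ∀ w ∈ V, n v * n w = n w * n v

/-- the group `Θ` -/
def TH (A : Subgroup G) (V : Set G) (n : G → G) : Subgroup G := Subgroup.closure ((A : Set G) ∪ n '' V)

/-- `Θ ^ g` -/
def cj (g : G) (H : Subgroup G) : Subgroup G := H.map (MulAut.conj g).toMonoidHom

theorem mem_cj {g x : G} {H : Subgroup G} : x ∈ cj g H ↔ g⁻¹ * x * g ∈ H := by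
  constructor
  · rintro ⟨y, hy, rfl⟩
    show g⁻¹ * (g * y * g⁻¹) * g ∈ H
    have e : g⁻¹ * (g * y * g⁻¹) * g = y := by group
    rwa [e]
  · intro h
    exact ⟨_, h, by show g * (g⁻¹ * x * g) * g⁻¹ = x; group⟩

theorem cj_cj (g h : G) (H : Subgroup G) : cj g (cj h H) = cj (g * h) H := by
  ext x
  rw [mem_cj, mem_cj, mem_cj]
  have e : h⁻¹ * (g⁻¹ * x * g) * h = (g * h)⁻¹ * x * (g * h) := by group
  rw [e]

theorem card_cj (g : G) (H : Subgroup G) : Nat.card (cj g H) = Nat.card H :=
  (Nat.card_congr (H.equivMapOfInjective _ (MulAut.conj g).injective).toEquiv).symm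

variable {t : G} {A J : Subgroup G} {V : Set G} {n : G → G}

theorem le_TH : A ≤ TH A V n := fun _ ha => Subgroup.subset_closure (Or.inl ha)

theorem n_mem {v : G} (hv : v ∈ V) : n v ∈ TH A V n := Subgroup.subset_closure (Or.inr ⟨v, hv, rfl⟩)

namespace Th

variable (h : Th t A J V n)

include h

theorem t_inv : t⁻¹ = t := inv_eq_of_mul_eq_one_left h.tt

/-- `t x t` -/
theorem conj_mul (a b : G) : t * (a * b) * t = (t * a * t) * (t * b * t) := by
  calc t * (a * b) * t = t * a * 1 * b * t := by group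
    _ = t * a * (t * t) * b * t := by rw [h.tt]
    _ = (t * a * t) * (t * b * t) := by group

theorem conj_conj (a : G) : t * (t * a * t) * t = a := by
  calc t * (t * a * t) * t = (t * t) * a * (t * t) := by group
    _ = a := by rw [h.tt, one_mul, mul_one]

theorem conj_inv (a : G) : t * a⁻¹ * t = (t * a * t)⁻¹ := by
  rw [mul_inv_rev, mul_inv_rev, h.t_inv, mul_assoc]

theorem conj_of_comm {a : G} (ha : t * a = a * t) : t * a * t = a := by
  rw [ha, mul_assoc, h.tt, mul_one]

theorem comm_of_conj {a : G} (ha : t * a * t = a) : t * a = a * t := by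
  have h1 : t * a * t * t = a * t := by rw [ha]
  rwa [mul_assoc (t * a), h.tt, mul_one] at h1

/-- `J` centralises `Θ` -/
theorem J_comm {x : G} (hx : x ∈ TH A V n) {j : G} (hj : j ∈ J) : x * j = j * x := by
  have h1 : TH A V n ≤ Subgroup.centralizer {j} := by
    rw [TH, Subgroup.closure_le]
    rintro y (hy | ⟨v, hv, rfl⟩)
    · exact Subgroup.mem_centralizer_singleton_iff.2 (h.JA j hj y hy).symm
    · exact Subgroup.mem_centralizer_singleton_iff.2 (h.nJ v hv j hj)
  exact Subgroup.mem_centralizer_singleton_iff.1 (h1 hx)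

/-- `Θ` is abelian -/
theorem comm {x y : G} (hx : x ∈ TH A V n) (hy : y ∈ TH A V n) : x * y = y * x := by
  have h1 : TH A V n ≤ Subgroup.centralizer {x} := by
    rw [TH, Subgroup.closure_le]
    rintro y (hy | ⟨v, hv, rfl⟩)
    · exact Subgroup.mem_centralizer_singleton_iff.2 (h.J_comm hx (h.AJ hy)).symm
    · have h2 : TH A V n ≤ Subgroup.centralizer {n v} := by
        rw [TH, Subgroup.closure_le]
        rintro y (hy | ⟨w, hw, rfl⟩)
        · exact Subgroup.mem_centralizer_singleton_iff.2 (h.nJ v hv y (h.AJ hy)).symm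
        · exact Subgroup.mem_centralizer_singleton_iff.2 (h.nn w hw v hv)
      exact Subgroup.mem_centralizer_singleton_iff.2 (Subgroup.mem_centralizer_singleton_iff.1 (h2 hx)).symm
  exact (Subgroup.mem_centralizer_singleton_iff.1 (h1 hy)).symm

/-- `Θ` is elementary abelian -/
theorem sq {x : G} (hx : x ∈ TH A V n) : x * x = 1 := by
  refine (Subgroup.closure_induction (p := fun x _ => x ∈ TH A V n ∧ x * x = 1) ?_ ⟨one_mem _, one_mul 1⟩ ?_ ?_ hx).2
  · rintro y (hy | ⟨v, hv, rfl⟩)
    · exact ⟨le_TH hy, h.Asq y hy⟩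
    · exact ⟨n_mem hv, h.nsq v hv⟩
  · rintro x y - - ⟨h1, h2⟩ ⟨h3, h4⟩
    refine ⟨mul_mem h1 h3, ?_⟩
    calc x * y * (x * y) = x * (y * x) * y := by group
      _ = (x * x) * (y * y) := by rw [h.comm h3 h1]; group
      _ = 1 := by rw [h2, h4, one_mul]
  · rintro x - ⟨h1, h2⟩
    refine ⟨inv_mem h1, ?_⟩
    rw [← mul_inv_rev, h2, inv_one]

theorem inv {x : G} (hx : x ∈ TH A V n) : x⁻¹ = x := inv_eq_of_mul_eq_one_left (h.sq hx)

/-- `t` normalises `Θ` -/
theorem t_mem {x : G} (hx : x ∈ TH A V n) : t * x * t ∈ TH A V n := by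
  have key : ∀ x ∈ TH A V n, t * x * t⁻¹ ∈ TH A V n := by
    have h1 : TH A V n ≤ (TH A V n).comap (MulAut.conj t).toMonoidHom := by
      rw [TH, Subgroup.closure_le]
      rintro y (hy | ⟨v, hv, rfl⟩)
      · show t * y * t⁻¹ ∈ TH A V n
        rw [h.tJ y (h.AJ hy), mul_inv_cancel_right]
        exact le_TH hy
      · show t * n v * t⁻¹ ∈ TH A V n
        rw [h.t_inv, h.nt v hv]
        exact mul_mem (n_mem hv) (le_TH (h.VA hv))
    exact h1
  have := key x hx
  rwa [h.t_inv] at this

/-- if `V ≠ ∅` consists of nontrivial elements then `t ∉ Θ` -/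
theorem t_notMem {v : G} (hv : v ∈ V) (hv1 : v ≠ 1) : t ∉ TH A V n := by
  intro ht
  have h1 := h.comm ht (n_mem (A := A) (n := n) hv)
  have h2 := h.conj_of_comm h1
  rw [h.nt v hv] at h2
  exact hv1 (mul_eq_left.1 h2)

/-- `C_Θ(t) = A` -/
theorem fix {x : G} (ht : t ∉ TH A V n) (hx : x ∈ TH A V n) (hxt : t * x = x * t) : x ∈ A := by
  obtain ⟨j, hj, rfl | rfl⟩ := h.cent x hxt fun a ha => h.comm hx (le_TH ha)
  · exact h.Jsq _ hj (h.sq hx)
  · exfalso
    have h1 := h.sq hx
    have h2 : t * j * (t * j) = j * j := by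
      calc t * j * (t * j) = t * (j * t) * j := by group
        _ = (t * t) * (j * j) := by rw [← h.tJ j hj]; group
        _ = j * j := by rw [h.tt, one_mul]
    rw [h2] at h1
    have h3 := h.Jsq j hj h1
    apply ht
    have e : t = t * j * j⁻¹ := by group
    rw [e]
    exact mul_mem hx (inv_mem (le_TH h3))

/-- `[Θ, t] ≤ A` -/
theorem brk {x : G} (ht : t ∉ TH A V n) (hx : x ∈ TH A V n) : x * (t * x * t) ∈ A := by
  refine h.fix ht (mul_mem hx (h.t_mem hx)) (h.comm_of_conj ?_)
  rw [h.conj_mul, h.conj_conj, h.comm (h.t_mem hx) hx]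

/-- `A = [Θ, t]` -/
theorem sur {a : G} (ha : a ∈ A) : ∃ x ∈ TH A V n, x * (t * x * t) = a := by
  have h1 := h.gen ha
  refine Subgroup.closure_induction (p := fun a _ => ∃ x ∈ TH A V n, x * (t * x * t) = a) ?_ ?_ ?_ ?_ h1
  · intro v hv
    exact ⟨n v, n_mem hv, by rw [h.nt v hv, ← mul_assoc, h.nsq v hv, one_mul]⟩
  · exact ⟨1, one_mem _, by rw [mul_one, h.tt, one_mul]⟩
  · rintro _ _ - - ⟨x, hx, rfl⟩ ⟨y, hy, rfl⟩
    refine ⟨x * y, mul_mem hx hy, ?_⟩
    rw [h.conj_mul]
    calc x * y * (t * x * t * (t * y * t)) = x * (y * (t * x * t)) * (t * y * t) := by group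
      _ = _ := by rw [h.comm hy (h.t_mem hx)]; group
  · rintro _ - ⟨x, hx, rfl⟩
    refine ⟨x⁻¹, inv_mem hx, ?_⟩
    rw [h.conj_inv, h.comm (inv_mem hx) (inv_mem (h.t_mem hx)), ← mul_inv_rev]

/-- `|Θ| = |A| ^ 2` -/
theorem card [Finite G] (ht : t ∉ TH A V n) : Nat.card (TH A V n) = Nat.card A * Nat.card A := by
  -- the homomorphism `x ↦ [x, t]`
  let f : TH A V n →* A :=
    { toFun := fun x => ⟨x * (t * x * t), h.brk ht x.2⟩
      map_one' := Subtype.ext (by show (1 : G) * (t * 1 * t) = 1; rw [mul_one, h.tt, one_mul])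
      map_mul' := fun x y => Subtype.ext (by
        show (x : G) * y * (t * (x * y) * t) = x * (t * x * t) * (y * (t * y * t))
        rw [h.conj_mul]
        calc (x : G) * y * (t * x * t * (t * y * t)) = x * (y * (t * x * t)) * (t * y * t) := by group
          _ = _ := by rw [h.comm y.2 (h.t_mem x.2)]; group) }
  have hf : Function.Surjective f := by
    rintro ⟨a, ha⟩
    obtain ⟨x, hx, e⟩ := h.sur ha
    exact ⟨⟨x, hx⟩, Subtype.ext e⟩
  have hk : Nat.card f.ker = Nat.card A := by
    refine Nat.card_congr ⟨fun x => ⟨(x : TH A V n), ?_⟩, fun a => ⟨⟨a, le_TH a.2⟩, ?_⟩, fun x => rfl, fun a => rfl⟩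
    · have h1 : (((x : TH A V n)) : G) * (t * ((x : TH A V n) : G) * t) = 1 := congrArg Subtype.val x.2
      refine h.fix ht (x : TH A V n).2 (h.comm_of_conj ?_)
      rw [← inv_eq_of_mul_eq_one_right h1, h.inv (x : TH A V n).2]
    · apply Subtype.ext
      show (a : G) * (t * a * t) = 1
      rw [h.conj_of_comm (h.tJ a (h.AJ a.2)), h.Asq a a.2]
  have h1 := Subgroup.card_mul_index f.ker
  have h2 : f.ker.index = Nat.card A := by
    rw [Subgroup.index_ker, MonoidHom.range_eq_top.2 hf, Subgroup.card_top]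
  rw [h2, hk] at h1
  exact h1.symm

/-- **`Γ = Θ ⟨t⟩ J`.** -/
theorem gamma {y : G} (hy : ∀ a ∈ A, y * a = a * y) (hyt : y⁻¹ * (t * y * t) ∈ A) :
    ∃ x ∈ TH A V n, ∃ j ∈ J, y = x * j ∨ y = x * (t * j) := by
  obtain ⟨x, hx, e⟩ := h.sur hyt
  have h1 : t * x * t = x⁻¹ * (y⁻¹ * (t * y * t)) := by rw [← e]; group
  have h2 : t * (x⁻¹ * y) * t = x⁻¹ * y := by
    rw [h.conj_mul, h.conj_inv, h1, mul_inv_rev, inv_inv]
    -- `[y, t] ∈ A` commutes with `x` and `y`
    have h3 : x * (y⁻¹ * (t * y * t)) = (y⁻¹ * (t * y * t)) * x := h.comm hx (le_TH hyt)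
    have h4 : y * (y⁻¹ * (t * y * t)) = (y⁻¹ * (t * y * t)) * y := hy _ hyt
    set a := y⁻¹ * (t * y * t) with ha
    have h5 : t * y * t = y * a := by rw [ha]; group
    rw [h5, h4]
    calc a⁻¹ * x * (a * y) = a⁻¹ * (x * a) * y := by group
      _ = x * y := by rw [h3]; group
      _ = x⁻¹ * y := by rw [h.inv hx]
  obtain ⟨j, hj, hc⟩ := h.cent (x⁻¹ * y) (h.comm_of_conj h2) fun a ha => by
    have h3 := h.comm (inv_mem hx) (le_TH ha)
    calc x⁻¹ * y * a = x⁻¹ * (y * a) := by group
      _ = (x⁻¹ * a) * y := by rw [hy a ha]; group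
      _ = a * (x⁻¹ * y) := by rw [h3]; group
  refine ⟨x, hx, j, hj, ?_⟩
  rcases hc with hc | hc
  · left; rw [← hc]; group
  · right; rw [← hc]; group

/-- an element normalising `A` and moving the `n v` into `Θ` normalises `Θ` -/
theorem norm_of {k : G} (hA : ∀ a ∈ A, k * a * k⁻¹ ∈ A) (hn : ∀ v ∈ V, k * n v * k⁻¹ ∈ TH A V n) :
    ∀ x ∈ TH A V n, k * x * k⁻¹ ∈ TH A V n := by
  have h1 : TH A V n ≤ (TH A V n).comap (MulAut.conj k).toMonoidHom := by
    rw [TH, Subgroup.closure_le]
    rintro y (hy | ⟨v, hv, rfl⟩)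
    · exact le_TH (hA y hy)
    · exact hn v hv
  exact h1

/-- `C_Θ(Q) = ⟨n z, z⟩` -/
theorem cent_Q {Q : Subgroup G} {z : G} (ht : t ∉ TH A V n) (hz : z ∈ V) (Qt : ∀ q ∈ Q, t * q = q * t)
    (Qn : ∀ q ∈ Q, q * n z = n z * q) (cQ : ∀ a ∈ A, (∀ q ∈ Q, q * a = a * q) → a = 1 ∨ a = z) {x : G}
    (hx : x ∈ TH A V n) (hQ : ∀ q ∈ Q, q * x = x * q) :
    (x = 1 ∨ x = z) ∨ (x = n z ∨ x = n z * z) := by
  have h1 : ∀ q ∈ Q, q * (x * (t * x * t)) = x * (t * x * t) * q := by
    intro q hq
    have e1 := hQ q hq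
    have e2 := Qt q hq
    calc q * (x * (t * x * t)) = (q * x) * t * x * t := by group
      _ = x * (q * t) * x * t := by rw [e1]; group
      _ = x * t * (q * x) * t := by rw [← e2]; group
      _ = x * t * x * (q * t) := by rw [e1]; group
      _ = x * (t * x * t) * q := by rw [← e2]; group
  rcases cQ _ (h.brk ht hx) h1 with h2 | h2
  · left
    apply cQ x _ hQ
    refine h.fix ht hx (h.comm_of_conj ?_)
    rw [← inv_eq_of_mul_eq_one_right h2, h.inv hx]
  · right
    have hxn : n z * x ∈ TH A V n := mul_mem (n_mem hz) hx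
    have h3 : n z * x ∈ A := by
      refine h.fix ht hxn (h.comm_of_conj ?_)
      have h4 : t * x * t = x * z := by
        have : t * x * t = x⁻¹ * (x * (t * x * t)) := by group
        rw [this, h2, h.inv hx]
      rw [h.conj_mul, h.nt z hz, h4, h.comm hx (le_TH (h.VA hz))]
      calc n z * z * (z * x) = n z * (z * z) * x := by group
        _ = n z * x := by rw [h.Asq z (h.VA hz)]; group
    have h5 : ∀ q ∈ Q, q * (n z * x) = n z * x * q := by
      intro q hq
      calc q * (n z * x) = (q * n z) * x := by group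
        _ = n z * (q * x) := by rw [Qn q hq]; group
        _ = n z * x * q := by rw [hQ q hq]; group
    have e : x = n z * (n z * x) := by rw [← mul_assoc, h.nsq z hz, one_mul]
    rcases cQ _ h3 h5 with h6 | h6
    · left; rw [h6, mul_one] at e; exact e
    · right; rw [h6] at e; exact e

end Th

/-! ### uniqueness -/

/-- The facts on `C_G(t)` for the uniqueness of `Θ`. -/
structure Un (t : G) (A T : Subgroup G) : Prop where
  /-- (K3) : no elementary abelian group of order `2 ^ 10` in `C(t)` contains `t` -/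
  rank : ∀ E : Subgroup G, (∀ x ∈ E, ∀ y ∈ E, x * y = y * x) → (∀ x ∈ E, x * x = 1) → t ∈ E → Nat.card E ≠ 2 ^ 10
  /-- (K2) -/
  norm : ∀ B : Subgroup G, (∀ x ∈ B, t * x = x * t) → (∀ x ∈ B, ∀ y ∈ B, x * y = y * x) → (∀ x ∈ B, x * x = 1) →
    t ∉ B → (∀ s ∈ T, ∀ x ∈ B, s * x * s⁻¹ ∈ B) → 2 ^ 5 ≤ Nat.card B → ∀ x ∈ B, x ∈ A ∨ t * x ∈ A
  Tt : ∀ s ∈ T, t * s = s * t
  card : Nat.card A = 2 ^ 5

theorem notMem_cj [Finite G] (h : Th t A J V n) {T : Subgroup G} (u : Un t A T) (ht : t ∉ TH A V n) (g : G) :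
    t ∉ cj g (TH A V n) := by
  intro h1
  refine u.rank _ ?_ ?_ h1 ?_
  · intro x hx y hy
    rw [mem_cj] at hx hy
    have h2 := h.comm hx hy
    calc x * y = g * ((g⁻¹ * x * g) * (g⁻¹ * y * g)) * g⁻¹ := by group
      _ = y * x := by rw [h2]; group
  · intro x hx
    rw [mem_cj] at hx
    have h2 := h.sq hx
    calc x * x = g * ((g⁻¹ * x * g) * (g⁻¹ * x * g)) * g⁻¹ := by group
      _ = 1 := by rw [h2]; group
  · rw [card_cj, h.card ht, u.card]; norm_num

/-- in an elementary abelian group `R` of order `2 ^ 10` normalised by `t`, `|C_R(t)| ≥ 2 ^ 5` -/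
theorem card_fix [Finite G] (tt : t * t = 1) {R : Subgroup G} (hc : ∀ x ∈ R, ∀ y ∈ R, x * y = y * x)
    (hR : ∀ x ∈ R, t * x * t ∈ R) (h2 : ∀ x ∈ R, x * x = 1) {m : ℕ} (hm : Nat.card R = m * m) :
    m ≤ Nat.card (R ⊓ Subgroup.centralizer {t} : Subgroup G) := by
  have e1 : ∀ a b : G, t * (a * b) * t = (t * a * t) * (t * b * t) := fun a b => by
    calc t * (a * b) * t = t * a * 1 * b * t := by group
      _ = t * a * (t * t) * b * t := by rw [tt]
      _ = (t * a * t) * (t * b * t) := by group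
  have e2 : ∀ a : G, t * (t * a * t) * t = a := fun a => by
    calc t * (t * a * t) * t = (t * t) * a * (t * t) := by group
      _ = a := by rw [tt, one_mul, mul_one]
  have e3 : ∀ a : G, t * a * t = a → a * t = t * a := fun a ha => by
    have h1 : t * a * t * t = a * t := by rw [ha]
    rw [mul_assoc (t * a), tt, mul_one] at h1
    exact h1.symm
  set B : Subgroup G := R ⊓ Subgroup.centralizer {t} with hB
  let f : R →* B :=
    { toFun := fun x => ⟨x * (t * x * t), Subgroup.mem_inf.2 ⟨mul_mem x.2 (hR x x.2), by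
        rw [Subgroup.mem_centralizer_singleton_iff]
        apply e3
        rw [e1, e2, hc _ (hR x x.2) _ x.2]⟩⟩
      map_one' := Subtype.ext (by show (1 : G) * (t * 1 * t) = 1; rw [mul_one, tt, one_mul])
      map_mul' := fun x y => Subtype.ext (by
        show (x : G) * y * (t * (x * y) * t) = x * (t * x * t) * (y * (t * y * t))
        rw [e1]
        calc (x : G) * y * (t * x * t * (t * y * t)) = x * (y * (t * x * t)) * (t * y * t) := by group
          _ = _ := by rw [hc y y.2 _ (hR x x.2)]; group) }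
  have hk : Nat.card f.ker ≤ Nat.card B := by
    refine Nat.card_le_card_of_injective (fun x => (⟨((x : R) : G), Subgroup.mem_inf.2 ⟨(x : R).2, ?_⟩⟩ : B)) ?_
    · have h1 : (((x : R)) : G) * (t * ((x : R) : G) * t) = 1 := congrArg Subtype.val x.2
      rw [Subgroup.mem_centralizer_singleton_iff]
      apply e3
      rw [← inv_eq_of_mul_eq_one_right h1, inv_eq_of_mul_eq_one_left (h2 _ (x : R).2)]
    · intro x y hxy
      exact Subtype.ext (Subtype.ext (congrArg (fun b : B => (b : G)) hxy))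
  have hr : f.ker.index ≤ Nat.card B := by
    rw [Subgroup.index_ker]
    exact Nat.card_le_card_of_injective _ f.range.subtype_injective
  have h1 := Subgroup.card_mul_index f.ker
  rw [hm] at h1
  by_contra hlt
  rw [not_le] at hlt
  have h3 : Nat.card f.ker * f.ker.index ≤ Nat.card B * Nat.card B := Nat.mul_le_mul hk hr
  have h4 : Nat.card B * Nat.card B < m * m := Nat.mul_lt_mul'' hlt hlt
  omega

/-- **A `T`-invariant conjugate of `Θ` is `Θ`.** -/
theorem unique [Finite G] (h : Th t A J V n) {T : Subgroup G} (u : Un t A T) (htT : t ∈ T) (ht : t ∉ TH A V n)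
    {g : G} (hg : ∀ s ∈ T, ∀ x ∈ cj g (TH A V n), s * x * s⁻¹ ∈ cj g (TH A V n)) :
    cj g (TH A V n) = TH A V n := by
  set R := cj g (TH A V n) with hR
  have Rc : ∀ x ∈ R, ∀ y ∈ R, x * y = y * x := by
    intro x hx y hy
    rw [hR, mem_cj] at hx hy
    have h2 := h.comm hx hy
    calc x * y = g * ((g⁻¹ * x * g) * (g⁻¹ * y * g)) * g⁻¹ := by group
      _ = y * x := by rw [h2]; group
  have Rs : ∀ x ∈ R, x * x = 1 := by
    intro x hx
    rw [hR, mem_cj] at hx
    have h2 := h.sq hx
    calc x * x = g * ((g⁻¹ * x * g) * (g⁻¹ * x * g)) * g⁻¹ := by group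
      _ = 1 := by rw [h2]; group
  have hcard : Nat.card (TH A V n) = 2 ^ 5 * 2 ^ 5 := by rw [h.card ht, u.card]
  have hcR : Nat.card R = 2 ^ 5 * 2 ^ 5 := by rw [hR, card_cj, hcard]
  have Rt : ∀ x ∈ R, t * x * t ∈ R := fun x hx => by
    have := hg t htT x hx
    rwa [h.t_inv] at this
  set B : Subgroup G := R ⊓ Subgroup.centralizer {t} with hB
  have hBc : 2 ^ 5 ≤ Nat.card B := card_fix h.tt Rc Rt Rs hcR
  have hBt : ∀ x ∈ B, t * x = x * t := fun x hx => (Subgroup.mem_centralizer_singleton_iff.1 hx.2).symm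
  have htR : t ∉ R := notMem_cj h u ht g
  have hK := u.norm B hBt (fun x hx y hy => Rc x hx.1 y hy.1) (fun x hx => Rs x hx.1) (fun h1 => htR h1.1)
    (fun s hs x hx => Subgroup.mem_inf.2 ⟨hg s hs x hx.1, by
      rw [Subgroup.mem_centralizer_singleton_iff]
      have e1 := u.Tt s hs
      have e2 := hBt x hx
      have e3 : s⁻¹ * t = t * s⁻¹ := by rw [inv_mul_eq_iff_eq_mul, ← mul_assoc, ← e1, mul_inv_cancel_right]
      calc s * x * s⁻¹ * t = s * x * (s⁻¹ * t) := by group
        _ = s * (x * t) * s⁻¹ := by rw [e3]; group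
        _ = (s * t) * x * s⁻¹ := by rw [← e2]; group
        _ = t * (s * x * s⁻¹) := by rw [← e1]; group⟩) hBc
  -- the bijection `B → A`
  have hBA : ∀ a ∈ A, a ∈ B ∨ t * a ∈ B := by
    classical
    let φ : B → A := fun x => if hx : (x : G) ∈ A then ⟨x, hx⟩ else ⟨t * x, (hK x x.2).resolve_left hx⟩
    have hφ : Function.Injective φ := by
      intro x y hxy
      simp only [φ] at hxy
      split_ifs at hxy with h1 h2 h2
      · exact Subtype.ext (congrArg (fun a : A => (a : G)) hxy)
      · exfalso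
        have e : (x : G) = t * y := congrArg (fun a : A => (a : G)) hxy
        apply htR
        have e2 : t = x * (y : G)⁻¹ := by rw [e]; group
        rw [e2]
        exact mul_mem x.2.1 (inv_mem y.2.1)
      · exfalso
        have e : t * (x : G) = y := congrArg (fun a : A => (a : G)) hxy
        apply htR
        have e2 : t = y * (x : G)⁻¹ := by rw [← e]; group
        rw [e2]
        exact mul_mem y.2.1 (inv_mem x.2.1)
      · exact Subtype.ext (mul_left_cancel (congrArg (fun a : A => (a : G)) hxy))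
    have hs : Function.Surjective φ := by
      have h1 : Nat.card A ≤ Nat.card B := by rw [u.card]; exact hBc
      exact (Function.Injective.bijective_of_nat_card_le hφ h1).2
    intro a ha
    obtain ⟨x, hx⟩ := hs ⟨a, ha⟩
    simp only [φ] at hx
    split_ifs at hx with h1
    · left
      have e : (x : G) = a := congrArg (fun a : A => (a : G)) hx
      rw [← e]; exact x.2
    · right
      have e : t * (x : G) = a := congrArg (fun a : A => (a : G)) hx
      rw [← e, ← mul_assoc, h.tt, one_mul]; exact x.2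
  have hAR : A ≤ B := by
    refine h.gen.trans ((Subgroup.closure_le _).2 fun v hv => ?_)
    rcases hBA v (h.VA hv) with h1 | h1
    · exact h1
    · exfalso
      apply notMem_cj h u ht ((n v) * g)
      rw [← cj_cj, mem_cj]
      have h2 : (n v)⁻¹ * t * n v = t * v := by
        have e1 := h.nt v hv
        have e2 : (n v)⁻¹ = n v := inv_eq_of_mul_eq_one_left (h.nsq v hv)
        have e3 : t * n v = n v * v * t := by
          calc t * n v = t * n v * (t * t) := by rw [h.tt, mul_one]
            _ = (t * n v * t) * t := by group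
            _ = n v * v * t := by rw [e1]
        rw [mul_assoc, e3, ← mul_assoc, ← mul_assoc, inv_mul_cancel, one_mul]
        exact (h.tJ v (h.AJ (h.VA hv))).symm
      rw [h2]
      exact h1.1
  have hBA' : B = A := by
    symm
    apply Subgroup.eq_of_le_of_card_ge hAR
    -- `|B| ≤ |A|`
    classical
    let φ : B → A := fun x => if hx : (x : G) ∈ A then ⟨x, hx⟩ else ⟨t * x, (hK x x.2).resolve_left hx⟩
    refine Nat.card_le_card_of_injective φ ?_
    intro x y hxy
    simp only [φ] at hxy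
    split_ifs at hxy with h1 h2 h2
    · exact Subtype.ext (congrArg (fun a : A => (a : G)) hxy)
    · exfalso
      have e : (x : G) = t * y := congrArg (fun a : A => (a : G)) hxy
      apply htR
      have e2 : t = x * (y : G)⁻¹ := by rw [e]; group
      rw [e2]
      exact mul_mem x.2.1 (inv_mem y.2.1)
    · exfalso
      have e : t * (x : G) = y := congrArg (fun a : A => (a : G)) hxy
      apply htR
      have e2 : t = y * (x : G)⁻¹ := by rw [← e]; group
      rw [e2]
      exact mul_mem y.2.1 (inv_mem x.2.1)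
    · exact Subtype.ext (mul_left_cancel (congrArg (fun a : A => (a : G)) hxy))
  -- the elements of `R`
  have hform : ∀ y ∈ R, ∃ x ∈ TH A V n, ∃ j ∈ J, y = x * j ∨ y = x * (t * j) := by
    intro y hy
    refine h.gamma (fun a ha => Rc y hy a (hAR ha).1) ?_
    rw [← hBA']
    have hy' : y⁻¹ = y := inv_eq_of_mul_eq_one_left (Rs y hy)
    refine Subgroup.mem_inf.2 ⟨mul_mem (inv_mem hy) (Rt y hy), ?_⟩
    rw [Subgroup.mem_centralizer_singleton_iff]
    refine (h.comm_of_conj ?_).symm
    rw [h.conj_mul, hy', h.conj_conj]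
    exact Rc _ (Rt y hy) y hy
  have h0 : ∀ x ∈ TH A V n, ∀ j ∈ J, x * j ∈ R → x * j ∈ TH A V n := by
    intro x hx j hj hR
    have h1 := Rs _ hR
    have h2 : x * j * (x * j) = (x * x) * (j * j) := by
      calc x * j * (x * j) = x * (j * x) * j := by group
        _ = (x * x) * (j * j) := by rw [← h.J_comm hx hj]; group
    rw [h2, h.sq hx, one_mul] at h1
    exact mul_mem hx (le_TH (h.Jsq j hj h1))
  have hle : R ≤ TH A V n := by
    intro y hy
    obtain ⟨x, hx, j, hj, e | e⟩ := hform y hy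
    · rw [e]
      exact h0 x hx j hj (e ▸ hy)
    · -- `y = x t j`
      exfalso
      -- `R ∩ Θ ≤ A`
      have h1 : R ⊓ TH A V n ≤ A := by
        intro w hw
        refine h.fix ht hw.2 ?_
        have h2 := Rc y hy w hw.1
        have h3 := h.comm hx hw.2
        have h4 := h.J_comm hw.2 hj
        rw [e] at h2
        have h5 : x * (t * w * j) = x * (w * t * j) := by
          calc x * (t * w * j) = x * t * (w * j) := by group
            _ = x * (t * j) * w := by rw [h4]; group
            _ = w * (x * (t * j)) := h2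
            _ = (w * x) * t * j := by group
            _ = x * (w * t * j) := by rw [← h3]; group
        exact mul_right_cancel (mul_left_cancel h5)
      -- index at most two
      have h2 : (R : Set G) ⊆ (R ⊓ TH A V n : Subgroup G) ∪ (fun w => y * w) '' (R ⊓ TH A V n : Subgroup G) := by
        intro w hw
        obtain ⟨x', hx', j', hj', e' | e'⟩ := hform w hw
        · left
          exact ⟨hw, by rw [e']; exact h0 x' hx' j' hj' (e' ▸ hw)⟩
        · right
          refine ⟨y⁻¹ * w, ?_, by group⟩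
          have hyw : y * w ∈ R := mul_mem hy hw
          have hyi : y⁻¹ = y := inv_eq_of_mul_eq_one_left (Rs y hy)
          have e3 : y * w = (x * (t * x' * t)) * (j * j') := by
            rw [e, e']
            have h6 := h.J_comm hx' hj
            have h7 := h.tJ j hj
            calc x * (t * j) * (x' * (t * j')) = x * t * (j * x') * t * j' := by group
              _ = x * t * x' * (j * t) * j' := by rw [← h6]; group
              _ = (x * (t * x' * t)) * (j * j') := by rw [← h7]; group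
          refine Subgroup.mem_inf.2 ⟨mul_mem (inv_mem hy) hw, ?_⟩
          rw [hyi]
          have h8 : (x * (t * x' * t)) * (j * j') ∈ R := by rw [← e3]; exact hyw
          rw [e3]
          exact h0 _ (mul_mem hx (h.t_mem hx')) _ (mul_mem hj hj') h8
      have h3 : Nat.card R ≤ 2 ^ 5 + 2 ^ 5 := by
        have h4 : Nat.card (R ⊓ TH A V n : Subgroup G) ≤ 2 ^ 5 := by
          rw [← u.card]
          exact Subgroup.card_le_of_le h1
        have h5 : (R : Set G).ncard ≤ _ := Set.ncard_le_ncard h2 (Set.toFinite _)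
        have h6 := Set.ncard_union_le ((R ⊓ TH A V n : Subgroup G) : Set G)
          ((fun w => y * w) '' (R ⊓ TH A V n : Subgroup G))
        have h7 : ((fun w => y * w) '' ((R ⊓ TH A V n : Subgroup G) : Set G)).ncard ≤
          ((R ⊓ TH A V n : Subgroup G) : Set G).ncard := Set.ncard_image_le (Set.toFinite _)
        have h8 : ((R ⊓ TH A V n : Subgroup G) : Set G).ncard = Nat.card (R ⊓ TH A V n : Subgroup G) := rfl
        have h9 : (R : Set G).ncard = Nat.card R := rfl
        omega
      rw [hcR] at h3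
      norm_num at h3
  exact Subgroup.eq_of_le_of_card_ge hle (by rw [hcard, hcR])

end Cfsg.Agent.OddHalf.D7Tits.Theta
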