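import Cfsg.Agent.OddHalf.D7Tits.ThetaNN
import Cfsg.Agent.OddHalf.D7Tits.Theta
import Cfsg.Agent.OddHalf.D7Tits.Defs

/-!
# ODD D7, `K` = Tits: section 2 for the position `Pos` (helper927)

* `hyp` : `Pos K i t n` gives `ThetaHyp.Hyp`;
* `nn_comm` : the conjugates `n ^ g`, `z ^ g` a point of `A`, commute with each other;
* `exists_Th` : the input `Theta.Th` of helper583's file.
-/

set_option autoImplicit false

namespace Cfsg.Agent.OddHalf.D7Tits.ThetaPos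

open Cfsg.Agent.OddHalf.D7Tits.Defs Cfsg.Agent.OddHalf.D7Tits.ThetaHyp

open scoped commutatorElement

universe u v

variable {Y : Type u} [Group Y] {G : Type v} [Group G]

section K

variable (K : KT Y)

theorem A_inv {a : Y} (ha : a ∈ K.A) : a⁻¹ = a := by
  rw [inv_eq_iff_mul_eq_one]; exact K.sq_A a ha

theorem A_comm {a b : Y} (ha : a ∈ K.A) (hb : b ∈ K.A) : a * b = b * a := by
  have h1 := K.sq_A _ (K.A.mul_mem ha hb)
  calc a * b = (a * b)⁻¹ := by rw [eq_comm, inv_eq_iff_mul_eq_one]; exact h1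
    _ = b⁻¹ * a⁻¹ := mul_inv_rev a b
    _ = b * a := by rw [A_inv K ha, A_inv K hb]

theorem pwA {a : Y} (ha : a ∈ K.A) (b : Bool) : pw a b ∈ K.A := by
  cases b
  · exact K.A.one_mem
  · exact ha

/-- the elements of `A` -/
def F (a c0 c1 c2 c3 : Bool) : Y :=
  pw K.z a * (pw (K.q 0) c0 * (pw (K.q 1) c1 * (pw (K.q 2) c2 * pw (K.q 3) c3)))

theorem F_mem (a c0 c1 c2 c3 : Bool) : F K a c0 c1 c2 c3 ∈ K.A :=
  mul_mem (pwA K K.z_A a) (mul_mem (pwA K (K.q_A 0) c0) (mul_mem (pwA K (K.q_A 1) c1)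
    (mul_mem (pwA K (K.q_A 2) c2) (pwA K (K.q_A 3) c3))))

theorem F_mul (a c0 c1 c2 c3 a' c0' c1' c2' c3' : Bool) : F K a c0 c1 c2 c3 * F K a' c0' c1' c2' c3' =
    F K (a ^^ a') (c0 ^^ c0') (c1 ^^ c1') (c2 ^^ c2') (c3 ^^ c3') := by
  have mm : ∀ {p r p' r' : Y}, r ∈ K.A → p' ∈ K.A → p * r * (p' * r') = (p * p') * (r * r') := by
    intro p r p' r' hr hp
    exact Commute.mul_mul_mul_comm (A_comm K hr hp) p r'
  have hq : ∀ i, K.q i * K.q i = 1 := fun i => K.sq_A _ (K.q_A i)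
  unfold F
  rw [mm (mul_mem (pwA K (K.q_A 0) c0) (mul_mem (pwA K (K.q_A 1) c1) (mul_mem (pwA K (K.q_A 2) c2)
      (pwA K (K.q_A 3) c3)))) (pwA K K.z_A a'), pw_mul K.zz,
    mm (mul_mem (pwA K (K.q_A 1) c1) (mul_mem (pwA K (K.q_A 2) c2) (pwA K (K.q_A 3) c3))) (pwA K (K.q_A 0) c0'),
    pw_mul (hq 0), mm (mul_mem (pwA K (K.q_A 2) c2) (pwA K (K.q_A 3) c3)) (pwA K (K.q_A 1) c1'), pw_mul (hq 1),
    mm (pwA K (K.q_A 3) c3) (pwA K (K.q_A 2) c2'), pw_mul (hq 2), pw_mul (hq 3)]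

theorem F_one : F K false false false false false = 1 := by simp [F, pw]

theorem q4_eq' : K.q 4 = F K false true true true true := by
  have h1 := K.q_prod
  have h2 : K.q 4 = (K.q 0 * K.q 1 * K.q 2 * K.q 3)⁻¹ := eq_inv_of_mul_eq_one_right h1
  rw [h2, A_inv K (mul_mem (mul_mem (mul_mem (K.q_A 0) (K.q_A 1)) (K.q_A 2)) (K.q_A 3))]
  simp [F, pw, mul_assoc]

theorem exists_F {a : Y} (ha : a ∈ K.A) : ∃ b c0 c1 c2 c3, a = F K b c0 c1 c2 c3 := by
  have h := K.A_gen ha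
  induction h using Subgroup.closure_induction with
  | mem y hy =>
    rcases hy with rfl | ⟨i, rfl⟩
    · exact ⟨true, false, false, false, false, by simp [F, pw]⟩
    · rcases five i with rfl | rfl | rfl | rfl | rfl
      · exact ⟨false, true, false, false, false, by simp [F, pw]⟩
      · exact ⟨false, false, true, false, false, by simp [F, pw]⟩
      · exact ⟨false, false, false, true, false, by simp [F, pw]⟩
      · exact ⟨false, false, false, false, true, by simp [F, pw]⟩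
      · exact ⟨_, _, _, _, _, q4_eq' K⟩
  | one => exact ⟨_, _, _, _, _, (F_one K).symm⟩
  | mul a b ha' hb' iha ihb =>
    have h1 : Subgroup.closure ({K.z} ∪ Set.range K.q) ≤ K.A := by
      rw [Subgroup.closure_le]
      rintro y (rfl | ⟨i, rfl⟩)
      · exact K.z_A
      · exact K.q_A i
    obtain ⟨_, _, _, _, _, rfl⟩ := iha (h1 ha')
    obtain ⟨_, _, _, _, _, rfl⟩ := ihb (h1 hb')
    exact ⟨_, _, _, _, _, F_mul K _ _ _ _ _ _ _ _ _ _⟩
  | inv a ha' iha =>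
    have h1 : a ∈ K.A := by
      have := K.A.inv_mem ha
      rwa [inv_inv] at this
    rw [A_inv K h1]
    exact iha h1

theorem indep_Y (a c0 c1 c2 c3 : Bool) (h : F K a c0 c1 c2 c3 = 1) :
    a = false ∧ c0 = false ∧ c1 = false ∧ c2 = false ∧ c3 = false := by
  obtain ⟨f, hf⟩ : ∃ f : Bool × Bool × Bool × Bool × Bool → K.A,
      f = fun b => ⟨F K b.1 b.2.1 b.2.2.1 b.2.2.2.1 b.2.2.2.2, F_mem K _ _ _ _ _⟩ := ⟨_, rfl⟩
  have hs : Function.Surjective f := by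
    rintro ⟨a, ha⟩
    obtain ⟨b, c0, c1, c2, c3, rfl⟩ := exists_F K ha
    exact ⟨(b, c0, c1, c2, c3), by rw [hf]⟩
  have hi : Function.Injective f := by
    have h1 : Nat.card (Bool × Bool × Bool × Bool × Bool) ≤ Nat.card K.A := by
      rw [K.card_A]; simp
    exact (Function.Surjective.bijective_of_nat_card_le hs h1).1
  have h2 : f (a, c0, c1, c2, c3) = f (false, false, false, false, false) := by
    rw [hf]
    apply Subtype.ext
    show F K a c0 c1 c2 c3 = F K false false false false false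
    rw [h, F_one]
  have h3 := hi h2
  simpa using h3

/-- `j` centralises `A` -/
theorem j_A {a : Y} (ha : a ∈ K.A) : K.j * a = a * K.j := by
  rcases K.j_or with h | ⟨-, h⟩
  · rw [h, one_mul, mul_one]
  · have h1 := K.τA a ha
    rwa [h, mul_inv_eq_iff_eq_mul] at h1

/-- `B = A ⟨j⟩` -/
def BB : Subgroup Y where
  carrier := {y | ∃ a ∈ K.A, ∃ l : ℤ, y = a * K.j ^ l}
  one_mem' := ⟨1, one_mem _, 0, by rw [zpow_zero, mul_one]⟩
  mul_mem' := by
    rintro _ _ ⟨a, ha, l, rfl⟩ ⟨b, hb, l', rfl⟩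
    refine ⟨a * b, mul_mem ha hb, l + l', ?_⟩
    have h1 : K.j ^ l * b = b * K.j ^ l := (show Commute K.j b from j_A K hb).zpow_left l
    rw [zpow_add]
    calc a * K.j ^ l * (b * K.j ^ l') = a * (K.j ^ l * b) * K.j ^ l' := by simp only [mul_assoc]
      _ = a * b * (K.j ^ l * K.j ^ l') := by rw [h1]; simp only [mul_assoc]
  inv_mem' := by
    rintro _ ⟨a, ha, l, rfl⟩
    refine ⟨a⁻¹, inv_mem ha, -l, ?_⟩
    have h1 : K.j ^ (-l) * a⁻¹ = a⁻¹ * K.j ^ (-l) := (show Commute K.j a⁻¹ from j_A K (inv_mem ha)).zpow_left (-l)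
    rw [mul_inv_rev, ← zpow_neg, h1]

theorem mem_BB {y : Y} : y ∈ BB K ↔ ∃ a ∈ K.A, ∃ l : ℤ, y = a * K.j ^ l := Iff.rfl

theorem A_le_BB : K.A ≤ BB K := fun a ha => ⟨a, ha, 0, by rw [zpow_zero, mul_one]⟩

theorem BB_A {w : Y} (hw : w ∈ BB K) {a : Y} (ha : a ∈ K.A) : w * a = a * w := by
  obtain ⟨b, hb, l, rfl⟩ := hw
  have h1 : K.j ^ l * a = a * K.j ^ l := (show Commute K.j a from j_A K ha).zpow_left l
  rw [mul_assoc, h1, ← mul_assoc, A_comm K hb ha, mul_assoc]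

theorem z_zpow (l : ℤ) : (Even l ∧ K.z ^ l = 1) ∨ (Odd l ∧ K.z ^ l = K.z) := by
  have h2 : K.z ^ (2 : ℤ) = 1 := by rw [zpow_two]; exact K.zz
  rcases Int.even_or_odd l with h | h
  · left
    refine ⟨h, ?_⟩
    obtain ⟨k, hk⟩ := h.two_dvd
    rw [hk, zpow_mul, h2, one_zpow]
  · right
    refine ⟨h, ?_⟩
    obtain ⟨k, rfl⟩ := h
    rw [zpow_add, zpow_mul, h2, one_zpow, one_mul, zpow_one]

theorem BB_sq' {a : Y} (ha : a ∈ K.A) (l : ℤ) : a * K.j ^ l * (a * K.j ^ l) = (K.j * K.j) ^ l := by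
  have h1 : K.j ^ l * a = a * K.j ^ l := (show Commute K.j a from j_A K ha).zpow_left l
  calc a * K.j ^ l * (a * K.j ^ l) = a * (K.j ^ l * a) * K.j ^ l := by simp only [mul_assoc]
    _ = (a * a) * (K.j ^ l * K.j ^ l) := by rw [h1]; simp only [mul_assoc]
    _ = (K.j * K.j) ^ l := by rw [K.sq_A a ha, one_mul, (Commute.refl K.j).mul_zpow]

theorem BB_sq {w : Y} (hw : w ∈ BB K) : w * w = 1 ∨ w * w = K.z := by
  obtain ⟨a, ha, l, rfl⟩ := hw
  rw [BB_sq' K ha l]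
  rcases K.j_or with h | ⟨h, -⟩
  · left; rw [h, one_mul, one_zpow]
  · rw [h]
    rcases z_zpow K l with ⟨-, h1⟩ | ⟨-, h1⟩
    · exact Or.inl h1
    · exact Or.inr h1

theorem BB_one {w : Y} (hw : w ∈ BB K) (h0 : w * w = 1) : w ∈ K.A := by
  obtain ⟨a, ha, l, rfl⟩ := hw
  rw [BB_sq' K ha l] at h0
  rcases K.j_or with h | ⟨h, -⟩
  · rw [h, one_zpow, mul_one]; exact ha
  · rw [h] at h0
    rcases z_zpow K l with ⟨h1, -⟩ | ⟨-, h1⟩
    · obtain ⟨k, rfl⟩ := h1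
      rw [zpow_add, ← (Commute.refl K.j).mul_zpow, h]
      exact mul_mem ha (zpow_mem K.z_A k)
    · rw [h1] at h0
      exact absurd h0 K.z1

/-- the square of `j` is in `E`, and `j ∈ P` -/
theorem z_P : K.z ∈ K.P := (K.mem_P _).2 rfl

theorem z_E : K.z ∈ K.E := K.Q_le_E (K.A_le_Q K.z_A)

theorem BB_conj {g : Y} (hg : g⁻¹ * K.z * g ∈ K.A) {w : Y} (hw : w ∈ BB K) :
    g * w * g⁻¹ ∈ K.P ∧ (g * w * g⁻¹) * (g * w * g⁻¹) ∈ K.E := by
  constructor
  · rw [K.mem_P]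
    have h1 := BB_A K hw hg
    calc g * w * g⁻¹ * K.z = g * (w * (g⁻¹ * K.z * g)) * g⁻¹ := by group
      _ = K.z * (g * w * g⁻¹) := by rw [h1]; group
  · have h1 : (g * w * g⁻¹) * (g * w * g⁻¹) = g * (w * w) * g⁻¹ := by group
    rw [h1]
    rcases BB_sq K hw with h | h
    · rw [h, mul_one, mul_inv_cancel]; exact one_mem _
    · rw [h]
      exact K.Q_le_E (K.A_le_Q (K.sym g hg))

end K

variable {K : KT Y} {i : Y →* G} {t n : G}

/-- the involutions `n_v` -/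
def NN (K : KT Y) (i : Y →* G) (n : G) (v y : G) : Prop :=
  ∃ g : Y, v = i (g⁻¹ * K.z * g) ∧ (y = (i g)⁻¹ * n * i g ∨ y = (i g)⁻¹ * n * i g * v)

section Pos

variable (H : Pos K i t n)

include H

/-- `n ^ g` is determined by `z ^ g` up to `z ^ g` -/
theorem n_uniq {g g' : Y} (h : g⁻¹ * K.z * g = g'⁻¹ * K.z * g') :
    (i g')⁻¹ * n * i g' = (i g)⁻¹ * n * i g ∨ (i g')⁻¹ * n * i g' = (i g)⁻¹ * n * i g * i (g⁻¹ * K.z * g) := by
  have hp : g' * g⁻¹ ∈ K.P := by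
    rw [K.mem_P]
    calc g' * g⁻¹ * K.z = g' * (g⁻¹ * K.z * g) * g⁻¹ := by group
      _ = K.z * (g' * g⁻¹) := by rw [h]; group
  have e : i g' = i (g' * g⁻¹) * i g := by rw [← map_mul, inv_mul_cancel_right]
  have e1 : (i g')⁻¹ * n * i g' = (i g)⁻¹ * ((i (g' * g⁻¹))⁻¹ * n * i (g' * g⁻¹)) * i g := by
    rw [e]; simp only [map_mul, map_inv]; group
  rw [e1]
  rcases H.nP _ hp with h1 | h1
  · left; rw [h1]
  · right; rw [h1, map_mul, map_mul, map_inv]; group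

theorem n_sq (g : Y) : (i g)⁻¹ * n * i g * ((i g)⁻¹ * n * i g) = 1 := by
  calc (i g)⁻¹ * n * i g * ((i g)⁻¹ * n * i g) = (i g)⁻¹ * (n * n) * i g := by group
    _ = 1 := by rw [H.nn]; group

theorem n_z (g : Y) : (i g)⁻¹ * n * i g * i (g⁻¹ * K.z * g) = i (g⁻¹ * K.z * g) * ((i g)⁻¹ * n * i g) := by
  rw [map_mul, map_mul, map_inv]
  calc (i g)⁻¹ * n * i g * ((i g)⁻¹ * i K.z * i g) = (i g)⁻¹ * (n * i K.z) * i g := by group
    _ = (i g)⁻¹ * i K.z * i g * ((i g)⁻¹ * n * i g) := by rw [H.nz]; group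

omit H in
theorem v_sq (K : KT Y) (i : Y →* G) (g : Y) : i (g⁻¹ * K.z * g) * i (g⁻¹ * K.z * g) = 1 := by
  rw [← map_mul]
  have : g⁻¹ * K.z * g * (g⁻¹ * K.z * g) = g⁻¹ * (K.z * K.z) * g := by group
  rw [this, K.zz, mul_one, inv_mul_cancel, map_one]

theorem n_t (g : Y) : (i g)⁻¹ * n * i g * t * ((i g)⁻¹ * n * i g)⁻¹ = t * i (g⁻¹ * K.z * g) := by
  have h1 : n * t * n⁻¹ = t * i K.z := by
    have h2 : n * (t * n * t) * t = t * i K.z := by
      have h3 : i K.z * t = t * i K.z := (H.ti _).symm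
      rw [H.nt, ← mul_assoc, H.nn, one_mul, h3]
    have h4 : n * (t * n * t) * t = n * t * n * (t * t) := by group
    rw [h4, H.tt, mul_one] at h2
    rw [H.n_inv]; exact h2
  have h5 : i g * t * (i g)⁻¹ = t := by rw [← H.ti]; group
  have h6 : (i g)⁻¹ * t * i g = t := by rw [mul_assoc, H.ti]; group
  calc (i g)⁻¹ * n * i g * t * ((i g)⁻¹ * n * i g)⁻¹ = (i g)⁻¹ * (n * (i g * t * (i g)⁻¹) * n⁻¹) * i g := by group
    _ = ((i g)⁻¹ * t * i g) * ((i g)⁻¹ * i K.z * i g) := by rw [h5, h1]; group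
    _ = t * i (g⁻¹ * K.z * g) := by rw [h6, map_mul, map_mul, map_inv]

/-- `n ^ g` centralises `A ⟨j⟩` -/
theorem n_BB {g : Y} (hg : g⁻¹ * K.z * g ∈ K.A) {w : Y} (hw : w ∈ BB K) :
    (i g)⁻¹ * n * i g * i w = i w * ((i g)⁻¹ * n * i g) := by
  obtain ⟨h1, h2⟩ := BB_conj K hg hw
  have h3 := H.nP' _ h1 h2
  have e : i w = (i g)⁻¹ * i (g * w * g⁻¹) * i g := by
    simp only [map_mul, map_inv]; group
  rw [e]
  calc (i g)⁻¹ * n * i g * ((i g)⁻¹ * i (g * w * g⁻¹) * i g) = (i g)⁻¹ * (n * i (g * w * g⁻¹)) * i g := by group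
    _ = (i g)⁻¹ * i (g * w * g⁻¹) * i g * ((i g)⁻¹ * n * i g) := by rw [h3]; group

omit H in
theorem isPt_mem {y : Y} (h : IsPt K.z K.q y) : y ∈ K.A := by
  rcases h with rfl | ⟨k, rfl | rfl⟩
  · exact K.z_A
  · exact K.q_A k
  · exact mul_mem K.z_A (K.q_A k)

omit H in
theorem isPt_map {v : G} (h : IsPt (i K.z) (fun k => i (K.q k)) v) : ∃ y, IsPt K.z K.q y ∧ v = i y := by
  rcases h with rfl | ⟨k, rfl | rfl⟩
  · exact ⟨_, Or.inl rfl, rfl⟩
  · exact ⟨_, Or.inr ⟨k, Or.inl rfl⟩, rfl⟩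
  · exact ⟨_, Or.inr ⟨k, Or.inr rfl⟩, (map_mul i _ _).symm⟩

omit H in
theorem map_isPt {y : Y} (h : IsPt K.z K.q y) : IsPt (i K.z) (fun k => i (K.q k)) (i y) := by
  rcases h with rfl | ⟨k, rfl | rfl⟩
  · exact Or.inl rfl
  · exact Or.inr ⟨k, Or.inl rfl⟩
  · exact Or.inr ⟨k, Or.inr (map_mul i _ _)⟩

theorem NN_uniq {v y y' : G} (h : NN K i n v y) (h' : NN K i n v y') : y' = y ∨ y' = y * v := by
  obtain ⟨g, hv, hy⟩ := h
  obtain ⟨g', hv', hy'⟩ := h'
  have h1 : g⁻¹ * K.z * g = g'⁻¹ * K.z * g' := H.inj (hv.symm.trans hv')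
  have h2 := n_uniq H h1
  have h3 := v_sq K i g
  rw [← hv] at h2 h3
  have e : ∀ a : G, a * v * v = a := fun a => by rw [mul_assoc, h3, mul_one]
  rcases h2 with h2 | h2 <;> rcases hy with rfl | rfl <;> rcases hy' with rfl | rfl <;> simp only [h2, e, true_or, or_true]

theorem NN_z {y : G} (h : NN K i n (i K.z) y) : y = n ∨ y = n * i K.z := by
  apply NN_uniq H (v := i K.z) (y := n) _ h
  exact ⟨1, by simp, Or.inl (by simp)⟩

omit H in
theorem exists_swap (K : KT Y) : ∃ k : Y, k * K.z * k⁻¹ = K.q 0 ∧ k * K.q 0 * k⁻¹ = K.z := by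
  obtain ⟨g, h1, h2⟩ := K.line
  have hz : K.r⁻¹ * K.z * K.r = K.z := by
    have := (K.mem_P _).1 (K.E_le_P (K.Q_le_E K.r_Q))
    rw [mul_assoc, ← this]; group
  refine ⟨g⁻¹ * K.r⁻¹, ?_, ?_⟩
  · have e : g⁻¹ * K.r⁻¹ * K.z * (g⁻¹ * K.r⁻¹)⁻¹ = g⁻¹ * (K.r⁻¹ * K.z * K.r) * g := by group
    rw [e, hz, h1]
  · have e : g⁻¹ * K.r⁻¹ * K.q 0 * (g⁻¹ * K.r⁻¹)⁻¹ = g⁻¹ * (K.r⁻¹ * K.q 0 * K.r) * g := by group
    have e2 : g⁻¹ * (K.q 0 * K.z) * g = (g⁻¹ * K.q 0 * g) * (g⁻¹ * K.z * g) := by group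
    rw [e, K.r0, e2, h2, h1, mul_assoc, K.sq_A _ (K.q_A 0), mul_one]

omit H in
theorem rr_A (K : KT Y) : K.r * K.r ∈ K.A := by
  apply K.Q_ker _ (mul_mem K.r_Q K.r_Q)
  have hz : K.r⁻¹ * K.z * K.r = K.z := by
    have := (K.mem_P _).1 (K.E_le_P (K.Q_le_E K.r_Q))
    rw [mul_assoc, ← this]; group
  intro k
  have e : (K.r * K.r)⁻¹ * K.q k * (K.r * K.r) = K.r⁻¹ * (K.r⁻¹ * K.q k * K.r) * K.r := by group
  rw [e]
  rcases K.q_Q K.r K.r_Q k with h | h
  · rw [h, h]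
  · have e2 : K.r⁻¹ * (K.q k * K.z) * K.r = (K.r⁻¹ * K.q k * K.r) * (K.r⁻¹ * K.z * K.r) := by group
    rw [h, e2, h, hz, mul_assoc, K.zz, mul_one]

/-- **The hypotheses of section 2.** -/
theorem hyp : ∃ k : G, Hyp t (i K.z) (i K.x⁻¹) (i K.s⁻¹) (i K.r⁻¹) k (fun k => i (K.q k)) (K.A.map i) ((BB K).map i)
    i.range (NN K i n) := by
  obtain ⟨k, k1, k2⟩ := exists_swap K
  have xz : K.x * K.z = K.z * K.x := (K.mem_P _).1 (K.E_le_P K.x_E)
  have sz : K.s * K.z = K.z * K.s := (K.mem_P _).1 (K.U_le_P K.s_U)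
  have rz : K.r * K.z = K.z * K.r := (K.mem_P _).1 (K.E_le_P (K.Q_le_E K.r_Q))
  have cz : ∀ {g : Y}, g * K.z = K.z * g → g⁻¹ * K.z * g = K.z := by
    intro g h
    rw [mul_assoc, ← h]; group
  have toG : ∀ {a b c : Y}, a⁻¹ * b * a = c → i a⁻¹ * i b * (i a⁻¹)⁻¹ = i c := by
    rintro a b _ rfl
    simp only [map_mul, map_inv, inv_inv]
  have mq : ∀ k, i (K.q k * K.z) = i K.z * i (K.q k) := by
    intro k
    rw [A_comm K (K.q_A k) K.z_A, map_mul]
  refine ⟨i k, ?_⟩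
  exact {
    tt := H.tt
    zz := by rw [← map_mul, K.zz, map_one]
    qq := fun j => by
      show i (K.q j) * i (K.q j) = 1
      rw [← map_mul, K.sq_A _ (K.q_A j), map_one]
    zq := fun j => by
      show i K.z * i (K.q j) = i (K.q j) * i K.z
      rw [← map_mul, ← map_mul, A_comm K K.z_A (K.q_A j)]
    qc := fun j l => by
      show i (K.q j) * i (K.q l) = i (K.q l) * i (K.q j)
      rw [← map_mul, ← map_mul, A_comm K (K.q_A j) (K.q_A l)]
    prod := by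
      show i (K.q 0) * (i (K.q 1) * (i (K.q 2) * (i (K.q 3) * i (K.q 4)))) = 1
      rw [← map_mul, ← map_mul, ← map_mul, ← map_mul, ← mul_assoc, ← mul_assoc, ← mul_assoc, K.q_prod, map_one]
    indep := by
      intro a c0 c1 c2 c3 h
      apply indep_Y K
      apply H.inj
      rw [map_one, ← h]
      have e : ∀ (g : Y) (b : Bool), i (pw g b) = pw (i g) b := by
        intro g b
        cases b
        · exact map_one i
        · rfl
      simp only [F, map_mul, e]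
    A_eq := by
      have h1 : K.A = Subgroup.closure ({K.z} ∪ Set.range K.q) := by
        apply le_antisymm K.A_gen
        rw [Subgroup.closure_le]
        rintro y (rfl | ⟨j, rfl⟩)
        · exact K.z_A
        · exact K.q_A j
      rw [h1, MonoidHom.map_closure]
      congr 1
      ext g
      constructor
      · rintro ⟨y, rfl | ⟨j, rfl⟩, rfl⟩
        · exact Or.inl rfl
        · exact Or.inr ⟨j, rfl⟩
      · rintro (rfl | ⟨j, rfl⟩)
        · exact ⟨_, Or.inl rfl, rfl⟩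
        · exact ⟨_, Or.inr ⟨j, rfl⟩, rfl⟩
    L_t := by
      rintro _ ⟨y, rfl⟩
      exact (H.ti y).symm
    A_le_L := by
      rintro _ ⟨y, -, rfl⟩
      exact ⟨y, rfl⟩
    x_mem := ⟨_, rfl⟩
    s_mem := ⟨_, rfl⟩
    u_mem := ⟨_, rfl⟩
    k_mem := ⟨_, rfl⟩
    x5 := by rw [← map_pow, inv_pow, K.x5, inv_one, map_one]
    xz := toG (cz xz)
    xq := fun j => toG (K.q_x j)
    sz := toG (cz sz)
    sq := fun j => toG (K.q_s j)
    sx := by
      rw [map_inv, map_inv, inv_inv, ← map_inv, ← map_inv, ← map_mul, ← map_mul, ← map_mul]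
      congr 1
      have h := K.x_s
      calc K.s⁻¹ * K.x⁻¹ * K.s = (K.s⁻¹ * K.x * K.s)⁻¹ := by group
        _ = K.x⁻¹ * K.x⁻¹ := by rw [h]; group
    uz := toG (cz rz)
    uq0 := by
      show i K.r⁻¹ * i (K.q 0) * (i K.r⁻¹)⁻¹ = i K.z * i (K.q 0)
      rw [toG K.r0, mq]
    uq1 := by
      show i K.r⁻¹ * i (K.q 1) * (i K.r⁻¹)⁻¹ = i K.z * i (K.q 1)
      rw [toG K.r1, mq]
    uq2 := toG K.r2
    uq3 := toG K.r3
    uq4 := toG K.r4
    uu := ⟨K.r⁻¹ * K.r⁻¹, by rw [← mul_inv_rev]; exact inv_mem (rr_A K), map_mul i _ _⟩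
    uc := by
      intro m
      have hr : K.r⁻¹ ∈ K.Q := inv_mem K.r_Q
      have hx : K.x ^ m ∈ K.P := K.E_le_P (pow_mem K.x_E m)
      have hv : (K.x ^ m)⁻¹ * K.r⁻¹ * K.x ^ m ∈ K.Q := by
        have := K.nor_Q _ (inv_mem hx) _ hr
        rwa [inv_inv] at this
      have h1 : ⁅(K.x ^ m)⁻¹ * K.r⁻¹ * K.x ^ m, K.r⁻¹⁆ ∈ K.A := by
        rw [← K.comm_Q]; exact Subgroup.commutator_mem_commutator hv hr
      refine ⟨_, h1, ?_⟩
      rw [commutatorElement_def]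
      simp only [map_mul, map_inv, map_pow, inv_pow, inv_inv, mul_inv_rev, mul_assoc]
    kz := by rw [← map_inv, ← map_mul, ← map_mul, k1]
    kq := by
      show i k * i (K.q 0) * (i k)⁻¹ = i K.z
      rw [← map_inv, ← map_mul, ← map_mul, k2]
    A_le_B := Subgroup.map_mono (A_le_BB K)
    B_t := by
      rintro _ ⟨y, -, rfl⟩
      exact (H.ti y).symm
    B_A := by
      rintro _ ⟨y, hy, rfl⟩ _ ⟨a, ha, rfl⟩
      rw [← map_mul, ← map_mul, BB_A K hy ha]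
    B_sq := by
      rintro _ ⟨y, hy, rfl⟩
      rw [← map_mul]
      rcases BB_sq K hy with h | h
      · left; rw [h, map_one]
      · right; rw [h]
    B_one := by
      rintro _ ⟨y, hy, rfl⟩ h
      rw [← map_mul] at h
      exact ⟨y, BB_one K hy (H.inj (h.trans (map_one i).symm)), rfl⟩
    cent := by
      intro y hyt hyA
      have key : ∀ y0 : Y, (∀ a ∈ K.A, y0 * a = a * y0) → y0 ∈ BB K := by
        intro y0 h
        obtain ⟨a, ha, l, rfl⟩ := K.cent_A y0 h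
        exact ⟨a, ha, l, by rw [zpow_natCast]⟩
      obtain ⟨y0, rfl | rfl⟩ := H.cen y hyt
      · left
        refine ⟨y0, key y0 fun a ha => H.inj ?_, rfl⟩
        rw [map_mul, map_mul]
        exact hyA _ ⟨a, ha, rfl⟩
      · right
        rw [← mul_assoc, H.tt, one_mul]
        refine ⟨y0, key y0 fun a ha => H.inj ?_, rfl⟩
        rw [map_mul, map_mul]
        have h1 := hyA _ ⟨a, ha, rfl⟩
        apply mul_left_cancel (a := t)
        rw [← mul_assoc, h1, ← mul_assoc, ← mul_assoc, H.ti]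
    N_sq := by
      rintro v y ⟨g, rfl, rfl | rfl⟩
      · exact n_sq H g
      · have h1 := n_z H g
        calc (i g)⁻¹ * n * i g * i (g⁻¹ * K.z * g) * ((i g)⁻¹ * n * i g * i (g⁻¹ * K.z * g))
            = (i g)⁻¹ * n * i g * (i (g⁻¹ * K.z * g) * ((i g)⁻¹ * n * i g)) * i (g⁻¹ * K.z * g) := by
              simp only [mul_assoc]
          _ = ((i g)⁻¹ * n * i g * ((i g)⁻¹ * n * i g)) * (i (g⁻¹ * K.z * g) * i (g⁻¹ * K.z * g)) := by
              rw [← h1]; simp only [mul_assoc]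
          _ = 1 := by rw [n_sq H g, v_sq, one_mul]
    N_t := by
      rintro v y ⟨g, rfl, rfl | rfl⟩
      · exact n_t H g
      · have h1 := n_t H g
        have h2 : i (g⁻¹ * K.z * g) * t * (i (g⁻¹ * K.z * g))⁻¹ = t := by rw [← H.ti]; group
        calc (i g)⁻¹ * n * i g * i (g⁻¹ * K.z * g) * t * ((i g)⁻¹ * n * i g * i (g⁻¹ * K.z * g))⁻¹
            = (i g)⁻¹ * n * i g * (i (g⁻¹ * K.z * g) * t * (i (g⁻¹ * K.z * g))⁻¹) * ((i g)⁻¹ * n * i g)⁻¹ := by
              rw [mul_inv_rev]; simp only [mul_assoc]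
          _ = t * i (g⁻¹ * K.z * g) := by rw [h2, h1]
    N_A := by
      rintro v y hv ⟨g, rfl, hy⟩ _ ⟨a, ha, rfl⟩
      obtain ⟨y', h1, h2⟩ := isPt_map hv
      have hg : g⁻¹ * K.z * g ∈ K.A := by rw [H.inj h2]; exact isPt_mem h1
      have h3 := n_BB H hg (A_le_BB K ha)
      rcases hy with rfl | rfl
      · exact h3
      · have h4 : i (g⁻¹ * K.z * g) * i a = i a * i (g⁻¹ * K.z * g) := by
          rw [← map_mul, ← map_mul, A_comm K hg ha]
        rw [mul_assoc, h4, ← mul_assoc, h3, mul_assoc]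
    N_B := by
      rintro v y hv ⟨g, rfl, hy⟩ _ ⟨a, ha, rfl⟩
      obtain ⟨y', h1, h2⟩ := isPt_map hv
      have hg : g⁻¹ * K.z * g ∈ K.A := by rw [H.inj h2]; exact isPt_mem h1
      have h3 := n_BB H hg ha
      rcases hy with rfl | rfl
      · exact h3
      · have h4 : i (g⁻¹ * K.z * g) * i a = i a * i (g⁻¹ * K.z * g) := by
          rw [← map_mul, ← map_mul, BB_A K ha hg]
        rw [mul_assoc, h4, ← mul_assoc, h3, mul_assoc]
    N_conj := by
      rintro _ ⟨h, rfl⟩ v y ⟨g, rfl, hy⟩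
      have e1 : i h * i (g⁻¹ * K.z * g) * (i h)⁻¹ = i ((g * h⁻¹)⁻¹ * K.z * (g * h⁻¹)) := by
        simp only [map_mul, map_inv, mul_inv_rev, inv_inv, mul_assoc]
      refine ⟨g * h⁻¹, e1, ?_⟩
      rcases hy with rfl | rfl
      · left
        simp only [map_mul, map_inv, mul_inv_rev, inv_inv, mul_assoc]
      · right
        rw [e1]
        simp only [map_mul, map_inv, mul_inv_rev, inv_inv, mul_assoc, inv_mul_cancel_left]
    N_uniq := fun v y y' => NN_uniq H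
    N_ex := ⟨n, 1, by simp, Or.inl (by simp)⟩
    N_x := by
      intro y hy
      have hx : n * i K.x⁻¹ = i K.x⁻¹ * n := H.nE _ (inv_mem K.x_E)
      have hzx : i K.z * i K.x⁻¹ = i K.x⁻¹ * i K.z := by
        rw [← map_mul, ← map_mul]
        congr 1
        rw [eq_inv_mul_iff_mul_eq, ← mul_assoc, xz, mul_inv_cancel_right]
      rcases NN_z H hy with rfl | rfl
      · exact hx
      · rw [mul_assoc, hzx, ← mul_assoc, hx, mul_assoc]
    N_u := by
      intro y hy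
      have hx : n * i K.r⁻¹ = i K.r⁻¹ * n := H.nE _ (inv_mem (K.Q_le_E K.r_Q))
      have hzx : i K.z * i K.r⁻¹ = i K.r⁻¹ * i K.z := by
        rw [← map_mul, ← map_mul]
        congr 1
        rw [eq_inv_mul_iff_mul_eq, ← mul_assoc, rz, mul_inv_cancel_right]
      rcases NN_z H hy with rfl | rfl
      · exact hx
      · rw [mul_assoc, hzx, ← mul_assoc, hx, mul_assoc] }

/-- **Section 2**: the conjugates `n ^ g`, `z ^ g` one of the 11 points of `A`, commute with each other. -/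
theorem nn_comm {g g' : Y} (hg : IsPt K.z K.q (g⁻¹ * K.z * g)) (hg' : IsPt K.z K.q (g'⁻¹ * K.z * g')) :
    (i g)⁻¹ * n * i g * ((i g')⁻¹ * n * i g') = (i g')⁻¹ * n * i g' * ((i g)⁻¹ * n * i g) := by
  obtain ⟨k, h⟩ := hyp H
  exact h.comm_of (map_isPt hg) (map_isPt hg') ⟨g, rfl, Or.inl rfl⟩ ⟨g', rfl, Or.inl rfl⟩

omit [Group G] H in
/-- every point is a conjugate of `z` -/
theorem isPt_conj {y : Y} (hy : IsPt K.z K.q y) : ∃ g : Y, g⁻¹ * K.z * g = y := by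
  rcases hy with rfl | ⟨k, rfl | rfl⟩
  · exact ⟨1, by simp⟩
  · exact K.pt k
  · exact K.pt' k

/-- **The input of `Theta.lean`.** -/
theorem exists_Th : ∃ nv : G → G,
    Theta.Th t (K.A.map i) ((BB K).map i) (i '' {y | IsPt K.z K.q y}) nv ∧ nv (i K.z) = n ∧
      (∀ g : Y, IsPt K.z K.q (g⁻¹ * K.z * g) → (i g)⁻¹ * n * i g = nv (i (g⁻¹ * K.z * g)) ∨
        (i g)⁻¹ * n * i g = nv (i (g⁻¹ * K.z * g)) * i (g⁻¹ * K.z * g)) := by
  classical
  obtain ⟨k, h⟩ := hyp H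
  have hex : ∀ v : G, ∃ g : Y, v ∈ i '' {y | IsPt K.z K.q y} → v = i (g⁻¹ * K.z * g) ∧ (v = i K.z → g = 1) := by
    intro v
    by_cases hv : v ∈ i '' {y | IsPt K.z K.q y}
    · obtain ⟨y, hy, rfl⟩ := hv
      by_cases hz : y = K.z
      · refine ⟨1, fun _ => ⟨by rw [hz]; simp, fun _ => rfl⟩⟩
      · obtain ⟨g, rfl⟩ := isPt_conj hy
        exact ⟨g, fun _ => ⟨rfl, fun h => absurd (H.inj h) hz⟩⟩
    · exact ⟨1, fun h => absurd h hv⟩
  choose gv hgv using hex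
  obtain ⟨nv, hnv⟩ : ∃ nv : G → G, nv = fun v => (i (gv v))⁻¹ * n * i (gv v) := ⟨_, rfl⟩
  have hN : ∀ v ∈ i '' {y | IsPt K.z K.q y}, NN K i n v (nv v) := by
    intro v hv
    rw [hnv]
    exact ⟨gv v, (hgv v hv).1, Or.inl rfl⟩
  have hpt : ∀ v ∈ i '' {y | IsPt K.z K.q y}, IsPt (i K.z) (fun k => i (K.q k)) v := by
    rintro _ ⟨y, hy, rfl⟩
    exact map_isPt hy
  refine ⟨nv, ?_, ?_, ?_⟩
  · exact {
      tt := H.tt
      tJ := by
        rintro _ ⟨y, -, rfl⟩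
        exact H.ti y
      tnJ := by
        rintro ⟨y, -, hy⟩
        exact H.tY y hy
      AJ := Subgroup.map_mono (A_le_BB K)
      Asq := by
        rintro _ ⟨a, ha, rfl⟩
        rw [← map_mul, K.sq_A a ha, map_one]
      JA := h.B_A
      Jsq := h.B_one
      cent := by
        intro c hc hcA
        rcases h.cent c hc.symm hcA with h1 | h1
        · exact ⟨c, h1, Or.inl rfl⟩
        · exact ⟨_, h1, Or.inr (by rw [← mul_assoc, H.tt, one_mul])⟩
      VA := by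
        rintro _ ⟨y, hy, rfl⟩
        exact ⟨y, isPt_mem hy, rfl⟩
      gen := by
        rw [h.A_eq]
        apply Subgroup.closure_mono
        rintro _ (rfl | ⟨j, rfl⟩)
        · exact ⟨K.z, Or.inl rfl, rfl⟩
        · exact ⟨K.q j, Or.inr ⟨j, Or.inl rfl⟩, rfl⟩
      nsq := fun v hv => h.N_sq v _ (hN v hv)
      nt := by
        intro v hv
        have h1 := h.N_t v _ (hN v hv)
        have h2 := h.N_sq v _ (hN v hv)
        have h3 : (nv v)⁻¹ = nv v := by rw [inv_eq_iff_mul_eq_one]; exact h2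
        rw [h3] at h1
        calc t * nv v * t = nv v * (nv v * t * nv v) * t := by
              rw [← mul_assoc, ← mul_assoc, h2, one_mul]
          _ = nv v * (t * v * t) := by rw [h1]; simp only [mul_assoc]
          _ = nv v * v := by
              obtain ⟨y, hy, rfl⟩ := hv
              rw [H.ti, mul_assoc, H.tt, mul_one]
      nJ := fun v hv => h.N_B v _ (hpt v hv) (hN v hv)
      nn := fun v hv w hw => h.comm_of (hpt v hv) (hpt w hw) (hN v hv) (hN w hw) }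
  · have h1 := (hgv (i K.z) ⟨K.z, Or.inl rfl, rfl⟩).2 rfl
    rw [hnv]
    show (i (gv (i K.z)))⁻¹ * n * i (gv (i K.z)) = n
    rw [h1]; simp
  · intro g hg
    exact NN_uniq H (hN _ ⟨_, hg, rfl⟩) ⟨g, rfl, Or.inl rfl⟩

end Pos

end Cfsg.Agent.OddHalf.D7Tits.ThetaPos
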