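import Cfsg.Agent.OddHalf.D7Tits.ThOf
import Cfsg.Agent.OddHalf.D7Tits.ThetaPos

/-!
# ODD D7, `K = ²F₄(2)'`: section 2, final form (helper583 from helper927's `ThetaPos`)
-/

set_option autoImplicit false

namespace Cfsg.Agent.OddHalf.D7Tits.ThMain

open Defs

universe u v

variable {Y : Type u} [Group Y] {G : Type v} [Group G] {K : KT Y} {i : Y →* G} {t n : G}

/-- **Section 2 of #15617.** `pts` : `z ^ Y ∩ A` are the 11 points. -/
theorem exists_Th (H : Pos K i t n) (pts : ∀ g : Y, g⁻¹ * K.z * g ∈ K.A → ThetaHyp.IsPt K.z K.q (g⁻¹ * K.z * g)) :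
    ∃ Θ : Subgroup G, Th K i t n Θ :=
  ThOf.exists_Th H fun _ _ hg hh => ThetaPos.nn_comm H (pts _ hg) (pts _ hh)

end Cfsg.Agent.OddHalf.D7Tits.ThMain
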