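import Cfsg.Agent.OddHalf.D7Tits.Defs
import Cfsg.Agent.OddHalf.D7Tits.Theta

/-!
# ODD D7, `K = ²F₄(2)'`: from `Pos` and `[n_v, n_w] = 1` to `Th` (helper583; text: bb ODD 15617, 1.3 and the end of section 2)

* `comm_A`, `comm_j` : `n_v = (i g)⁻¹ n (i g)` (`v = g⁻¹ z g ∈ A`) centralises `i A` and `i j`;
* `exists_Th` : `Pos`, `[n_v, n_w] = 1` for the points `v, w` of `A` ⟹ `∃ Θ, Th K i t n Θ`.
-/

set_option autoImplicit false
set_option linter.unusedSectionVars false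

namespace Cfsg.Agent.OddHalf.D7Tits.ThOf

open Defs

universe u v

variable {Y : Type u} [Group Y] {G : Type v} [Group G] {K : KT Y} {i : Y →* G} {t n : G}

section KT

/-- `A` is abelian -/
theorem A_comm {a b : Y} (ha : a ∈ K.A) (hb : b ∈ K.A) : a * b = b * a := by
  have h1 := K.sq_A _ (mul_mem ha hb)
  have h2 := K.sq_A _ ha
  have h3 := K.sq_A _ hb
  have e1 : a⁻¹ = a := inv_eq_of_mul_eq_one_left h2
  have e2 : b⁻¹ = b := inv_eq_of_mul_eq_one_left h3
  have e3 : (a * b)⁻¹ = a * b := inv_eq_of_mul_eq_one_left h1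
  rw [mul_inv_rev, e1, e2] at e3
  exact e3.symm

/-- `j` centralises `A` -/
theorem j_comm {a : Y} (ha : a ∈ K.A) : K.j * a = a * K.j := by
  rcases K.j_or with h | ⟨-, h⟩
  · rw [h, one_mul, mul_one]
  · have h1 := h a
    rw [K.τA a ha] at h1
    have h2 : a * K.j = K.j * a * K.j⁻¹ * K.j := by rw [← h1]
    rw [inv_mul_cancel_right] at h2
    exact h2.symm

theorem A_le_E {a : Y} (ha : a ∈ K.A) : a ∈ K.E := K.Q_le_E (K.A_le_Q ha)

/-- a conjugate of an element of `C(A)` into `C(z)` -/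
theorem conj_mem_P {g a : Y} (hg : g⁻¹ * K.z * g ∈ K.A) (ha : ∀ b ∈ K.A, a * b = b * a) : g * a * g⁻¹ ∈ K.P := by
  rw [K.mem_P]
  have h1 := ha _ hg
  calc g * a * g⁻¹ * K.z = g * (a * (g⁻¹ * K.z * g)) * g⁻¹ := by group
    _ = K.z * (g * a * g⁻¹) := by rw [h1]; group

end KT

variable (H : Pos K i t n)

include H

/-- if `p = g a g⁻¹ ∈ P` commutes with `n` then `n_v` commutes with `i a` -/
theorem comm_of {g a : Y} (h : n * i (g * a * g⁻¹) = i (g * a * g⁻¹) * n) :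
    (i g)⁻¹ * n * i g * i a = i a * ((i g)⁻¹ * n * i g) := by
  rw [map_mul, map_mul, map_inv] at h
  calc (i g)⁻¹ * n * i g * i a = (i g)⁻¹ * (n * (i g * i a * (i g)⁻¹)) * i g := by group
    _ = i a * ((i g)⁻¹ * n * i g) := by rw [h]; group

/-- **`n_v` centralises `A`.** -/
theorem comm_A {g a : Y} (hg : g⁻¹ * K.z * g ∈ K.A) (ha : a ∈ K.A) :
    (i g)⁻¹ * n * i g * i a = i a * ((i g)⁻¹ * n * i g) := by
  refine comm_of H (H.nP' _ (conj_mem_P hg fun b hb => A_comm ha hb) ?_)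
  have e : g * a * g⁻¹ * (g * a * g⁻¹) = g * (a * a) * g⁻¹ := by group
  rw [e, K.sq_A a ha, mul_one, mul_inv_cancel]
  exact one_mem _

/-- **`n_v` centralises `j`.** -/
theorem comm_j {g : Y} (hg : g⁻¹ * K.z * g ∈ K.A) :
    (i g)⁻¹ * n * i g * i K.j = i K.j * ((i g)⁻¹ * n * i g) := by
  refine comm_of H (H.nP' _ (conj_mem_P hg fun b hb => j_comm hb) ?_)
  have e : g * K.j * g⁻¹ * (g * K.j * g⁻¹) = g * (K.j * K.j) * g⁻¹ := by group
  rw [e]
  rcases K.j_or with h | ⟨h, -⟩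
  · rw [h, mul_one, mul_one, mul_inv_cancel]
    exact one_mem _
  · rw [h]
    exact A_le_E (K.sym g hg)

/-- `n_v` centralises `C_Y(A)` -/
theorem comm_C {g y : Y} (hg : g⁻¹ * K.z * g ∈ K.A) (hy : ∀ a ∈ K.A, y * a = a * y) :
    (i g)⁻¹ * n * i g * i y = i y * ((i g)⁻¹ * n * i g) := by
  obtain ⟨a, ha, l, rfl⟩ := K.cent_A y hy
  have h1 : Commute ((i g)⁻¹ * n * i g) (i a) := comm_A H hg ha
  have h2 : Commute ((i g)⁻¹ * n * i g) (i K.j) := comm_j H hg
  rw [map_mul, map_pow]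
  exact h1.mul_right (h2.pow_right l)

/-- `t n_v t = n_v v` -/
theorem t_conj (g : Y) : t * ((i g)⁻¹ * n * i g) * t = (i g)⁻¹ * n * i g * i (g⁻¹ * K.z * g) := by
  have h1 := H.tmap g
  have h2 := H.ti g
  calc t * ((i g)⁻¹ * n * i g) * t = (t * (i g)⁻¹) * n * (i g * t) := by group
    _ = (i g)⁻¹ * (t * n * t) * i g := by rw [h1, ← h2]; group
    _ = (i g)⁻¹ * n * i g * i (g⁻¹ * K.z * g) := by rw [H.nt, map_mul, map_mul, map_inv]; group

theorem sq_conj (g : Y) : (i g)⁻¹ * n * i g * ((i g)⁻¹ * n * i g) = 1 := by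
  calc (i g)⁻¹ * n * i g * ((i g)⁻¹ * n * i g) = (i g)⁻¹ * (n * n) * i g := by group
    _ = 1 := by rw [H.nn]; group

/-- `n_v` is defined up to `v` -/
theorem n_unique {g g' : Y} (h : g'⁻¹ * K.z * g' = g⁻¹ * K.z * g) :
    (i g')⁻¹ * n * i g' = (i g)⁻¹ * n * i g ∨ (i g')⁻¹ * n * i g' = (i g)⁻¹ * n * i g * i (g⁻¹ * K.z * g) := by
  have hp : g' * g⁻¹ ∈ K.P := by
    rw [K.mem_P]
    calc g' * g⁻¹ * K.z = g' * (g⁻¹ * K.z * g) * g⁻¹ := by group
      _ = K.z * (g' * g⁻¹) := by rw [← h]; group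
  have e : (i g')⁻¹ * n * i g' = (i g)⁻¹ * ((i (g' * g⁻¹))⁻¹ * n * i (g' * g⁻¹)) * i g := by
    rw [map_mul, map_inv]; group
  rw [e]
  rcases H.nP _ hp with h1 | h1
  · left; rw [h1]
  · right
    rw [h1, map_mul, map_mul, map_inv]; group

theorem iz1 : i K.z ≠ 1 := fun h => K.z1 (H.inj (by rw [h, map_one]))

/-- the points of `A` -/
def Vp (K : KT Y) (i : Y →* G) : Set G := {v | ∃ g : Y, g⁻¹ * K.z * g ∈ K.A ∧ v = i (g⁻¹ * K.z * g)}

open Classical in
/-- the involution `n_v` -/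
noncomputable def nv (K : KT Y) (i : Y →* G) (n : G) (v : G) : G :=
  if h : v ∈ Vp K i then (i h.choose)⁻¹ * n * i h.choose else 1

omit H in
theorem nv_spec {v : G} (hv : v ∈ Vp K i) :
    ∃ g : Y, g⁻¹ * K.z * g ∈ K.A ∧ v = i (g⁻¹ * K.z * g) ∧ nv K i n v = (i g)⁻¹ * n * i g := by
  refine ⟨hv.choose, hv.choose_spec.1, hv.choose_spec.2, ?_⟩
  rw [nv, dif_pos hv]

/-- Input of section 2 (end). -/
theorem th (hnn : ∀ g h : Y, g⁻¹ * K.z * g ∈ K.A → h⁻¹ * K.z * h ∈ K.A →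
      (i g)⁻¹ * n * i g * ((i h)⁻¹ * n * i h) = (i h)⁻¹ * n * i h * ((i g)⁻¹ * n * i g)) :
    Theta.Th t (K.A.map i) ((Subgroup.centralizer (K.A : Set Y)).map i) (Vp K i) (nv K i n) where
  tt := H.tt
  tJ := by
    rintro _ ⟨y, -, rfl⟩
    exact H.ti y
  tnJ := by
    rintro ⟨y, -, hy⟩
    exact H.tY y hy
  AJ := by
    apply Subgroup.map_mono
    intro a ha
    rw [Subgroup.mem_centralizer_iff]
    intro b hb
    exact A_comm hb ha
  Asq := by
    rintro _ ⟨a, ha, rfl⟩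
    rw [← map_mul, K.sq_A a ha, map_one]
  JA := by
    rintro _ ⟨y, hy, rfl⟩ _ ⟨a, ha, rfl⟩
    have h1 : a * y = y * a := Subgroup.mem_centralizer_iff.1 hy a ha
    rw [← map_mul, ← map_mul, h1]
  Jsq := by
    rintro _ ⟨y, hy, rfl⟩ h
    have hy' : ∀ a ∈ K.A, y * a = a * y := fun a ha => (Subgroup.mem_centralizer_iff.1 hy a ha).symm
    have h2 : y * y = 1 := H.inj (by rw [map_mul, h, map_one])
    obtain ⟨a, ha, l, rfl⟩ := K.cent_A y hy'
    refine ⟨_, ?_, rfl⟩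
    rcases K.j_or with hj | ⟨hj, -⟩
    · rw [hj, one_pow, mul_one]; exact ha
    · have hc : Commute (K.j ^ l) a := (show Commute K.j a from j_comm ha).pow_left l
      have e : a * K.j ^ l * (a * K.j ^ l) = K.z ^ l := by
        calc a * K.j ^ l * (a * K.j ^ l) = a * (K.j ^ l * a) * K.j ^ l := by group
          _ = (a * a) * (K.j ^ l * K.j ^ l) := by rw [hc.eq]; group
          _ = K.z ^ l := by
            rw [K.sq_A a ha, one_mul, ← pow_add, ← two_mul, pow_mul, pow_two, hj]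
      rw [e] at h2
      rcases Nat.even_or_odd' l with ⟨m, rfl | rfl⟩
      · rw [pow_mul, pow_two, hj]
        exact mul_mem ha (pow_mem K.z_A m)
      · exfalso
        rw [pow_succ, pow_mul, pow_two, K.zz, one_pow, one_mul] at h2
        exact K.z1 h2
  cent := by
    intro c hc hcA
    obtain ⟨y, hy⟩ := H.cen c hc.symm
    have key : ∀ a ∈ K.A, i y * i a = i a * i y := by
      intro a ha
      have h1 := hcA (i a) ⟨a, ha, rfl⟩
      rcases hy with rfl | rfl
      · exact h1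
      · have h2 : t * (i y * i a) = t * (i a * i y) := by
          calc t * (i y * i a) = t * i y * i a := by group
            _ = i a * (t * i y) := h1
            _ = (i a * t) * i y := by group
            _ = t * (i a * i y) := by rw [← H.ti]; group
        exact mul_left_cancel h2
    refine ⟨i y, ⟨y, ?_, rfl⟩, hy⟩
    show y ∈ Subgroup.centralizer (K.A : Set Y)
    rw [Subgroup.mem_centralizer_iff]
    intro a ha
    apply H.inj
    rw [map_mul, map_mul]
    exact (key a ha).symm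
  VA := by
    rintro _ ⟨g, hg, rfl⟩
    exact ⟨_, hg, rfl⟩
  gen := by
    have h1 : K.A.map i ≤ (Subgroup.closure ({K.z} ∪ Set.range K.q)).map i := Subgroup.map_mono K.A_gen
    refine h1.trans ?_
    rw [MonoidHom.map_closure, Subgroup.closure_le]
    rintro _ ⟨v, hv | ⟨k, rfl⟩, rfl⟩
    · rw [Set.mem_singleton_iff] at hv
      subst hv
      refine Subgroup.subset_closure ⟨1, ?_, ?_⟩
      · rw [inv_one, one_mul, mul_one]; exact K.z_A
      · rw [inv_one, one_mul, mul_one]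
    · obtain ⟨g, hg⟩ := K.pt k
      refine Subgroup.subset_closure ⟨g, ?_, ?_⟩
      · rw [hg]; exact K.q_A k
      · rw [hg]
  nsq := by
    intro v hv
    obtain ⟨g, -, -, h⟩ := nv_spec (n := n) hv
    rw [h]
    exact sq_conj H g
  nt := by
    intro v hv
    obtain ⟨g, -, h1, h⟩ := nv_spec (n := n) hv
    rw [h, h1]
    exact t_conj H g
  nJ := by
    rintro v hv _ ⟨y, hy, rfl⟩
    obtain ⟨g, hg, -, h⟩ := nv_spec (n := n) hv
    rw [h]
    exact comm_C H hg fun a ha => (Subgroup.mem_centralizer_iff.1 hy a ha).symm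
  nn := by
    intro v hv w hw
    obtain ⟨g, hg, -, h⟩ := nv_spec (n := n) hv
    obtain ⟨g', hg', -, h'⟩ := nv_spec (n := n) hw
    rw [h, h']
    exact hnn g g' hg hg'

/-- **`Pos` and `[n_v, n_w] = 1` ⟹ `Θ`.** -/
theorem exists_Th (hnn : ∀ g h : Y, g⁻¹ * K.z * g ∈ K.A → h⁻¹ * K.z * h ∈ K.A →
      (i g)⁻¹ * n * i g * ((i h)⁻¹ * n * i h) = (i h)⁻¹ * n * i h * ((i g)⁻¹ * n * i g)) :
    ∃ Θ : Subgroup G, Defs.Th K i t n Θ := by
  have h := th H hnn
  have : Finite G := H.finG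
  set Θ : Subgroup G := Theta.TH (K.A.map i) (Vp K i) (nv K i n) with hΘ
  have hz : i K.z ∈ Vp K i := ⟨1, by rw [inv_one, one_mul, mul_one]; exact K.z_A, by rw [inv_one, one_mul, mul_one]⟩
  have htΘ : t ∉ Θ := h.t_notMem hz (iz1 H)
  -- the points
  have hpt : ∀ g : Y, g⁻¹ * K.z * g ∈ K.A → (i g)⁻¹ * n * i g ∈ Θ := by
    intro g hg
    have hv : i (g⁻¹ * K.z * g) ∈ Vp K i := ⟨g, hg, rfl⟩
    obtain ⟨g', hg', e1, e2⟩ := nv_spec (n := n) hv
    have h1 : nv K i n (i (g⁻¹ * K.z * g)) ∈ Θ := Theta.n_mem hv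
    rw [e2] at h1
    have hA : i (g'⁻¹ * K.z * g') ∈ Θ := Theta.le_TH ⟨_, hg', rfl⟩
    rcases n_unique H (H.inj e1) with h2 | h2
    · rw [h2]; exact h1
    · rw [h2]; exact mul_mem h1 hA
  refine ⟨Θ, ?_⟩
  exact
    { ab := fun a ha b hb => h.comm ha hb
      sq := fun a ha => h.sq ha
      card := by
        rw [hΘ, h.card htΘ, Subgroup.card_map_of_injective H.inj, K.card_A]
        norm_num
      A_le := Theta.le_TH
      n_mem := by
        have := hpt 1 (by rw [inv_one, one_mul, mul_one]; exact K.z_A)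
        rwa [map_one, inv_one, one_mul, mul_one] at this
      fix := fun a ha hat => h.fix htΘ ha hat.symm
      tau := by
        intro a ha
        have h1 := h.brk htΘ ha
        rwa [h.comm ha (h.t_mem ha)] at h1
      sur := by
        intro a ha
        obtain ⟨x, hx, e⟩ := h.sur (a := i a) ⟨a, ha, rfl⟩
        refine ⟨x, hx, ?_⟩
        rw [← e, ← mul_assoc, h.sq hx, one_mul]
      nt := fun a ha => h.t_mem ha
      nP := by
        intro p hp a ha
        refine h.norm_of ?_ ?_ a ha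
        · rintro _ ⟨b, hb, rfl⟩
          exact ⟨p * b * p⁻¹, K.nor_A p hp b hb, by rw [map_mul, map_mul, map_inv]⟩
        · intro v hv
          obtain ⟨g, hg, -, e⟩ := nv_spec (n := n) hv
          rw [e]
          have e2 : i p * ((i g)⁻¹ * n * i g) * (i p)⁻¹ = (i (g * p⁻¹))⁻¹ * n * i (g * p⁻¹) := by
            rw [map_mul, map_inv]; group
          rw [e2]
          apply hpt
          have e3 : (g * p⁻¹)⁻¹ * K.z * (g * p⁻¹) = p * (g⁻¹ * K.z * g) * p⁻¹ := by group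
          rw [e3]
          exact K.nor_A p hp _ hg
      nj := by
        intro a ha
        refine h.J_comm ha ⟨K.j, ?_, rfl⟩
        show K.j ∈ Subgroup.centralizer (K.A : Set Y)
        rw [Subgroup.mem_centralizer_iff]
        intro b hb
        exact (j_comm hb).symm
      pt := hpt }

end Cfsg.Agent.OddHalf.D7Tits.ThOf
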