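import Cfsg.Agent.OddHalf.D7Tits.Theta

/-!
# ODD D7, `K = ²F₄(2)'`: the two types of `T`-invariant conjugates of `Θ` (helper583; text bb ODD 15617, 3.1, repaired as in 16131)

`A₁` is the second normal elementary abelian subgroup of order `2⁵` of `U`.
`two_types` : a `T`-invariant conjugate `Θ₁` of `Θ` is `Θ` or has `C_{Θ₁}(t) = A₁`.
-/

set_option autoImplicit false

namespace Cfsg.Agent.OddHalf.D7Tits.Theta

variable {G : Type*} [Group G] {t : G} {A J : Subgroup G} {V : Set G} {n : G → G}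

/-- The facts on `C_G(t)`. -/
structure Un2 (t : G) (A A1 T : Subgroup G) : Prop where
  /-- (K3) : no elementary abelian group of order `2 ^ 10` in `C(t)` contains `t` -/
  rank : ∀ E : Subgroup G, (∀ x ∈ E, ∀ y ∈ E, x * y = y * x) → (∀ x ∈ E, x * x = 1) → t ∈ E → Nat.card E ≠ 2 ^ 10
  /-- (K2') -/
  norm : ∀ B : Subgroup G, (∀ x ∈ B, t * x = x * t) → (∀ x ∈ B, ∀ y ∈ B, x * y = y * x) → (∀ x ∈ B, x * x = 1) →
    t ∉ B → (∀ s ∈ T, ∀ x ∈ B, s * x * s⁻¹ ∈ B) → 2 ^ 5 ≤ Nat.card B →
    (∀ x ∈ B, x ∈ A ∨ t * x ∈ A) ∨ ∀ x ∈ B, x ∈ A1 ∨ t * x ∈ A1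
  Tt : ∀ s ∈ T, t * s = s * t
  card : Nat.card A = 2 ^ 5
  card1 : Nat.card A1 = 2 ^ 5
  /-- `t ~ t w` for the involutions `w` of `K` -/
  fus : ∀ a ∈ A1, ∃ c : G, c * t * c⁻¹ = t * a

/-- no conjugate of `Θ` contains `t` -/
theorem notMem_cj2 [Finite G] (h : Th t A J V n) {A1 T : Subgroup G} (u : Un2 t A A1 T) (g : G) :
    t ∉ cj g (TH A V n) := by
  intro h1
  have ht : t ∉ TH A V n := by
    intro ht
    -- `V` contains a nontrivial element
    by_cases hV : ∃ v ∈ V, v ≠ 1
    · obtain ⟨v, hv, hv1⟩ := hV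
      exact h.t_notMem hv hv1 ht
    · have h2 : A ≤ ⊥ := h.gen.trans ((Subgroup.closure_le _).2 fun v hv => by
        by_contra hv1
        exact hV ⟨v, hv, hv1⟩)
      have h3 := Subgroup.card_le_of_le h2
      rw [u.card, Subgroup.card_bot] at h3
      norm_num at h3
  refine u.rank _ ?_ ?_ h1 ?_
  · intro x hx y hy
    rw [mem_cj] at hx hy
    have h2 := h.comm hx hy
    calc x * y = g * ((g⁻¹ * x * g) * (g⁻¹ * y * g)) * g⁻¹ := by group
      _ = y * x := by rw [h2]; group
  · intro x hx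
    rw [mem_cj] at hx
    have h2 := h.sq hx
    calc x * x = g * ((g⁻¹ * x * g) * (g⁻¹ * x * g)) * g⁻¹ := by group
      _ = 1 := by rw [h2]; group
  · rw [card_cj, h.card ht, u.card]; norm_num

/-- `t ∉ Θ` -/
theorem t_notMem2 [Finite G] (h : Th t A J V n) {A1 T : Subgroup G} (u : Un2 t A A1 T) : t ∉ TH A V n := by
  intro h1
  apply notMem_cj2 h u 1
  rw [mem_cj, inv_one, one_mul, mul_one]
  exact h1

/-- the projection of `C_R(t)` is onto -/
theorem eq_of_or [Finite G] {B A' : Subgroup G} (tt : t * t = 1) (htB : t ∉ B) (hB : 2 ^ 5 ≤ Nat.card B)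
    (hA : Nat.card A' = 2 ^ 5) (hK : ∀ x ∈ B, x ∈ A' ∨ t * x ∈ A') (hno : ∀ a ∈ A', t * a ∉ B) : B = A' := by
  classical
  let φ : B → A' := fun x => if hx : (x : G) ∈ A' then ⟨x, hx⟩ else ⟨t * x, (hK x x.2).resolve_left hx⟩
  have hφ : Function.Injective φ := by
    intro x y hxy
    simp only [φ] at hxy
    split_ifs at hxy with h1 h2 h2
    · exact Subtype.ext (congrArg (fun a : A' => (a : G)) hxy)
    · exfalso
      have e : (x : G) = t * y := congrArg (fun a : A' => (a : G)) hxy
      apply htB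
      have e2 : t = x * (y : G)⁻¹ := by rw [e]; group
      rw [e2]
      exact mul_mem x.2 (inv_mem y.2)
    · exfalso
      have e : t * (x : G) = y := congrArg (fun a : A' => (a : G)) hxy
      apply htB
      have e2 : t = y * (x : G)⁻¹ := by rw [← e]; group
      rw [e2]
      exact mul_mem y.2 (inv_mem x.2)
    · exact Subtype.ext (mul_left_cancel (congrArg (fun a : A' => (a : G)) hxy))
  have hle : Nat.card A' ≤ Nat.card B := by rw [hA]; exact hB
  have hs : Function.Surjective φ := (Function.Injective.bijective_of_nat_card_le hφ hle).2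
  have hAB : A' ≤ B := by
    intro a ha
    obtain ⟨x, hx⟩ := hs ⟨a, ha⟩
    simp only [φ] at hx
    split_ifs at hx with h1
    · have e : (x : G) = a := congrArg (fun a : A' => (a : G)) hx
      rw [← e]; exact x.2
    · exfalso
      have e : t * (x : G) = a := congrArg (fun a : A' => (a : G)) hx
      apply hno a ha
      rw [← e, ← mul_assoc, tt, one_mul]; exact x.2
  symm
  exact Subgroup.eq_of_le_of_card_ge hAB (Nat.card_le_card_of_injective φ hφ)

/-- a conjugate of `Θ` with `C(t) = A` is `Θ` -/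
theorem eq_of_fix [Finite G] (h : Th t A J V n) (hA : Nat.card A = 2 ^ 5) (ht : t ∉ TH A V n) {R : Subgroup G}
    (Rc : ∀ x ∈ R, ∀ y ∈ R, x * y = y * x) (Rs : ∀ x ∈ R, x * x = 1) (Rt : ∀ x ∈ R, t * x * t ∈ R)
    (hcR : Nat.card R = Nat.card (TH A V n)) (hB : R ⊓ Subgroup.centralizer {t} = A) : R = TH A V n := by
  have hcard : Nat.card (TH A V n) = 2 ^ 5 * 2 ^ 5 := by rw [h.card ht, hA]
  have hAR : A ≤ R := by rw [← hB]; exact inf_le_left
  -- the elements of `R`
  have hform : ∀ y ∈ R, ∃ x ∈ TH A V n, ∃ j ∈ J, y = x * j ∨ y = x * (t * j) := by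
    intro y hy
    refine h.gamma (fun a ha => Rc y hy a (hAR ha)) ?_
    rw [← hB]
    have hy' : y⁻¹ = y := inv_eq_of_mul_eq_one_left (Rs y hy)
    refine Subgroup.mem_inf.2 ⟨mul_mem (inv_mem hy) (Rt y hy), ?_⟩
    rw [Subgroup.mem_centralizer_singleton_iff]
    refine (h.comm_of_conj ?_).symm
    rw [h.conj_mul, hy', h.conj_conj]
    exact Rc _ (Rt y hy) y hy
  have h0 : ∀ x ∈ TH A V n, ∀ j ∈ J, x * j ∈ R → x * j ∈ TH A V n := by
    intro x hx j hj hR
    have h1 := Rs _ hR
    have h2 : x * j * (x * j) = (x * x) * (j * j) := by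
      calc x * j * (x * j) = x * (j * x) * j := by group
        _ = (x * x) * (j * j) := by rw [← h.J_comm hx hj]; group
    rw [h2, h.sq hx, one_mul] at h1
    exact mul_mem hx (le_TH (h.Jsq j hj h1))
  have hle : R ≤ TH A V n := by
    intro y hy
    obtain ⟨x, hx, j, hj, e | e⟩ := hform y hy
    · rw [e]
      exact h0 x hx j hj (e ▸ hy)
    · -- `y = x t j`
      exfalso
      -- `R ∩ Θ ≤ A`
      have h1 : R ⊓ TH A V n ≤ A := by
        intro w hw
        refine h.fix ht hw.2 ?_
        have h2 := Rc y hy w hw.1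
        have h3 := h.comm hx hw.2
        have h4 := h.J_comm hw.2 hj
        rw [e] at h2
        have h5 : x * (t * w * j) = x * (w * t * j) := by
          calc x * (t * w * j) = x * t * (w * j) := by group
            _ = x * (t * j) * w := by rw [h4]; group
            _ = w * (x * (t * j)) := h2
            _ = (w * x) * t * j := by group
            _ = x * (w * t * j) := by rw [← h3]; group
        exact mul_right_cancel (mul_left_cancel h5)
      -- index at most two
      have h2 : (R : Set G) ⊆ (R ⊓ TH A V n : Subgroup G) ∪ (fun w => y * w) '' (R ⊓ TH A V n : Subgroup G) := by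
        intro w hw
        obtain ⟨x', hx', j', hj', e' | e'⟩ := hform w hw
        · left
          exact ⟨hw, by rw [e']; exact h0 x' hx' j' hj' (e' ▸ hw)⟩
        · right
          refine ⟨y⁻¹ * w, ?_, by group⟩
          have hyw : y * w ∈ R := mul_mem hy hw
          have hyi : y⁻¹ = y := inv_eq_of_mul_eq_one_left (Rs y hy)
          have e3 : y * w = (x * (t * x' * t)) * (j * j') := by
            rw [e, e']
            have h6 := h.J_comm hx' hj
            have h7 := h.tJ j hj
            calc x * (t * j) * (x' * (t * j')) = x * t * (j * x') * t * j' := by group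
              _ = x * t * x' * (j * t) * j' := by rw [← h6]; group
              _ = (x * (t * x' * t)) * (j * j') := by rw [← h7]; group
          refine Subgroup.mem_inf.2 ⟨mul_mem (inv_mem hy) hw, ?_⟩
          rw [hyi]
          have h8 : (x * (t * x' * t)) * (j * j') ∈ R := by rw [← e3]; exact hyw
          rw [e3]
          exact h0 _ (mul_mem hx (h.t_mem hx')) _ (mul_mem hj hj') h8
      have h3 : Nat.card R ≤ 2 ^ 5 + 2 ^ 5 := by
        have h4 : Nat.card (R ⊓ TH A V n : Subgroup G) ≤ 2 ^ 5 := by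
          rw [← hA]
          exact Subgroup.card_le_of_le h1
        have h5 : (R : Set G).ncard ≤ _ := Set.ncard_le_ncard h2 (Set.toFinite _)
        have h6 := Set.ncard_union_le ((R ⊓ TH A V n : Subgroup G) : Set G)
          ((fun w => y * w) '' (R ⊓ TH A V n : Subgroup G))
        have h7 : ((fun w => y * w) '' ((R ⊓ TH A V n : Subgroup G) : Set G)).ncard ≤
          ((R ⊓ TH A V n : Subgroup G) : Set G).ncard := Set.ncard_image_le (Set.toFinite _)
        have h8 : ((R ⊓ TH A V n : Subgroup G) : Set G).ncard = Nat.card (R ⊓ TH A V n : Subgroup G) := rfl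
        have h9 : (R : Set G).ncard = Nat.card R := rfl
        omega
      rw [hcR, hcard] at h3
      norm_num at h3
  exact Subgroup.eq_of_le_of_card_ge hle hcR.symm.le

/-- **The two types of `T`-invariant conjugates of `Θ`.** -/
theorem two_types [Finite G] (h : Th t A J V n) {A1 T : Subgroup G} (u : Un2 t A A1 T) (htT : t ∈ T)
    {g : G} (hg : ∀ s ∈ T, ∀ x ∈ cj g (TH A V n), s * x * s⁻¹ ∈ cj g (TH A V n)) :
    cj g (TH A V n) = TH A V n ∨ cj g (TH A V n) ⊓ Subgroup.centralizer {t} = A1 := by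
  have ht := t_notMem2 h u
  set R := cj g (TH A V n) with hR
  have Rc : ∀ x ∈ R, ∀ y ∈ R, x * y = y * x := by
    intro x hx y hy
    rw [hR, mem_cj] at hx hy
    have h2 := h.comm hx hy
    calc x * y = g * ((g⁻¹ * x * g) * (g⁻¹ * y * g)) * g⁻¹ := by group
      _ = y * x := by rw [h2]; group
  have Rs : ∀ x ∈ R, x * x = 1 := by
    intro x hx
    rw [hR, mem_cj] at hx
    have h2 := h.sq hx
    calc x * x = g * ((g⁻¹ * x * g) * (g⁻¹ * x * g)) * g⁻¹ := by group
      _ = 1 := by rw [h2]; group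
  have hcard : Nat.card (TH A V n) = 2 ^ 5 * 2 ^ 5 := by rw [h.card ht, u.card]
  have hcR : Nat.card R = 2 ^ 5 * 2 ^ 5 := by rw [hR, card_cj, hcard]
  have Rt : ∀ x ∈ R, t * x * t ∈ R := fun x hx => by
    have := hg t htT x hx
    rwa [h.t_inv] at this
  have hBc : 2 ^ 5 ≤ Nat.card (R ⊓ Subgroup.centralizer {t} : Subgroup G) := card_fix h.tt Rc Rt Rs hcR
  have hBt : ∀ x ∈ R ⊓ Subgroup.centralizer {t}, t * x = x * t := fun x hx =>
    (Subgroup.mem_centralizer_singleton_iff.1 hx.2).symm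
  have htR : t ∉ R := notMem_cj2 h u g
  have hK := u.norm (R ⊓ Subgroup.centralizer {t}) hBt (fun x hx y hy => Rc x hx.1 y hy.1)
    (fun x hx => Rs x hx.1) (fun h1 => htR h1.1)
    (fun s hs x hx => Subgroup.mem_inf.2 ⟨hg s hs x hx.1, by
      rw [Subgroup.mem_centralizer_singleton_iff]
      have e1 := u.Tt s hs
      have e2 := hBt x hx
      have e3 : s⁻¹ * t = t * s⁻¹ := by rw [inv_mul_eq_iff_eq_mul, ← mul_assoc, ← e1, mul_inv_cancel_right]
      calc s * x * s⁻¹ * t = s * x * (s⁻¹ * t) := by group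
        _ = s * (x * t) * s⁻¹ := by rw [e3]; group
        _ = (s * t) * x * s⁻¹ := by rw [← e2]; group
        _ = t * (s * x * s⁻¹) := by rw [← e1]; group⟩) hBc
  -- conjugates of `t` are not in `R`
  have hno : ∀ c : G, c * t * c⁻¹ ∉ R := by
    intro c hc
    apply notMem_cj2 h u (c⁻¹ * g)
    rw [← cj_cj, mem_cj, inv_inv]
    exact hc
  rcases hK with hK | hK
  · left
    refine eq_of_fix h u.card ht Rc Rs Rt (by rw [hcR, hcard]) ?_
    refine eq_of_or h.tt (fun h1 => htR h1.1) hBc u.card hK ?_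
    intro a ha h1
    obtain ⟨x, hx, e⟩ := h.sur ha
    apply hno x⁻¹
    have e2 : x⁻¹ * t * x⁻¹⁻¹ = t * a := by
      rw [inv_inv, ← e, h.comm hx (h.t_mem hx), h.inv hx]
      calc x * t * x = (t * t) * (x * t * x) := by rw [h.tt, one_mul]
        _ = t * (t * x * t * x) := by group
    rw [e2]
    exact h1.1
  · right
    refine eq_of_or h.tt (fun h1 => htR h1.1) hBc u.card1 hK ?_
    intro a ha h1
    obtain ⟨c, e⟩ := u.fus a ha
    exact hno c (e ▸ h1.1)

end Cfsg.Agent.OddHalf.D7Tits.Theta
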