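import Cfsg.Agent.OddHalf.D7Tits.ThetaData

/-!
# ODD D7, `K` = Tits: `Θ` (helper927, text of helper903 #15617, section 2): `[m_i, m_j] = Z ∈ ⟨z⟩`
-/

set_option autoImplicit false

namespace Cfsg.Agent.OddHalf.D7Tits.ThetaHyp

open Subgroup

variable {G : Type*} [Group G]

variable {t z x s u k : G} {q : ZMod 5 → G} {A B L : Subgroup G} {N : G → G → Prop}

theorem comm_r {p p' r r' : G} (h1 : r * p' = p' * r) (h2 : r' * p = p * r')
    (h4 : r * r' = r' * r) : (p * r) * (p' * r') * (p * r)⁻¹ * (p' * r')⁻¹ = p * p' * p⁻¹ * p'⁻¹ := by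
  calc (p * r) * (p' * r') * (p * r)⁻¹ * (p' * r')⁻¹ = p * (r * p') * r' * r⁻¹ * p⁻¹ * r'⁻¹ * p'⁻¹ := by group
    _ = p * p' * (r * r') * r⁻¹ * p⁻¹ * r'⁻¹ * p'⁻¹ := by rw [h1]; group
    _ = p * p' * p⁻¹ * (p * r') * p⁻¹ * r'⁻¹ * p'⁻¹ := by rw [h4]; group
    _ = p * p' * p⁻¹ * p'⁻¹ := by rw [← h2]; group

namespace Hyp

variable (H : Hyp t z x s u k q A B L N)
include H

omit H in
theorem q_eq_el (i : ZMod 5) : q i = el z q false (decide (i = 0)) (decide (i = 1)) (decide (i = 2)) (decide (i = 3))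
    (decide (i = 4)) := by
  rcases five i with rfl | rfl | rfl | rfl | rfl
  · exact q0_eq.symm
  · exact q1_eq.symm
  · exact q2_eq.symm
  · exact q3_eq.symm
  · exact q4_eq.symm

theorem q_ne {i j : ZMod 5} (hij : i ≠ j) : q i ≠ q j := by
  intro h
  rw [q_eq_el (z := z) (q := q) i, q_eq_el (z := z) (q := q) j] at h
  have h1 := (H.el_ne h).2
  clear h
  revert h1
  rcases five i with rfl | rfl | rfl | rfl | rfl <;> rcases five j with rfl | rfl | rfl | rfl | rfl <;>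
    first
      | exact absurd rfl hij
      | decide

/-- an element of `A` all of whose `x`-conjugates commute with `u` -/
theorem fix_u {a : G} (ha : a ∈ A) (h0 : u * a * u⁻¹ = a) (h1 : u * (x * a * x⁻¹) * u⁻¹ = x * a * x⁻¹)
    (h2 : u * (x * (x * a * x⁻¹) * x⁻¹) * u⁻¹ = x * (x * a * x⁻¹) * x⁻¹)
    (h3 : u * (x * (x * (x * a * x⁻¹) * x⁻¹) * x⁻¹) * u⁻¹ = x * (x * (x * a * x⁻¹) * x⁻¹) * x⁻¹) :
    a = 1 ∨ a = z := by
  obtain ⟨b, c0, c1, c2, c3, c4, rfl⟩ := H.exists_el ha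
  rw [H.u_el] at h0
  rw [H.x_el, H.u_el] at h1
  rw [H.x_el, H.x_el, H.u_el] at h2
  rw [H.x_el, H.x_el, H.x_el, H.u_el] at h3
  have e0 := (H.el_ne h0).1
  have e1 := (H.el_ne h1).1
  have e2 := (H.el_ne h2).1
  have e3 := (H.el_ne h3).1
  have h5 : (c0 = false ∧ c1 = false ∧ c2 = false ∧ c3 = false ∧ c4 = false) ∨
      (c0 = true ∧ c1 = true ∧ c2 = true ∧ c3 = true ∧ c4 = true) := by
    clear h0 h1 h2 h3 ha
    cases b <;> cases c0 <;> cases c1 <;> cases c2 <;> cases c3 <;> cases c4 <;> simp at e0 e1 e2 e3 ⊢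
  rcases h5 with ⟨rfl, rfl, rfl, rfl, rfl⟩ | ⟨rfl, rfl, rfl, rfl, rfl⟩
  · cases b
    · exact Or.inl el_one
    · exact Or.inr z_eq
  · cases b
    · exact Or.inl H.el_all
    · right
      have h3 := H.el_mul true false false false false false false true true true true true
      rw [H.el_all, mul_one, z_eq] at h3
      exact h3.symm

variable {e : Bool} {m : ZMod 5 → G} {mz a0 : G}

theorem gz (D : MD t z x s u q A B N e m mz a0) : Gam t A mz z := H.M_gam pt_z D.hz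
theorem gm (D : MD t z x s u q A B N e m mz a0) (i : ZMod 5) : Gam t A (m i) (q i) := H.M_gam (pt_q i) (D.hm i)

theorem pzq_mem (i : ZMod 5) (b : Bool) : pw (z * q i) b ∈ A := by
  cases b
  · exact A.one_mem
  · exact A.mul_mem H.z_mem (H.q_mem i)

theorem x_A {a : G} (ha : a ∈ A) : x * a * x⁻¹ ∈ A := by
  obtain ⟨b, c0, c1, c2, c3, c4, rfl⟩ := H.exists_el ha
  rw [H.x_el]; exact H.el_mem _ _ _ _ _ _

theorem u_A {a : G} (ha : a ∈ A) : u * a * u⁻¹ ∈ A := by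
  obtain ⟨b, c0, c1, c2, c3, c4, rfl⟩ := H.exists_el ha
  rw [H.u_el]; exact H.el_mem _ _ _ _ _ _

/-- `r` commutes with `A`, all `m i` and `mz` -/
def Cn (A : Subgroup G) (m : ZMod 5 → G) (mz r : G) : Prop :=
  (∀ i, r * m i = m i * r) ∧ r * mz = mz * r ∧ ∀ a ∈ A, r * a = a * r

theorem cn_A (D : MD t z x s u q A B N e m mz a0) {a : G} (ha : a ∈ A) : Cn A m mz a :=
  ⟨fun i => ((H.gm D i).cen a ha).symm, ((H.gz D).cen a ha).symm, fun _ hb => H.A_comm ha hb⟩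

theorem cn_z (D : MD t z x s u q A B N e m mz a0) : Cn A m mz mz := ⟨D.z_m, rfl, (H.gz D).cen⟩

omit H in
theorem cn_mul {r r' : G} (h : Cn A m mz r) (h' : Cn A m mz r') : Cn A m mz (r * r') :=
  ⟨fun i => by rw [mul_assoc, h'.1, ← mul_assoc, h.1, mul_assoc],
    by rw [mul_assoc, h'.2.1, ← mul_assoc, h.2.1, mul_assoc],
    fun a ha => by rw [mul_assoc, h'.2.2 a ha, ← mul_assoc, h.2.2 a ha, mul_assoc]⟩

/-- conjugation by `u` -/
theorem u_all (D : MD t z x s u q A B N e m mz a0) (i : ZMod 5) : ∃ r, u * m i * u⁻¹ = m i * r ∧ Cn A m mz r ∧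
    ∀ r', Cn A m mz r' → r * r' = r' * r := by
  have hz : ∀ r', Cn A m mz r' → mz * r' = r' * mz := fun r' h => h.2.1.symm
  have hA : ∀ a ∈ A, ∀ r', Cn A m mz r' → a * r' = r' * a := fun a ha r' h => (h.2.2 a ha).symm
  have key : ∀ a ∈ A, Cn A m mz (mz * a) ∧ ∀ r', Cn A m mz r' → mz * a * r' = r' * (mz * a) := by
    intro a ha
    refine ⟨cn_mul (H.cn_z D) (H.cn_A D ha), fun r' h => ?_⟩
    rw [mul_assoc, hA a ha r' h, ← mul_assoc, hz r' h, mul_assoc]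
  rcases five i with rfl | rfl | rfl | rfl | rfl
  · refine ⟨mz * a0, by rw [D.u_m0, mul_assoc], (key a0 D.a0_mem).1, (key a0 D.a0_mem).2⟩
  · obtain ⟨d, hd⟩ := D.u_m1
    have ha := A.mul_mem (H.x_A D.a0_mem) (H.pzq_mem 1 d)
    exact ⟨_, by rw [hd, mul_assoc], (key _ ha).1, (key _ ha).2⟩
  · obtain ⟨d, hd⟩ := D.u_m2
    exact ⟨_, hd, H.cn_A D (H.pw_q_mem 2 d), hA _ (H.pw_q_mem 2 d)⟩
  · obtain ⟨d, hd⟩ := D.u_m3
    exact ⟨_, hd, H.cn_A D (H.pw_q_mem 3 d), hA _ (H.pw_q_mem 3 d)⟩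
  · obtain ⟨d, hd⟩ := D.u_m4
    exact ⟨_, hd, H.cn_A D (H.pw_q_mem 4 d), hA _ (H.pw_q_mem 4 d)⟩

omit H in
theorem conj_c (g a b : G) : g * (a * b * a⁻¹ * b⁻¹) * g⁻¹ =
    (g * a * g⁻¹) * (g * b * g⁻¹) * (g * a * g⁻¹)⁻¹ * (g * b * g⁻¹)⁻¹ := by group

theorem c_mem (D : MD t z x s u q A B N e m mz a0) {i j : ZMod 5} (hij : i ≠ j) :
    m i * m j * (m i)⁻¹ * (m j)⁻¹ ∈ A := H.comm_mem (pt_q i) (pt_q j) (H.q_ne hij) (D.hm i) (D.hm j)

theorem c_u (D : MD t z x s u q A B N e m mz a0) (i j : ZMod 5) :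
    u * (m i * m j * (m i)⁻¹ * (m j)⁻¹) * u⁻¹ = m i * m j * (m i)⁻¹ * (m j)⁻¹ := by
  obtain ⟨r, hr, cr, cr'⟩ := H.u_all D i
  obtain ⟨r', hr', dr, dr'⟩ := H.u_all D j
  rw [conj_c, hr, hr']
  exact comm_r (cr.1 j) (dr.1 i) (cr' r' dr)

omit H in
theorem c_x (D : MD t z x s u q A B N e m mz a0) (i j : ZMod 5) :
    x * (m i * m j * (m i)⁻¹ * (m j)⁻¹) * x⁻¹ = m (i + 1) * m (j + 1) * (m (i + 1))⁻¹ * (m (j + 1))⁻¹ := by
  rw [conj_c, D.x_m, D.x_m]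

theorem c_s (D : MD t z x s u q A B N e m mz a0) (i j : ZMod 5) :
    s * (m i * m j * (m i)⁻¹ * (m j)⁻¹) * s⁻¹ =
      m (2 * i) * m (2 * j) * (m (2 * i))⁻¹ * (m (2 * j))⁻¹ := by
  obtain ⟨d, hd⟩ := D.s_m
  rw [conj_c, hd, hd]
  exact comm_r ((H.cn_A D (H.pw_q_mem _ d)).1 _) ((H.cn_A D (H.pw_q_mem _ d)).1 _)
    (H.A_comm (H.pw_q_mem _ d) (H.pw_q_mem _ d))

theorem c_cases (D : MD t z x s u q A B N e m mz a0) {i j : ZMod 5} (hij : i ≠ j) :
    m i * m j * (m i)⁻¹ * (m j)⁻¹ = 1 ∨ m i * m j * (m i)⁻¹ * (m j)⁻¹ = z := by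
  apply H.fix_u (H.c_mem D hij) (H.c_u D i j)
  · rw [c_x D]; exact H.c_u D _ _
  · rw [c_x D, c_x D]; exact H.c_u D _ _
  · rw [c_x D, c_x D, c_x D]; exact H.c_u D _ _

theorem conj_one_z (g : G) (hg : g * z * g⁻¹ = z) {c : G} (hc : c = 1 ∨ c = z) : g * c * g⁻¹ = c := by
  rcases hc with rfl | rfl
  · group
  · exact hg

/-- **all commutators `[m_i, m_j]` are equal** -/
theorem exists_Z (D : MD t z x s u q A B N e m mz a0) : ∃ Z : G, (Z = 1 ∨ Z = z) ∧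
    ∀ i j, i ≠ j → m i * m j = Z * (m j * m i) := by
  obtain ⟨c, hc⟩ : ∃ c : ZMod 5 → ZMod 5 → G, c = fun i j => m i * m j * (m i)⁻¹ * (m j)⁻¹ := ⟨_, rfl⟩
  have hc' : ∀ i j, c i j = m i * m j * (m i)⁻¹ * (m j)⁻¹ := fun i j => by rw [hc]
  have cc : ∀ i j, i ≠ j → (c i j = 1 ∨ c i j = z) := fun i j h => by rw [hc']; exact H.c_cases D h
  have cx : ∀ i j, i ≠ j → c (i + 1) (j + 1) = c i j := by
    intro i j h
    rw [hc' (i + 1), ← c_x D, ← hc']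
    exact H.conj_one_z x H.xz (cc i j h)
  have cs : ∀ i j, i ≠ j → c (2 * i) (2 * j) = c i j := by
    intro i j h
    rw [hc' (2 * i), ← H.c_s D, ← hc']
    exact H.conj_one_z s H.sz (cc i j h)
  have cinv : ∀ i j, i ≠ j → c j i = c i j := by
    intro i j h
    have h1 : c j i = (c i j)⁻¹ := by rw [hc', hc']; group
    rw [h1]
    rcases cc i j h with h2 | h2
    · rw [h2, inv_one]
    · rw [h2, inv_eq_iff_mul_eq_one]; exact H.zz
  -- difference 1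
  have a1 : c 1 2 = c 0 1 := cx 0 1 (by decide)
  have a2 : c 2 3 = c 1 2 := cx 1 2 (by decide)
  have a3 : c 3 4 = c 2 3 := cx 2 3 (by decide)
  have a4 : c 4 0 = c 3 4 := cx 3 4 (by decide)
  -- difference 2
  have b0 : c 0 2 = c 0 1 := cs 0 1 (by decide)
  have b1 : c 1 3 = c 0 2 := cx 0 2 (by decide)
  have b2 : c 2 4 = c 1 3 := cx 1 3 (by decide)
  have b3 : c 3 0 = c 2 4 := cx 2 4 (by decide)
  have b4 : c 4 1 = c 3 0 := cx 3 0 (by decide)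
  have all : ∀ i j, i ≠ j → c i j = c 0 1 := by
    intro i j h
    rcases five i with rfl | rfl | rfl | rfl | rfl <;> rcases five j with rfl | rfl | rfl | rfl | rfl
    · exact absurd rfl h
    · rfl
    · exact b0
    · rw [cinv 3 0 (by decide), b3, b2, b1, b0]
    · rw [cinv 4 0 (by decide), a4, a3, a2, a1]
    · exact cinv 0 1 (by decide)
    · exact absurd rfl h
    · exact a1
    · rw [b1, b0]
    · rw [cinv 4 1 (by decide), b4, b3, b2, b1, b0]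
    · rw [cinv 0 2 (by decide), b0]
    · rw [cinv 1 2 (by decide), a1]
    · exact absurd rfl h
    · rw [a2, a1]
    · rw [b2, b1, b0]
    · rw [b3, b2, b1, b0]
    · rw [cinv 1 3 (by decide), b1, b0]
    · rw [cinv 2 3 (by decide), a2, a1]
    · exact absurd rfl h
    · rw [a3, a2, a1]
    · rw [a4, a3, a2, a1]
    · rw [b4, b3, b2, b1, b0]
    · rw [cinv 2 4 (by decide), b2, b1, b0]
    · rw [cinv 3 4 (by decide), a3, a2, a1]
    · exact absurd rfl h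
  refine ⟨c 0 1, cc 0 1 (by decide), fun i j h => ?_⟩
  rw [← all i j h, hc']
  group

end Hyp

end Cfsg.Agent.OddHalf.D7Tits.ThetaHyp
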