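import Cfsg.Agent.OddHalf.D7Tits.ThetaLine

/-!
# ODD D7, `K` = Tits: `Θ` (helper927, text of helper903 #15617, section 2): all relations of the `m_v`
-/

set_option autoImplicit false

namespace Cfsg.Agent.OddHalf.D7Tits.ThetaHyp

open Subgroup

variable {G : Type*} [Group G]

/-- the relations of `m_z = mz`, `m_{q_i} = m i` -/
structure MD (t z x s u : G) (q : ZMod 5 → G) (A B : Subgroup G) (N : G → G → Prop) (e : Bool) (m : ZMod 5 → G)
    (mz a0 : G) : Prop where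
  hz : M t N e z mz
  hm : ∀ i, M t N e (q i) (m i)
  x_m : ∀ i, x * m i * x⁻¹ = m (i + 1)
  x_z : mz * x = x * mz
  u_z : mz * u = u * mz
  z_m : ∀ i, mz * m i = m i * mz
  a0_mem : a0 ∈ A
  u_m0 : u * m 0 * u⁻¹ = m 0 * mz * a0
  u_m1 : ∃ d : Bool, u * m 1 * u⁻¹ = m 1 * mz * (x * a0 * x⁻¹ * pw (z * q 1) d)
  u_m2 : ∃ d : Bool, u * m 2 * u⁻¹ = m 2 * pw (q 2) d
  u_m3 : ∃ d : Bool, u * m 3 * u⁻¹ = m 3 * pw (q 3) d
  u_m4 : ∃ d : Bool, u * m 4 * u⁻¹ = m 4 * pw (q 4) d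
  s_m : ∃ d : Bool, ∀ i, s * m i * s⁻¹ = m (2 * i) * pw (q (2 * i)) d
  s_a0 : ∃ a b : Bool, s * a0 * s⁻¹ = a0 * (pw z a * pw (q 0) b)

theorem five (i : ZMod 5) : i = 0 ∨ i = 1 ∨ i = 2 ∨ i = 3 ∨ i = 4 := by revert i; decide

variable {t z x s u k : G} {q : ZMod 5 → G} {A B L : Subgroup G} {N : G → G → Prop}

namespace Hyp

variable (H : Hyp t z x s u k q A B L N)
include H

theorem exists_MD : ∃ (e : Bool) (m : ZMod 5 → G) (mz a0 : G), MD t z x s u q A B N e m mz a0 := by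
  obtain ⟨e, mz, m0, hz, h0, hline, hzx, hzu⟩ := H.exists_line
  obtain ⟨m, hm⟩ : ∃ m : ZMod 5 → G, m = fun i => x ^ i.val * m0 * (x ^ i.val)⁻¹ := ⟨_, rfl⟩
  have m_0 : m 0 = m0 := by rw [hm]; show x ^ 0 * m0 * (x ^ 0)⁻¹ = m0; group
  have x_m : ∀ i, x * m i * x⁻¹ = m (i + 1) := by
    intro i
    have key : ∀ a b : ℕ, b = a + 1 → x * (x ^ a * m0 * (x ^ a)⁻¹) * x⁻¹ = x ^ b * m0 * (x ^ b)⁻¹ := by
      rintro a b rfl
      rw [pow_succ']; group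
    rw [hm]
    rcases five i with rfl | rfl | rfl | rfl | rfl
    · exact key 0 1 rfl
    · exact key 1 2 rfl
    · exact key 2 3 rfl
    · exact key 3 4 rfl
    · have h1 := key 4 5 rfl
      rw [H.x5] at h1
      show x * (x ^ 4 * m0 * (x ^ 4)⁻¹) * x⁻¹ = x ^ 0 * m0 * (x ^ 0)⁻¹
      rw [h1, pow_zero]
  have stepM : ∀ i, M t N e (q i) (m i) → M t N e (q (i + 1)) (m (i + 1)) := by
    intro i hi
    have h1 := H.M_conj H.x_mem hi
    rwa [H.xq, x_m] at h1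
  have M0 : M t N e (q 0) (m 0) := by rw [m_0]; exact h0
  have M1 : M t N e (q 1) (m 1) := stepM 0 M0
  have M2 : M t N e (q 2) (m 2) := stepM 1 M1
  have M3 : M t N e (q 3) (m 3) := stepM 2 M2
  have M4 : M t N e (q 4) (m 4) := stepM 3 M3
  have hM : ∀ i, M t N e (q i) (m i) := by
    intro i
    rcases five i with rfl | rfl | rfl | rfl | rfl
    exacts [M0, M1, M2, M3, M4]
  have gz : Gam t A mz z := H.M_gam pt_z hz
  have gm : ∀ i, Gam t A (m i) (q i) := fun i => H.M_gam (pt_q i) (hM i)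
  -- the line
  obtain ⟨l, hl⟩ : ∃ l, l = u * m 0 * u⁻¹ := ⟨_, rfl⟩
  have Ml : M t N e (z * q 0) l := by
    have h1 := H.M_conj H.u_mem M0
    rwa [H.uq0, ← hl] at h1
  obtain ⟨w1, hw1⟩ : ∃ w1, w1 = mz * m 0 * l := ⟨_, rfl⟩
  have hw1A : w1 ∈ A := by rw [hw1, hl, m_0]; exact hline
  have gl : Gam t A l (z * q 0) := H.M_gam (pt_zq 0) Ml
  have zsq := H.M_sq pt_z hz
  have msq := fun i => H.M_sq (pt_q i) (hM i)
  have lsq := H.M_sq (pt_zq 0) Ml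
  have pzA : ∀ b, pw z b ∈ A := H.pw_z_mem
  have pqA : ∀ i b, pw (q i) b ∈ A := H.pw_q_mem
  have pzqA : ∀ i b, pw (z * q i) b ∈ A := by
    intro i b
    cases b
    · exact A.one_mem
    · exact A.mul_mem H.z_mem (H.q_mem i)
  -- `(mz m0)² = pw (z q0) e`
  have hzm : mz * m 0 = w1 * l⁻¹ := by rw [hw1]; group
  have hsq1 : (mz * m 0) * (mz * m 0) = pw (z * q 0) e := by
    have h1 : l⁻¹ * w1 = w1 * l⁻¹ := (H.gam_inv gl).cen w1 hw1A
    have h2 : (mz * m 0) * (mz * m 0) = w1 * (l⁻¹ * w1) * l⁻¹ := by rw [hzm]; group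
    have h3 : w1 * (w1 * l⁻¹) * l⁻¹ = (w1 * w1) * (l * l)⁻¹ := by group
    rw [h2, h1, h3, H.A_sq hw1A, lsq, one_mul, H.A_inv (pzqA 0 e)]
  have zm0 : mz * m 0 = m 0 * mz := by
    have h1 : mz * (m 0 * mz) * m 0 = mz * (mz * m 0) * m 0 := by
      have e1 : mz * (m 0 * mz) * m 0 = (mz * m 0) * (mz * m 0) := by group
      have e2 : mz * (mz * m 0) * m 0 = (mz * mz) * (m 0 * m 0) := by group
      rw [e1, e2, hsq1, zsq, msq, mul_pw]
    exact (mul_left_cancel (mul_right_cancel h1)).symm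
  have stepz : ∀ i, mz * m i = m i * mz → mz * m (i + 1) = m (i + 1) * mz := by
    intro i hi
    have hx : x⁻¹ * mz = mz * x⁻¹ := by rw [inv_mul_eq_iff_eq_mul, ← mul_assoc, ← hzx, mul_inv_cancel_right]
    rw [← x_m]
    calc mz * (x * m i * x⁻¹) = (mz * x) * m i * x⁻¹ := by group
      _ = x * (mz * m i) * x⁻¹ := by rw [hzx]; group
      _ = x * m i * (mz * x⁻¹) := by rw [hi]; group
      _ = x * m i * x⁻¹ * mz := by rw [← hx]; group
  have z1 := stepz 0 zm0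
  have z2 := stepz 1 z1
  have z3 := stepz 2 z2
  have z4 := stepz 3 z3
  have z_m : ∀ i, mz * m i = m i * mz := by
    intro i
    rcases five i with rfl | rfl | rfl | rfl | rfl
    exacts [zm0, z1, z2, z3, z4]
  -- `a0`
  obtain ⟨a0, ha0⟩ : ∃ a0, a0 = pw (z * q 0) e * w1 := ⟨_, rfl⟩
  have a0A : a0 ∈ A := by rw [ha0]; exact A.mul_mem (pzqA 0 e) hw1A
  have u_m0 : u * m 0 * u⁻¹ = m 0 * mz * a0 := by
    rw [← hl, ← zm0, ha0, ← hsq1.symm.symm]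
    have h1 : (mz * m 0) * ((mz * m 0) * (mz * m 0) * w1) = ((mz * m 0) * (mz * m 0)) * ((mz * m 0) * w1) := by
      group
    have h2 : pw (z * q 0) e * pw (z * q 0) e = 1 := H.A_sq (pzqA 0 e)
    have h3 : ((mz * m 0) * (mz * m 0)) * ((mz * m 0) * (mz * m 0)) = 1 := by rw [hsq1, h2]
    have h4 : mz * m 0 * l = w1 := hw1.symm
    have h5 : l = (mz * m 0)⁻¹ * w1 := by rw [← h4]; group
    rw [h5]
    have h6 : (mz * m 0)⁻¹ = (mz * m 0) * ((mz * m 0) * (mz * m 0)) := by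
      rw [inv_eq_iff_mul_eq_one]
      rw [← h3]; group
    rw [h6]; group
  -- the conjugates
  have u_m1 : ∃ d : Bool, u * m 1 * u⁻¹ = m 1 * mz * (x * a0 * x⁻¹ * pw (z * q 1) d) := by
    have h1 : M t N e (z * q 1) (u * m 1 * u⁻¹) := by
      have := H.M_conj H.u_mem M1
      rwa [H.uq1] at this
    have h2 : M t N e (z * q 1) (x * l * x⁻¹) := by
      have := H.M_conj H.x_mem Ml
      have e1 : x * (z * q 0) * x⁻¹ = z * q 1 := by
        have : x * (z * q 0) * x⁻¹ = (x * z * x⁻¹) * (x * q 0 * x⁻¹) := by group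
        rw [this, H.xz, H.xq]; rfl
      rwa [e1] at this
    obtain ⟨d, hd⟩ := H.M_uniq (pt_zq 1) h2 h1
    refine ⟨d, ?_⟩
    rw [hd, hl, u_m0]
    have hx : x * mz * x⁻¹ = mz := by rw [← hzx]; group
    have e1 : x * (m 0 * mz * a0) * x⁻¹ = (x * m 0 * x⁻¹) * (x * mz * x⁻¹) * (x * a0 * x⁻¹) := by group
    have e2 : (0 : ZMod 5) + 1 = 1 := rfl
    rw [e1, x_m, hx, e2]
    group
  have u_mi : ∀ i, u * q i * u⁻¹ = q i → ∃ d : Bool, u * m i * u⁻¹ = m i * pw (q i) d := by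
    intro i hi
    have h1 := H.M_conj H.u_mem (hM i)
    rw [hi] at h1
    exact H.M_uniq (pt_q i) (hM i) h1
  have s_m0 : ∃ d : Bool, s * m 0 * s⁻¹ = m 0 * pw (q 0) d := by
    have h1 := H.M_conj H.s_mem M0
    have e0 : 2 * (0 : ZMod 5) = 0 := rfl
    rw [H.sq, e0] at h1
    exact H.M_uniq (pt_q 0) M0 h1
  obtain ⟨ka, hka⟩ := s_m0
  have step : ∀ i, s * m i * s⁻¹ = m (2 * i) * pw (q (2 * i)) ka →
      s * m (i + 1) * s⁻¹ = m (2 * (i + 1)) * pw (q (2 * (i + 1))) ka := by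
    intro i hi
    have e1 : s * m (i + 1) * s⁻¹ = (s * x * s⁻¹) * (s * m i * s⁻¹) * (s * x * s⁻¹)⁻¹ := by
      rw [← x_m]; group
    have e2 : x * x * (m (2 * i) * pw (q (2 * i)) ka) * (x * x)⁻¹ =
        (x * (x * m (2 * i) * x⁻¹) * x⁻¹) * (x * (x * pw (q (2 * i)) ka * x⁻¹) * x⁻¹) := by group
    have e3 : 2 * i + 1 + 1 = 2 * (i + 1) := by ring
    rw [e1, H.sx, hi, e2, x_m, x_m, conj_pw, conj_pw, H.xq, H.xq, e3]
  have s0 : s * m 0 * s⁻¹ = m (2 * 0) * pw (q (2 * 0)) ka := hka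
  have s1 := step 0 s0
  have s2 := step 1 s1
  have s3 := step 2 s2
  have s4 := step 3 s3
  have s_m : ∀ i, s * m i * s⁻¹ = m (2 * i) * pw (q (2 * i)) ka := by
    intro i
    rcases five i with rfl | rfl | rfl | rfl | rfl
    exacts [s0, s1, s2, s3, s4]
  have s_a0 : ∃ a b : Bool, s * a0 * s⁻¹ = a0 * (pw z a * pw (q 0) b) := by
    have h1 : ∃ d : Bool, s * mz * s⁻¹ = mz * pw z d := by
      have h1 := H.M_conj H.s_mem hz
      rw [H.sz] at h1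
      exact H.M_uniq pt_z hz h1
    obtain ⟨kz, hkz⟩ := h1
    have h2 : ∃ d : Bool, s * l * s⁻¹ = l * pw (z * q 0) d := by
      have h1 := H.M_conj H.s_mem Ml
      have e1 : s * (z * q 0) * s⁻¹ = z * q 0 := by
        have : s * (z * q 0) * s⁻¹ = (s * z * s⁻¹) * (s * q 0 * s⁻¹) := by group
        rw [this, H.sz, H.sq]; rfl
      rw [e1] at h1
      exact H.M_uniq (pt_zq 0) Ml h1
    obtain ⟨kl, hkl⟩ := h2
    refine ⟨kz ^^ kl, ka ^^ kl, ?_⟩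
    rw [hl, u_m0] at hkl
    have e1 : s * (m 0 * mz * a0) * s⁻¹ = (s * m 0 * s⁻¹) * (s * mz * s⁻¹) * (s * a0 * s⁻¹) := by group
    rw [e1, hka, hkz] at hkl
    have hsA : s * a0 * s⁻¹ = (pw z kz)⁻¹ * (mz⁻¹ * (pw (q 0) ka)⁻¹ * mz) * (a0 * pw (z * q 0) kl) := by
      have e2 : m 0 * pw (q 0) ka * (mz * pw z kz) * (s * a0 * s⁻¹) =
          m 0 * (pw (q 0) ka * mz * pw z kz * (s * a0 * s⁻¹)) := by group
      have e3 : m 0 * mz * a0 * pw (z * q 0) kl = m 0 * (mz * (a0 * pw (z * q 0) kl)) := by group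
      rw [e2, e3] at hkl
      have h3 := mul_left_cancel hkl
      have e4 : s * a0 * s⁻¹ = (pw z kz)⁻¹ * mz⁻¹ * (pw (q 0) ka)⁻¹ * (pw (q 0) ka * mz * pw z kz * (s * a0 * s⁻¹)) := by
        group
      rw [e4, h3]; group
    have e5 : mz⁻¹ * (pw (q 0) ka)⁻¹ * mz = pw (q 0) ka := by
      rw [H.A_inv (pqA 0 ka), (H.gam_inv gz).cen _ (pqA 0 ka)]; group
    rw [hsA, e5, H.A_inv (pzA kz), mul_pw, ← pw_mul H.zz, ← pw_mul (H.qq 0)]
    -- all in `A`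
    have c1 : pw z kz * pw (q 0) ka * (a0 * (pw z kl * pw (q 0) kl)) =
        a0 * (pw z kz * pw (q 0) ka) * (pw z kl * pw (q 0) kl) := by
      rw [← mul_assoc, H.A_comm (A.mul_mem (pzA kz) (pqA 0 ka)) a0A]
    have c2 : pw (q 0) ka * pw z kl = pw z kl * pw (q 0) ka := H.A_comm (pqA 0 ka) (pzA kl)
    rw [c1]
    calc a0 * (pw z kz * pw (q 0) ka) * (pw z kl * pw (q 0) kl)
        = a0 * (pw z kz * (pw (q 0) ka * pw z kl) * pw (q 0) kl) := by group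
      _ = a0 * (pw z kz * pw z kl * (pw (q 0) ka * pw (q 0) kl)) := by rw [c2]; group
  exact ⟨e, m, mz, a0, hz, hM, x_m, hzx, hzu, z_m, a0A, u_m0, u_m1, u_mi 2 H.uq2, u_mi 3 H.uq3, u_mi 4 H.uq4,
    ⟨ka, s_m⟩, s_a0⟩

end Hyp

end Cfsg.Agent.OddHalf.D7Tits.ThetaHyp
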