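import Cfsg.Agent.OddHalf.D7Tits.ThetaY

/-!
# ODD D7, `K` = Tits: `Θ` (helper927, text of helper903 #15617, section 2): 2.1 `e = 0`, 2.2 `Z = 1`, `[n_v, n_w] = 1`
-/

set_option autoImplicit false

namespace Cfsg.Agent.OddHalf.D7Tits.ThetaHyp

open Subgroup

variable {G : Type*} [Group G]

variable {t z x s u k : G} {q : ZMod 5 → G} {A B L : Subgroup G} {N : G → G → Prop}

namespace Hyp

variable (H : Hyp t z x s u k q A B L N)
include H

variable {e : Bool} {m : ZMod 5 → G} {mz a0 : G}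

omit H in
theorem pz_eq (e : Bool) : pw z e = el z q e false false false false false := by simp [el, pw]

omit H in
theorem pow_conj (n : ℕ) (g : G) : x ^ (n + 1) * g * (x ^ (n + 1))⁻¹ = x * (x ^ n * g * (x ^ n)⁻¹) * x⁻¹ := by
  rw [pow_succ']; group

omit H in
theorem pow_conj1 (g : G) : x ^ 1 * g * (x ^ 1)⁻¹ = x * g * x⁻¹ := by rw [pow_one]

omit H in
theorem pq0_eq (d : Bool) : pw (q 0) d = el z q false d false false false false := by simp [el, pw]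
omit H in
theorem pq2_eq (d : Bool) : pw (q 2) d = el z q false false false d false false := by simp [el, pw]
omit H in
theorem pq3_eq (d : Bool) : pw (q 3) d = el z q false false false false d false := by simp [el, pw]
omit H in
theorem pq4_eq (d : Bool) : pw (q 4) d = el z q false false false false false d := by simp [el, pw]
omit H in
theorem pzq1_eq (d : Bool) : pw (z * q 1) d = el z q d false d false false false := by
  cases d <;> simp [el, pw]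
omit H in
theorem pzq2_eq (d : Bool) : pw (z * q 2) d = el z q d false false d false false := by
  cases d <;> simp [el, pw]
omit H in
theorem pzq3_eq (d : Bool) : pw (z * q 3) d = el z q d false false false d false := by
  cases d <;> simp [el, pw]
omit H in
theorem pzq4_eq (d : Bool) : pw (z * q 4) d = el z q d false false false false d := by
  cases d <;> simp [el, pw]

/-- the shape of `a0` -/
theorem a0_shape (D : MD t z x s u q A B N e m mz a0) : ∃ α β γ : Bool, a0 = el z q α β γ false false γ := by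
  obtain ⟨a, c0, c1, c2, c3, c4, rfl⟩ := H.exists_el D.a0_mem
  obtain ⟨p, b, h⟩ := D.s_a0
  have h0 : pw z p * pw (q 0) b = el z q p b false false false false := by simp [el, pw]
  rw [H.s_el, h0, H.el_mul] at h
  have h1 := H.el_ne h
  clear h h0 D
  have h2 : (c1 = c2 ∧ c2 = c3 ∧ c3 = c4) ∨ (c1 = c4 ∧ c2 = c3 ∧ c1 = !c2) := by
    revert h1
    cases a <;> cases p <;> cases b <;> cases c0 <;> cases c1 <;> cases c2 <;> cases c3 <;> cases c4 <;> simp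
  have flip : el z q a c0 c1 c2 c3 c4 = el z q a (!c0) (!c1) (!c2) (!c3) (!c4) := by
    have h3 := H.el_mul a c0 c1 c2 c3 c4 false true true true true true
    rw [H.el_all, mul_one] at h3
    simpa using h3
  rcases h2 with ⟨rfl, rfl, rfl⟩ | ⟨rfl, rfl, rfl⟩
  · cases c1
    · exact ⟨a, c0, false, rfl⟩
    · exact ⟨a, !c0, false, by rw [flip]; rfl⟩
  · cases c2
    · exact ⟨a, c0, true, rfl⟩
    · exact ⟨a, !c0, true, by rw [flip]; rfl⟩

/-- `u² ∈ A` -/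
theorem uu_aux (D : MD t z x s u q A B N e m mz a0) {i : ZMod 5} {a : G} (ha : a ∈ A)
    (hi : u * m i * u⁻¹ = m i * mz * a) : pw z e * (a * (u * a * u⁻¹)) = 1 := by
  have hmz : u * mz * u⁻¹ = mz := by rw [← D.u_z]; group
  have h1 : u * (u * m i * u⁻¹) * u⁻¹ = m i := by
    have e1 : u * (u * m i * u⁻¹) * u⁻¹ = (u * u) * m i * (u * u)⁻¹ := by group
    rw [e1, ← (H.gm D i).cen _ H.uu]; group
  rw [hi] at h1
  have h2 : u * (m i * mz * a) * u⁻¹ = (u * m i * u⁻¹) * (u * mz * u⁻¹) * (u * a * u⁻¹) := by group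
  rw [h2, hi, hmz] at h1
  have h3 : m i * mz * a * mz * (u * a * u⁻¹) = m i * (mz * mz * (a * (u * a * u⁻¹))) := by
    have : a * mz = mz * a := ((H.gz D).cen a ha).symm
    calc m i * mz * a * mz * (u * a * u⁻¹) = m i * mz * (a * mz) * (u * a * u⁻¹) := by group
      _ = m i * (mz * mz * (a * (u * a * u⁻¹))) := by rw [this]; group
  rw [h3, H.M_sq pt_z D.hz] at h1
  have h4 : m i * (pw z e * (a * (u * a * u⁻¹))) = m i * 1 := by rw [mul_one]; exact h1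
  exact mul_left_cancel h4

/-- `[u, x^n u x^{-n}] ∈ A` -/
theorem uc_aux (D : MD t z x s u q A B N e m mz a0) {n : ℕ} {i : ZMod 5} {d : Bool}
    (hq : x ^ n * q 0 * (x ^ n)⁻¹ = q i) (hm : x ^ n * m 0 * (x ^ n)⁻¹ = m i)
    (hW : x ^ n * a0 * (x ^ n)⁻¹ ∈ A) (hd : u * m i * u⁻¹ = m i * pw (q i) d) :
    x ^ n * a0 * (x ^ n)⁻¹ * pw (z * q i) d = pw (q i) d * (u * (x ^ n * a0 * (x ^ n)⁻¹) * u⁻¹) := by
  obtain ⟨X, hX⟩ : ∃ X, X = x ^ n := ⟨_, rfl⟩
  obtain ⟨w, hw⟩ : ∃ w, w = X * a0 * X⁻¹ := ⟨_, rfl⟩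
  obtain ⟨v, hv⟩ : ∃ v, v = X * u * X⁻¹ := ⟨_, rfl⟩
  have huc := H.uc n
  rw [← hX] at hq hm huc hW ⊢
  rw [← hw] at hW ⊢
  rw [← hv] at huc
  have hXz : X * mz * X⁻¹ = mz := by
    have h1 : X * mz = mz * X := by
      rw [hX]; exact ((show Commute mz x from D.x_z).pow_right n).symm
    rw [h1]; group
  have hXzz : X * z * X⁻¹ = z := by
    have h0 : Commute x z := by
      show x * z = z * x
      rw [← mul_inv_eq_iff_eq_mul]; exact H.xz
    have h1 : X * z = z * X := by rw [hX]; exact h0.pow_left n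
    rw [h1]; group
  -- `v m_i v⁻¹ = m_i mz w`
  have hvm : v * m i * v⁻¹ = m i * mz * w := by
    have e1 : v * m i * v⁻¹ = X * (u * (X⁻¹ * m i * X) * u⁻¹) * X⁻¹ := by rw [hv]; group
    have e2 : X⁻¹ * m i * X = m 0 := by rw [← hm]; group
    have e3 : X * (m 0 * mz * a0) * X⁻¹ = (X * m 0 * X⁻¹) * (X * mz * X⁻¹) * (X * a0 * X⁻¹) := by group
    rw [e1, e2, D.u_m0, e3, hm, hXz, hw]
  have hvq : v * q i * v⁻¹ = z * q i := by
    have e1 : v * q i * v⁻¹ = X * (u * (X⁻¹ * q i * X) * u⁻¹) * X⁻¹ := by rw [hv]; group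
    have e2 : X⁻¹ * q i * X = q 0 := by rw [← hq]; group
    have e3 : X * (z * q 0) * X⁻¹ = (X * z * X⁻¹) * (X * q 0 * X⁻¹) := by group
    rw [e1, e2, H.uq0, e3, hq, hXzz]
  have humz : u * mz * u⁻¹ = mz := by rw [← D.u_z]; group
  -- the two sides
  have hL : (v * u) * m i * (v * u)⁻¹ = m i * (mz * (w * pw (z * q i) d)) := by
    have e1 : (v * u) * m i * (v * u)⁻¹ = v * (u * m i * u⁻¹) * v⁻¹ := by group
    have e2 : v * (m i * pw (q i) d) * v⁻¹ = (v * m i * v⁻¹) * (v * pw (q i) d * v⁻¹) := by group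
    rw [e1, hd, e2, hvm, conj_pw, hvq]; group
  have hR : (u * v) * m i * (u * v)⁻¹ = m i * (mz * (pw (q i) d * (u * w * u⁻¹))) := by
    have e1 : (u * v) * m i * (u * v)⁻¹ = u * (v * m i * v⁻¹) * u⁻¹ := by group
    have e2 : u * (m i * mz * w) * u⁻¹ = (u * m i * u⁻¹) * (u * mz * u⁻¹) * (u * w * u⁻¹) := by group
    have e3 : pw (q i) d * mz = mz * pw (q i) d := ((H.gz D).cen _ (H.pw_q_mem i d)).symm
    rw [e1, hvm, e2, hd, humz, mul_assoc (m i), e3]; group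
  obtain ⟨c, hc⟩ : ∃ c, c = v * u * (u * v)⁻¹ := ⟨_, rfl⟩
  rw [← hc] at huc
  have hvu : v * u = c * (u * v) := by rw [hc]; group
  have hLR : (v * u) * m i * (v * u)⁻¹ = (u * v) * m i * (u * v)⁻¹ := by
    have e1 : (v * u) * m i * (v * u)⁻¹ = c * ((u * v) * m i * (u * v)⁻¹) * c⁻¹ := by rw [hvu]; group
    have hRA : Cn A m mz (pw (q i) d * (u * w * u⁻¹)) :=
      H.cn_A D (A.mul_mem (H.pw_q_mem i d) (H.u_A hW))
    have e2 : c * ((u * v) * m i * (u * v)⁻¹) = ((u * v) * m i * (u * v)⁻¹) * c := by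
      rw [hR]
      have f1 : c * m i = m i * c := ((H.gm D i).cen c huc).symm
      have f2 : c * mz = mz * c := ((H.gz D).cen c huc).symm
      have f3 := (hRA.2.2 c huc).symm
      obtain ⟨b, hb⟩ : ∃ b, b = pw (q i) d * (u * w * u⁻¹) := ⟨_, rfl⟩
      rw [← hb] at f3 ⊢
      calc c * (m i * (mz * b)) = (c * m i) * (mz * b) := by rw [mul_assoc c]
        _ = m i * ((c * mz) * b) := by rw [f1]; simp only [mul_assoc]
        _ = m i * (mz * (c * b)) := by rw [f2]; simp only [mul_assoc]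
        _ = m i * (mz * b) * c := by rw [f3]; simp only [mul_assoc]
    rw [e1, e2, mul_inv_cancel_right]
  rw [hL, hR] at hLR
  exact mul_left_cancel (mul_left_cancel hLR)

/-- **2.1**: `e = 0` -/
theorem e_false (D : MD t z x s u q A B N e m mz a0) : e = false := by
  obtain ⟨α, β, γ, ha0⟩ := H.a0_shape D
  obtain ⟨d1, h1⟩ := D.u_m1
  obtain ⟨d2, h2⟩ := D.u_m2
  obtain ⟨d3, h3⟩ := D.u_m3
  obtain ⟨d4, h4⟩ := D.u_m4
  -- `i = 0`
  have k0 := H.uu_aux D D.a0_mem D.u_m0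
  rw [ha0, H.u_el, H.el_mul, pz_eq, H.el_mul] at k0
  have k0' := (H.el_eq_one k0).1
  -- `a1`
  have xa0 : x * a0 * x⁻¹ = el z q α γ β γ false false := by rw [ha0, H.x_el]
  have ha1 : x * a0 * x⁻¹ * pw (z * q 1) d1 = el z q (α ^^ d1) γ (β ^^ d1) γ false false := by
    rw [xa0, pzq1_eq, H.el_mul]; simp
  have k1 := H.uu_aux D (A.mul_mem (H.x_A D.a0_mem) (H.pzq_mem 1 d1)) h1
  rw [ha1, H.u_el, H.el_mul, pz_eq, H.el_mul] at k1
  have k1' := (H.el_eq_one k1).1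
  -- `i = 2, 3, 4`
  have xq : ∀ i, x * q i * x⁻¹ = q (i + 1) := H.xq
  have x2q : x ^ 2 * q 0 * (x ^ 2)⁻¹ = q 2 := by
    have : x ^ 2 * q 0 * (x ^ 2)⁻¹ = x * (x * q 0 * x⁻¹) * x⁻¹ := by
      rw [pow_conj, pow_conj1]
    rw [this, xq, xq]; rfl
  have x3q : x ^ 3 * q 0 * (x ^ 3)⁻¹ = q 3 := by
    have : x ^ 3 * q 0 * (x ^ 3)⁻¹ = x * (x * (x * q 0 * x⁻¹) * x⁻¹) * x⁻¹ := by
      rw [pow_conj, pow_conj, pow_conj1]
    rw [this, xq, xq, xq]; rfl
  have x4q : x ^ 4 * q 0 * (x ^ 4)⁻¹ = q 4 := by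
    have : x ^ 4 * q 0 * (x ^ 4)⁻¹ = x * (x * (x * (x * q 0 * x⁻¹) * x⁻¹) * x⁻¹) * x⁻¹ := by
      rw [pow_conj, pow_conj, pow_conj, pow_conj1]
    rw [this, xq, xq, xq, xq]; rfl
  have x2m : x ^ 2 * m 0 * (x ^ 2)⁻¹ = m 2 := by
    have : x ^ 2 * m 0 * (x ^ 2)⁻¹ = x * (x * m 0 * x⁻¹) * x⁻¹ := by
      rw [pow_conj, pow_conj1]
    rw [this, D.x_m, D.x_m]; rfl
  have x3m : x ^ 3 * m 0 * (x ^ 3)⁻¹ = m 3 := by
    have : x ^ 3 * m 0 * (x ^ 3)⁻¹ = x * (x * (x * m 0 * x⁻¹) * x⁻¹) * x⁻¹ := by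
      rw [pow_conj, pow_conj, pow_conj1]
    rw [this, D.x_m, D.x_m, D.x_m]; rfl
  have x4m : x ^ 4 * m 0 * (x ^ 4)⁻¹ = m 4 := by
    have : x ^ 4 * m 0 * (x ^ 4)⁻¹ = x * (x * (x * (x * m 0 * x⁻¹) * x⁻¹) * x⁻¹) * x⁻¹ := by
      rw [pow_conj, pow_conj, pow_conj, pow_conj1]
    rw [this, D.x_m, D.x_m, D.x_m, D.x_m]; rfl
  have x2a : x ^ 2 * a0 * (x ^ 2)⁻¹ = el z q α false γ β γ false := by
    have : x ^ 2 * a0 * (x ^ 2)⁻¹ = x * (x * a0 * x⁻¹) * x⁻¹ := by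
      rw [pow_conj, pow_conj1]
    rw [this, xa0, H.x_el]
  have x3a : x ^ 3 * a0 * (x ^ 3)⁻¹ = el z q α false false γ β γ := by
    have : x ^ 3 * a0 * (x ^ 3)⁻¹ = x * (x * (x * a0 * x⁻¹) * x⁻¹) * x⁻¹ := by
      rw [pow_conj, pow_conj, pow_conj1]
    rw [this, xa0, H.x_el, H.x_el]
  have x4a : x ^ 4 * a0 * (x ^ 4)⁻¹ = el z q α γ false false γ β := by
    have : x ^ 4 * a0 * (x ^ 4)⁻¹ = x * (x * (x * (x * a0 * x⁻¹) * x⁻¹) * x⁻¹) * x⁻¹ := by
      rw [pow_conj, pow_conj, pow_conj, pow_conj1]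
    rw [this, xa0, H.x_el, H.x_el, H.x_el]
  have k2 := H.uc_aux D x2q x2m (by rw [x2a]; exact H.el_mem _ _ _ _ _ _) h2
  rw [x2a, H.u_el, pzq2_eq, pq2_eq, H.el_mul, H.el_mul] at k2
  have k2' := (H.el_ne k2).1
  have k3 := H.uc_aux D x3q x3m (by rw [x3a]; exact H.el_mem _ _ _ _ _ _) h3
  rw [x3a, H.u_el, pzq3_eq, pq3_eq, H.el_mul, H.el_mul] at k3
  have k3' := (H.el_ne k3).1
  have k4 := H.uc_aux D x4q x4m (by rw [x4a]; exact H.el_mem _ _ _ _ _ _) h4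
  rw [x4a, H.u_el, pzq4_eq, pq4_eq, H.el_mul, H.el_mul] at k4
  have k4' := (H.el_ne k4).1
  -- `u y u⁻¹ = y`
  have huy : u * yy m * u⁻¹ = yy m := H.conj_one_z u H.uz (H.y_cases D)
  have hb2 : u * m 2 * u⁻¹ = m 2 * el z q false false false d2 false false := by rw [h2, pq2_eq]
  have hb3 : u * m 3 * u⁻¹ = m 3 * el z q false false false false d3 false := by rw [h3, pq3_eq]
  have hb4 : u * m 4 * u⁻¹ = m 4 * el z q false false false false false d4 := by rw [h4, pq4_eq]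
  have hb1 : u * m 1 * u⁻¹ = m 1 * mz * el z q (α ^^ d1) γ (β ^^ d1) γ false false := by rw [h1, ha1]
  have hb0 : u * m 0 * u⁻¹ = m 0 * mz * el z q α β γ false false γ := by rw [D.u_m0, ha0]
  have key : ∀ b0 b1 b2 b3 b4 : G, b0 ∈ A → b1 ∈ A → b2 ∈ A → b3 ∈ A → b4 ∈ A →
      (m 0 * mz * b0) * ((m 1 * mz * b1) * ((m 2 * b2) * ((m 3 * b3) * (m 4 * b4)))) =
        yy m * (mz * mz * (b0 * (b1 * (b2 * (b3 * b4))))) := by
    intro b0 b1 b2 b3 b4 g0 g1 g2 g3 g4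
    have cA : ∀ b ∈ A, ∀ i (g : G), b * (m i * g) = m i * (b * g) := by
      intro b hb i g
      rw [← mul_assoc, ← (H.gm D i).cen b hb, mul_assoc]
    have cAz : ∀ b ∈ A, ∀ (g : G), b * (mz * g) = mz * (b * g) := by
      intro b hb g
      rw [← mul_assoc, ← (H.gz D).cen b hb, mul_assoc]
    have cz : ∀ i (g : G), mz * (m i * g) = m i * (mz * g) := by
      intro i g
      rw [← mul_assoc, D.z_m i, mul_assoc]
    unfold yy
    simp only [mul_assoc]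
    simp only [cA b0 g0, cA b1 g1, cA b2 g2, cA b3 g3, cAz b0 g0, cAz b1 g1, cz]
  have hall : u * yy m * u⁻¹ = (u * m 0 * u⁻¹) * ((u * m 1 * u⁻¹) * ((u * m 2 * u⁻¹) * ((u * m 3 * u⁻¹) *
      (u * m 4 * u⁻¹)))) := by unfold yy; group
  rw [hall, hb0, hb1, hb2, hb3, hb4, key _ _ _ _ _ (H.el_mem _ _ _ _ _ _) (H.el_mem _ _ _ _ _ _)
    (H.el_mem _ _ _ _ _ _) (H.el_mem _ _ _ _ _ _) (H.el_mem _ _ _ _ _ _), H.M_sq pt_z D.hz, pz_eq, H.el_mul,
    H.el_mul, H.el_mul, H.el_mul, H.el_mul] at huy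
  have h5 : yy m * el z q (e ^^ (α ^^ ((α ^^ d1) ^^ (false ^^ (false ^^ false)))))
      (false ^^ (β ^^ (γ ^^ (false ^^ (false ^^ false))))) (false ^^ (γ ^^ ((β ^^ d1) ^^ (false ^^ (false ^^ false)))))
      (false ^^ (false ^^ (γ ^^ (d2 ^^ (false ^^ false))))) (false ^^ (false ^^ (false ^^ (false ^^ (d3 ^^ false)))))
      (false ^^ (γ ^^ (false ^^ (false ^^ (false ^^ d4))))) = yy m * 1 := by rw [mul_one]; exact huy
  have h6 := H.el_eq_one (mul_left_cancel h5)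
  clear h5 huy hall key hb0 hb1 hb2 hb3 hb4 k0 k1 k2 k3 k4 x2a x3a x4a x2m x3m x4m x2q x3q x4q xq ha1 xa0 h1 h2 h3 h4
  clear ha0
  revert k0' k1' k2' k3' k4' h6
  cases e
  · intros; rfl
  · cases α <;> cases β <;> cases γ <;> cases d1 <;> cases d2 <;> cases d3 <;> cases d4 <;> simp

/-- **2.2**: `Z = 1` -/
theorem comm_all (D : MD t z x s u q A B N e m mz a0) : ∀ i j, m i * m j = m j * m i := by
  obtain ⟨Z, hZ, hc⟩ := H.exists_Z D
  have hZA := H.Z_mem hZ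
  obtain ⟨d, hd⟩ := D.s_m
  have hsy : s * yy m * s⁻¹ = yy m := H.conj_one_z s H.sz (H.y_cases D)
  have hall : s * yy m * s⁻¹ = (s * m 0 * s⁻¹) * ((s * m 1 * s⁻¹) * ((s * m 2 * s⁻¹) * ((s * m 3 * s⁻¹) *
      (s * m 4 * s⁻¹)))) := by unfold yy; group
  have e0 : 2 * (0 : ZMod 5) = 0 := rfl
  have e1 : 2 * (1 : ZMod 5) = 2 := rfl
  have e2 : 2 * (2 : ZMod 5) = 4 := rfl
  have e3 : 2 * (3 : ZMod 5) = 1 := rfl
  have e4 : 2 * (4 : ZMod 5) = 3 := rfl
  rw [hall, hd, hd, hd, hd, hd, e0, e1, e2, e3, e4] at hsy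
  have cA : ∀ i' i (g : G), pw (q i') d * (m i * g) = m i * (pw (q i') d * g) := by
    intro i' i g
    rw [← mul_assoc, ← (H.gm D i).cen _ (H.pw_q_mem i' d), mul_assoc]
  have hq : pw (q 0) d * (pw (q 2) d * (pw (q 4) d * (pw (q 1) d * pw (q 3) d))) = 1 := by
    have h1 : pw (q 0) d * (pw (q 2) d * (pw (q 4) d * (pw (q 1) d * pw (q 3) d))) =
        el z q false d false d false d * el z q false false d false d false := by
      simp only [el, pw, cond_false, one_mul, mul_one, mul_assoc]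
    rw [h1, H.el_mul]
    cases d
    · simp only [Bool.xor_false]; exact el_one
    · simp only [Bool.xor_false, Bool.false_xor]; exact H.el_all
  have h7 : m 0 * pw (q 0) d * (m 2 * pw (q 2) d * (m 4 * pw (q 4) d * (m 1 * pw (q 1) d * (m 3 * pw (q 3) d)))) =
      m 0 * (m 2 * (m 4 * (m 1 * m 3))) *
        (pw (q 0) d * (pw (q 2) d * (pw (q 4) d * (pw (q 1) d * pw (q 3) d)))) := by
    simp only [mul_assoc]
    simp only [cA]
  rw [h7, hq, mul_one, ord_aux (H.cn_A D hZA).1 (H.A_sq hZA) hc] at hsy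
  have hZ1 : Z = 1 := by
    have : yy m * Z = yy m * 1 := by rw [mul_one]; exact hsy
    exact mul_left_cancel this
  intro i j
  by_cases hij : i = j
  · rw [hij]
  · rw [hc i j hij, hZ1, one_mul]

end Hyp

end Cfsg.Agent.OddHalf.D7Tits.ThetaHyp
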