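import Mathlib

/-!
# ODD D7, `K` = Tits: `Θ` (helper927, text of helper903 #15617, section 2): hypotheses and the group `A`

`A = ⟨z, q_i (i ∈ ℤ/5)⟩`, `∏ q_i = 1`, order `2^5`; `x : q_i ↦ q_{i+1}`, `s : q_i ↦ q_{2i}`,
`u : q_0 ↦ z q_0, q_1 ↦ z q_1`, the other `q_i` fixed; `k : z ↔ q_0`.
`N v y` (for a point `v`): `y` is an involution with `y t y⁻¹ = t v` centralising `E_v`; `y` is determined up to `v`.
`B = A` or `A ⟨j⟩`, `C_{C(t)}(A) = B ∪ t B`.
-/

set_option autoImplicit false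

namespace Cfsg.Agent.OddHalf.D7Tits.ThetaHyp

open Subgroup

variable {G : Type*} [Group G]

/-- `g` or `1` -/
def pw (g : G) (b : Bool) : G := cond b g 1

theorem pw_true (g : G) : pw g true = g := rfl
theorem pw_false (g : G) : pw g false = 1 := rfl

theorem pw_mul {g : G} (h : g * g = 1) (a b : Bool) : pw g a * pw g b = pw g (a ^^ b) := by
  cases a <;> cases b <;> simp [pw, h]

theorem pw_sq {g : G} (h : g * g = 1) (a : Bool) : pw g a * pw g a = 1 := by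
  rw [pw_mul h, Bool.xor_self]; rfl

theorem pw_comm {g h : G} (hgh : g * h = h * g) (a : Bool) : pw g a * h = h * pw g a := by
  cases a <;> simp [pw, hgh]

theorem pw_comm' {g h : G} (hgh : g * h = h * g) (a b : Bool) : pw g a * pw h b = pw h b * pw g a := by
  cases a <;> cases b <;> simp [pw, hgh]

theorem mul_pw {g h : G} (a : Bool) : pw (g * h) a = pw g a * pw h a := by
  cases a <;> simp [pw]

theorem conj_pw (c g : G) (b : Bool) : c * pw g b * c⁻¹ = pw (c * g * c⁻¹) b := by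
  cases b <;> simp [pw]

/-- `v` is one of the 11 points of `A` -/
def IsPt (z : G) (q : ZMod 5 → G) (v : G) : Prop := v = z ∨ ∃ i, v = q i ∨ v = z * q i

/-- **The hypotheses of section 2.** -/
structure Hyp (t z x s u k : G) (q : ZMod 5 → G) (A B L : Subgroup G) (N : G → G → Prop) : Prop where
  tt : t * t = 1
  zz : z * z = 1
  qq : ∀ i, q i * q i = 1
  zq : ∀ i, z * q i = q i * z
  qc : ∀ i j, q i * q j = q j * q i
  prod : q 0 * (q 1 * (q 2 * (q 3 * q 4))) = 1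
  indep : ∀ a c0 c1 c2 c3 : Bool,
    pw z a * (pw (q 0) c0 * (pw (q 1) c1 * (pw (q 2) c2 * pw (q 3) c3))) = 1 →
      a = false ∧ c0 = false ∧ c1 = false ∧ c2 = false ∧ c3 = false
  A_eq : A = Subgroup.closure (insert z (Set.range q))
  -- `L` (= `K` or `K⁺`)
  L_t : ∀ g ∈ L, g * t = t * g
  A_le_L : A ≤ L
  x_mem : x ∈ L
  s_mem : s ∈ L
  u_mem : u ∈ L
  k_mem : k ∈ L
  x5 : x ^ 5 = 1
  xz : x * z * x⁻¹ = z
  xq : ∀ i, x * q i * x⁻¹ = q (i + 1)
  sz : s * z * s⁻¹ = z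
  sq : ∀ i, s * q i * s⁻¹ = q (2 * i)
  sx : s * x * s⁻¹ = x * x
  uz : u * z * u⁻¹ = z
  uq0 : u * q 0 * u⁻¹ = z * q 0
  uq1 : u * q 1 * u⁻¹ = z * q 1
  uq2 : u * q 2 * u⁻¹ = q 2
  uq3 : u * q 3 * u⁻¹ = q 3
  uq4 : u * q 4 * u⁻¹ = q 4
  uu : u * u ∈ A
  uc : ∀ i : ℕ, x ^ i * u * (x ^ i)⁻¹ * u * (u * (x ^ i * u * (x ^ i)⁻¹))⁻¹ ∈ A
  kz : k * z * k⁻¹ = q 0
  kq : k * q 0 * k⁻¹ = z
  -- `B = A` or `A ⟨j⟩`
  A_le_B : A ≤ B
  B_t : ∀ w ∈ B, w * t = t * w
  B_A : ∀ w ∈ B, ∀ a ∈ A, w * a = a * w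
  B_sq : ∀ w ∈ B, w * w = 1 ∨ w * w = z
  B_one : ∀ w ∈ B, w * w = 1 → w ∈ A
  cent : ∀ y, y * t = t * y → (∀ a ∈ A, y * a = a * y) → y ∈ B ∨ t * y ∈ B
  -- the involutions `n_v`
  N_sq : ∀ v y, N v y → y * y = 1
  N_t : ∀ v y, N v y → y * t * y⁻¹ = t * v
  N_A : ∀ v y, IsPt z q v → N v y → ∀ a ∈ A, y * a = a * y
  N_B : ∀ v y, IsPt z q v → N v y → ∀ w ∈ B, y * w = w * y
  N_conj : ∀ g ∈ L, ∀ v y, N v y → N (g * v * g⁻¹) (g * y * g⁻¹)
  N_uniq : ∀ v y y', N v y → N v y' → y' = y ∨ y' = y * v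
  N_ex : ∃ n, N z n
  N_x : ∀ n, N z n → n * x = x * n
  N_u : ∀ n, N z n → n * u = u * n

variable {t z x s u k : G} {q : ZMod 5 → G} {A B L : Subgroup G} {N : G → G → Prop}

/-- the elements of `A` -/
def el (z : G) (q : ZMod 5 → G) (a c0 c1 c2 c3 c4 : Bool) : G :=
  pw z a * (pw (q 0) c0 * (pw (q 1) c1 * (pw (q 2) c2 * (pw (q 3) c3 * pw (q 4) c4))))

namespace Hyp

variable (H : Hyp t z x s u k q A B L N)
include H

theorem z_mem : z ∈ A := by rw [H.A_eq]; exact subset_closure (Set.mem_insert _ _)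

theorem q_mem (i : ZMod 5) : q i ∈ A := by
  rw [H.A_eq]; exact subset_closure (Set.mem_insert_of_mem _ ⟨i, rfl⟩)

theorem pw_z_mem (b : Bool) : pw z b ∈ A := by
  cases b
  · exact A.one_mem
  · exact H.z_mem

theorem pw_q_mem (i : ZMod 5) (b : Bool) : pw (q i) b ∈ A := by
  cases b
  · exact A.one_mem
  · exact H.q_mem i

theorem el_mem (a c0 c1 c2 c3 c4 : Bool) : el z q a c0 c1 c2 c3 c4 ∈ A :=
  A.mul_mem (H.pw_z_mem _) (A.mul_mem (H.pw_q_mem _ _) (A.mul_mem (H.pw_q_mem _ _) (A.mul_mem (H.pw_q_mem _ _)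
    (A.mul_mem (H.pw_q_mem _ _) (H.pw_q_mem _ _)))))

theorem el_mul (a c0 c1 c2 c3 c4 a' c0' c1' c2' c3' c4' : Bool) :
    el z q a c0 c1 c2 c3 c4 * el z q a' c0' c1' c2' c3' c4' =
      el z q (a ^^ a') (c0 ^^ c0') (c1 ^^ c1') (c2 ^^ c2') (c3 ^^ c3') (c4 ^^ c4') := by
  unfold el
  have cq : ∀ i j b b', Commute (pw (q i) b) (pw (q j) b') := fun i j b b' => pw_comm' (H.qc i j) b b'
  have cz : ∀ i b b', Commute (pw (q i) b) (pw z b') := fun i b b' => pw_comm' (H.zq i).symm b b'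
  have h4 : pw (q 3) c3 * pw (q 4) c4 * (pw (q 3) c3' * pw (q 4) c4') =
      pw (q 3) (c3 ^^ c3') * pw (q 4) (c4 ^^ c4') := by
    rw [Commute.mul_mul_mul_comm (cq 4 3 c4 c3'), pw_mul (H.qq 3), pw_mul (H.qq 4)]
  have h3 : pw (q 2) c2 * (pw (q 3) c3 * pw (q 4) c4) * (pw (q 2) c2' * (pw (q 3) c3' * pw (q 4) c4')) =
      pw (q 2) (c2 ^^ c2') * (pw (q 3) (c3 ^^ c3') * pw (q 4) (c4 ^^ c4')) := by
    rw [Commute.mul_mul_mul_comm ((cq 3 2 c3 c2').mul_left (cq 4 2 c4 c2')), pw_mul (H.qq 2), h4]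
  have h2 : pw (q 1) c1 * (pw (q 2) c2 * (pw (q 3) c3 * pw (q 4) c4)) *
      (pw (q 1) c1' * (pw (q 2) c2' * (pw (q 3) c3' * pw (q 4) c4'))) =
      pw (q 1) (c1 ^^ c1') * (pw (q 2) (c2 ^^ c2') * (pw (q 3) (c3 ^^ c3') * pw (q 4) (c4 ^^ c4'))) := by
    rw [Commute.mul_mul_mul_comm ((cq 2 1 c2 c1').mul_left ((cq 3 1 c3 c1').mul_left (cq 4 1 c4 c1'))),
      pw_mul (H.qq 1), h3]
  have h1 : pw (q 0) c0 * (pw (q 1) c1 * (pw (q 2) c2 * (pw (q 3) c3 * pw (q 4) c4))) *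
      (pw (q 0) c0' * (pw (q 1) c1' * (pw (q 2) c2' * (pw (q 3) c3' * pw (q 4) c4')))) =
      pw (q 0) (c0 ^^ c0') * (pw (q 1) (c1 ^^ c1') * (pw (q 2) (c2 ^^ c2') * (pw (q 3) (c3 ^^ c3') *
        pw (q 4) (c4 ^^ c4')))) := by
    rw [Commute.mul_mul_mul_comm ((cq 1 0 c1 c0').mul_left ((cq 2 0 c2 c0').mul_left ((cq 3 0 c3 c0').mul_left
      (cq 4 0 c4 c0')))), pw_mul (H.qq 0), h2]
  rw [Commute.mul_mul_mul_comm ((cz 0 c0 a').mul_left ((cz 1 c1 a').mul_left ((cz 2 c2 a').mul_left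
    ((cz 3 c3 a').mul_left (cz 4 c4 a'))))), pw_mul H.zz, h1]

omit H in
theorem el_one : el z q false false false false false false = 1 := by simp [el, pw]

theorem el_all : el z q false true true true true true = 1 := by
  have h := H.prod
  simp only [el, pw, cond_true, cond_false, one_mul]
  exact h

omit H in
theorem z_eq : el z q true false false false false false = z := by simp [el, pw]

omit H in
theorem q0_eq : el z q false true false false false false = q 0 := by simp [el, pw]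
omit H in
theorem q1_eq : el z q false false true false false false = q 1 := by simp [el, pw]
omit H in
theorem q2_eq : el z q false false false true false false = q 2 := by simp [el, pw]
omit H in
theorem q3_eq : el z q false false false false true false = q 3 := by simp [el, pw]
omit H in
theorem q4_eq : el z q false false false false false true = q 4 := by simp [el, pw]

theorem exists_el {a : G} (ha : a ∈ A) : ∃ b c0 c1 c2 c3 c4, a = el z q b c0 c1 c2 c3 c4 := by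
  rw [H.A_eq] at ha
  induction ha using Subgroup.closure_induction with
  | mem y hy =>
    rcases hy with rfl | ⟨i, rfl⟩
    · exact ⟨_, _, _, _, _, _, z_eq.symm⟩
    · fin_cases i
      · exact ⟨_, _, _, _, _, _, q0_eq.symm⟩
      · exact ⟨_, _, _, _, _, _, q1_eq.symm⟩
      · exact ⟨_, _, _, _, _, _, q2_eq.symm⟩
      · exact ⟨_, _, _, _, _, _, q3_eq.symm⟩
      · exact ⟨_, _, _, _, _, _, q4_eq.symm⟩
  | one => exact ⟨_, _, _, _, _, _, el_one.symm⟩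
  | mul a b _ _ iha ihb =>
    obtain ⟨_, _, _, _, _, _, rfl⟩ := iha
    obtain ⟨_, _, _, _, _, _, rfl⟩ := ihb
    exact ⟨_, _, _, _, _, _, H.el_mul _ _ _ _ _ _ _ _ _ _ _ _⟩
  | inv a _ iha =>
    obtain ⟨b, c0, c1, c2, c3, c4, rfl⟩ := iha
    refine ⟨b, c0, c1, c2, c3, c4, ?_⟩
    rw [inv_eq_iff_mul_eq_one, H.el_mul]
    simp only [Bool.xor_self]
    exact el_one

theorem el_eq_one {a c0 c1 c2 c3 c4 : Bool} (h : el z q a c0 c1 c2 c3 c4 = 1) :
    a = false ∧ ((c0 = false ∧ c1 = false ∧ c2 = false ∧ c3 = false ∧ c4 = false) ∨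
      (c0 = true ∧ c1 = true ∧ c2 = true ∧ c3 = true ∧ c4 = true)) := by
  cases c4
  · have h1 : pw z a * (pw (q 0) c0 * (pw (q 1) c1 * (pw (q 2) c2 * pw (q 3) c3))) = 1 := by
      rw [← h]; simp [el, pw]
    obtain ⟨rfl, rfl, rfl, rfl, rfl⟩ := H.indep _ _ _ _ _ h1
    exact ⟨rfl, Or.inl ⟨rfl, rfl, rfl, rfl, rfl⟩⟩
  · have h2 : el z q a (!c0) (!c1) (!c2) (!c3) false = 1 := by
      have h3 := H.el_mul a c0 c1 c2 c3 true false true true true true true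
      rw [h, H.el_all, one_mul] at h3
      simp only [Bool.xor_false, Bool.xor_true, Bool.not_true] at h3
      exact h3.symm
    have h1 : pw z a * (pw (q 0) (!c0) * (pw (q 1) (!c1) * (pw (q 2) (!c2) * pw (q 3) (!c3)))) = 1 := by
      rw [← h2]; simp [el, pw]
    obtain ⟨rfl, e0, e1, e2, e3⟩ := H.indep _ _ _ _ _ h1
    exact ⟨rfl, Or.inr ⟨by simpa using e0, by simpa using e1, by simpa using e2, by simpa using e3, rfl⟩⟩

theorem A_sq {a : G} (ha : a ∈ A) : a * a = 1 := by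
  obtain ⟨b, c0, c1, c2, c3, c4, rfl⟩ := H.exists_el ha
  rw [H.el_mul]
  simp only [Bool.xor_self]
  exact el_one

theorem A_inv {a : G} (ha : a ∈ A) : a⁻¹ = a := by
  rw [inv_eq_iff_mul_eq_one]; exact H.A_sq ha

theorem A_comm {a b : G} (ha : a ∈ A) (hb : b ∈ A) : a * b = b * a := by
  have h1 := H.A_sq (A.mul_mem ha hb)
  calc a * b = (a * b)⁻¹ := by rw [eq_comm, inv_eq_iff_mul_eq_one]; exact h1
    _ = b⁻¹ * a⁻¹ := mul_inv_rev a b
    _ = b * a := by rw [H.A_inv ha, H.A_inv hb]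

theorem t_comm {a : G} (ha : a ∈ A) : a * t = t * a := H.L_t a (H.A_le_L ha)

omit H in
/-- conjugation of an element of `A` -/
theorem conj_el (g : G) (a c0 c1 c2 c3 c4 : Bool) : g * el z q a c0 c1 c2 c3 c4 * g⁻¹ =
    pw (g * z * g⁻¹) a * (pw (g * q 0 * g⁻¹) c0 * (pw (g * q 1 * g⁻¹) c1 * (pw (g * q 2 * g⁻¹) c2 *
      (pw (g * q 3 * g⁻¹) c3 * pw (g * q 4 * g⁻¹) c4)))) := by
  simp only [← conj_pw]
  unfold el
  group

theorem el_ne {a c0 c1 c2 c3 c4 a' c0' c1' c2' c3' c4' : Bool}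
    (h : el z q a c0 c1 c2 c3 c4 = el z q a' c0' c1' c2' c3' c4') :
    (a ^^ a') = false ∧ (((c0 ^^ c0') = false ∧ (c1 ^^ c1') = false ∧ (c2 ^^ c2') = false ∧ (c3 ^^ c3') = false ∧
      (c4 ^^ c4') = false) ∨ ((c0 ^^ c0') = true ∧ (c1 ^^ c1') = true ∧ (c2 ^^ c2') = true ∧ (c3 ^^ c3') = true ∧
      (c4 ^^ c4') = true)) := by
  apply H.el_eq_one
  rw [← H.el_mul, h]
  exact H.A_sq (H.el_mem _ _ _ _ _ _)

/-- conjugation by `x` -/
theorem x_el (a c0 c1 c2 c3 c4 : Bool) :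
    x * el z q a c0 c1 c2 c3 c4 * x⁻¹ = el z q a c4 c0 c1 c2 c3 := by
  have e0 : (0 : ZMod 5) + 1 = 1 := rfl
  have e1 : (1 : ZMod 5) + 1 = 2 := rfl
  have e2 : (2 : ZMod 5) + 1 = 3 := rfl
  have e3 : (3 : ZMod 5) + 1 = 4 := rfl
  have e4 : (4 : ZMod 5) + 1 = 0 := rfl
  rw [conj_el, H.xz, H.xq, H.xq, H.xq, H.xq, H.xq, e0, e1, e2, e3, e4]
  have key : ∀ a c0 c1 c2 c3 c4 : Bool,
      pw z a * (pw (q 1) c0 * (pw (q 2) c1 * (pw (q 3) c2 * (pw (q 4) c3 * pw (q 0) c4)))) =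
        el z q a false c0 c1 c2 c3 * el z q false c4 false false false false := by
    intro a c0 c1 c2 c3 c4
    simp only [el, pw, cond_false, one_mul, mul_one, mul_assoc]
  rw [key, H.el_mul]
  simp

/-- conjugation by `s` -/
theorem s_el (a c0 c1 c2 c3 c4 : Bool) :
    s * el z q a c0 c1 c2 c3 c4 * s⁻¹ = el z q a c0 c3 c1 c4 c2 := by
  have e0 : 2 * (0 : ZMod 5) = 0 := rfl
  have e1 : 2 * (1 : ZMod 5) = 2 := rfl
  have e2 : 2 * (2 : ZMod 5) = 4 := rfl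
  have e3 : 2 * (3 : ZMod 5) = 1 := rfl
  have e4 : 2 * (4 : ZMod 5) = 3 := rfl
  rw [conj_el, H.sz, H.sq, H.sq, H.sq, H.sq, H.sq, e0, e1, e2, e3, e4]
  have key : ∀ a c0 c1 c2 c3 c4 : Bool,
      pw z a * (pw (q 0) c0 * (pw (q 2) c1 * (pw (q 4) c2 * (pw (q 1) c3 * pw (q 3) c4)))) =
        el z q a c0 false c1 false c2 * el z q false false c3 false c4 false := by
    intro a c0 c1 c2 c3 c4
    simp only [el, pw, cond_false, one_mul, mul_one, mul_assoc]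
  rw [key, H.el_mul]
  simp

/-- conjugation by `u` -/
theorem u_el (a c0 c1 c2 c3 c4 : Bool) :
    u * el z q a c0 c1 c2 c3 c4 * u⁻¹ = el z q (a ^^ (c0 ^^ c1)) c0 c1 c2 c3 c4 := by
  rw [conj_el, H.uz, H.uq0, H.uq1, H.uq2, H.uq3, H.uq4, mul_pw, mul_pw]
  have key : ∀ a c0 c1 c2 c3 c4 : Bool,
      pw z a * (pw z c0 * pw (q 0) c0 * (pw z c1 * pw (q 1) c1 * (pw (q 2) c2 * (pw (q 3) c3 * pw (q 4) c4)))) =
        el z q a false false false false false * (el z q c0 c0 false false false false *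
          el z q c1 false c1 c2 c3 c4) := by
    intro a c0 c1 c2 c3 c4
    simp only [el, pw, cond_false, one_mul, mul_one, mul_assoc]
  rw [key, H.el_mul, H.el_mul]
  simp

theorem z_ne_one : z ≠ 1 := by
  intro h
  have h1 : el z q true false false false false false = 1 := z_eq.trans h
  exact absurd (H.el_eq_one h1).1 (by decide)

/-- (b) an element of `A` commuting with `x` is `1` or `z` -/
theorem fix_x {a : G} (ha : a ∈ A) (h : x * a * x⁻¹ = a) : a = 1 ∨ a = z := by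
  obtain ⟨b, c0, c1, c2, c3, c4, rfl⟩ := H.exists_el ha
  rw [H.x_el] at h
  have h1 := (H.el_ne h).2
  have h2 : (c0 = false ∧ c1 = false ∧ c2 = false ∧ c3 = false ∧ c4 = false) ∨
      (c0 = true ∧ c1 = true ∧ c2 = true ∧ c3 = true ∧ c4 = true) := by
    clear h ha
    cases c0 <;> cases c1 <;> cases c2 <;> cases c3 <;> cases c4 <;> simp at h1 ⊢
  rcases h2 with ⟨rfl, rfl, rfl, rfl, rfl⟩ | ⟨rfl, rfl, rfl, rfl, rfl⟩
  · cases b
    · exact Or.inl el_one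
    · exact Or.inr z_eq
  · cases b
    · exact Or.inl H.el_all
    · right
      have h3 := H.el_mul true false false false false false false true true true true true
      rw [H.el_all, mul_one, z_eq] at h3
      exact h3.symm

end Hyp

end Cfsg.Agent.OddHalf.D7Tits.ThetaHyp
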