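import Cfsg.Agent.OddHalf.D7Tits.ThetaM

/-!
# ODD D7, `K` = Tits: `Θ` (helper927, text of helper903 #15617, section 2): the line relation
-/

set_option autoImplicit false

namespace Cfsg.Agent.OddHalf.D7Tits.ThetaHyp

open Subgroup

variable {G : Type*} [Group G]

variable {t z x s u k : G} {q : ZMod 5 → G} {A B L : Subgroup G} {N : G → G → Prop}

namespace Hyp

variable (H : Hyp t z x s u k q A B L N)
include H

theorem q0_ne_z : q 0 ≠ z := by
  intro h
  have h1 : el z q false true false false false false = el z q true false false false false false := by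
    rw [q0_eq, z_eq, h]
  exact absurd (H.el_ne h1).1 (by decide)

theorem q0_ne_one : q 0 ≠ 1 := by
  intro h
  have h1 : el z q false true false false false false = 1 := by rw [q0_eq, h]
  have := (H.el_eq_one h1).2
  simp at this

omit H in
theorem pt_z : IsPt z q z := Or.inl rfl
omit H in
theorem pt_q (i : ZMod 5) : IsPt z q (q i) := Or.inr ⟨i, Or.inl rfl⟩
omit H in
theorem pt_zq (i : ZMod 5) : IsPt z q (z * q i) := Or.inr ⟨i, Or.inr rfl⟩

theorem exists_line : ∃ (e : Bool) (mz m0 : G), M t N e z mz ∧ M t N e (q 0) m0 ∧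
    mz * m0 * (u * m0 * u⁻¹) ∈ A ∧ mz * x = x * mz ∧ mz * u = u * mz := by
  obtain ⟨n, hn⟩ := H.N_ex
  have hn0 : N (q 0) (k * n * k⁻¹) := by rw [← H.kz]; exact H.N_conj k H.k_mem z n hn
  obtain ⟨n0, hn0'⟩ : ∃ n0, n0 = k * n * k⁻¹ := ⟨_, rfl⟩
  rw [← hn0'] at hn0
  have hl : N (z * q 0) (u * n0 * u⁻¹) := by rw [← H.uq0]; exact H.N_conj u H.u_mem _ n0 hn0
  obtain ⟨l, hl'⟩ : ∃ l, l = u * n0 * u⁻¹ := ⟨_, rfl⟩
  rw [← hl'] at hl
  have gn : Gam t A n z := H.N_gam pt_z hn
  have g0 : Gam t A n0 (q 0) := H.N_gam (pt_q 0) hn0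
  have gl : Gam t A l (z * q 0) := H.N_gam (pt_zq 0) hl
  have gy : Gam t A (n * n0 * l) 1 := by
    have h1 := gam_mul (gam_mul gn g0) gl
    rwa [H.A_sq (A.mul_mem H.z_mem (H.q_mem 0))] at h1
  obtain ⟨e, w, hw, hy⟩ : ∃ e : Bool, ∃ w ∈ B, n * n0 * l = pw t e * w := by
    rcases H.gam_ker gy with h | h
    · exact ⟨false, _, h, by rw [pw_false, one_mul]⟩
    · exact ⟨true, _, h, by rw [pw_true, ← mul_assoc, H.tt, one_mul]⟩
  -- `w² = 1`
  have hww : w * w = 1 := by
    rcases H.B_sq w hw with h | h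
    · exact h
    exfalso
    -- conjugation by `k`
    have c0 : N z (k * n0 * k⁻¹) := by
      have := H.N_conj k H.k_mem _ n0 hn0
      rwa [H.kq] at this
    have cl : N (z * q 0) (k * l * k⁻¹) := by
      have h1 := H.N_conj k H.k_mem _ l hl
      have h2 : k * (z * q 0) * k⁻¹ = z * q 0 := by
        have : k * (z * q 0) * k⁻¹ = (k * z * k⁻¹) * (k * q 0 * k⁻¹) := by group
        rw [this, H.kz, H.kq, H.zq]
      rwa [h2] at h1
    have d0 : ∃ a ∈ A, k * n0 * k⁻¹ = n * a := by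
      rcases H.N_uniq _ _ _ hn c0 with h1 | h1
      · exact ⟨1, A.one_mem, by rw [h1, mul_one]⟩
      · exact ⟨z, H.z_mem, h1⟩
    have dl : ∃ a ∈ A, k * l * k⁻¹ = l * a := by
      rcases H.N_uniq _ _ _ hl cl with h1 | h1
      · exact ⟨1, A.one_mem, by rw [h1, mul_one]⟩
      · exact ⟨_, gl.mem, h1⟩
    obtain ⟨a0, ha0, e0⟩ := d0
    obtain ⟨al, hal, el'⟩ := dl
    have kt : k * pw t e * k⁻¹ = pw t e := by
      rw [conj_pw, H.L_t k H.k_mem]; simp
    have E1 : k * (n * n0 * l) * k⁻¹ = n0 * (n * a0) * (l * al) := by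
      have : k * (n * n0 * l) * k⁻¹ = (k * n * k⁻¹) * (k * n0 * k⁻¹) * (k * l * k⁻¹) := by group
      rw [this, ← hn0', e0, el']
    have E2 : k * (n * n0 * l) * k⁻¹ = pw t e * (k * w * k⁻¹) := by
      have : k * (n * n0 * l) * k⁻¹ = (k * pw t e * k⁻¹) * (k * w * k⁻¹) := by rw [hy]; group
      rw [this, kt]
    -- `n0 n l = c n n0 l`
    have hne : z ≠ q 0 := fun h => H.q0_ne_z h.symm
    have hc : n * n0 * n⁻¹ * n0⁻¹ ∈ A := by
      have m1 : M t N false z n := ⟨n, hn, by rw [pw_false, mul_one]⟩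
      have m2 : M t N false (q 0) n0 := ⟨n0, hn0, by rw [pw_false, mul_one]⟩
      exact H.comm_mem pt_z (pt_q 0) hne m1 m2
    obtain ⟨c, hc'⟩ : ∃ c, c = n * n0 * n⁻¹ * n0⁻¹ := ⟨_, rfl⟩
    rw [← hc'] at hc
    have hcn : n * n0 = c * (n0 * n) := by rw [hc']; group
    have hcn' : n0 * n = c * (n * n0) := by rw [hcn, ← mul_assoc, H.A_sq hc, one_mul]
    have E3 : n0 * (n * a0) * (l * al) = pw t e * (c * w * (a0 * al)) := by
      have h1 : n0 * (n * a0) * (l * al) = (n0 * n) * (l * (a0 * al)) := by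
        have : a0 * l = l * a0 := (gl.cen a0 ha0).symm
        calc n0 * (n * a0) * (l * al) = n0 * n * (a0 * l) * al := by group
          _ = n0 * n * (l * a0) * al := by rw [this]
          _ = (n0 * n) * (l * (a0 * al)) := by group
      rw [h1, hcn']
      have h2 : c * (n * n0) * (l * (a0 * al)) = c * (n * n0 * l) * (a0 * al) := by group
      have h3 : c * pw t e = pw t e * c := (pw_comm (H.t_comm hc).symm e).symm
      rw [h2, hy, ← mul_assoc c (pw t e) w, h3]
      group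
    have E4 : k * w * k⁻¹ = c * w * (a0 * al) := by
      rw [E1, E3] at E2
      exact (mul_left_cancel E2).symm
    have hA : a0 * al ∈ A := A.mul_mem ha0 hal
    have E5 : (k * w * k⁻¹) * (k * w * k⁻¹) = q 0 := by
      have : (k * w * k⁻¹) * (k * w * k⁻¹) = k * (w * w) * k⁻¹ := by group
      rw [this, h, H.kz]
    have E6 : (c * w * (a0 * al)) * (c * w * (a0 * al)) = z := by
      have h1 : (a0 * al) * c = c * (a0 * al) := H.A_comm hA hc
      have h2 : w * c = c * w := H.B_A w hw c hc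
      have h3 : (a0 * al) * w = w * (a0 * al) := (H.B_A w hw _ hA).symm
      calc (c * w * (a0 * al)) * (c * w * (a0 * al)) = c * w * ((a0 * al) * c) * w * (a0 * al) := by group
        _ = c * (w * c) * ((a0 * al) * w) * (a0 * al) := by rw [h1]; group
        _ = (c * c) * (w * w) * ((a0 * al) * (a0 * al)) := by rw [h2, h3]; group
        _ = z := by rw [H.A_sq hc, h, H.A_sq hA, one_mul, mul_one]
    rw [E4, E6] at E5
    exact hne E5
  have hwA : w ∈ A := H.B_one w hw hww
  refine ⟨e, n * pw t e, n0 * pw t e, ⟨n, hn, rfl⟩, ⟨n0, hn0, rfl⟩, ?_, ?_, ?_⟩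
  · have h1 : u * (n0 * pw t e) * u⁻¹ = l * pw t e := by
      have : u * (n0 * pw t e) * u⁻¹ = (u * n0 * u⁻¹) * (u * pw t e * u⁻¹) := by group
      rw [this, conj_pw, H.L_t u H.u_mem, ← hl']
      simp
    rw [h1]
    cases e
    · simp only [pw_false, mul_one, one_mul] at hy ⊢
      rw [hy]; exact hwA
    · simp only [pw_true] at hy ⊢
      have h2 : n0 * t = t * q 0 * n0 := by rw [← g0.conj]; group
      have h3 : n * t * (n0 * t) * (l * t) = q 0 * w := by
        have e1 : n * t * (n0 * t) * (l * t) = n * t * (n0 * t) * l * t := by group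
        rw [e1, h2]
        have e2 : n * t * (t * q 0 * n0) * l * t = n * (t * t) * q 0 * n0 * l * t := by group
        rw [e2, H.tt, mul_one, gn.cen _ (H.q_mem 0)]
        have e3 : q 0 * n * n0 * l * t = q 0 * (n * n0 * l) * t := by group
        rw [e3, hy]
        have e4 : q 0 * (t * w) * t = q 0 * (t * (w * t)) := by group
        rw [e4, H.B_t w hw, ← mul_assoc t, H.tt, one_mul]
      rw [h3]
      exact A.mul_mem (H.q_mem 0) hwA
  · rw [mul_assoc, pw_comm (H.L_t x H.x_mem).symm, ← mul_assoc, H.N_x n hn, mul_assoc]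
  · rw [mul_assoc, pw_comm (H.L_t u H.u_mem).symm, ← mul_assoc, H.N_u n hn, mul_assoc]

end Hyp

end Cfsg.Agent.OddHalf.D7Tits.ThetaHyp
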