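import Cfsg.Agent.OddHalf.D7Tits.ThetaHyp

/-!
# ODD D7, `K` = Tits: `Θ` (helper927, text of helper903 #15617, section 2): the elements `m_v = n_v t^e`
-/

set_option autoImplicit false

namespace Cfsg.Agent.OddHalf.D7Tits.ThetaHyp

open Subgroup

variable {G : Type*} [Group G]

/-- `y` centralises `A` and `y t y⁻¹ = t v`, `v ∈ A` -/
structure Gam (t : G) (A : Subgroup G) (y v : G) : Prop where
  mem : v ∈ A
  cen : ∀ a ∈ A, y * a = a * y
  conj : y * t * y⁻¹ = t * v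

/-- `m = y t^e`, `y` an `n_v` -/
def M (t : G) (N : G → G → Prop) (e : Bool) (v m : G) : Prop := ∃ y, N v y ∧ m = y * pw t e

variable {t z x s u k : G} {q : ZMod 5 → G} {A B L : Subgroup G} {N : G → G → Prop}

namespace Hyp

variable (H : Hyp t z x s u k q A B L N)
include H

theorem pt_mem {v : G} (hv : IsPt z q v) : v ∈ A := by
  rcases hv with rfl | ⟨i, rfl | rfl⟩
  · exact H.z_mem
  · exact H.q_mem i
  · exact A.mul_mem H.z_mem (H.q_mem i)

omit H in
theorem gam_mul {y v y' w : G} (h : Gam t A y v) (h' : Gam t A y' w) : Gam t A (y * y') (v * w) where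
  mem := A.mul_mem h.mem h'.mem
  cen a ha := by rw [mul_assoc, h'.cen a ha, ← mul_assoc, h.cen a ha, mul_assoc]
  conj := by
    have e1 : y * y' * t * (y * y')⁻¹ = y * (y' * t * y'⁻¹) * y⁻¹ := by group
    rw [e1, h'.conj]
    have e2 : y * (t * w) * y⁻¹ = y * t * (w * y⁻¹) := by group
    have e3 : w * y⁻¹ = y⁻¹ * w := by
      rw [eq_inv_mul_iff_mul_eq, ← mul_assoc, h.cen w h'.mem, mul_inv_cancel_right]
    rw [e2, e3, ← mul_assoc, h.conj, mul_assoc]

theorem gam_inv {y v : G} (h : Gam t A y v) : Gam t A y⁻¹ v where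
  mem := h.mem
  cen a ha := by
    rw [eq_comm, eq_inv_mul_iff_mul_eq, ← mul_assoc, h.cen a ha, mul_inv_cancel_right]
  conj := by
    have e1 : t = y⁻¹ * (t * v) * y := by rw [← h.conj]; group
    have e2 : y⁻¹ * (t * v) * y = y⁻¹ * t * y * v := by
      have : v * y = y * v := (h.cen v h.mem).symm
      rw [mul_assoc y⁻¹, mul_assoc t, this]; group
    rw [e2] at e1
    rw [inv_inv]
    have e3 : y⁻¹ * t * y * v * v = t * v := by rw [← e1]
    rwa [mul_assoc _ v, H.A_sq h.mem, mul_one] at e3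

theorem gam_A {a : G} (ha : a ∈ A) : Gam t A a 1 where
  mem := A.one_mem
  cen b hb := H.A_comm ha hb
  conj := by rw [H.t_comm ha]; group

theorem gam_B {w : G} (hw : w ∈ B) : Gam t A w 1 where
  mem := A.one_mem
  cen b hb := H.B_A w hw b hb
  conj := by rw [H.B_t w hw]; group

theorem gam_t : Gam t A t 1 where
  mem := A.one_mem
  cen b hb := (H.t_comm hb).symm
  conj := by group

theorem gam_ker {y : G} (h : Gam t A y 1) : y ∈ B ∨ t * y ∈ B := by
  apply H.cent y _ h.cen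
  have h1 := h.conj
  rw [mul_one, mul_inv_eq_iff_eq_mul] at h1
  exact h1

theorem gam_comm {y v y' w : G} (h : Gam t A y v) (h' : Gam t A y' w) : Gam t A (y * y' * y⁻¹ * y'⁻¹) 1 := by
  have h1 := gam_mul (gam_mul (gam_mul h h') (H.gam_inv h)) (H.gam_inv h')
  have h2 : v * w * v * w = 1 := by
    rw [mul_assoc, H.A_sq (A.mul_mem h.mem h'.mem)]
  rwa [h2] at h1

theorem N_gam {v y : G} (hv : IsPt z q v) (h : N v y) : Gam t A y v :=
  ⟨H.pt_mem hv, H.N_A v y hv h, H.N_t v y h⟩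

/-! ### `m_v` -/

variable {e : Bool}

theorem pw_t_gam (e : Bool) : Gam t A (pw t e) 1 := by
  cases e
  · exact H.gam_A A.one_mem
  · exact H.gam_t

theorem M_gam {v m : G} (hv : IsPt z q v) (h : M t N e v m) : Gam t A m v := by
  obtain ⟨y, hy, rfl⟩ := h
  have h1 := gam_mul (H.N_gam hv hy) (H.pw_t_gam e)
  rwa [mul_one] at h1

theorem M_sq {v m : G} (hv : IsPt z q v) (h : M t N e v m) : m * m = pw v e := by
  obtain ⟨y, hy, rfl⟩ := h
  have h1 := H.N_sq v y hy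
  cases e
  · simp only [pw_false, mul_one]; exact h1
  · simp only [pw_true]
    have h2 := H.N_t v y hy
    have h3 : y⁻¹ = y := by rw [inv_eq_iff_mul_eq_one]; exact h1
    rw [h3] at h2
    rw [← mul_assoc, h2, mul_assoc, H.t_comm (H.pt_mem hv), ← mul_assoc, H.tt, one_mul]

theorem M_B {v m : G} (hv : IsPt z q v) (h : M t N e v m) : ∀ w ∈ B, m * w = w * m := by
  intro w hw
  obtain ⟨y, hy, rfl⟩ := h
  rw [mul_assoc, pw_comm (H.B_t w hw).symm, ← mul_assoc, H.N_B v y hv hy w hw, mul_assoc]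

theorem M_conj {g : G} (hg : g ∈ L) {v m : G} (h : M t N e v m) : M t N e (g * v * g⁻¹) (g * m * g⁻¹) := by
  obtain ⟨y, hy, rfl⟩ := h
  refine ⟨_, H.N_conj g hg v y hy, ?_⟩
  have h1 : pw t e * g⁻¹ = g⁻¹ * pw t e := pw_comm (by
    rw [eq_inv_mul_iff_mul_eq, ← mul_assoc, H.L_t g hg, mul_inv_cancel_right]) e
  rw [mul_assoc g, mul_assoc y, h1]
  group

theorem M_uniq {v m m' : G} (hv : IsPt z q v) (h : M t N e v m) (h' : M t N e v m') :
    ∃ d : Bool, m' = m * pw v d := by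
  obtain ⟨y, hy, rfl⟩ := h
  obtain ⟨y', hy', rfl⟩ := h'
  rcases H.N_uniq v y y' hy hy' with rfl | rfl
  · exact ⟨false, by rw [pw_false, mul_one]⟩
  · refine ⟨true, ?_⟩
    rw [pw_true, mul_assoc, mul_assoc, pw_comm (H.t_comm (H.pt_mem hv)).symm]

omit H in
theorem inv_comm {c y : G} (h : c * y = y * c) : c * y⁻¹ = y⁻¹ * c := by
  rw [eq_inv_mul_iff_mul_eq, ← mul_assoc, ← h, mul_inv_cancel_right]

/-- the commutators lie in `A` -/
theorem comm_mem {v w m m' : G} (hv : IsPt z q v) (hw : IsPt z q w) (hvw : v ≠ w) (hm : M t N e v m)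
    (hm' : M t N e w m') : m * m' * m⁻¹ * m'⁻¹ ∈ A := by
  obtain ⟨c, hc⟩ : ∃ c, c = m * m' * m⁻¹ * m'⁻¹ := ⟨_, rfl⟩
  rw [← hc]
  have g1 : Gam t A m v := H.M_gam hv hm
  have g2 : Gam t A m' w := H.M_gam hw hm'
  have gc : Gam t A c 1 := by rw [hc]; exact H.gam_comm g1 g2
  have pvA : pw v e ∈ A := by cases e; exacts [A.one_mem, g1.mem]
  have pwA : pw w e ∈ A := by cases e; exacts [A.one_mem, g2.mem]
  have i1 : m * c * m⁻¹ = c⁻¹ := by
    have e1 : m * c * m⁻¹ = (m * m) * m' * m⁻¹ * m'⁻¹ * m⁻¹ := by rw [hc]; group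
    rw [e1, H.M_sq hv hm, ← g2.cen _ pvA, ← H.M_sq hv hm, hc]
    group
  have i2 : m' * c⁻¹ * m'⁻¹ = c := by
    have e1 : m' * c⁻¹ * m'⁻¹ = (m' * m') * m * m'⁻¹ * m⁻¹ * m'⁻¹ := by rw [hc]; group
    rw [e1, H.M_sq hw hm', ← g1.cen _ pwA, ← H.M_sq hw hm', hc]
    group
  rcases H.gam_ker gc with h1 | h1
  · apply H.B_one c h1
    have h2 : m * c * m⁻¹ = c := by rw [H.M_B hv hm c h1]; group
    rw [h2] at i1
    nth_rewrite 1 [i1]
    rw [inv_mul_cancel]
  · exfalso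
    apply hvw
    obtain ⟨b, hb⟩ : ∃ b, b = t * c := ⟨_, rfl⟩
    rw [← hb] at h1
    have hcb : c = t * b := by rw [hb, ← mul_assoc, H.tt, one_mul]
    have ti : t⁻¹ = t := by rw [inv_eq_iff_mul_eq_one]; exact H.tt
    have hci : c⁻¹ = t * b⁻¹ := by
      rw [hcb, mul_inv_rev, ti, ← inv_comm (H.B_t b h1).symm]
    -- `m (t b) m⁻¹ = t v b`
    have j1 : m * c * m⁻¹ = t * (v * b) := by
      have e1 : m * c * m⁻¹ = (m * t * m⁻¹) * (m * b * m⁻¹) := by rw [hcb]; group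
      rw [e1, g1.conj, H.M_B hv hm b h1]
      group
    have j2 : m' * c⁻¹ * m'⁻¹ = t * (w * b⁻¹) := by
      have e1 : m' * c⁻¹ * m'⁻¹ = (m' * t * m'⁻¹) * (m' * b⁻¹ * m'⁻¹) := by rw [hci]; group
      rw [e1, g2.conj, H.M_B hw hm' b⁻¹ (B.inv_mem h1)]
      group
    rw [i1, hci] at j1
    rw [i2, hcb] at j2
    have k1 : b⁻¹ = v * b := mul_left_cancel j1
    have k2 : b = w * b⁻¹ := mul_left_cancel j2
    have k3 : v = b⁻¹ * b⁻¹ := by rw [← mul_inv_eq_iff_eq_mul] at k1; exact k1.symm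
    have k4 : w = b * b := by rw [← mul_inv_eq_iff_eq_mul, inv_inv] at k2; exact k2.symm
    have k5 : w * v = 1 := by rw [k3, k4]; group
    have k6 : v * v = 1 := H.A_sq g1.mem
    exact mul_right_cancel (k6.trans k5.symm)

end Hyp

end Cfsg.Agent.OddHalf.D7Tits.ThetaHyp
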