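import Cfsg.Agent.OddHalf.D7Tits.ThetaEnd

/-!
# ODD D7, `K` = Tits: `Θ` (helper927, text of helper903 #15617, section 2): all `n_v`, `n_w` commute
-/

set_option autoImplicit false

namespace Cfsg.Agent.OddHalf.D7Tits.ThetaHyp

open Subgroup

variable {G : Type*} [Group G]

variable {t z x s u k : G} {q : ZMod 5 → G} {A B L : Subgroup G} {N : G → G → Prop}

namespace Hyp

variable (H : Hyp t z x s u k q A B L N)
include H

/-- **Section 2**: the involutions `n_v` (`v` a point of `A`) commute with each other. -/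
theorem comm_of {v w y y' : G} (hv : IsPt z q v) (hw : IsPt z q w) (hy : N v y) (hy' : N w y') : y * y' = y' * y := by
  obtain ⟨e, m, mz, a0, D⟩ := H.exists_MD
  obtain rfl := H.e_false D
  have hc := H.comm_all D
  have toM : ∀ {v y : G}, N v y → M t N false v y := fun {v y} h => ⟨y, h, by rw [pw_false, mul_one]⟩
  -- the group generated by all `m`
  obtain ⟨W, hW⟩ : ∃ W : Subgroup G, W = closure ((A : Set G) ∪ ({mz} ∪ Set.range m)) := ⟨_, rfl⟩
  have hAW : A ≤ W := by rw [hW]; exact fun a ha => subset_closure (Or.inl ha)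
  have hzW : mz ∈ W := by rw [hW]; exact subset_closure (Or.inr (Or.inl rfl))
  have hmW : ∀ i, m i ∈ W := fun i => by rw [hW]; exact subset_closure (Or.inr (Or.inr ⟨i, rfl⟩))
  have gz := H.gz D
  have gm := H.gm D
  have hgen : ∀ a ∈ (A : Set G) ∪ ({mz} ∪ Set.range m), ∀ b ∈ (A : Set G) ∪ ({mz} ∪ Set.range m), a * b = b * a := by
    rintro a (ha | rfl | ⟨i, rfl⟩) b (hb | rfl | ⟨j, rfl⟩)
    · exact H.A_comm ha hb
    · exact (gz.cen a ha).symm
    · exact ((gm j).cen a ha).symm
    · exact gz.cen b hb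
    · rfl
    · exact D.z_m j
    · exact (gm i).cen b hb
    · exact (D.z_m i).symm
    · exact hc i j
  have hcomm : ∀ a ∈ W, ∀ b ∈ W, a * b = b * a := by
    have h1 : ∀ a ∈ (A : Set G) ∪ ({mz} ∪ Set.range m), ∀ b ∈ W, a * b = b * a := by
      intro a ha b hb
      have h2 : W ≤ Subgroup.centralizer {a} := by
        rw [hW, Subgroup.closure_le]
        intro b hb
        exact Subgroup.mem_centralizer_singleton_iff.2 (hgen b hb a ha)
      exact (Subgroup.mem_centralizer_singleton_iff.1 (h2 hb)).symm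
    intro a ha b hb
    have h2 : W ≤ Subgroup.centralizer {b} := by
      nth_rewrite 1 [hW]
      rw [Subgroup.closure_le]
      intro a ha
      exact Subgroup.mem_centralizer_singleton_iff.2 (h1 a ha b hb)
    exact Subgroup.mem_centralizer_singleton_iff.1 (h2 ha)
  have pA : ∀ {v : G}, IsPt z q v → ∀ d, pw v d ∈ A := by
    intro v hv d
    cases d
    · exact A.one_mem
    · exact H.pt_mem hv
  -- the third points
  have h0 : ∃ a ∈ A, M t N false (z * q 0) (m 0 * mz * a) := by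
    refine ⟨a0, D.a0_mem, ?_⟩
    have h1 := H.M_conj H.u_mem (D.hm 0)
    rwa [H.uq0, D.u_m0] at h1
  have hx : x * mz * x⁻¹ = mz := by rw [← D.x_z]; group
  have step : ∀ i, (∃ a ∈ A, M t N false (z * q i) (m i * mz * a)) →
      ∃ a ∈ A, M t N false (z * q (i + 1)) (m (i + 1) * mz * a) := by
    rintro i ⟨a, ha, h⟩
    refine ⟨x * a * x⁻¹, H.x_A ha, ?_⟩
    have h1 := H.M_conj H.x_mem h
    have e1 : x * (z * q i) * x⁻¹ = z * q (i + 1) := by
      have : x * (z * q i) * x⁻¹ = (x * z * x⁻¹) * (x * q i * x⁻¹) := by group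
      rw [this, H.xz, H.xq]
    have e2 : x * (m i * mz * a) * x⁻¹ = (x * m i * x⁻¹) * (x * mz * x⁻¹) * (x * a * x⁻¹) := by group
    rwa [e1, e2, D.x_m, hx] at h1
  have h1 := step 0 h0
  have h2 := step 1 h1
  have h3 := step 2 h2
  have h4 := step 3 h3
  have hzq : ∀ i, ∃ a ∈ A, M t N false (z * q i) (m i * mz * a) := by
    intro i
    rcases five i with rfl | rfl | rfl | rfl | rfl
    exacts [h0, h1, h2, h3, h4]
  have key : ∀ {v y : G}, IsPt z q v → N v y → y ∈ W := by
    intro v y hv hy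
    rcases hv with rfl | ⟨i, rfl | rfl⟩
    · obtain ⟨d, rfl⟩ := H.M_uniq pt_z D.hz (toM hy)
      exact W.mul_mem hzW (hAW (pA pt_z d))
    · obtain ⟨d, rfl⟩ := H.M_uniq (pt_q i) (D.hm i) (toM hy)
      exact W.mul_mem (hmW i) (hAW (pA (pt_q i) d))
    · obtain ⟨a, ha, h⟩ := hzq i
      obtain ⟨d, rfl⟩ := H.M_uniq (pt_zq i) h (toM hy)
      exact W.mul_mem (W.mul_mem (W.mul_mem (hmW i) hzW) (hAW ha)) (hAW (pA (pt_zq i) d))
  exact hcomm y (key hv hy) y' (key hw hy')

end Hyp

end Cfsg.Agent.OddHalf.D7Tits.ThetaHyp
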