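import Cfsg.Agent.OddHalf.D7Tits.ThetaComm

/-!
# ODD D7, `K` = Tits: `Θ` (helper927, text of helper903 #15617, section 2): `y = m_0 m_1 m_2 m_3 m_4 ∈ ⟨z⟩`
-/

set_option autoImplicit false

namespace Cfsg.Agent.OddHalf.D7Tits.ThetaHyp

open Subgroup

variable {G : Type*} [Group G]

variable {t z x s u k : G} {q : ZMod 5 → G} {A B L : Subgroup G} {N : G → G → Prop}

/-- the product in normal form -/
def yy (m : ZMod 5 → G) : G := m 0 * (m 1 * (m 2 * (m 3 * m 4)))

/-- the square of `y` -/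
theorem sq_aux {m Q : ZMod 5 → G} {Z : G} (hZ : ∀ i, Z * m i = m i * Z) (hZ2 : Z * Z = 1)
    (hc : ∀ i j, i ≠ j → m i * m j = Z * (m j * m i)) (hm : ∀ i, m i * m i = Q i) : yy m * yy m = Q 0 * (Q 1 * (Q 2 * (Q 3 * Q 4))) := by
  have Zm : ∀ (i : ZMod 5) (g : G), Z * (m i * g) = m i * (Z * g) := by
    intro i g; rw [← mul_assoc, hZ, mul_assoc]
  have ZZ : ∀ g : G, Z * (Z * g) = g := by intro g; rw [← mul_assoc, hZ2, one_mul]
  have sw : ∀ i j : ZMod 5, i ≠ j → ∀ g : G, m i * (m j * g) = m j * (m i * (Z * g)) := by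
    intro i j h g
    rw [← mul_assoc, hc i j h]
    rw [mul_assoc, mul_assoc, ← Zm i g, ← Zm j]
  have sw10 := sw 1 0 (by decide)
  have sw20 := sw 2 0 (by decide)
  have sw30 := sw 3 0 (by decide)
  have sw40 := sw 4 0 (by decide)
  have sw21 := sw 2 1 (by decide)
  have sw31 := sw 3 1 (by decide)
  have sw41 := sw 4 1 (by decide)
  have sw32 := sw 3 2 (by decide)
  have sw42 := sw 4 2 (by decide)
  have sw43 := sw 4 3 (by decide)
  have mm : ∀ (i : ZMod 5) (g : G), m i * (m i * g) = Q i * g := by intro i g; rw [← mul_assoc, hm]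
  have key : yy m * (yy m * 1) = Q 0 * (Q 1 * (Q 2 * (Q 3 * (Q 4 * 1)))) := by
    unfold yy
    simp only [mul_assoc]
    -- move the second `m 0`
    rw [sw40, sw30, sw20, sw10]
    simp only [Zm, ZZ]
    rw [sw41, sw31, sw21]
    simp only [Zm, ZZ]
    rw [sw42, sw32]
    simp only [Zm, ZZ]
    rw [sw43]
    simp only [Zm, ZZ]
    rw [mm 0, mm 1, mm 2, mm 3, mm 4]
  rwa [mul_one, mul_one] at key

/-- the product in the order `0 2 4 1 3` -/
theorem ord_aux {m : ZMod 5 → G} {Z : G} (hZ : ∀ i, Z * m i = m i * Z) (hZ2 : Z * Z = 1)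
    (hc : ∀ i j, i ≠ j → m i * m j = Z * (m j * m i)) :
    m 0 * (m 2 * (m 4 * (m 1 * m 3))) = yy m * Z := by
  have Zm : ∀ (i : ZMod 5) (g : G), Z * (m i * g) = m i * (Z * g) := by
    intro i g; rw [← mul_assoc, hZ, mul_assoc]
  have ZZ : ∀ g : G, Z * (Z * g) = g := by intro g; rw [← mul_assoc, hZ2, one_mul]
  have sw : ∀ i j : ZMod 5, i ≠ j → ∀ g : G, m i * (m j * g) = m j * (m i * (Z * g)) := by
    intro i j h g
    rw [← mul_assoc, hc i j h]
    rw [mul_assoc, mul_assoc, ← Zm i g, ← Zm j]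
  have sw21 := sw 2 1 (by decide)
  have sw41 := sw 4 1 (by decide)
  have sw43 := sw 4 3 (by decide)
  have key : m 0 * (m 2 * (m 4 * (m 1 * (m 3 * 1)))) = yy m * (Z * 1) := by
    unfold yy
    simp only [mul_assoc]
    rw [sw41, sw21]
    simp only [Zm]
    rw [sw43]
    simp only [ZZ]
  rwa [mul_one, mul_one] at key

namespace Hyp

variable (H : Hyp t z x s u k q A B L N)
include H

variable {e : Bool} {m : ZMod 5 → G} {mz a0 : G}

theorem y_gam (D : MD t z x s u q A B N e m mz a0) : Gam t A (yy m) 1 := by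
  have h1 := gam_mul (H.gm D 0) (gam_mul (H.gm D 1) (gam_mul (H.gm D 2) (gam_mul (H.gm D 3) (H.gm D 4))))
  rwa [H.prod] at h1

theorem Z_mem {Z : G} (hZ : Z = 1 ∨ Z = z) : Z ∈ A := by
  rcases hZ with rfl | rfl
  · exact A.one_mem
  · exact H.z_mem

theorem y_mem (D : MD t z x s u q A B N e m mz a0) : yy m ∈ A := by
  obtain ⟨Z, hZ, hc⟩ := H.exists_Z D
  have hZA := H.Z_mem hZ
  have hsq : yy m * yy m = 1 := by
    rw [sq_aux (Q := fun i => pw (q i) e) (H.cn_A D hZA).1 (H.A_sq hZA) hc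
      (fun i => H.M_sq (pt_q i) (D.hm i))]
    have h1 := H.prod
    cases e
    · simp [pw]
    · simpa [pw] using h1
  rcases H.gam_ker (H.y_gam D) with h | h
  · exact H.B_one _ h hsq
  · exfalso
    have h1 := H.M_B pt_z D.hz _ h
    have h2 : mz * yy m = yy m * mz := by
      have st : ∀ a b, mz * a = a * mz → mz * b = b * mz → mz * (a * b) = a * b * mz := by
        intro a b ha hb
        rw [← mul_assoc, ha, mul_assoc, hb, mul_assoc]
      exact st _ _ (D.z_m 0) (st _ _ (D.z_m 1) (st _ _ (D.z_m 2) (st _ _ (D.z_m 3) (D.z_m 4))))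
    have h3 : mz * t * yy m = t * mz * yy m := by
      rw [mul_assoc mz, h1, mul_assoc t, ← h2, mul_assoc]
    have h4 : mz * t = t * mz := mul_right_cancel h3
    have h5 := (H.gz D).conj
    rw [h4, mul_inv_cancel_right] at h5
    have h6 : t * 1 = t * z := by rw [mul_one]; exact h5
    exact H.z_ne_one (mul_left_cancel h6).symm

/-- **`y ∈ ⟨z⟩`** -/
theorem y_cases (D : MD t z x s u q A B N e m mz a0) : yy m = 1 ∨ yy m = z := by
  apply H.fix_x (H.y_mem D)
  have h1 : x * yy m * x⁻¹ = m 1 * (m 2 * (m 3 * (m 4 * m 0))) := by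
    have e1 : x * yy m * x⁻¹ = (x * m 0 * x⁻¹) * ((x * m 1 * x⁻¹) * ((x * m 2 * x⁻¹) * ((x * m 3 * x⁻¹) *
        (x * m 4 * x⁻¹)))) := by unfold yy; group
    rw [e1, D.x_m, D.x_m, D.x_m, D.x_m, D.x_m]
    rfl
  have h2 : m 1 * (m 2 * (m 3 * (m 4 * m 0))) = (m 0)⁻¹ * yy m * m 0 := by unfold yy; group
  rw [h1, h2, mul_assoc, ← (H.gm D 0).cen _ (H.y_mem D), ← mul_assoc, inv_mul_cancel, one_mul]

end Hyp

end Cfsg.Agent.OddHalf.D7Tits.ThetaHyp
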