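import Cfsg.Agent.OddHalf.D7Tits.WHom

/-!
# D7, K = Tits, type W (helper868): the conjugates of `T` in `S`

`ext` : if `g⁻¹ T g ≤ S`, then `g⁻¹ t g ∈ t V` (so it is `S`-conjugate to `t`) or `g⁻¹ t g = t m`, `m` a `P`-conjugate of
`q₀ q₄`.
-/

set_option autoImplicit false
set_option linter.unusedSectionVars false
set_option linter.unusedVariables false

namespace Cfsg.Agent.OddHalf.D7Tits.WExt

open Cfsg.Agent.OddHalf.D7Tits.Defs Cfsg.Agent.OddHalf.D7Tits.WDefs
open Cfsg.Agent.OddHalf.D7Tits.WFacts Cfsg.Agent.OddHalf.D7Tits.WPos Cfsg.Agent.OddHalf.D7Tits.WSys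
open Cfsg.Agent.OddHalf.D7Tits.WSys.P Cfsg.Agent.OddHalf.D7Tits.WHom

universe u v

variable {Y : Type u} [Group Y] {K : KT Y} {G : Type v} [Group G] {i : Y →* G} {t y : G}
  (W : KTW K) (H : WDefs.PosW K i t y)

/-- `y' ↦ g (i y') g⁻¹` -/
def cm (i : Y →* G) (g : G) : Y →* G := (MulAut.conj g).toMonoidHom.comp i

theorem cm_apply (i : Y →* G) (g : G) (a : Y) : cm i g a = g * i a * g⁻¹ := rfl

/-- `T^g ∩ i M` has index at most 4 in `i M` -/
def R (H : WDefs.PosW K i t y) (g : G) : Prop := (T H).relIndex ((Mm K).map (cm i g)) ≤ 4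

/-- `{a ∈ D | g (i a) g⁻¹ ∈ T}` -/
def Tg (H : WDefs.PosW K i t y) (g : G) (D : Subgroup Y) : Subgroup Y := ((T H).comap (cm i g)) ⊓ D

include H

theorem mem_Tg {g : G} {D : Subgroup Y} {a : Y} : a ∈ Tg H g D ↔ g * i a * g⁻¹ ∈ T H ∧ a ∈ D := by
  unfold Tg
  rw [Subgroup.mem_inf, Subgroup.mem_comap, cm_apply]

/-- the basic inequality -/
theorem R.card {g : G} (hR : R H g) {D : Subgroup Y} (hD : D ≤ Mm K) : Nat.card D ≤ 4 * Nat.card ↥(Tg H g D) := by
  have := H.finG
  have := K.fin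
  have h1 : (T H).relIndex (D.map (cm i g)) ≤ 4 := by
    refine le_trans (Subgroup.relIndex_le_of_le_right (Subgroup.map_mono hD) ?_) hR
    exact Subgroup.index_ne_zero_of_finite
  rw [← Subgroup.relIndex_comap, ← Subgroup.inf_relIndex_right] at h1
  have h2 := Subgroup.card_mul_index ((Tg H g D).subgroupOf D)
  rw [Nat.card_congr (Subgroup.subgroupOfEquivOfLe (show Tg H g D ≤ D from inf_le_right)).toEquiv] at h2
  have h3 : ((Tg H g D).subgroupOf D).index ≤ 4 := h1
  rw [← h2, mul_comm]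
  exact Nat.mul_le_mul_right _ h3

/-- elements of `Tg` commute with `g⁻¹ t g` -/
theorem Tg_comm {g : G} {D : Subgroup Y} {a : Y} (ha : a ∈ Tg H g D) : i a * (g⁻¹ * t * g) = g⁻¹ * t * g * i a := by
  have h := T_comm H ((mem_Tg H).1 ha).1
  calc i a * (g⁻¹ * t * g) = g⁻¹ * (g * i a * g⁻¹ * t) * g := by group
    _ = g⁻¹ * (t * (g * i a * g⁻¹)) * g := by rw [h]
    _ = _ := by group

theorem tt_conj (g : G) : (g⁻¹ * t * g) * (g⁻¹ * t * g) = 1 := by
  calc (g⁻¹ * t * g) * (g⁻¹ * t * g) = g⁻¹ * (t * t) * g := by group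
    _ = 1 := by rw [H.tt]; group

theorem conj_ne (g : G) : g⁻¹ * t * g ≠ 1 := by
  intro h
  apply H.t1
  calc t = g * (g⁻¹ * t * g) * g⁻¹ := by group
    _ = 1 := by rw [h]; group

/-- `i a` commutes with `x = i u` or `t i u` iff `a` commutes with `u` -/
theorem comm_dbl {x : G} {a u : Y} (hx : x = i u ∨ x = t * i u) (h : i a * x = x * i a) : a * u = u * a := by
  apply H.inj
  rw [map_mul, map_mul]
  rcases hx with rfl | rfl
  · exact h
  · have h1 := H.ti a
    have h2 : t * (i a * i u) = t * (i u * i a) := by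
      calc t * (i a * i u) = (t * i a) * i u := by group
        _ = i a * (t * i u) := by rw [h1]; group
        _ = _ := by rw [h]; group
    exact mul_left_cancel h2

/-- (F1) -/
theorem L1 (W : KTW K) {g : G} (hR : R H g) {u : Y} (hu : u ∈ K.U) (huM : u ∉ Mm K)
    (h : g⁻¹ * t * g = i u ∨ g⁻¹ * t * g = t * i u) : False := by
  have h1 := R.card H hR (D := Qz K) Qz_le
  have h2 := W.F1 u hu huM (Tg H g (Qz K)) inf_le_right fun a ha => comm_dbl H h (Tg_comm H ha)
  omega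

/-- (F2) -/
theorem L2 (W : KTW K) {g : G} (hR : R H g) {m : Y} (hm : m ∈ Mm K)
    (h : g⁻¹ * t * g = i m * y ∨ g⁻¹ * t * g = t * i m * y) : False := by
  obtain ⟨f, hf, hfU⟩ := P.exists_psi H W
  have h1 := R.card H hR (D := Qz K) Qz_le
  have h2 := W.F2 f hf m hm (Tg H g (Qz K)) inf_le_right fun a ha => ?_
  · omega
  have haQ : a ∈ Qz K := ((mem_Tg H).1 ha).2
  have h3 := (hfU a (K.Q_le_U (mem_Qz.1 haQ).1)).2
  have h4 := Tg_comm H ha
  have h5 : i a * (i m * y) = i m * y * i a := by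
    rcases h with h | h
    · rw [h] at h4
      exact h4
    · rw [h] at h4
      have h6 := H.ti a
      have h7 : t * (i a * (i m * y)) = t * (i m * y * i a) := by
        calc t * (i a * (i m * y)) = (t * i a) * (i m * y) := by group
          _ = i a * (t * i m * y) := by rw [h6]; group
          _ = _ := by rw [h4]; group
      exact mul_left_cancel h7
  have h6 : i (f a) = y * i a * y⁻¹ := by rw [← h3, P.y_inv H]
  apply H.inj
  rw [map_mul, map_mul, map_inv, h6]
  calc i m * (y * i a * y⁻¹) * (i m)⁻¹ = (i m * y * i a) * y⁻¹ * (i m)⁻¹ := by group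
    _ = i a := by rw [← h5]; group

/-- (F3) -/
theorem L3 (W : KTW K) {g : G} (hR : R H g) {m : Y} (hm : m ∈ Mm K)
    (h : g⁻¹ * t * g = i m ∨ g⁻¹ * t * g = t * i m) :
    m ∈ vv K ∨ ∃ p ∈ K.P, p⁻¹ * (K.q 0 * K.q 4) * p = m := by
  have hmm : m * m = 1 := by
    apply H.inj
    rw [map_mul, map_one]
    have h1 := tt_conj H g
    rcases h with h | h
    · rw [h] at h1
      exact h1
    · rw [h] at h1
      have h2 := H.ti m
      calc i m * i m = (t * t) * (i m * i m) := by rw [H.tt, one_mul]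
        _ = t * (t * i m) * i m := by group
        _ = t * (i m * t) * i m := by rw [h2]
        _ = t * i m * (t * i m) := by group
        _ = 1 := h1
  have h1 := R.card H hR (D := Mm K) le_rfl
  rcases W.F3 m hm hmm (Tg H g (Mm K)) inf_le_right (fun a ha => comm_dbl H h (Tg_comm H ha)) h1 with
    h | h | h | h | h
  · exact Or.inl (Or.inl h)
  · exact Or.inl (Or.inr (Or.inl h))
  · exact Or.inl (Or.inr (Or.inr (Or.inl h)))
  · exact Or.inl (Or.inr (Or.inr (Or.inr h)))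
  · exact Or.inr h

/-- moving `R` -/
theorem R.mul_inv {g w : G} (hR : R H g) (hw : ∀ m ∈ Mm K, ∃ m' ∈ Mm K, w⁻¹ * i m * w = i m') : R H (g * w⁻¹) := by
  have := H.finG
  unfold R at hR ⊢
  refine le_trans (Subgroup.relIndex_le_of_le_right ?_ Subgroup.index_ne_zero_of_finite) hR
  rintro _ ⟨m, hm, rfl⟩
  obtain ⟨m', hm', h⟩ := hw m hm
  refine ⟨m', hm', ?_⟩
  rw [cm_apply, cm_apply, ← h]
  group

/-- `T^g ≤ S` gives `R g` -/
theorem R.of_le (W : KTW K) {g : G} (hg : ∀ x ∈ T H, g⁻¹ * x * g ∈ SS H) : R H g := by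
  have := H.finG
  unfold R
  set Sg : Subgroup G := (SS H).map (MulAut.conj g).toMonoidHom with hSg
  have hmem : ∀ x : G, x ∈ Sg ↔ g⁻¹ * x * g ∈ SS H := by
    intro x
    constructor
    · rintro ⟨a, ha, rfl⟩
      show g⁻¹ * (g * a * g⁻¹) * g ∈ SS H
      have e : g⁻¹ * (g * a * g⁻¹) * g = a := by group
      rw [e]
      exact ha
    · intro hx
      refine ⟨_, hx, ?_⟩
      show g * (g⁻¹ * x * g) * g⁻¹ = x
      group
  have hTS : T H ≤ Sg := fun x hx => (hmem x).2 (hg x hx)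
  have h1 : (T H).relIndex Sg = 4 := by
    have h2 := Subgroup.card_mul_index ((T H).subgroupOf Sg)
    rw [Nat.card_congr (Subgroup.subgroupOfEquivOfLe hTS).toEquiv] at h2
    have h3 : Nat.card Sg = Nat.card (SS H) :=
      (Nat.card_congr ((SS H).equivMapOfInjective _ (MulAut.conj g).injective).toEquiv).symm
    rw [h3, card_SS W H, mul_comm 4] at h2
    exact Nat.eq_of_mul_eq_mul_left Nat.card_pos h2
  rw [← h1]
  refine Subgroup.relIndex_le_of_le_right ?_ Subgroup.index_ne_zero_of_finite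
  rintro _ ⟨m, hm, rfl⟩
  rw [hmem, cm_apply]
  have e : g⁻¹ * (g * i m * g⁻¹) * g = i m := by group
  rw [e]
  exact T_le W H ⟨m, (mem_Mm.1 hm).1, Or.inl rfl⟩

/-- **the conjugates of `T` in `S`** -/
theorem ext (W : KTW K) {g : G} (hg : ∀ x ∈ T H, g⁻¹ * x * g ∈ SS H) :
    (∃ m ∈ Mm K, (g⁻¹ * t * g = i m ∨ g⁻¹ * t * g = t * i m) ∧
      (m ∈ vv K ∨ ∃ p ∈ K.P, p⁻¹ * (K.q 0 * K.q 4) * p = m)) := by
  have hR := R.of_le H W hg
  set x : G := g⁻¹ * t * g with hx
  have hxS : x ∈ SS H := hg t (t_T H)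
  have hxx : x * x = 1 := tt_conj H g
  have hxi : x⁻¹ = x := inv_eq_of_mul_eq_one_left hxx
  have hxz : x * i K.z = i K.z * x := hxS.1.1
  obtain ⟨v, hv, hxt⟩ := hxS.2
  have hkk : ∀ m ∈ Mm K, ∃ m' ∈ Mm K, (i W.k)⁻¹ * i m * i W.k = i m' := fun m hm =>
    ⟨_, conj_M' W hm, by rw [map_mul, map_mul, map_inv]⟩
  have hkk' : ∀ m ∈ Mm K, ∃ m' ∈ Mm K, (i W.k⁻¹)⁻¹ * i m * i W.k⁻¹ = i m' := fun m hm =>
    ⟨_, conj_M W hm, by rw [map_mul, map_mul, map_inv, inv_inv]⟩
  -- the case `x ∈ C(q 0)`, `x t x⁻¹ = t v`, `v ≠ 1` reduces to `v = z`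
  have keyy : ∀ w : G, R H (g * w⁻¹) → (w * x * w⁻¹) * t * (w * x * w⁻¹)⁻¹ = t * i K.z →
      (w * x * w⁻¹) * i K.z = i K.z * (w * x * w⁻¹) → (w * x * w⁻¹) * i (K.q 0) = i (K.q 0) * (w * x * w⁻¹) → False := by
    intro w hRw h1 h2 h3
    -- `x' = w x w⁻¹`, `x' y ∈ C(t)`
    set x' := w * x * w⁻¹ with hx'
    have h4 : (x' * y) * t = t * (x' * y) := by
      have e : y * t = t * i K.z * y := by
        calc y * t = (y * t * y) * y := by rw [mul_assoc (y * t), H.yy, mul_one]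
          _ = _ := by rw [H.yt]
      calc (x' * y) * t = x' * (y * t) := by group
        _ = (x' * t * x'⁻¹) * (x' * i K.z) * y := by rw [e]; group
        _ = t * (i K.z * i K.z) * x' * y := by rw [h1, h2]; group
        _ = _ := by rw [P.zz' H]; group
    have h5 : (x' * y) * i K.z = i K.z * (x' * y) := by
      rw [mul_assoc, P.yzc H, ← mul_assoc, h2, mul_assoc]
    have h6 : (x' * y) * i (K.q 0) = i (K.q 0) * (x' * y) := by
      rw [mul_assoc, H.yA _ (K.q_A 0), ← mul_assoc, h3, mul_assoc]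
    -- so `x' y ∈ ⟨t⟩ M`
    obtain ⟨a, ha⟩ := H.cen _ h4
    have haM : a ∈ Mm K := by
      rw [mem_Mm_iff W]
      constructor
      · refine (comm_dbl H ha ?_).symm
        exact h5.symm
      · exact (comm_dbl H ha h6.symm).symm
    have hgx : (g * w⁻¹)⁻¹ * t * (g * w⁻¹) = x' := by
      rw [hx', hx]; group
    apply L2 H W hRw haM
    rw [hgx]
    rcases ha with ha | ha
    · left
      rw [← ha, mul_assoc, H.yy, mul_one]
    · right
      rw [← ha, mul_assoc, H.yy, mul_one]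
  rcases hxS.1.2 with hq | hq
  · -- `x` fixes `q 0`
    have hxq : x * i (K.q 0) = i (K.q 0) * x := by
      calc x * i (K.q 0) = (x * i (K.q 0) * x⁻¹) * x := by group
        _ = _ := by rw [hq]
    rcases mem_vv.1 hv with rfl | rfl | rfl | rfl
    · -- `x` fixes `t`
      have hxt' : x * t = t * x := by
        rw [map_one, mul_one] at hxt
        calc x * t = (x * t * x⁻¹) * x := by group
          _ = _ := by rw [hxt]
      obtain ⟨m, hm, h⟩ := mem_tM H W hxS hxt' hxq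
      exact ⟨m, hm, h, L3 H W hR hm h⟩
    · exfalso
      refine keyy 1 (by simpa using hR) ?_ ?_ ?_
      · simpa using hxt
      · simpa using hxz
      · simpa using hxq
    · -- `v = q 0` : conjugate by `k`
      exfalso
      have e1 : i W.k * i (K.q 0) * (i W.k)⁻¹ = i K.z := by
        rw [← map_mul, ← map_inv, ← map_mul, k_q W]
      have e2 : i W.k * i K.z * (i W.k)⁻¹ = i K.z * i (K.q 0) := by
        rw [← map_mul, ← map_inv, ← map_mul, k_z W, map_mul]
      have c1 : Commute x (i K.z) := hxz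
      have c2 : Commute x (i (K.q 0)) := hxq
      refine keyy (i W.k) (R.mul_inv H hR hkk) ?_ ?_ ?_
      · calc i W.k * x * (i W.k)⁻¹ * t * (i W.k * x * (i W.k)⁻¹)⁻¹
            = i W.k * (x * ((i W.k)⁻¹ * t * i W.k) * x⁻¹) * (i W.k)⁻¹ := by group
          _ = (i W.k * t * (i W.k)⁻¹) * (i W.k * i (K.q 0) * (i W.k)⁻¹) := by rw [t_k H, hxt]; group
          _ = t * i K.z := by rw [t_k' H, e1]
      · have h : Commute (i W.k * x * (i W.k)⁻¹) (i W.k * i (K.q 0) * (i W.k)⁻¹) := (Commute.conj_iff (i W.k)).2 c2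
        rw [e1] at h
        exact h
      · have h : Commute (i W.k * x * (i W.k)⁻¹) (i W.k * (i K.z * i (K.q 0)) * (i W.k)⁻¹) :=
          (Commute.conj_iff (i W.k)).2 (c1.mul_right c2)
        have e3 : i W.k * (i K.z * i (K.q 0)) * (i W.k)⁻¹ = i (K.q 0) := by
          have : i W.k * (i K.z * i (K.q 0)) * (i W.k)⁻¹ = (i W.k * i K.z * (i W.k)⁻¹) * (i W.k * i (K.q 0) * (i W.k)⁻¹) := by
            group
          rw [this, e1, e2, mul_assoc, P.qz' H, ← mul_assoc, P.zz' H, one_mul]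
        rw [e3] at h
        exact h
    · -- `v = z q 0` : conjugate by `k⁻¹`
      exfalso
      have e1 : i W.k⁻¹ * (i K.z * i (K.q 0)) * (i W.k⁻¹)⁻¹ = i K.z := by
        rw [← map_mul, ← map_mul, ← map_inv, ← map_mul, inv_inv]
        congr 1
        have h1 := W.kz
        have h2 := W.kq
        calc W.k⁻¹ * (K.z * K.q 0) * W.k = (W.k⁻¹ * K.z * W.k) * (W.k⁻¹ * K.q 0 * W.k) := by group
          _ = K.q 0 * (K.z * K.q 0) := by rw [h1, h2]
          _ = K.z := by rw [← q_z, ← mul_assoc, q_sq, one_mul]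
      have e2 : i W.k⁻¹ * i K.z * (i W.k⁻¹)⁻¹ = i (K.q 0) := by
        rw [← map_mul, ← map_inv, ← map_mul, inv_inv, W.kz]
      have c1 : Commute x (i K.z) := hxz
      have c2 : Commute x (i (K.q 0)) := hxq
      refine keyy (i W.k⁻¹) (R.mul_inv H hR hkk') ?_ ?_ ?_
      · calc i W.k⁻¹ * x * (i W.k⁻¹)⁻¹ * t * (i W.k⁻¹ * x * (i W.k⁻¹)⁻¹)⁻¹
            = i W.k⁻¹ * (x * ((i W.k⁻¹)⁻¹ * t * i W.k⁻¹) * x⁻¹) * (i W.k⁻¹)⁻¹ := by group
          _ = (i W.k⁻¹ * t * (i W.k⁻¹)⁻¹) * (i W.k⁻¹ * (i K.z * i (K.q 0)) * (i W.k⁻¹)⁻¹) := by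
            rw [t_k H, hxt, map_mul]; group
          _ = t * i K.z := by rw [t_k' H, e1]
      · have h : Commute (i W.k⁻¹ * x * (i W.k⁻¹)⁻¹) (i W.k⁻¹ * (i K.z * i (K.q 0)) * (i W.k⁻¹)⁻¹) :=
          (Commute.conj_iff (i W.k⁻¹)).2 (c1.mul_right c2)
        rw [e1] at h
        exact h
      · have h : Commute (i W.k⁻¹ * x * (i W.k⁻¹)⁻¹) (i W.k⁻¹ * i K.z * (i W.k⁻¹)⁻¹) :=
          (Commute.conj_iff (i W.k⁻¹)).2 c1
        rw [e2] at h
        exact h
  · -- `x` moves `q 0`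
    exfalso
    have hqz := P.qz' H 0
    have hne : i (K.q 0) * i K.z ≠ i (K.q 0) := by
      intro h
      rw [← map_mul] at h
      exact qz_ne 0 (H.inj h)
    -- `x v x⁻¹ = v`
    have hvv : x * i v * x⁻¹ = i v := by
      have h1 : t = t * (i v * (x * i v * x⁻¹)) := by
        calc t = x * (x⁻¹ * t * x) * x⁻¹ := by group
          _ = x * (x * t * x⁻¹) * x⁻¹ := by
            congr 2
            rw [hxi]
          _ = x * (t * i v) * x⁻¹ := by rw [hxt]
          _ = (x * t * x⁻¹) * (x * i v * x⁻¹) := by group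
          _ = (t * i v) * (x * i v * x⁻¹) := by rw [hxt]
          _ = _ := by group
      have h2 : i v * (x * i v * x⁻¹) = 1 := by simpa using h1
      have h3 : i v * i v = 1 := by rw [← map_mul, K.sq_A v (vv_A hv), map_one]
      calc x * i v * x⁻¹ = (i v * i v) * (x * i v * x⁻¹) := by rw [h3, one_mul]
        _ = i v * (i v * (x * i v * x⁻¹)) := by group
        _ = i v := by rw [h2, mul_one]
    have hxzz : x * i K.z * x⁻¹ = i K.z := by rw [hxz, mul_inv_cancel_right]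
    -- elements of `C_S(t)` that move `q 0`
    have hfin : ∀ w : G, R H (g * w⁻¹) → w ∈ SS H → (w * x * w⁻¹) * t = t * (w * x * w⁻¹) →
        (w * x * w⁻¹) * i (K.q 0) * (w * x * w⁻¹)⁻¹ ≠ i (K.q 0) → False := by
      intro w hRw hw h1 h2
      have h3 : w * x * w⁻¹ ∈ SS H := mul_mem (mul_mem hw hxS) (inv_mem hw)
      obtain ⟨u, hu, h4⟩ := (SS_cent W H h3).1 h1
      have huM : u ∉ Mm K := by
        intro huM
        apply h2
        have h5 : i u * i (K.q 0) = i (K.q 0) * i u := by rw [← map_mul, ← map_mul, (mem_Mm.1 huM).2]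
        have h6 : (w * x * w⁻¹) * i (K.q 0) = i (K.q 0) * (w * x * w⁻¹) := by
          rcases h4 with h4 | h4 <;> rw [h4]
          · exact h5
          · rw [mul_assoc, h5, ← mul_assoc, H.ti, mul_assoc]
        rw [h6, mul_inv_cancel_right]
      apply L1 H W hRw hu huM
      have hgx : (g * w⁻¹)⁻¹ * t * (g * w⁻¹) = w * x * w⁻¹ := by
        rw [hx]; group
      rw [hgx]
      exact h4
    rcases mem_vv.1 hv with rfl | rfl | rfl | rfl
    · refine hfin 1 (by simpa using hR) (one_mem _) ?_ ?_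
      · have hxt' : x * t = t * x := by
          rw [map_one, mul_one] at hxt
          calc x * t = (x * t * x⁻¹) * x := by group
            _ = _ := by rw [hxt]
        simpa using hxt'
      · have e : (1 : G) * x * 1⁻¹ = x := by group
        rw [e, hq]
        exact hne
    · -- `x t x⁻¹ = t z` : conjugate by `y2`
      have hs := y2_inv W H
      have hs2 := y2y2 W H
      have hst := y2_t W H
      have hsz := y2_z W H
      have hsq := y2_q0 W H
      have hsplit : ∀ a b : G, y2 W i y * (a * b) * y2 W i y = (y2 W i y * a * y2 W i y) * (y2 W i y * b * y2 W i y) := by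
        intro a b
        calc y2 W i y * (a * b) * y2 W i y = y2 W i y * a * 1 * b * y2 W i y := by group
          _ = _ := by rw [← hs2]; group
      refine hfin (y2 W i y) (R.mul_inv H hR ?_) (y2_SS W H) ?_ ?_
      · intro m hm
        rw [hs]
        exact y2_M W H hm
      · have h1 : (y2 W i y * x * (y2 W i y)⁻¹) * t * (y2 W i y * x * (y2 W i y)⁻¹)⁻¹ = t := by
          calc (y2 W i y * x * (y2 W i y)⁻¹) * t * (y2 W i y * x * (y2 W i y)⁻¹)⁻¹
              = y2 W i y * (x * ((y2 W i y)⁻¹ * t * y2 W i y) * x⁻¹) * (y2 W i y)⁻¹ := by group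
            _ = y2 W i y * ((x * t * x⁻¹) * (x * i (K.q 0) * x⁻¹)) * y2 W i y := by rw [hs, hst]; group
            _ = y2 W i y * (t * i K.z * (i (K.q 0) * i K.z)) * y2 W i y := by rw [hxt, hq]
            _ = y2 W i y * (t * (i K.z * i K.z) * i (K.q 0)) * y2 W i y := by rw [hqz]; group
            _ = y2 W i y * (t * i (K.q 0)) * y2 W i y := by rw [P.zz' H, mul_one]
            _ = t * (i (K.q 0) * i (K.q 0)) := by rw [hsplit, hst, hsq]; group
            _ = t := by rw [P.qq' H, mul_one]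
        calc (y2 W i y * x * (y2 W i y)⁻¹) * t =
                ((y2 W i y * x * (y2 W i y)⁻¹) * t * (y2 W i y * x * (y2 W i y)⁻¹)⁻¹) *
                (y2 W i y * x * (y2 W i y)⁻¹) := by group
          _ = _ := by rw [h1]
      · have h1 : (y2 W i y * x * (y2 W i y)⁻¹) * i (K.q 0) * (y2 W i y * x * (y2 W i y)⁻¹)⁻¹ = i (K.q 0) * i K.z := by
          calc (y2 W i y * x * (y2 W i y)⁻¹) * i (K.q 0) * (y2 W i y * x * (y2 W i y)⁻¹)⁻¹
              = y2 W i y * (x * ((y2 W i y)⁻¹ * i (K.q 0) * y2 W i y) * x⁻¹) * (y2 W i y)⁻¹ := by group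
            _ = y2 W i y * (x * i (K.q 0) * x⁻¹) * y2 W i y := by rw [hs, hsq]
            _ = i (K.q 0) * i K.z := by rw [hq, hsplit, hsq, hsz]
        rw [h1]
        exact hne
    · rw [hq] at hvv
      exact hne hvv
    · have h1 : x * i (K.z * K.q 0) * x⁻¹ = (x * i K.z * x⁻¹) * (x * i (K.q 0) * x⁻¹) := by rw [map_mul]; group
      rw [h1, hxzz, hq, map_mul] at hvv
      exact hne (mul_left_cancel hvv)

end Cfsg.Agent.OddHalf.D7Tits.WExt
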