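import Cfsg.Agent.OddHalf.D7Tits.WDefs
import Cfsg.Agent.OddHalf.D7Tits.SOne

/-!
# D7, K = Tits, type W (helper868): consequences of the K-facts

`j_comm`, `q_xpow`, `q_spow`, `q_eq`, `mem_U_of`, `mem_Mm_of`, `conj_M`, `not_three_dvd`.
-/

set_option autoImplicit false
set_option linter.unusedSectionVars false
set_option linter.unusedVariables false

namespace Cfsg.Agent.OddHalf.D7Tits.WFacts

open Cfsg.Agent.OddHalf.D7Tits.Defs Cfsg.Agent.OddHalf.D7Tits.WDefs Cfsg.Agent.OddHalf.D7Tits.SOne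

universe u v

variable {Y : Type u} [Group Y] {K : KT Y} (W : KTW K)

include W in
theorem j_ne : K.j ≠ 1 := by
  intro h
  have := W.jj
  rw [h, mul_one] at this
  exact K.z1 this.symm

include W in
theorem tau_eq (y : Y) : K.τ y = K.j * y * K.j⁻¹ := (K.j_or.resolve_left (j_ne W)).2 y

include W in
theorem j_comm {a : Y} (ha : a ∈ K.A) : K.j * a = a * K.j := by
  have h := tau_eq W a
  rw [K.τA a ha] at h
  calc K.j * a = (K.j * a * K.j⁻¹) * K.j := by group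
    _ = a * K.j := by rw [← h]

include W in
theorem j_s : K.j * K.s = K.s * K.j := by
  have h := tau_eq W K.s
  rw [K.τs] at h
  calc K.j * K.s = (K.j * K.s * K.j⁻¹) * K.j := by group
    _ = K.s * K.j := by rw [← h]

include W in
theorem j_x : K.j * K.x = K.x * K.j := by
  have h := tau_eq W K.x
  rw [K.τx] at h
  calc K.j * K.x = (K.j * K.x * K.j⁻¹) * K.j := by group
    _ = K.x * K.j := by rw [← h]

theorem z_inv : K.z⁻¹ = K.z := inv_eq_of_mul_eq_one_left K.zz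

theorem q_sq (n : ZMod 5) : K.q n * K.q n = 1 := K.sq_A _ (K.q_A n)

theorem q_z (n : ZMod 5) : K.q n * K.z = K.z * K.q n := a_comm K (K.q_A n) K.z_A

theorem q_inv (n : ZMod 5) : (K.q n)⁻¹ = K.q n := a_inv K (K.q_A n)

theorem q_xpow (c : ℕ) (n : ZMod 5) : (K.x ^ c)⁻¹ * K.q n * K.x ^ c = K.q (n + c) := by
  induction c with
  | zero => simp
  | succ c ih =>
    calc (K.x ^ (c + 1))⁻¹ * K.q n * K.x ^ (c + 1) = K.x⁻¹ * ((K.x ^ c)⁻¹ * K.q n * K.x ^ c) * K.x := by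
          rw [pow_succ]; group
      _ = K.q (n + c + 1) := by rw [ih, K.q_x]
      _ = K.q (n + (c + 1 : ℕ)) := by
        congr 1
        push_cast
        ring

theorem q_spow (a : ℕ) (n : ZMod 5) : (K.s ^ a)⁻¹ * K.q n * K.s ^ a = K.q (2 ^ a * n) := by
  induction a with
  | zero => simp
  | succ a ih =>
    calc (K.s ^ (a + 1))⁻¹ * K.q n * K.s ^ (a + 1) = K.s⁻¹ * ((K.s ^ a)⁻¹ * K.q n * K.s ^ a) * K.s := by
          rw [pow_succ]; group
      _ = K.q (2 * (2 ^ a * n)) := by rw [ih, K.q_s]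
      _ = K.q (2 ^ (a + 1) * n) := by
        congr 1
        ring

include W in
theorem q_jpow (b : ℕ) (n : ZMod 5) : (K.j ^ b)⁻¹ * K.q n * K.j ^ b = K.q n := by
  have h : Commute (K.j ^ b) (K.q n) := (show Commute K.j (K.q n) from j_comm W (K.q_A n)).pow_left b
  rw [mul_assoc, ← h.eq, inv_mul_cancel_left]

theorem qz_ne (n : ZMod 5) : K.q n * K.z ≠ K.q n := by
  intro h
  exact K.z1 (by simpa using h)

/-- `q n ∈ {q 0, q 0 * z}` only for `n = 0` -/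
theorem q_eq {n : ZMod 5} (h : K.q n = K.q 0 ∨ K.q n = K.q 0 * K.z) : n = 0 := by
  have hrz : K.r⁻¹ * K.z * K.r = K.z := by
    have := Pz K (K.E_le_P (r_E K))
    calc K.r⁻¹ * K.z * K.r = K.r⁻¹ * (K.z * K.r) := by group
      _ = K.r⁻¹ * (K.r * K.z) := by rw [this]
      _ = K.z := by group
  -- `q n` fixed by `r`: impossible
  have key : K.r⁻¹ * K.q n * K.r = K.q n → False := by
    intro h1
    rcases h with h | h
    · rw [h, K.r0] at h1
      exact qz_ne 0 h1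
    · rw [h] at h1
      have h2 : K.r⁻¹ * (K.q 0 * K.z) * K.r = (K.r⁻¹ * K.q 0 * K.r) * (K.r⁻¹ * K.z * K.r) := by group
      rw [h2, K.r0, hrz] at h1
      exact qz_ne 0 (mul_right_cancel h1)
  have h5 : ∀ m : ZMod 5, m = 0 ∨ m = 1 ∨ m = 2 ∨ m = 3 ∨ m = 4 := by decide
  rcases h5 n with rfl | rfl | rfl | rfl | rfl
  · rfl
  · exfalso
    -- conjugate by `x`
    have hx : ∀ m, K.x⁻¹ * (K.q m * K.z) * K.x = K.q (m + 1) * K.z := by
      intro m
      have h1 := z_x K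
      calc K.x⁻¹ * (K.q m * K.z) * K.x = K.x⁻¹ * K.q m * (K.z * K.x) := by group
        _ = (K.x⁻¹ * K.q m * K.x) * K.z := by rw [← h1]; group
        _ = _ := by rw [K.q_x]
    have h2 : K.q 2 = K.q 0 ∨ K.q 2 = K.q 0 * K.z := by
      have e : (1 : ZMod 5) + 1 = 2 := by decide
      rcases h with h | h
      · have h3 : K.x⁻¹ * K.q 1 * K.x = K.x⁻¹ * K.q 0 * K.x := by rw [h]
        rw [K.q_x, K.q_x, e, zero_add] at h3
        rw [h3]
        left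
        exact h
      · have h3 : K.x⁻¹ * K.q 1 * K.x = K.x⁻¹ * (K.q 0 * K.z) * K.x := by rw [h]
        rw [K.q_x, hx, e, zero_add] at h3
        rw [h3, h]
        left
        rw [mul_assoc, K.zz, mul_one]
    have h3 : K.r⁻¹ * K.q 2 * K.r = K.q 2 := K.r2
    rcases h2 with h | h
    · rw [h, K.r0] at h3
      exact qz_ne 0 h3
    · rw [h] at h3
      have h4 : K.r⁻¹ * (K.q 0 * K.z) * K.r = (K.r⁻¹ * K.q 0 * K.r) * (K.r⁻¹ * K.z * K.r) := by group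
      rw [h4, K.r0, hrz] at h3
      exact qz_ne 0 (mul_right_cancel h3)
  · exact (key K.r2).elim
  · exact (key K.r3).elim
  · exact (key K.r4).elim

/-- conjugation of `z`, `q n z` by an element of `P` -/
theorem conj_qz {p : Y} (hp : p ∈ K.P) (n : ZMod 5) :
    p⁻¹ * (K.q n * K.z) * p = (p⁻¹ * K.q n * p) * K.z := by
  have h := Pz K hp
  calc p⁻¹ * (K.q n * K.z) * p = p⁻¹ * K.q n * (K.z * p) := by group
    _ = _ := by rw [← h]; group

include W in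
/-- `p⁻¹ q n p ∈ {q m, q m z}` -/
theorem conj_q {p : Y} (hp : p ∈ K.P) (n : ZMod 5) :
    ∃ u ∈ K.Q, ∃ c a b : ℕ, p = u * K.x ^ c * K.s ^ a * K.j ^ b ∧
      (p⁻¹ * K.q n * p = K.q (2 ^ a * (n + c)) ∨ p⁻¹ * K.q n * p = K.q (2 ^ a * (n + c)) * K.z) := by
  obtain ⟨e, he, a, b, hp'⟩ := K.P_cases p hp
  obtain ⟨u, hu, c, rfl⟩ := K.E_cases e he
  refine ⟨u, hu, c, a, b, hp', ?_⟩
  have hxP : K.x ^ c ∈ K.P := pow_mem (x_P K) c
  have hsP : K.s ^ a ∈ K.P := pow_mem (s_P K) a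
  have hjP : K.j ^ b ∈ K.P := pow_mem (j_P K) b
  have e1 : p⁻¹ * K.q n * p = (K.j ^ b)⁻¹ * ((K.s ^ a)⁻¹ * ((K.x ^ c)⁻¹ * (u⁻¹ * K.q n * u) * K.x ^ c) * K.s ^ a) *
      K.j ^ b := by
    rw [hp']; group
  rw [e1]
  rcases K.q_Q u hu n with h | h
  · left
    rw [h, q_xpow, q_spow, q_jpow W]
  · right
    rw [h, conj_qz hxP, q_xpow, conj_qz hsP, q_spow, conj_qz hjP, q_jpow W]

include W in
/-- the stabiliser of `{q 0, q 0 z}` in `P` is `U` -/
theorem mem_U_of {p : Y} (hp : p ∈ K.P) (h : p⁻¹ * K.q 0 * p = K.q 0 ∨ p⁻¹ * K.q 0 * p = K.q 0 * K.z) :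
    p ∈ K.U := by
  obtain ⟨u, hu, c, a, b, hp', h1⟩ := conj_q W hp 0
  rw [zero_add] at h1
  have h2 : K.q (2 ^ a * (c : ZMod 5)) = K.q 0 ∨ K.q (2 ^ a * (c : ZMod 5)) = K.q 0 * K.z := by
    have hzz : ∀ y : Y, y * K.z * K.z = y := fun y => by rw [mul_assoc, K.zz, mul_one]
    rcases h1 with h1 | h1 <;> rw [h1] at h
    · exact h
    · rcases h with h | h
      · right
        rw [← h, hzz]
      · left
        exact mul_right_cancel h
  have h3 := q_eq h2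
  have h4 : (c : ZMod 5) = 0 := by
    have h5 : IsUnit ((2 : ZMod 5) ^ a) := by
      apply IsUnit.pow
      exact (ZMod.isUnit_iff_coprime 2 5).2 (by norm_num)
    exact (h5.mul_right_eq_zero).1 h3
  have h5 : 5 ∣ c := (ZMod.natCast_eq_zero_iff c 5).1 h4
  obtain ⟨d, rfl⟩ := h5
  have h6 : K.x ^ (5 * d) = 1 := by rw [pow_mul, K.x5, one_pow]
  rw [hp', h6, mul_one]
  exact mul_mem (mul_mem (K.Q_le_U hu) (pow_mem K.s_U a)) (pow_mem K.j_U b)

include W in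
theorem U_q {u : Y} (hu : u ∈ K.U) : u⁻¹ * K.q 0 * u = K.q 0 ∨ u⁻¹ * K.q 0 * u = K.q 0 * K.z := by
  obtain ⟨v, hv, a, b, hu'⟩ := K.U_cases u hu
  have hsP : K.s ^ a ∈ K.P := pow_mem (s_P K) a
  have hjP : K.j ^ b ∈ K.P := pow_mem (j_P K) b
  have e1 : u⁻¹ * K.q 0 * u = (K.j ^ b)⁻¹ * ((K.s ^ a)⁻¹ * (v⁻¹ * K.q 0 * v) * K.s ^ a) * K.j ^ b := by
    rw [hu']; group
  rw [e1]
  rcases K.q_Q v hv 0 with h | h
  · left
    rw [h, q_spow, q_jpow W, mul_zero]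
  · right
    rw [h, conj_qz hsP, q_spow, conj_qz hjP, q_jpow W, mul_zero]

include W in
/-- `C_Y(⟨z, q 0⟩) = M` -/
theorem mem_Mm_iff {m : Y} : m ∈ Mm K ↔ m * K.z = K.z * m ∧ m * K.q 0 = K.q 0 * m := by
  rw [mem_Mm]
  constructor
  · rintro ⟨h1, h2⟩
    exact ⟨Pz K (K.U_le_P h1), h2⟩
  · rintro ⟨h1, h2⟩
    refine ⟨mem_U_of W ((K.mem_P m).2 h1) (Or.inl ?_), h2⟩
    rw [mul_assoc, ← h2, inv_mul_cancel_left]

include W in
theorem k_z : W.k * K.z * W.k⁻¹ = K.z * K.q 0 := by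
  have h1 := W.kz
  have h2 := W.kq
  have h3 : W.k⁻¹ * (K.z * K.q 0) * W.k = K.z := by
    calc W.k⁻¹ * (K.z * K.q 0) * W.k = (W.k⁻¹ * K.z * W.k) * (W.k⁻¹ * K.q 0 * W.k) := by group
      _ = K.q 0 * (K.z * K.q 0) := by rw [h1, h2]
      _ = K.z := by rw [← q_z, ← mul_assoc, q_sq, one_mul]
  calc W.k * K.z * W.k⁻¹ = W.k * (W.k⁻¹ * (K.z * K.q 0) * W.k) * W.k⁻¹ := by rw [h3]
    _ = K.z * K.q 0 := by group

include W in
theorem k_q : W.k * K.q 0 * W.k⁻¹ = K.z := by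
  rw [← W.kz]; group

include W in
/-- `k` normalises `M` -/
theorem conj_M {m : Y} (hm : m ∈ Mm K) : W.k * m * W.k⁻¹ ∈ Mm K := by
  rw [mem_Mm_iff W] at hm ⊢
  obtain ⟨h1, h2⟩ := hm
  have c1 : Commute m K.z := h1
  have c2 : Commute m (K.q 0) := h2
  have hc : ∀ v w : Y, W.k⁻¹ * v * W.k = w → Commute m w → Commute (W.k * m * W.k⁻¹) v := by
    intro v w e h
    have e2 : v = W.k * w * W.k⁻¹ := by rw [← e]; group
    rw [e2]
    exact (Commute.conj_iff W.k).2 h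
  exact ⟨(hc _ _ W.kz c2).eq, (hc _ _ W.kq (c1.mul_right c2)).eq⟩

include W in
theorem conj_M' {m : Y} (hm : m ∈ Mm K) : W.k⁻¹ * m * W.k ∈ Mm K := by
  rw [mem_Mm_iff W] at hm ⊢
  obtain ⟨h1, h2⟩ := hm
  have c1 : Commute m K.z := h1
  have c2 : Commute m (K.q 0) := h2
  have hc : ∀ v w : Y, W.k * v * W.k⁻¹ = w → Commute m w → Commute (W.k⁻¹ * m * W.k) v := by
    intro v w e h
    have e2 : v = W.k⁻¹ * w * W.k⁻¹⁻¹ := by rw [← e]; group
    have e3 : W.k⁻¹ * m * W.k = W.k⁻¹ * m * W.k⁻¹⁻¹ := by rw [inv_inv]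
    rw [e2, e3]
    exact (Commute.conj_iff W.k⁻¹).2 h
  exact ⟨(hc _ _ (k_z W) (c1.mul_right c2)).eq, (hc _ _ (k_q W) c1).eq⟩

/-! ### `3 ∤ |P|` -/

/-- `(n g)^m ∈ N g^m` -/
theorem mul_pow_coset {N : Subgroup Y} {g : Y} (hg : ∀ n ∈ N, g * n * g⁻¹ ∈ N) {n : Y} (hn : n ∈ N) (m : ℕ) :
    ∃ n' ∈ N, (n * g) ^ m = n' * g ^ m := by
  induction m with
  | zero => exact ⟨1, N.one_mem, by simp⟩
  | succ m ih =>
    obtain ⟨n', hn', h⟩ := ih
    have h2 : ∀ m : ℕ, g ^ m * n * (g ^ m)⁻¹ ∈ N := by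
      intro m
      induction m with
      | zero => simpa using hn
      | succ m ih =>
        have e : g ^ (m + 1) * n * (g ^ (m + 1))⁻¹ = g * (g ^ m * n * (g ^ m)⁻¹) * g⁻¹ := by
          rw [pow_succ']; group
        rw [e]
        exact hg _ ih
    refine ⟨n' * (g ^ m * n * (g ^ m)⁻¹), N.mul_mem hn' (h2 m), ?_⟩
    rw [pow_succ, h, pow_succ]
    group

include W in
theorem not_three_dvd : ¬ 3 ∣ Nat.card K.P := by
  intro h
  have := K.fin
  have : Fact (Nat.Prime 3) := ⟨Nat.prime_three⟩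
  obtain ⟨⟨p, hp⟩, ho⟩ := exists_prime_orderOf_dvd_card' 3 h
  have hp3 : p ^ 3 = 1 := by
    have h1 : (⟨p, hp⟩ : K.P) ^ 3 = 1 := by rw [← ho]; exact pow_orderOf_eq_one _
    exact congrArg Subtype.val h1
  have hp1 : p ≠ 1 := by
    rintro rfl
    have h1 : orderOf (⟨1, hp⟩ : K.P) = 1 := orderOf_eq_one_iff.2 rfl
    rw [h1] at ho
    norm_num at ho
  apply hp1
  -- `p ∈ E`
  obtain ⟨e, he, a, b, hpe⟩ := K.P_cases p hp
  have hsj : Commute (K.s ^ a) (K.j ^ b) :=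
    ((show Commute K.j K.s from j_s W).symm).pow_pow a b
  have hj4 : K.j ^ 4 = 1 := by
    calc K.j ^ 4 = (K.j * K.j) * (K.j * K.j) := by simp only [pow_succ, pow_zero, one_mul, mul_assoc]
      _ = 1 := by rw [W.jj, K.zz]
  have hg4 : (K.s ^ a * K.j ^ b) ^ 4 = 1 := by
    rw [hsj.mul_pow, ← pow_mul, ← pow_mul, mul_comm a, mul_comm b, pow_mul, pow_mul, K.s4, hj4, one_pow, one_pow,
      one_mul]
  have hgP : K.s ^ a * K.j ^ b ∈ K.P := mul_mem (pow_mem (s_P K) a) (pow_mem (j_P K) b)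
  obtain ⟨e', he', h4⟩ := mul_pow_coset (N := K.E) (g := K.s ^ a * K.j ^ b) (fun n hn => K.nor_E _ hgP n hn) he 4
  rw [hg4, mul_one, ← mul_assoc, ← hpe] at h4
  have hpE : p ∈ K.E := by
    have e1 : p = p ^ 4 := by
      calc p = p ^ 3 * p := by rw [hp3, one_mul]
        _ = p ^ 4 := by rw [← pow_succ]
    rw [e1, h4]
    exact he'
  -- `p ∈ Q`
  obtain ⟨u, hu, c, hpu⟩ := K.E_cases p hpE
  obtain ⟨u', hu', h5⟩ := mul_pow_coset (N := K.Q) (g := K.x ^ c) (fun n hn => K.nor_Q _ (pow_mem (x_P K) c) n hn) hu 5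
  rw [← hpu, ← pow_mul, mul_comm c, pow_mul, K.x5, one_pow, mul_one] at h5
  have hpQ : p ∈ K.Q := by
    have e1 : p = (p ^ 5) ^ 2 := by
      calc p = (p ^ 3) ^ 3 * p := by rw [hp3, one_pow, one_mul]
        _ = (p ^ 5) ^ 2 := by rw [← pow_mul, ← pow_succ, ← pow_mul]
    rw [e1, h5]
    exact pow_mem hu' 2
  have h6 := K.Q_pow p hpQ
  calc p = p ^ 3 * p := by rw [hp3, one_mul]
    _ = 1 := by rw [← pow_succ, h6]

end Cfsg.Agent.OddHalf.D7Tits.WFacts
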