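import Cfsg.Agent.OddHalf.D7Tits.WSys
import Cfsg.Agent.OddHalf.D7Tits.ExtT

/-!
# D7, K = Tits, type W (helper868): `t` is not in the commutator subgroup of `S`

`S / M` is `⟨t⟩ × D₈`.
-/

set_option autoImplicit false
set_option linter.unusedSectionVars false
set_option linter.unusedVariables false

namespace Cfsg.Agent.OddHalf.D7Tits.WHom

open Cfsg.Agent.OddHalf.D7Tits.Defs Cfsg.Agent.OddHalf.D7Tits.WDefs
open Cfsg.Agent.OddHalf.D7Tits.WFacts Cfsg.Agent.OddHalf.D7Tits.WPos Cfsg.Agent.OddHalf.D7Tits.WSys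
open Cfsg.Agent.OddHalf.D7Tits.WSys.P

universe u v

variable {Y : Type u} [Group Y] {K : KT Y} {G : Type v} [Group G] {i : Y →* G} {t y : G}
  (W : KTW K) (H : WDefs.PosW K i t y)

include H

/-- `C_S(⟨t, q 0⟩)` -/
theorem mem_tM (W : KTW K) {g : G} (hg : g ∈ SS H) (h1 : g * t = t * g) (h2 : g * i (K.q 0) = i (K.q 0) * g) :
    ∃ m ∈ Mm K, g = i m ∨ g = t * i m := by
  obtain ⟨a, ha, h⟩ := (SS_cent W H hg).1 h1
  refine ⟨a, mem_Mm.2 ⟨ha, ?_⟩, h⟩
  have key : i a * i (K.q 0) = i (K.q 0) * i a := by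
    rcases h with rfl | rfl
    · exact h2
    · have h3 := H.ti (K.q 0)
      have e : i a = t⁻¹ * (t * i a) := by group
      have h4 : t⁻¹ * i (K.q 0) = i (K.q 0) * t⁻¹ := by rw [P.t_inv H, h3]
      calc i a * i (K.q 0) = t⁻¹ * (t * i a * i (K.q 0)) := by group
        _ = (t⁻¹ * i (K.q 0)) * (t * i a) := by rw [h2]; group
        _ = _ := by rw [h4]; group
  rw [← map_mul, ← map_mul] at key
  exact H.inj key

theorem t_notMem {D : Subgroup Y} : t ∉ D.map i := by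
  rintro ⟨a, -, h⟩
  exact H.tY a h

/-- `U` normalises `M` -/
theorem U_M (W : KTW K) {a m : Y} (ha : a ∈ K.U) (hm : m ∈ Mm K) : a * m * a⁻¹ ∈ Mm K := by
  have hmU := (mem_Mm.1 hm).1
  rw [mem_Mm]
  refine ⟨mul_mem (mul_mem ha hmU) (inv_mem ha), ?_⟩
  have c1 : Commute m (K.q 0) := (mem_Mm.1 hm).2
  have c2 : Commute m K.z := SOne.Pz K (K.U_le_P hmU)
  have key : ∀ w : Y, a⁻¹ * K.q 0 * a = w → Commute m w → Commute (a * m * a⁻¹) (K.q 0) := by
    intro w e h
    have e2 : K.q 0 = a * w * a⁻¹ := by rw [← e]; group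
    rw [e2]
    exact (Commute.conj_iff a).2 h
  rcases U_q W ha with h | h
  · exact (key _ h c1).eq
  · exact (key _ h (c1.mul_right c2)).eq

/-- `S` normalises `i M` -/
theorem SS_M (W : KTW K) {g : G} (hg : g ∈ SS H) {m : Y} (hm : m ∈ Mm K) : ∃ m' ∈ Mm K, g * i m * g⁻¹ = i m' := by
  have hT : ∀ a ∈ T H, ∀ m ∈ Mm K, ∃ m' ∈ Mm K, a * i m * a⁻¹ = i m' := by
    intro a ha m hm
    obtain ⟨b, hb, rfl | rfl⟩ := ha
    · exact ⟨_, U_M H W hb hm, by rw [map_mul, map_mul, map_inv]⟩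
    · refine ⟨_, U_M H W hb hm, ?_⟩
      have h1 := P.t_inv H
      have h2 := H.ti (b * m * b⁻¹)
      calc t * i b * i m * (t * i b)⁻¹ = t * i (b * m * b⁻¹) * t⁻¹ := by rw [map_mul, map_mul, map_inv]; group
        _ = i (b * m * b⁻¹) := by rw [h2]; group
  have hy : ∀ m ∈ Mm K, ∃ m' ∈ Mm K, y * i m * y⁻¹ = i m' := by
    intro m hm
    rw [P.y_inv H]
    exact y_M H hm
  have hy2 : ∀ m ∈ Mm K, ∃ m' ∈ Mm K, y2 W i y * i m * (y2 W i y)⁻¹ = i m' := by
    intro m hm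
    rw [y2_inv W H]
    exact y2_M W H hm
  have hmul : ∀ a b : G, (∀ m ∈ Mm K, ∃ m' ∈ Mm K, a * i m * a⁻¹ = i m') →
      (∀ m ∈ Mm K, ∃ m' ∈ Mm K, b * i m * b⁻¹ = i m') → ∀ m ∈ Mm K, ∃ m' ∈ Mm K, a * b * i m * (a * b)⁻¹ = i m' := by
    intro a b ha hb m hm
    obtain ⟨m', hm', h⟩ := hb m hm
    obtain ⟨m'', hm'', h'⟩ := ha m' hm'
    refine ⟨m'', hm'', ?_⟩
    rw [← h', ← h]
    group
  obtain ⟨a, ha, rfl | rfl | rfl | rfl⟩ := SS_cases W H hg
  · exact hT _ ha m hm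
  · exact hmul _ _ hy (hT a ha) m hm
  · exact hmul _ _ hy2 (hT a ha) m hm
  · exact hmul _ _ (hmul _ _ hy hy2) (hT a ha) m hm

/-- `i M` in `S` -/
def Ms (H : WDefs.PosW K i t y) : Subgroup (SS H) := ((Mm K).map i).subgroupOf (SS H)

theorem mem_Ms {g : SS H} : g ∈ Ms H ↔ ∃ m ∈ Mm K, i m = g := by
  unfold Ms
  rw [Subgroup.mem_subgroupOf]
  rfl

theorem Ms_normal (W : KTW K) : (Ms H).Normal := by
  constructor
  intro m hm g
  obtain ⟨m', hm', h⟩ := (mem_Ms H).1 hm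
  obtain ⟨m'', hm'', h'⟩ := SS_M H W g.2 hm'
  refine (mem_Ms H).2 ⟨m'', hm'', ?_⟩
  rw [← h', h]
  rfl

/-- **`t ∉ [S, S]`** -/
theorem t_comm (W : KTW K) : (⟨t, T_le W H (t_T H)⟩ : SS H) ∉ commutator (SS H) := by
  intro hcomm
  have hn := Ms_normal H W
  let π : SS H →* SS H ⧸ Ms H := QuotientGroup.mk' (Ms H)
  have hπ : ∀ g : SS H, π g = 1 ↔ g ∈ Ms H := fun g => QuotientGroup.eq_one_iff g
  have hπs : Function.Surjective π := QuotientGroup.mk'_surjective _
  have hiU : ∀ a ∈ K.U, i a ∈ SS H := fun a ha => T_le W H ⟨a, ha, Or.inl rfl⟩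
  let t' : SS H := ⟨t, T_le W H (t_T H)⟩
  let y' : SS H := ⟨y, y_SS H⟩
  let s' : SS H := ⟨y2 W i y, y2_SS W H⟩
  -- the images of `i U`
  have hzM : K.z ∈ Mm K := mem_Mm.2 ⟨K.Q_le_U (SOne.z_Q K), (q_z 0).symm⟩
  have hqM : K.q 0 ∈ Mm K := mem_Mm.2 ⟨K.Q_le_U (K.A_le_Q (K.q_A 0)), rfl⟩
  have eqπ : ∀ a b : SS H, (∃ m ∈ Mm K, (a : G) = i m * b) → π a = π b := by
    rintro a b ⟨m, hm, h⟩
    rw [← mul_inv_eq_one, ← map_inv, ← map_mul, hπ, mem_Ms H]
    refine ⟨m, hm, ?_⟩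
    show i m = (a : G) * (b : G)⁻¹
    rw [h]
    group
  have ht1 : π t' ≠ 1 := by
    rw [Ne, hπ, mem_Ms H]
    rintro ⟨m, hm, h⟩
    exact H.tY m h
  have htt : π t' * π t' = 1 := by
    rw [← map_mul]
    have e : t' * t' = 1 := Subtype.ext H.tt
    rw [e, map_one]
  have hyy : π y' * π y' = 1 := by
    rw [← map_mul]
    have e : y' * y' = 1 := Subtype.ext H.yy
    rw [e, map_one]
  have hss : π s' * π s' = 1 := by
    rw [← map_mul]
    have e : s' * s' = 1 := Subtype.ext (y2y2 W H)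
    rw [e, map_one]
  -- `t` and `y` commute
  have cty : Commute (π t') (π y') := by
    show π t' * π y' = π y' * π t'
    rw [← map_mul, ← map_mul]
    apply eqπ
    refine ⟨K.z, hzM, ?_⟩
    show t * y = i K.z * (y * t)
    have h1 : y * t = t * i K.z * y := by
      calc y * t = (y * t * y) * y := by rw [mul_assoc (y * t), H.yy, mul_one]
        _ = _ := by rw [H.yt]
    rw [h1, ← mul_assoc, ← mul_assoc, ← H.ti K.z, mul_assoc t, P.zz' H, mul_one]
  have cts : Commute (π t') (π s') := by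
    show π t' * π s' = π s' * π t'
    rw [← map_mul, ← map_mul]
    apply eqπ
    refine ⟨K.q 0, hqM, ?_⟩
    show t * y2 W i y = i (K.q 0) * (y2 W i y * t)
    have h1 : y2 W i y * t = t * i (K.q 0) * y2 W i y := by
      calc y2 W i y * t = (y2 W i y * t * y2 W i y) * y2 W i y := by
            rw [mul_assoc (y2 W i y * t), y2y2 W H, mul_one]
        _ = _ := by rw [y2_t W H]
    rw [h1, ← mul_assoc, ← mul_assoc, ← H.ti (K.q 0), mul_assoc t, P.qq' H, mul_one]
  let ub : ∀ a ∈ K.U, SS H ⧸ Ms H := fun a ha => π ⟨i a, hiU a ha⟩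
  have ctu : ∀ a (ha : a ∈ K.U), Commute (π t') (ub a ha) := by
    intro a ha
    show π t' * π _ = π _ * π t'
    rw [← map_mul, ← map_mul]
    congr 1
    exact Subtype.ext (H.ti a)
  have cuu : ∀ a (ha : a ∈ K.U) b (hb : b ∈ K.U), Commute (ub a ha) (ub b hb) := by
    intro a ha b hb
    show π _ * π _ = π _ * π _
    rw [← map_mul, ← map_mul]
    apply eqπ
    refine ⟨a * b * a⁻¹ * b⁻¹, mem_Mm.2 ⟨mul_mem (mul_mem (mul_mem ha hb) (inv_mem ha)) (inv_mem hb), ?_⟩, ?_⟩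
    · -- the commutator centralises `q 0`
      have hz : ∀ c ∈ K.U, c * K.z * c⁻¹ = K.z := fun c hc => by
        rw [SOne.Pz K (K.U_le_P hc), mul_inv_cancel_right]
      have hc : ∀ c ∈ K.U, ∃ w : Y, (w = 1 ∨ w = K.z) ∧ c * K.q 0 * c⁻¹ = K.q 0 * w := by
        intro c hc
        have h := U_q W (inv_mem hc)
        rw [inv_inv] at h
        rcases h with h | h
        · exact ⟨1, Or.inl rfl, by rw [mul_one]; exact h⟩
        · exact ⟨K.z, Or.inr rfl, h⟩
      have hw : ∀ c ∈ K.U, ∀ w : Y, (w = 1 ∨ w = K.z) → c * w * c⁻¹ = w := by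
        rintro c hc w (rfl | rfl)
        · group
        · exact hz c hc
      have hww : ∀ w : Y, (w = 1 ∨ w = K.z) → w * w = 1 := by
        rintro w (rfl | rfl)
        · exact one_mul 1
        · exact K.zz
      have hwc : ∀ w w' : Y, (w = 1 ∨ w = K.z) → (w' = 1 ∨ w' = K.z) → w * w' = w' * w := by
        rintro w w' (rfl | rfl) (rfl | rfl) <;> group
      obtain ⟨w, hw1, h1⟩ := hc a ha
      obtain ⟨w', hw1', h2⟩ := hc b hb
      obtain ⟨v, hv1, h3⟩ := hc a⁻¹ (inv_mem ha)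
      obtain ⟨v', hv1', h4⟩ := hc b⁻¹ (inv_mem hb)
      rw [inv_inv] at h3 h4
      have e3 : v = w := by
        have h5 : a * (a⁻¹ * K.q 0 * a) * a⁻¹ = K.q 0 := by group
        rw [h3] at h5
        have h6 : a * (K.q 0 * v) * a⁻¹ = (a * K.q 0 * a⁻¹) * (a * v * a⁻¹) := by group
        rw [h6, h1, hw a ha v hv1, mul_assoc] at h5
        have h7 : w * v = 1 := by simpa using h5
        calc v = w * w * v := by rw [hww w hw1, one_mul]
          _ = w := by rw [mul_assoc, h7, mul_one]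
      have e4 : v' = w' := by
        have h5 : b * (b⁻¹ * K.q 0 * b) * b⁻¹ = K.q 0 := by group
        rw [h4] at h5
        have h6 : b * (K.q 0 * v') * b⁻¹ = (b * K.q 0 * b⁻¹) * (b * v' * b⁻¹) := by group
        rw [h6, h2, hw b hb v' hv1', mul_assoc] at h5
        have h7 : w' * v' = 1 := by simpa using h5
        calc v' = w' * w' * v' := by rw [hww w' hw1', one_mul]
          _ = w' := by rw [mul_assoc, h7, mul_one]
      subst e3 e4
      have h5 : (a * b * a⁻¹ * b⁻¹) * K.q 0 * (a * b * a⁻¹ * b⁻¹)⁻¹ = K.q 0 := by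
        calc (a * b * a⁻¹ * b⁻¹) * K.q 0 * (a * b * a⁻¹ * b⁻¹)⁻¹
            = a * (b * (a⁻¹ * (b⁻¹ * K.q 0 * b) * a) * b⁻¹) * a⁻¹ := by group
          _ = a * (b * ((a⁻¹ * K.q 0 * a) * (a⁻¹ * v' * a)) * b⁻¹) * a⁻¹ := by rw [h4]; group
          _ = a * (b * (K.q 0 * v * v') * b⁻¹) * a⁻¹ := by
            have h8 := hw a⁻¹ (inv_mem ha) v' hv1'
            rw [inv_inv] at h8
            rw [h3, h8]
          _ = a * ((b * K.q 0 * b⁻¹) * (b * v * b⁻¹) * (b * v' * b⁻¹)) * a⁻¹ := by group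
          _ = a * (K.q 0 * v' * v * v') * a⁻¹ := by rw [h2, hw b hb v hv1, hw b hb v' hv1']
          _ = (a * K.q 0 * a⁻¹) * (a * v' * a⁻¹) * (a * v * a⁻¹) * (a * v' * a⁻¹) := by group
          _ = K.q 0 * v * v' * v * v' := by rw [h1, hw a ha v hv1, hw a ha v' hv1']
          _ = K.q 0 * (v * (v' * v) * v') := by group
          _ = K.q 0 := by
            rw [hwc v' v hv1' hv1]
            calc K.q 0 * (v * (v * v') * v') = K.q 0 * ((v * v) * (v' * v')) := by group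
              _ = K.q 0 := by rw [hww v hv1, hww v' hv1', mul_one, mul_one]
      calc (a * b * a⁻¹ * b⁻¹) * K.q 0 = ((a * b * a⁻¹ * b⁻¹) * K.q 0 * (a * b * a⁻¹ * b⁻¹)⁻¹) * (a * b * a⁻¹ * b⁻¹) := by
            group
        _ = K.q 0 * (a * b * a⁻¹ * b⁻¹) := by rw [h5]
    · show i a * i b = i (a * b * a⁻¹ * b⁻¹) * (i b * i a)
      rw [map_mul, map_mul, map_mul, map_inv, map_inv]
      group
  have cyu : ∀ a (ha : a ∈ K.U), Commute (π y') (ub a ha) := by
    intro a ha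
    obtain ⟨a', ha', h⟩ := P.y_U H ha
    show π y' * π _ = π _ * π y'
    rw [← map_mul, ← map_mul]
    apply eqπ
    refine ⟨a' * a⁻¹, mem_Mm.2 ⟨mul_mem ha' (inv_mem ha), ?_⟩, ?_⟩
    · -- `a'` and `a` act in the same way on `q 0`
      have h1 := P.y_A H (K.q_A 0)
      have h2 : a' * K.q 0 * a'⁻¹ = a * K.q 0 * a⁻¹ := by
        have h3 := P.y_mul H (P.y_mul H h h1) (P.y_inv' H h)
        have h4 : a * K.q 0 * a⁻¹ ∈ K.A := K.nor_A a (K.U_le_P ha) _ (K.q_A 0)
        rw [P.y_A H h4] at h3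
        exact (H.inj h3).symm
      have h5 : a'⁻¹ * (a * K.q 0 * a⁻¹) * a' = K.q 0 := by rw [← h2]; group
      have h6 : a⁻¹ * (a' * K.q 0 * a'⁻¹) * a = K.q 0 := by rw [h2]; group
      -- `a' a⁻¹` centralises `q 0` up to the symmetric action: use `a⁻¹ q a ∈ {q, q z}`
      have hz : ∀ c ∈ K.U, c * K.z * c⁻¹ = K.z := fun c hc => by
        rw [SOne.Pz K (K.U_le_P hc), mul_inv_cancel_right]
      have h7 : a⁻¹ * K.q 0 * a = K.q 0 ∨ a⁻¹ * K.q 0 * a = K.q 0 * K.z := U_q W ha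
      have h8 : a' * a⁻¹ * K.q 0 * (a' * a⁻¹)⁻¹ = K.q 0 := by
        have e : a' * a⁻¹ * K.q 0 * (a' * a⁻¹)⁻¹ = a' * (a⁻¹ * K.q 0 * a) * a'⁻¹ := by group
        rw [e]
        rcases h7 with h7 | h7 <;> rw [h7]
        · rw [h2]
          calc a * K.q 0 * a⁻¹ = a * (a⁻¹ * K.q 0 * a) * a⁻¹ := by rw [h7]
            _ = K.q 0 := by group
        · have e2 : a' * (K.q 0 * K.z) * a'⁻¹ = (a' * K.q 0 * a'⁻¹) * (a' * K.z * a'⁻¹) := by group
          rw [e2, h2, hz a' ha']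
          calc a * K.q 0 * a⁻¹ * K.z = a * K.q 0 * a⁻¹ * (a * K.z * a⁻¹) := by rw [hz a ha]
            _ = a * (K.q 0 * K.z) * a⁻¹ := by group
            _ = a * (a⁻¹ * K.q 0 * a) * a⁻¹ := by rw [h7]
            _ = K.q 0 := by group
      calc a' * a⁻¹ * K.q 0 = (a' * a⁻¹ * K.q 0 * (a' * a⁻¹)⁻¹) * (a' * a⁻¹) := by group
        _ = _ := by rw [h8]
    · show y * i a = i (a' * a⁻¹) * (i a * y)
      rw [map_mul, map_inv, ← h]
      calc y * i a = y * i a * (y * y) := by rw [H.yy, mul_one]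
        _ = _ := by group
  -- the abelian subgroup `L`
  let L : Subgroup (SS H ⧸ Ms H) :=
    { carrier := {g | ∃ a, ∃ ha : a ∈ K.U, ∃ b c : ℕ, g = π y' ^ b * π t' ^ c * ub a ha}
      one_mem' := ⟨1, one_mem _, 0, 0, by
        have e : (⟨i 1, hiU 1 (one_mem _)⟩ : SS H) = 1 := Subtype.ext (map_one i)
        show 1 = π y' ^ 0 * π t' ^ 0 * π _
        rw [e, map_one]
        simp⟩
      mul_mem' := by
        rintro g h ⟨a, ha, b, c, rfl⟩ ⟨a', ha', b', c', rfl⟩
        refine ⟨a * a', mul_mem ha ha', b + b', c + c', ?_⟩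
        have e : ub (a * a') (mul_mem ha ha') = ub a ha * ub a' ha' := by
          show π _ = π _ * π _
          rw [← map_mul]
          congr 1
          exact Subtype.ext (map_mul i a a')
        rw [e, pow_add, pow_add]
        have c1 : Commute (ub a ha) (π y' ^ b') := ((cyu a ha).symm).pow_right b'
        have c2 : Commute (ub a ha) (π t' ^ c') := ((ctu a ha).symm).pow_right c'
        have c3 : Commute (π t' ^ c) (π y' ^ b') := cty.pow_pow c b'
        calc π y' ^ b * π t' ^ c * ub a ha * (π y' ^ b' * π t' ^ c' * ub a' ha')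
            = π y' ^ b * π t' ^ c * (ub a ha * π y' ^ b') * π t' ^ c' * ub a' ha' := by group
          _ = π y' ^ b * (π t' ^ c * π y' ^ b') * (ub a ha * π t' ^ c') * ub a' ha' := by rw [c1.eq]; group
          _ = _ := by rw [c3.eq, c2.eq]; group
      inv_mem' := by
        rintro g ⟨a, ha, b, c, rfl⟩
        refine ⟨a⁻¹, inv_mem ha, b, c, ?_⟩
        have e : ub a⁻¹ (inv_mem ha) = (ub a ha)⁻¹ := by
          show π _ = (π _)⁻¹
          rw [← map_inv]
          congr 1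
          exact Subtype.ext (map_inv i a)
        rw [e, mul_inv_rev, mul_inv_rev, ← inv_pow, ← inv_pow, inv_eq_of_mul_eq_one_left htt,
          inv_eq_of_mul_eq_one_left hyy]
        have c1 : Commute (ub a ha)⁻¹ (π y' ^ b) := (((cyu a ha).symm).pow_right b).inv_left
        have c2 : Commute (ub a ha)⁻¹ (π t' ^ c) := (((ctu a ha).symm).pow_right c).inv_left
        have c3 : Commute (π t' ^ c) (π y' ^ b) := cty.pow_pow c b
        calc (ub a ha)⁻¹ * (π t' ^ c * π y' ^ b) = ((ub a ha)⁻¹ * (π y' ^ b)) * π t' ^ c := by rw [c3.eq]; group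
          _ = π y' ^ b * ((ub a ha)⁻¹ * π t' ^ c) := by rw [c1.eq]; group
          _ = _ := by rw [c2.eq]; group }
  have hLmem : ∀ g : SS H ⧸ Ms H, g ∈ L ↔ ∃ a, ∃ ha : a ∈ K.U, ∃ b c : ℕ, g = π y' ^ b * π t' ^ c * ub a ha :=
    fun g => Iff.rfl
  have hab : ∀ a ∈ L, ∀ b ∈ L, a * b = b * a := by
    rintro g ⟨a, ha, b, c, rfl⟩ h ⟨a', ha', b', c', rfl⟩
    have k1 : Commute (π y' ^ b) (π y' ^ b' * π t' ^ c' * ub a' ha') :=
      (((Commute.refl (π y')).pow_pow b b').mul_right (cty.symm.pow_pow b c')).mul_right ((cyu a' ha').pow_left b)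
    have k2 : Commute (π t' ^ c) (π y' ^ b' * π t' ^ c' * ub a' ha') :=
      ((cty.pow_pow c b').mul_right ((Commute.refl (π t')).pow_pow c c')).mul_right ((ctu a' ha').pow_left c)
    have k3 : Commute (ub a ha) (π y' ^ b' * π t' ^ c' * ub a' ha') :=
      (((cyu a ha).symm.pow_right b').mul_right ((ctu a ha).symm.pow_right c')).mul_right (cuu a ha a' ha')
    exact ((k1.mul_left k2).mul_left k3).eq
  have huL : ∀ a (ha : a ∈ K.U), ub a ha ∈ L := fun a ha => ⟨a, ha, 0, 0, by simp⟩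
  have hTL : ∀ a (ha : a ∈ T H), π ⟨a, T_le W H ha⟩ ∈ L := by
    intro a ha
    obtain ⟨b, hb, h⟩ := ha
    rcases h with rfl | rfl
    · exact huL b hb
    · refine ⟨b, hb, 0, 1, ?_⟩
      have e : (⟨t * i b, T_le W H ⟨b, hb, Or.inr rfl⟩⟩ : SS H) = t' * ⟨i b, hiU b hb⟩ := Subtype.ext rfl
      rw [e, map_mul, pow_zero, one_mul, pow_one]
  have hyL : π y' ∈ L := ⟨1, one_mem _, 1, 0, by
    have e : ub 1 (one_mem _) = 1 := by
      show π _ = 1
      have e : (⟨i 1, hiU 1 (one_mem _)⟩ : SS H) = 1 := Subtype.ext (map_one i)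
      rw [e, map_one]
    rw [e, pow_one, pow_zero, mul_one, mul_one]⟩
  have htL : π t' ∈ L := hTL t (t_T H)
  -- the elements of `S` which move `t` into `t⟨z⟩` lie over `L`
  have hL2 : ∀ g : SS H, ((g : G) * t = t * g ∨ (g : G) * t * (g : G)⁻¹ = t * i K.z) → π g ∈ L := by
    rintro g (h | h)
    · exact hTL g.1 ((SS_cent W H g.2).1 h)
    · have h1 : (y⁻¹ * (g : G)) * t = t * (y⁻¹ * g) := by
        have h2 : y * t * y⁻¹ = t * i K.z := by rw [P.y_inv H]; exact H.yt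
        calc (y⁻¹ * (g : G)) * t = y⁻¹ * ((g : G) * t * (g : G)⁻¹) * g := by group
          _ = y⁻¹ * (y * t * y⁻¹) * g := by rw [h, h2]
          _ = _ := by group
      have h3 := hTL _ ((SS_cent W H (mul_mem (inv_mem (y_SS H)) g.2)).1 h1)
      have e : g = y' * ⟨y⁻¹ * (g : G), T_le W H ((SS_cent W H (mul_mem (inv_mem (y_SS H)) g.2)).1 h1)⟩ := by
        apply Subtype.ext
        show (g : G) = y * (y⁻¹ * g)
        group
      rw [e, map_mul]
      exact mul_mem hyL h3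
  have hs'i : s'⁻¹ = s' := Subtype.ext (y2_inv W H)
  -- `S = L ∪ s L`
  have hcov : ∀ g : SS H ⧸ Ms H, g ∈ L ∨ (π s')⁻¹ * g ∈ L := by
    intro g
    obtain ⟨g, rfl⟩ := hπs g
    obtain ⟨v, hv, h⟩ := g.2.2
    have hqz : i (K.q 0) * i K.z = i K.z * i (K.q 0) := P.qz' H 0
    have hmove : (y2 W i y)⁻¹ * (g : G) * t * ((y2 W i y)⁻¹ * (g : G))⁻¹ = y2 W i y * (t * i v) * y2 W i y := by
      rw [y2_inv W H, ← h]
      have := y2_inv W H
      calc y2 W i y * (g : G) * t * (y2 W i y * (g : G))⁻¹ = y2 W i y * ((g : G) * t * (g : G)⁻¹) * (y2 W i y)⁻¹ := by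
            group
        _ = _ := by rw [this]
    have hsplit : ∀ x w : G, y2 W i y * (x * w) * y2 W i y = (y2 W i y * x * y2 W i y) * (y2 W i y * w * y2 W i y) := by
      intro x w
      calc y2 W i y * (x * w) * y2 W i y = y2 W i y * x * 1 * w * y2 W i y := by group
        _ = _ := by rw [← y2y2 W H]; group
    rcases mem_vv.1 hv with rfl | rfl | rfl | rfl
    · left
      apply hL2
      left
      rw [map_one, mul_one] at h
      calc (g : G) * t = ((g : G) * t * (g : G)⁻¹) * g := by group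
        _ = t * g := by rw [h]
    · left
      exact hL2 g (Or.inr h)
    · right
      rw [← map_inv, ← map_mul]
      apply hL2
      left
      rw [hsplit, y2_t W H, y2_q0 W H, mul_assoc t (i (K.q 0)), P.qq' H, mul_one] at hmove
      show (y2 W i y)⁻¹ * (g : G) * t = t * ((y2 W i y)⁻¹ * (g : G))
      calc (y2 W i y)⁻¹ * (g : G) * t = ((y2 W i y)⁻¹ * (g : G) * t * ((y2 W i y)⁻¹ * (g : G))⁻¹) *
            ((y2 W i y)⁻¹ * (g : G)) := by group
        _ = _ := by rw [hmove]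
    · right
      rw [← map_inv, ← map_mul]
      apply hL2
      right
      rw [hsplit, y2_t W H, map_mul, hsplit, y2_z W H, y2_q0 W H] at hmove
      show (y2 W i y)⁻¹ * (g : G) * t * ((y2 W i y)⁻¹ * (g : G))⁻¹ = t * i K.z
      rw [hmove]
      calc t * i (K.q 0) * (i K.z * i (K.q 0)) = t * i (K.q 0) * (i (K.q 0) * i K.z) := by rw [hqz]
        _ = t * (i (K.q 0) * i (K.q 0)) * i K.z := by group
        _ = _ := by rw [P.qq' H, mul_one]
  -- `s` normalises `L`
  have hsL : ∀ a ∈ L, π s' * a * (π s')⁻¹ ∈ L := by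
    intro a ha
    obtain ⟨g, rfl⟩ := hπs a
    have hsplit : ∀ x w : G, y2 W i y * (x * w) * y2 W i y = (y2 W i y * x * y2 W i y) * (y2 W i y * w * y2 W i y) := by
      intro x w
      calc y2 W i y * (x * w) * y2 W i y = y2 W i y * x * 1 * w * y2 W i y := by group
        _ = _ := by rw [← y2y2 W H]; group
    rcases hcov (π s' * π g * (π s')⁻¹) with h | h
    · exact h
    · -- otherwise `g s ∈ L`
      exfalso
      have e : (π s')⁻¹ * (π s' * π g * (π s')⁻¹) = π g * (π s')⁻¹ := by group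
      rw [e] at h
      have h2 : (π s')⁻¹ ∈ L := by
        have h3 := mul_mem (inv_mem ha) h
        rwa [inv_mul_cancel_left] at h3
      have h3 : π s' ∈ L := inv_mem_iff.1 h2
      -- `s` does not move `t` into `t⟨z⟩`
      obtain ⟨a, ha, b, c, h4⟩ := h3
      have h5 : ∃ m ∈ Mm K, (s' : G) = i m * (y ^ b * t ^ c * i a) := by
        have h6 : π (s' * (y' ^ b * t' ^ c * ⟨i a, hiU a ha⟩)⁻¹) = 1 := by
          rw [map_mul, map_inv, map_mul, map_mul, map_pow, map_pow, h4, mul_inv_cancel]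
        obtain ⟨m, hm, h7⟩ := (mem_Ms H).1 ((hπ _).1 h6)
        refine ⟨m, hm, ?_⟩
        rw [h7]
        show (s' : G) = (s' : G) * (y ^ b * t ^ c * i a)⁻¹ * (y ^ b * t ^ c * i a)
        group
      obtain ⟨m, hm, h6⟩ := h5
      have h7 : y2 W i y * t * (y2 W i y)⁻¹ = t * i (K.q 0) := by rw [y2_inv W H]; exact y2_t W H
      have h8 : (s' : G) = y2 W i y := rfl
      rw [h8] at h6
      -- the action of `y ^ b`
      have hyb : ∀ b : ℕ, ∃ v : G, (v = 1 ∨ v = i K.z) ∧ y ^ b * t * (y ^ b)⁻¹ = t * v := by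
        intro b
        induction b with
        | zero => exact ⟨1, Or.inl rfl, by group⟩
        | succ b ih =>
          obtain ⟨v, hv, h⟩ := ih
          have e1 : y ^ (b + 1) * t * (y ^ (b + 1))⁻¹ = y * (y ^ b * t * (y ^ b)⁻¹) * y⁻¹ := by rw [pow_succ']; group
          have hyt : y * t * y⁻¹ = t * i K.z := by rw [P.y_inv H]; exact H.yt
          rcases hv with rfl | rfl
          · refine ⟨i K.z, Or.inr rfl, ?_⟩
            rw [e1, h, mul_one, hyt]
          · refine ⟨1, Or.inl rfl, ?_⟩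
            have h9 := P.yzc H
            rw [e1, h]
            calc y * (t * i K.z) * y⁻¹ = (y * t * y⁻¹) * (y * i K.z) * y⁻¹ := by group
              _ = t * (i K.z * i K.z) := by rw [hyt, h9]; group
              _ = t * 1 := by rw [P.zz' H]
      obtain ⟨v, hv, h9⟩ := hyb b
      have h10 : t ^ c * i a * t * (t ^ c * i a)⁻¹ = t := by
        have k1 : Commute (t ^ c) t := (Commute.refl t).pow_left c
        have k2 : Commute (i a) t := (H.ti a).symm
        have := (k1.mul_left k2).eq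
        rw [this, mul_inv_cancel_right]
      have h11 : y2 W i y * t * (y2 W i y)⁻¹ = t * v := by
        rw [h6]
        have hmv : i m * (t * v) * (i m)⁻¹ = t * v := by
          have k1 : Commute (i m) t := (H.ti m).symm
          have k2 : Commute (i m) v := by
            rcases hv with rfl | rfl
            · exact Commute.one_right _
            · show i m * i K.z = i K.z * i m
              rw [← map_mul, ← map_mul, SOne.Pz K (K.U_le_P (mem_Mm.1 hm).1)]
          rw [(k1.mul_right k2).eq, mul_inv_cancel_right]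
        calc i m * (y ^ b * t ^ c * i a) * t * (i m * (y ^ b * t ^ c * i a))⁻¹
            = i m * (y ^ b * (t ^ c * i a * t * (t ^ c * i a)⁻¹) * (y ^ b)⁻¹) * (i m)⁻¹ := by group
          _ = t * v := by rw [h10, h9, hmv]
      rw [h7] at h11
      have h12 := mul_left_cancel h11
      rcases hv with rfl | rfl
      · exact q0_ne (H.inj (by rw [h12, map_one]))
      · exact q0_ne_z (H.inj h12)
  have hssL : π s' * π s' ∈ L := by rw [hss]; exact one_mem _
  -- apply the lemma on commutators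
  have hcomm2 : π t' ∈ commutator (SS H ⧸ Ms H) := by
    have h1 : (commutator (SS H)).map π ≤ commutator (SS H ⧸ Ms H) := by
      rw [commutator_def, commutator_def, Subgroup.map_commutator]
      exact Subgroup.commutator_mono le_top le_top
    exact h1 ⟨t', hcomm, rfl⟩
  obtain ⟨l, hl, hle⟩ := ExtT.comm_of_index_two hcov hab hsL hssL hcomm2
  have hsi : (π s')⁻¹ = π s' := inv_eq_of_mul_eq_one_left hss
  -- the element `w`
  have hr : K.r ∈ K.U := K.Q_le_U K.r_Q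
  let ρ : SS H := ⟨i K.r, hiU _ hr⟩
  have hrz : i K.r * i K.z = i K.z * i K.r := by
    rw [← map_mul, ← map_mul, SOne.Pz K (K.U_le_P hr)]
  have hr0 : (i K.r)⁻¹ * i (K.q 0) * i K.r = i (K.q 0) * i K.z := by
    rw [← map_inv, ← map_mul, ← map_mul, K.r0, map_mul]
  have hr0' : i K.r * i (K.q 0) * (i K.r)⁻¹ = i (K.q 0) * i K.z := by
    calc i K.r * i (K.q 0) * (i K.r)⁻¹ = i K.r * ((i (K.q 0) * i K.z) * i K.z) * (i K.r)⁻¹ := by
          rw [mul_assoc (i (K.q 0)), P.zz' H, mul_one]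
      _ = i K.r * ((i K.r)⁻¹ * i (K.q 0) * i K.r * i K.z) * (i K.r)⁻¹ := by rw [hr0]
      _ = i (K.q 0) * (i K.r * i K.z) * (i K.r)⁻¹ := by group
      _ = _ := by rw [hrz]; group
  have hy2z := y2_z W H
  have hy2q := y2_q0 W H
  have hy2t := y2_t W H
  have hy2i := y2_inv W H
  have hy2zc : y2 W i y * i K.z = i K.z * y2 W i y := by
    calc y2 W i y * i K.z = y2 W i y * i K.z * (y2 W i y * y2 W i y) := by rw [y2y2 W H, mul_one]
      _ = (y2 W i y * i K.z * y2 W i y) * y2 W i y := by group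
      _ = _ := by rw [hy2z]
  have hy2qc : y2 W i y * i (K.q 0) = i (K.q 0) * y2 W i y := by
    calc y2 W i y * i (K.q 0) = y2 W i y * i (K.q 0) * (y2 W i y * y2 W i y) := by rw [y2y2 W H, mul_one]
      _ = (y2 W i y * i (K.q 0) * y2 W i y) * y2 W i y := by group
      _ = _ := by rw [hy2q]
  let w : SS H := ρ * s' * ρ⁻¹ * s'⁻¹
  have hwv : (w : G) = i K.r * y2 W i y * (i K.r)⁻¹ * (y2 W i y)⁻¹ := rfl
  have hwt : (w : G) * t * (w : G)⁻¹ = t * i K.z := by
    have hrt := t_k H K.r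
    have hrt' := t_k' H K.r
    rw [hwv]
    calc i K.r * y2 W i y * (i K.r)⁻¹ * (y2 W i y)⁻¹ * t * (i K.r * y2 W i y * (i K.r)⁻¹ * (y2 W i y)⁻¹)⁻¹
        = i K.r * (y2 W i y * ((i K.r)⁻¹ * ((y2 W i y)⁻¹ * t * y2 W i y) * i K.r) * (y2 W i y)⁻¹) * (i K.r)⁻¹ := by
          group
      _ = i K.r * (y2 W i y * ((i K.r)⁻¹ * (t * i (K.q 0)) * i K.r) * y2 W i y) * (i K.r)⁻¹ := by
        rw [hy2i, hy2t]
      _ = i K.r * (y2 W i y * (((i K.r)⁻¹ * t * i K.r) * ((i K.r)⁻¹ * i (K.q 0) * i K.r)) * y2 W i y) *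
          (i K.r)⁻¹ := by group
      _ = i K.r * (y2 W i y * t * (i (K.q 0) * (i K.z * y2 W i y))) * (i K.r)⁻¹ := by
        rw [hrt, hr0]; group
      _ = i K.r * (y2 W i y * t * ((i (K.q 0) * y2 W i y) * i K.z)) * (i K.r)⁻¹ := by rw [← hy2zc]; group
      _ = i K.r * ((y2 W i y * t * y2 W i y) * i (K.q 0) * i K.z) * (i K.r)⁻¹ := by rw [← hy2qc]; group
      _ = i K.r * (t * (i (K.q 0) * i (K.q 0)) * i K.z) * (i K.r)⁻¹ := by rw [hy2t]; group
      _ = (i K.r * t * (i K.r)⁻¹) * (i K.r * i K.z) * (i K.r)⁻¹ := by rw [P.qq' H]; group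
      _ = t * i K.z := by rw [hrt', hrz]; group
  have hwq : (w : G) * i (K.q 0) = i (K.q 0) * (w : G) := by
    have h1 : (w : G) * i (K.q 0) * (w : G)⁻¹ = i (K.q 0) := by
      rw [hwv]
      calc i K.r * y2 W i y * (i K.r)⁻¹ * (y2 W i y)⁻¹ * i (K.q 0) *
            (i K.r * y2 W i y * (i K.r)⁻¹ * (y2 W i y)⁻¹)⁻¹
          = i K.r * (y2 W i y * ((i K.r)⁻¹ * ((y2 W i y)⁻¹ * i (K.q 0) * y2 W i y) * i K.r) * (y2 W i y)⁻¹) *
            (i K.r)⁻¹ := by group
        _ = i K.r * (y2 W i y * ((i K.r)⁻¹ * i (K.q 0) * i K.r) * y2 W i y) * (i K.r)⁻¹ := by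
          rw [hy2i, hy2q]
        _ = i K.r * (y2 W i y * i (K.q 0) * (i K.z * y2 W i y)) * (i K.r)⁻¹ := by rw [hr0]; group
        _ = i K.r * ((y2 W i y * i (K.q 0) * y2 W i y) * i K.z) * (i K.r)⁻¹ := by rw [← hy2zc]; group
        _ = (i K.r * i (K.q 0) * (i K.r)⁻¹) * (i K.r * i K.z) * (i K.r)⁻¹ := by rw [hy2q]; group
        _ = i (K.q 0) * (i K.z * i K.z) := by rw [hr0', hrz]; group
        _ = i (K.q 0) := by rw [P.zz' H, mul_one]
    calc (w : G) * i (K.q 0) = ((w : G) * i (K.q 0) * (w : G)⁻¹) * w := by group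
      _ = _ := by rw [h1]
  -- `π w = π y * (π t)^c`
  have hwL : ∃ c : ℕ, π w = π y' * π t' ^ c := by
    have h1 : (y⁻¹ * (w : G)) * t = t * (y⁻¹ * w) := by
      have h2 : y * t * y⁻¹ = t * i K.z := by rw [P.y_inv H]; exact H.yt
      calc (y⁻¹ * (w : G)) * t = y⁻¹ * ((w : G) * t * (w : G)⁻¹) * w := by group
        _ = y⁻¹ * (y * t * y⁻¹) * w := by rw [hwt, h2]
        _ = _ := by group
    have h3 : (y⁻¹ * (w : G)) * i (K.q 0) = i (K.q 0) * (y⁻¹ * w) := by
      have h4 := H.yA _ (K.q_A 0)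
      rw [P.y_inv H, mul_assoc, hwq, ← mul_assoc, h4, mul_assoc]
    obtain ⟨m, hm, h5⟩ := mem_tM H W (mul_mem (inv_mem (y_SS H)) w.2) h1 h3
    rcases h5 with h5 | h5
    · refine ⟨0, ?_⟩
      rw [pow_zero, mul_one]
      have e : w = y' * ⟨i m, hiU m (mem_Mm.1 hm).1⟩ := by
        apply Subtype.ext
        show (w : G) = y * i m
        rw [← h5]; group
      have e2 : π ⟨i m, hiU m (mem_Mm.1 hm).1⟩ = 1 := (hπ _).2 ((mem_Ms H).2 ⟨m, hm, rfl⟩)
      rw [e, map_mul, e2, mul_one]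
    · refine ⟨1, ?_⟩
      have e : w = y' * (t' * ⟨i m, hiU m (mem_Mm.1 hm).1⟩) := by
        apply Subtype.ext
        show (w : G) = y * (t * i m)
        rw [← h5]; group
      have e2 : π ⟨i m, hiU m (mem_Mm.1 hm).1⟩ = 1 := (hπ _).2 ((mem_Ms H).2 ⟨m, hm, rfl⟩)
      rw [e, map_mul, map_mul, e2, mul_one, pow_one]
  obtain ⟨c, hc⟩ := hwL
  have hysc : π s' * π y' * π s' = π y' := by
    have h1 : π s' * π w * (π s')⁻¹ = (π w)⁻¹ := by
      show π s' * π (ρ * s' * ρ⁻¹ * s'⁻¹) * (π s')⁻¹ = (π (ρ * s' * ρ⁻¹ * s'⁻¹))⁻¹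
      rw [map_mul, map_mul, map_mul, map_inv, map_inv, hsi]
      calc π s' * (π ρ * π s' * (π ρ)⁻¹ * π s') * π s' = π s' * π ρ * π s' * (π ρ)⁻¹ * (π s' * π s') := by group
        _ = π s' * π ρ * π s' * (π ρ)⁻¹ := by rw [hss, mul_one]
        _ = (π s')⁻¹ * π ρ * (π s')⁻¹ * (π ρ)⁻¹ := by rw [hsi]
        _ = _ := by group
    have h2 : (π w)⁻¹ = π w := by
      apply inv_eq_of_mul_eq_one_left
      rw [hc]
      have k1 : Commute (π t' ^ c) (π y') := cty.pow_left c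
      calc π y' * π t' ^ c * (π y' * π t' ^ c) = π y' * (π t' ^ c * π y') * π t' ^ c := by group
        _ = (π y' * π y') * (π t' ^ c * π t' ^ c) := by rw [k1.eq]; group
        _ = 1 := by rw [hyy, one_mul, ← (Commute.refl (π t')).mul_pow, htt, one_pow]
    rw [h2, hc, hsi] at h1
    have k1 : Commute (π t' ^ c) (π s') := cts.pow_left c
    have h3 : π s' * (π y' * π t' ^ c) * π s' = (π s' * π y' * π s') * π t' ^ c := by
      calc π s' * (π y' * π t' ^ c) * π s' = π s' * π y' * (π t' ^ c * π s') := by group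
        _ = _ := by rw [k1.eq]; group
    rw [h3] at h1
    exact mul_right_cancel h1
  -- `l = π y ^ b * π t ^ c' * π (i m)`
  obtain ⟨a, ha, b, c', hl'⟩ := hl
  -- `a ∈ M`
  have haM : a ∈ Mm K := by
    by_contra haM
    have hza : i a * i K.z = i K.z * i a := by
      rw [← map_mul, ← map_mul, SOne.Pz K (K.U_le_P ha)]
    have haq : (i a)⁻¹ * i (K.q 0) * i a = i (K.q 0) * i K.z := by
      rcases U_q W ha with h | h
      · exfalso
        apply haM
        rw [mem_Mm]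
        refine ⟨ha, ?_⟩
        calc a * K.q 0 = a * (a⁻¹ * K.q 0 * a) := by rw [h]
          _ = _ := by group
      · rw [← map_inv, ← map_mul, ← map_mul, h, map_mul]
    let g : SS H := ⟨i a, hiU a ha⟩
    let e' : SS H := g * s' * g⁻¹ * s'⁻¹
    -- modulo `⟨y, t⟩` we have `[g, s] ∈ π t L₀`
    have h1 : π e' = π t' ∨ π e' = π t' * (π y' * π s' * (π y')⁻¹ * (π s')⁻¹)⁻¹ ∨ True := Or.inr (Or.inr trivial)
    -- first, `y` and `s` commute modulo `M`
    have cys : Commute (π y') (π s') := by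
      show π y' * π s' = π s' * π y'
      calc π y' * π s' = (π s' * π y' * π s') * π s' := by rw [hysc]
        _ = π s' * π y' * (π s' * π s') := by group
        _ = _ := by rw [hss, mul_one]
    have h2 : π t' = ub a ha * (π s' * (ub a ha)⁻¹ * (π s')⁻¹) := by
      rw [hle, hl']
      have k1 : Commute (π y' ^ b) (π s') := cys.pow_left b
      have k2 : Commute (π t' ^ c') (π s') := cts.pow_left c'
      have k3 : Commute (π y' ^ b * π t' ^ c') (π s') := k1.mul_left k2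
      have k4 : Commute (π y' ^ b * π t' ^ c') (ub a ha) :=
        ((cyu a ha).pow_left b).mul_left ((ctu a ha).pow_left c')
      set D := π y' ^ b * π t' ^ c'
      calc D * ub a ha * (π s' * (D * ub a ha)⁻¹ * (π s')⁻¹)
          = D * ub a ha * (π s' * (ub a ha)⁻¹ * D⁻¹ * (π s')⁻¹) := by group
        _ = ub a ha * D * (π s' * (ub a ha)⁻¹ * D⁻¹ * (π s')⁻¹) := by rw [k4.eq]
        _ = ub a ha * (D * (π s' * (ub a ha)⁻¹)) * (D⁻¹ * (π s')⁻¹) := by group
        _ = ub a ha * ((π s' * (ub a ha)⁻¹) * D) * (D⁻¹ * (π s')⁻¹) := by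
          rw [(k3.mul_right k4.inv_right).eq]
        _ = _ := by group
    have h3 : π (t'⁻¹ * (g * (s' * g⁻¹ * s'⁻¹))) = 1 := by
      rw [map_mul, map_inv, map_mul, map_mul, map_mul, map_inv, map_inv]
      show (π t')⁻¹ * (ub a ha * (π s' * (ub a ha)⁻¹ * (π s')⁻¹)) = 1
      rw [← h2, inv_mul_cancel]
    obtain ⟨m, hm, h4⟩ := (mem_Ms H).1 ((hπ _).1 h3)
    -- the element `e = g s g⁻¹ s⁻¹ = t i m` centralises `t`, but moves `t` to `t z`
    have h5 : i a * (y2 W i y * (i a)⁻¹ * (y2 W i y)⁻¹) = t * i m := by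
      rw [h4]
      show _ = t * (t⁻¹ * (i a * (y2 W i y * (i a)⁻¹ * (y2 W i y)⁻¹)))
      group
    have hat := t_k H a
    have hat' := t_k' H a
    have h6 : (t * i m) * t * (t * i m)⁻¹ = t := by
      have k2 : Commute (i m) t := (H.ti m).symm
      have := ((Commute.refl t).mul_left k2).eq
      rw [this, mul_inv_cancel_right]
    rw [← h5] at h6
    have h7 : i a * (y2 W i y * (i a)⁻¹ * (y2 W i y)⁻¹) * t * (i a * (y2 W i y * (i a)⁻¹ * (y2 W i y)⁻¹))⁻¹ =
        t * i K.z := by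
      calc i a * (y2 W i y * (i a)⁻¹ * (y2 W i y)⁻¹) * t * (i a * (y2 W i y * (i a)⁻¹ * (y2 W i y)⁻¹))⁻¹
          = i a * (y2 W i y * ((i a)⁻¹ * ((y2 W i y)⁻¹ * t * y2 W i y) * i a) * (y2 W i y)⁻¹) * (i a)⁻¹ := by
            group
        _ = i a * (y2 W i y * ((i a)⁻¹ * (t * i (K.q 0)) * i a) * y2 W i y) * (i a)⁻¹ := by
          rw [hy2i, hy2t]
        _ = i a * (y2 W i y * (((i a)⁻¹ * t * i a) * ((i a)⁻¹ * i (K.q 0) * i a)) * y2 W i y) *
            (i a)⁻¹ := by group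
        _ = i a * (y2 W i y * t * (i (K.q 0) * (i K.z * y2 W i y))) * (i a)⁻¹ := by
          rw [hat, haq]; group
        _ = i a * (y2 W i y * t * ((i (K.q 0) * y2 W i y) * i K.z)) * (i a)⁻¹ := by rw [← hy2zc]; group
        _ = i a * ((y2 W i y * t * y2 W i y) * i (K.q 0) * i K.z) * (i a)⁻¹ := by rw [← hy2qc]; group
        _ = i a * (t * (i (K.q 0) * i (K.q 0)) * i K.z) * (i a)⁻¹ := by rw [hy2t]; group
        _ = (i a * t * (i a)⁻¹) * (i a * i K.z) * (i a)⁻¹ := by rw [P.qq' H]; group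
        _ = t * i K.z := by rw [hat', hza]; group
    rw [h7] at h6
    have h8 : i K.z = 1 := by simpa using h6
    exact K.z1 (H.inj (by rw [h8, map_one]))
  have hu1 : ub a ha = 1 := (hπ _).2 ((mem_Ms H).2 ⟨a, haM, rfl⟩)
  have cys : Commute (π y') (π s') := by
    show π y' * π s' = π s' * π y'
    calc π y' * π s' = (π s' * π y' * π s') * π s' := by rw [hysc]
      _ = π s' * π y' * (π s' * π s') := by group
      _ = _ := by rw [hss, mul_one]
  apply ht1
  rw [hle, hl', hu1, mul_one]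
  have k1 : Commute (π y' ^ b) (π s') := cys.pow_left b
  have k2 : Commute (π t' ^ c') (π s') := cts.pow_left c'
  have k3 : Commute (π y' ^ b * π t' ^ c') (π s') := k1.mul_left k2
  have k4 := k3.inv_left.eq
  rw [← k4]
  group

end Cfsg.Agent.OddHalf.D7Tits.WHom
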