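import Cfsg.Agent.OddHalf.D7Tits.WFacts

/-!
# D7, K = Tits, type W (helper868): the position

* `dbl i t H` = `i H ∪ t i H`; `card_dbl`;
* `exists_psi` : the action of `y` on `U` (`Psi K f`);
* `cp` : `C_{<t> × iY}`.
-/

set_option autoImplicit false
set_option linter.unusedSectionVars false
set_option linter.unusedVariables false

namespace Cfsg.Agent.OddHalf.D7Tits.WPos

open Cfsg.Agent.OddHalf.D7Tits.Defs Cfsg.Agent.OddHalf.D7Tits.WDefs Cfsg.Agent.OddHalf.D7Tits.SOne
open Cfsg.Agent.OddHalf.D7Tits.WFacts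

universe u v

variable {Y : Type u} [Group Y] {K : KT Y} {G : Type v} [Group G]

/-- `⟨t⟩ × i H` -/
def dbl (i : Y →* G) (t : G) (tt : t * t = 1) (ti : ∀ a : Y, t * i a = i a * t) (H : Subgroup Y) : Subgroup G where
  carrier := {g | ∃ a ∈ H, g = i a ∨ g = t * i a}
  one_mem' := ⟨1, H.one_mem, Or.inl (map_one i).symm⟩
  mul_mem' := by
    rintro a b ⟨y, hy, ha⟩ ⟨y', hy', hb⟩
    refine ⟨y * y', mul_mem hy hy', ?_⟩
    rcases ha with rfl | rfl <;> rcases hb with rfl | rfl
    · exact Or.inl (map_mul i _ _).symm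
    · right
      rw [map_mul]
      calc i y * (t * i y') = (i y * t) * i y' := by group
        _ = t * (i y * i y') := by rw [← ti]; group
    · right
      rw [map_mul, mul_assoc]
    · left
      rw [map_mul]
      calc t * i y * (t * i y') = (t * i y * t) * i y' := by group
        _ = i y * i y' := by
          rw [ti, mul_assoc (i y) t t, tt, mul_one]
  inv_mem' := by
    have t_inv : t⁻¹ = t := inv_eq_of_mul_eq_one_left tt
    rintro a ⟨y, hy, ha⟩
    refine ⟨y⁻¹, inv_mem hy, ?_⟩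
    rcases ha with rfl | rfl
    · exact Or.inl (map_inv i _).symm
    · right
      have h := ti y⁻¹
      rw [map_inv] at h
      rw [mul_inv_rev, t_inv, map_inv, h]

theorem mem_dbl {i : Y →* G} {t : G} {tt : t * t = 1} {ti : ∀ a : Y, t * i a = i a * t} {H : Subgroup Y} {g : G} :
    g ∈ dbl i t tt ti H ↔ ∃ a ∈ H, g = i a ∨ g = t * i a := Iff.rfl

theorem card_dbl [Finite Y] {i : Y →* G} {t : G} {tt : t * t = 1} {ti : ∀ a : Y, t * i a = i a * t}
    (hi : Function.Injective i) (tY : ∀ a : Y, i a ≠ t) (H : Subgroup Y) :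
    Nat.card (dbl i t tt ti H) = 2 * Nat.card H := by
  classical
  let f : Bool × H → dbl i t tt ti H := fun p =>
    ⟨if p.1 then t * i p.2.1 else i p.2.1, ⟨p.2.1, p.2.2, by cases p.1 <;> simp⟩⟩
  have hne : ∀ a b : Y, t * i a ≠ i b := by
    intro a b h
    apply tY (b * a⁻¹)
    rw [map_mul, map_inv, ← h, mul_inv_cancel_right]
  have hf : Function.Bijective f := by
    constructor
    · rintro ⟨b, h⟩ ⟨b', h'⟩ e
      have e1 : (if b then t * i h.1 else i h.1) = (if b' then t * i h'.1 else i h'.1) := congrArg Subtype.val e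
      cases b <;> cases b'
      · have e2 : i h.1 = i h'.1 := by simpa using e1
        rw [Subtype.ext (hi e2)]
      · exact absurd (by simpa using e1.symm) (hne h'.1 h.1)
      · exact absurd (by simpa using e1) (hne h.1 h'.1)
      · have e2 : i h.1 = i h'.1 := by simpa using e1
        rw [Subtype.ext (hi e2)]
    · rintro ⟨g, a, ha, h⟩
      rcases h with rfl | rfl
      · exact ⟨(false, ⟨a, ha⟩), Subtype.ext (by simp [f])⟩
      · exact ⟨(true, ⟨a, ha⟩), Subtype.ext (by simp [f])⟩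
  rw [← Nat.card_congr (Equiv.ofBijective f hf), Nat.card_prod, Nat.card_eq_fintype_card, Fintype.card_bool]

namespace P

variable {i : Y →* G} {t y : G} (H : WDefs.PosW K i t y)

include H

theorem t_inv : t⁻¹ = t := inv_eq_of_mul_eq_one_left H.tt

theorem y_inv : y⁻¹ = y := inv_eq_of_mul_eq_one_left H.yy

theorem yzc : y * i K.z = i K.z * y := H.yA _ K.z_A

theorem finY : Finite Y := K.fin

/-- `y (i a) y` for products -/
theorem y_mul {a b a' b' : Y} (ha : y * i a * y = i a') (hb : y * i b * y = i b') :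
    y * i (a * b) * y = i (a' * b') := by
  rw [map_mul, map_mul, ← ha, ← hb]
  calc y * (i a * i b) * y = y * i a * (y * y) * i b * y := by rw [H.yy]; group
    _ = _ := by group

theorem y_inv' {a a' : Y} (ha : y * i a * y = i a') : y * i a⁻¹ * y = i a'⁻¹ := by
  rw [map_inv, map_inv, ← ha]
  have h := y_inv H
  calc y * (i a)⁻¹ * y = y⁻¹ * (i a)⁻¹ * y⁻¹ := by rw [h]
    _ = _ := by group

theorem y_one : y * i 1 * y = i 1 := by rw [map_one, mul_one, H.yy]

theorem y_A {a : Y} (ha : a ∈ K.A) : y * i a * y = i a := by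
  rw [H.yA a ha, mul_assoc, H.yy, mul_one]

theorem y_x : y * i K.x * y = i K.x := by
  rw [H.yx, mul_assoc, H.yy, mul_one]

theorem y_pow {a a' : Y} (ha : y * i a * y = i a') (n : ℕ) : y * i (a ^ n) * y = i (a' ^ n) := by
  induction n with
  | zero => rw [pow_zero, pow_zero]; exact y_one H
  | succ n ih =>
    rw [pow_succ, pow_succ]
    exact y_mul H ih ha

theorem y_xpow (n : ℕ) : y * i (K.x ^ n) * y = i (K.x ^ n) := y_pow H (y_x H) n

theorem y_r (n : ℕ) : y * i ((K.x ^ n)⁻¹ * K.r * K.x ^ n) * y = i ((K.x ^ n)⁻¹ * (K.r * K.aw) * K.x ^ n) :=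
  y_mul H (y_mul H (y_inv' H (y_xpow H n)) H.yr) (y_xpow H n)

theorem y_j : y * i K.j * y = i (K.j * K.z) := H.yj

/-- `y` normalises `i E` -/
theorem y_E {e : Y} (he : e ∈ K.E) : ∃ e' ∈ K.E, y * i e * y = i e' := by
  let D : Subgroup Y :=
    { carrier := {e | ∃ e' ∈ K.E, y * i e * y = i e'}
      one_mem' := ⟨1, one_mem _, y_one H⟩
      mul_mem' := by
        rintro a b ⟨a', ha', ha⟩ ⟨b', hb', hb⟩
        exact ⟨_, mul_mem ha' hb', y_mul H ha hb⟩
      inv_mem' := by
        rintro a ⟨a', ha', ha⟩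
        exact ⟨_, inv_mem ha', y_inv' H ha⟩ }
  have h : Subgroup.closure {K.r, K.x} ≤ D := by
    rw [Subgroup.closure_le]
    rintro e he
    simp only [Set.mem_insert_iff, Set.mem_singleton_iff] at he
    rcases he with rfl | rfl
    · exact ⟨_, mul_mem (r_E K) (A_E K K.aw_A), H.yr⟩
    · exact ⟨_, K.x_E, y_x H⟩
  exact h (K.E_gen he)

/-- `y` normalises `i Q` -/
theorem y_Q {e : Y} (he : e ∈ K.Q) : ∃ e' ∈ K.Q, y * i e * y = i e' := by
  obtain ⟨e', he', h⟩ := y_E H (K.Q_le_E he)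
  refine ⟨e', K.Q_mem e' he' ?_, h⟩
  have h1 := y_pow H h 4
  rw [K.Q_pow e he, y_one H] at h1
  exact (H.inj h1).symm

/-- `y` normalises `i U` -/
theorem y_U {e : Y} (he : e ∈ K.U) : ∃ e' ∈ K.U, y * i e * y = i e' := by
  obtain ⟨u, hu, a, b, rfl⟩ := K.U_cases e he
  obtain ⟨u', hu', h1⟩ := y_Q H hu
  obtain ⟨c, hc, h2⟩ := H.ys
  have hcU : c ∈ K.U := by
    rcases hc with rfl | rfl
    · exact one_mem _
    · exact K.Q_le_U (z_Q K)
  refine ⟨u' * (K.s * K.j * c) ^ a * (K.j * K.z) ^ b, ?_, y_mul H (y_mul H h1 (y_pow H h2 a)) (y_pow H (y_j H) b)⟩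
  exact mul_mem (mul_mem (K.Q_le_U hu') (pow_mem (mul_mem (mul_mem K.s_U K.j_U) hcU) a))
    (pow_mem (mul_mem K.j_U (K.Q_le_U (z_Q K))) b)

/-- **the action of `y` on `U`** -/
theorem exists_psi (W : KTW K) : ∃ f : Y → Y, Psi K f ∧ ∀ u ∈ K.U, f u ∈ K.U ∧ y * i u * y = i (f u) := by
  classical
  let f : Y → Y := fun u => if h : ∃ u', y * i u * y = i u' then Classical.choose h else 1
  have hf : ∀ u u' : Y, y * i u * y = i u' → f u = u' := by
    intro u u' h
    have h1 : ∃ u', y * i u * y = i u' := ⟨u', h⟩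
    have h2 : f u = Classical.choose h1 := dif_pos h1
    rw [h2]
    exact H.inj (by rw [← Classical.choose_spec h1, h])
  have hfU : ∀ u ∈ K.U, f u ∈ K.U ∧ y * i u * y = i (f u) := by
    intro u hu
    obtain ⟨u', hu', h⟩ := y_U H hu
    rw [hf u u' h]
    exact ⟨hu', h⟩
  refine ⟨f, ⟨?_, ?_, ?_, ?_⟩, hfU⟩
  · intro a ha b hb
    exact hf _ _ (y_mul H (hfU a ha).2 (hfU b hb).2)
  · intro a ha
    exact hf _ _ (y_A H ha)
  · intro n
    exact hf _ _ (y_r H n)
  · obtain ⟨c, hc, h⟩ := H.ys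
    have h1 := y_mul H h h
    apply hf
    rw [h1]
    congr 1
    have hcc : c * c = 1 := by
      rcases hc with rfl | rfl
      · exact one_mul 1
      · exact K.zz
    have hcs : c * K.s = K.s * c := by
      rcases hc with rfl | rfl
      · group
      · exact (Pz K (s_P K)).symm
    have hcj : c * K.j = K.j * c := by
      rcases hc with rfl | rfl
      · group
      · exact (Pz K (j_P K)).symm
    have hjs := j_s W
    calc K.s * K.j * c * (K.s * K.j * c) = K.s * K.j * (c * K.s) * K.j * c := by group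
      _ = K.s * (K.j * K.s) * (c * K.j) * c := by rw [hcs]; group
      _ = K.s * K.s * (K.j * K.j) * (c * c) := by rw [hcj, hjs]; group
      _ = K.s * K.s * K.z := by rw [W.jj, hcc, mul_one]

/-- `i z` etc. -/
theorem zz' : i K.z * i K.z = 1 := by rw [← map_mul, K.zz, map_one]
theorem qq' (n : ZMod 5) : i (K.q n) * i (K.q n) = 1 := by rw [← map_mul, q_sq, map_one]
theorem qz' (n : ZMod 5) : i (K.q n) * i K.z = i K.z * i (K.q n) := by rw [← map_mul, ← map_mul, q_z]
theorem z_inv' : (i K.z)⁻¹ = i K.z := inv_eq_of_mul_eq_one_left (zz' H)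
theorem q_inv' (n : ZMod 5) : (i (K.q n))⁻¹ = i (K.q n) := inv_eq_of_mul_eq_one_left (qq' H n)

/-- `C_G(t)` -/
theorem mem_cent {g : G} : g ∈ Subgroup.centralizer ({t} : Set G) ↔ g ∈ dbl i t H.tt H.ti ⊤ := by
  rw [Subgroup.mem_centralizer_singleton_iff, mem_dbl]
  constructor
  · intro h
    obtain ⟨a, ha⟩ := H.cen g h
    exact ⟨a, Subgroup.mem_top a, ha⟩
  · rintro ⟨a, -, rfl | rfl⟩
    · exact (H.ti a).symm
    · rw [mul_assoc, ← H.ti, ← mul_assoc]

end P

end Cfsg.Agent.OddHalf.D7Tits.WPos
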