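import Cfsg.Agent.OddHalf.D7Tits.WPos

/-!
# D7, K = Tits, type W (helper868): the 2-group `S`

* `y2` = `y^k` : `y2² = 1`, `y2 t y2 = t q₀`, its action on `A` and `M`;
* `SS` : the 2-group of order `4 |T|`; `card_SS`; `SS_cases`;
* `card_cent`, `T_odd`.
-/

set_option autoImplicit false
set_option linter.unusedSectionVars false
set_option linter.unusedVariables false

namespace Cfsg.Agent.OddHalf.D7Tits.WSys

open Cfsg.Agent.OddHalf.D7Tits.Defs Cfsg.Agent.OddHalf.D7Tits.WDefs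
open Cfsg.Agent.OddHalf.D7Tits.WFacts Cfsg.Agent.OddHalf.D7Tits.WPos

universe u v

/-! ### Orbits -/

section Orbit

variable {Y : Type u} [Group Y] {G : Type v} [Group G]

theorem card_orbit [Finite G] {S T : Subgroup G} {t : G} {i : Y →* G} (hi : Function.Injective i) {V : Subgroup Y}
    (hTS : T ≤ S) (hST : ∀ g ∈ S, g * t = t * g ↔ g ∈ T) (h1 : ∀ g ∈ S, ∃ v ∈ V, g * t * g⁻¹ = t * i v)
    (h2 : ∀ v ∈ V, ∃ g ∈ S, g * t * g⁻¹ = t * i v) : Nat.card S = Nat.card V * Nat.card T := by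
  classical
  choose! gv hgS hgv using h2
  let F : V × T → S := fun p => ⟨gv p.1 * p.2, S.mul_mem (hgS _ p.1.2) (hTS p.2.2)⟩
  have hF : Function.Bijective F := by
    constructor
    · rintro ⟨v, a⟩ ⟨w, b⟩ e
      have e1 : gv v * a = gv w * b := congrArg Subtype.val e
      have key : ∀ (v : V) (a : T), (gv v * a) * t * (gv v * a)⁻¹ = t * i v := by
        intro v a
        have h3 := (hST _ (hTS a.2)).2 a.2
        rw [← hgv v v.2]
        calc gv v * a * t * (gv v * a)⁻¹ = gv v * (a * t) * (a : G)⁻¹ * (gv v)⁻¹ := by group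
          _ = gv v * t * (gv v)⁻¹ := by rw [h3]; group
      have e2 := key v a
      rw [e1, key w b] at e2
      have e3 : v = w := Subtype.ext (hi (mul_left_cancel e2)).symm
      subst e3
      rw [Subtype.ext (mul_left_cancel e1)]
    · rintro ⟨g, hg⟩
      obtain ⟨v, hv, h⟩ := h1 g hg
      have h3 := hgv v hv
      have h4 : (gv v)⁻¹ * g * t = t * ((gv v)⁻¹ * g) := by
        calc (gv v)⁻¹ * g * t = (gv v)⁻¹ * (g * t * g⁻¹) * g := by group
          _ = (gv v)⁻¹ * (gv v * t * (gv v)⁻¹) * g := by rw [h, h3]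
          _ = _ := by group
      have h5 := (hST _ (S.mul_mem (S.inv_mem (hgS v hv)) hg)).1 h4
      exact ⟨(⟨v, hv⟩, ⟨_, h5⟩), Subtype.ext (by show gv v * ((gv v)⁻¹ * g) = g; group)⟩
  rw [← Nat.card_congr (Equiv.ofBijective F hF), Nat.card_prod]

end Orbit

variable {Y : Type u} [Group Y] {K : KT Y} {G : Type v} [Group G]

/-- `V = {1, z, q 0, z q 0}` -/
def vv (K : KT Y) : Subgroup Y where
  carrier := {v | v = 1 ∨ v = K.z ∨ v = K.q 0 ∨ v = K.z * K.q 0}
  one_mem' := Or.inl rfl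
  mul_mem' := by
    have h1 := K.zz
    have h2 := q_sq (K := K) 0
    have h3 := q_z (K := K) 0
    have h4 : K.z * (K.z * K.q 0) = K.q 0 := by rw [← mul_assoc, h1, one_mul]
    have h5 : K.q 0 * (K.z * K.q 0) = K.z := by rw [← mul_assoc, h3, mul_assoc, h2, mul_one]
    have h6 : K.z * K.q 0 * K.z = K.q 0 := by rw [mul_assoc, h3, h4]
    have h7 : K.z * K.q 0 * K.q 0 = K.z := by rw [mul_assoc, h2, mul_one]
    have h8 : K.z * K.q 0 * (K.z * K.q 0) = 1 := by rw [← mul_assoc, h6, h2]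
    rintro a b (rfl | rfl | rfl | rfl) (rfl | rfl | rfl | rfl)
    · exact Or.inl (one_mul 1)
    · exact Or.inr (Or.inl (one_mul _))
    · exact Or.inr (Or.inr (Or.inl (one_mul _)))
    · exact Or.inr (Or.inr (Or.inr (one_mul _)))
    · exact Or.inr (Or.inl (mul_one _))
    · exact Or.inl h1
    · exact Or.inr (Or.inr (Or.inr rfl))
    · exact Or.inr (Or.inr (Or.inl h4))
    · exact Or.inr (Or.inr (Or.inl (mul_one _)))
    · exact Or.inr (Or.inr (Or.inr h3))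
    · exact Or.inl h2
    · exact Or.inr (Or.inl h5)
    · exact Or.inr (Or.inr (Or.inr (mul_one _)))
    · exact Or.inr (Or.inr (Or.inl h6))
    · exact Or.inr (Or.inl h7)
    · exact Or.inl h8
  inv_mem' := by
    rintro a (rfl | rfl | rfl | rfl)
    · exact Or.inl inv_one
    · exact Or.inr (Or.inl z_inv)
    · exact Or.inr (Or.inr (Or.inl (q_inv 0)))
    · refine Or.inr (Or.inr (Or.inr ?_))
      rw [mul_inv_rev, z_inv, q_inv, q_z]

theorem mem_vv {v : Y} : v ∈ vv K ↔ v = 1 ∨ v = K.z ∨ v = K.q 0 ∨ v = K.z * K.q 0 := Iff.rfl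

theorem vv_A {v : Y} (hv : v ∈ vv K) : v ∈ K.A := by
  rcases mem_vv.1 hv with rfl | rfl | rfl | rfl
  · exact one_mem _
  · exact K.z_A
  · exact K.q_A 0
  · exact mul_mem K.z_A (K.q_A 0)

theorem q0_ne : K.q 0 ≠ 1 := by
  intro h
  have h1 := K.r0
  rw [h, mul_one, one_mul, inv_mul_cancel] at h1
  exact K.z1 h1.symm

theorem q0_ne_z : K.q 0 ≠ K.z := by
  intro h
  have h1 := K.r0
  rw [h, K.zz] at h1
  have h2 := SOne.Pz K (K.E_le_P (SOne.r_E K))
  rw [mul_assoc, ← h2, inv_mul_cancel_left] at h1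
  exact K.z1 h1

theorem card_vv : Nat.card (vv K) = 4 := by
  classical
  have h1 : ((vv K : Subgroup Y) : Set Y) = (({1, K.z, K.q 0, K.z * K.q 0} : Finset Y) : Set Y) := by
    ext v
    rw [SetLike.mem_coe, mem_vv]
    simp
  have h2 : Nat.card (vv K) = ((vv K : Subgroup Y) : Set Y).ncard := rfl
  have z1 := K.z1
  have q1 := q0_ne (K := K)
  have qz := q0_ne_z (K := K)
  rw [h2, h1, Set.ncard_coe_finset, Finset.card_insert_of_notMem, Finset.card_insert_of_notMem,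
    Finset.card_insert_of_notMem, Finset.card_singleton]
  · rw [Finset.mem_singleton]
    intro h
    exact z1 (by simpa using h)
  · simp only [Finset.mem_insert, Finset.mem_singleton, not_or]
    exact ⟨fun h => qz h.symm, fun h => q1 (by simpa using h)⟩
  · simp only [Finset.mem_insert, Finset.mem_singleton, not_or]
    refine ⟨fun h => z1 h.symm, fun h => q1 h.symm, fun h => qz ?_⟩
    have h3 : K.z * (K.z * K.q 0) = K.z * 1 := by rw [← h]
    rw [← mul_assoc, K.zz, one_mul, mul_one] at h3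
    exact h3

namespace P

variable {i : Y →* G} {t y : G} (W : KTW K) (H : WDefs.PosW K i t y)

/-- `T = ⟨t⟩ × i U` -/
def T (H : WDefs.PosW K i t y) : Subgroup G := dbl i t H.tt H.ti K.U

include H

theorem mem_T {g : G} : g ∈ T H ↔ ∃ a ∈ K.U, g = i a ∨ g = t * i a := Iff.rfl

theorem dbl_comm {D : Subgroup Y} {g : G} (hg : g ∈ dbl i t H.tt H.ti D) : g * t = t * g := by
  obtain ⟨a, -, rfl | rfl⟩ := mem_dbl.1 hg
  · exact (H.ti a).symm
  · rw [mul_assoc, ← H.ti, ← mul_assoc]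

theorem T_comm {g : G} (hg : g ∈ T H) : g * t = t * g := dbl_comm H hg

theorem t_T : t ∈ T H := ⟨1, one_mem _, Or.inr (by rw [map_one, mul_one])⟩

omit H in
/-- `y^k` -/
def y2 (W : KTW K) (i : Y →* G) (y : G) : G := (i W.k)⁻¹ * y * i W.k

theorem y2y2 : y2 W i y * y2 W i y = 1 := by
  unfold y2
  calc (i W.k)⁻¹ * y * i W.k * ((i W.k)⁻¹ * y * i W.k) = (i W.k)⁻¹ * (y * y) * i W.k := by group
    _ = 1 := by rw [H.yy]; group

theorem y2_inv : (y2 W i y)⁻¹ = y2 W i y := inv_eq_of_mul_eq_one_left (y2y2 W H)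

theorem t_k (a : Y) : (i a)⁻¹ * t * i a = t := by
  rw [mul_assoc, H.ti, inv_mul_cancel_left]

theorem t_k' (a : Y) : i a * t * (i a)⁻¹ = t := by
  rw [← H.ti, mul_inv_cancel_right]

theorem y2_t : y2 W i y * t * y2 W i y = t * i (K.q 0) := by
  have h1 := t_k' H W.k
  have h2 : i (K.q 0) = (i W.k)⁻¹ * i K.z * i W.k := by
    rw [← W.kz, map_mul, map_mul, map_inv]
  unfold y2
  calc (i W.k)⁻¹ * y * i W.k * t * ((i W.k)⁻¹ * y * i W.k)
      = (i W.k)⁻¹ * y * (i W.k * t * (i W.k)⁻¹) * y * i W.k := by group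
    _ = (i W.k)⁻¹ * (y * t * y) * i W.k := by rw [h1]; group
    _ = (i W.k)⁻¹ * t * i W.k * ((i W.k)⁻¹ * i K.z * i W.k) := by rw [H.yt]; group
    _ = t * i (K.q 0) := by rw [t_k H, h2]

/-- the action of `y2` -/
theorem y2_of {a b c : Y} (h : W.k * a * W.k⁻¹ = b) (hb : y * i b * y = i c) :
    y2 W i y * i a * y2 W i y = i (W.k⁻¹ * c * W.k) := by
  have h1 : i a = (i W.k)⁻¹ * i b * i W.k := by
    rw [← h, map_mul, map_mul, map_inv]; group
  unfold y2
  rw [h1, map_mul, map_mul, map_inv, ← hb]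
  group

theorem y2_z : y2 W i y * i K.z * y2 W i y = i K.z := by
  rw [y2_of W H (k_z W) (P.y_A H (mul_mem K.z_A (K.q_A 0)))]
  congr 1
  rw [← k_z W]
  group

theorem y2_q0 : y2 W i y * i (K.q 0) * y2 W i y = i (K.q 0) := by
  rw [y2_of W H (k_q W) (P.y_A H K.z_A), W.kz]

theorem y2_q (n : ZMod 5) : ∃ f, Psi K f ∧
    y2 W i y * i (K.q n) * y2 W i y = i (W.k⁻¹ * f (W.k * K.q n * W.k⁻¹) * W.k) := by
  obtain ⟨f, hf, h⟩ := P.exists_psi H W
  exact ⟨f, hf, y2_of W H rfl (h _ (W.kU n)).2⟩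

theorem y2_q1 : y2 W i y * i (K.q 1) * y2 W i y = i (K.q 0 * K.q 4) := by
  obtain ⟨f, hf, h⟩ := y2_q W H 1
  rw [h, W.k1 f hf]

theorem y2_q2 : y2 W i y * i (K.q 2) * y2 W i y = i (K.z * K.q 0 * K.q 2) := by
  obtain ⟨f, hf, h⟩ := y2_q W H 2
  rw [h, W.k2 f hf]

theorem y2_q3 : y2 W i y * i (K.q 3) * y2 W i y = i (K.z * K.q 0 * K.q 3) := by
  obtain ⟨f, hf, h⟩ := y2_q W H 3
  rw [h, W.k3 f hf]

theorem y2_q4 : y2 W i y * i (K.q 4) * y2 W i y = i (K.q 0 * K.q 1) := by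
  obtain ⟨f, hf, h⟩ := y2_q W H 4
  rw [h, W.k4 f hf]

/-- `y2` normalises `i A` -/
theorem y2_A {a : Y} (ha : a ∈ K.A) : ∃ a' ∈ K.A, y2 W i y * i a * y2 W i y = i a' := by
  let D : Subgroup Y :=
    { carrier := {e | ∃ e' ∈ K.A, y2 W i y * i e * y2 W i y = i e'}
      one_mem' := ⟨1, one_mem _, by rw [map_one, mul_one, y2y2 W H]⟩
      mul_mem' := by
        rintro a b ⟨a', ha', ha⟩ ⟨b', hb', hb⟩
        refine ⟨_, mul_mem ha' hb', ?_⟩
        rw [map_mul, map_mul, ← ha, ← hb]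
        calc y2 W i y * (i a * i b) * y2 W i y = y2 W i y * i a * 1 * i b * y2 W i y := by group
          _ = y2 W i y * i a * (y2 W i y * y2 W i y) * i b * y2 W i y := by rw [y2y2 W H]
          _ = _ := by group
      inv_mem' := by
        rintro a ⟨a', ha', ha⟩
        refine ⟨_, inv_mem ha', ?_⟩
        rw [map_inv, map_inv, ← ha]
        have h := y2_inv W H
        calc y2 W i y * (i a)⁻¹ * y2 W i y = (y2 W i y)⁻¹ * (i a)⁻¹ * (y2 W i y)⁻¹ := by rw [h]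
          _ = _ := by group }
  have h : Subgroup.closure ({K.z} ∪ Set.range K.q) ≤ D := by
    rw [Subgroup.closure_le]
    rintro e (he | ⟨n, rfl⟩)
    · rw [Set.mem_singleton_iff] at he
      rw [he]
      exact ⟨_, K.z_A, y2_z W H⟩
    · have h5 : ∀ m : ZMod 5, m = 0 ∨ m = 1 ∨ m = 2 ∨ m = 3 ∨ m = 4 := by decide
      rcases h5 n with rfl | rfl | rfl | rfl | rfl
      · exact ⟨_, K.q_A 0, y2_q0 W H⟩
      · exact ⟨_, mul_mem (K.q_A 0) (K.q_A 4), y2_q1 W H⟩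
      · exact ⟨_, mul_mem (mul_mem K.z_A (K.q_A 0)) (K.q_A 2), y2_q2 W H⟩
      · exact ⟨_, mul_mem (mul_mem K.z_A (K.q_A 0)) (K.q_A 3), y2_q3 W H⟩
      · exact ⟨_, mul_mem (K.q_A 0) (K.q_A 1), y2_q4 W H⟩
  exact h (K.A_gen ha)

/-- `y` normalises `i M` -/
theorem y_M {m : Y} (hm : m ∈ Mm K) : ∃ m' ∈ Mm K, y * i m * y = i m' := by
  rw [mem_Mm] at hm
  obtain ⟨m', hm', h⟩ := P.y_U H hm.1
  refine ⟨m', mem_Mm.2 ⟨hm', ?_⟩, h⟩
  have h1 := P.y_A H (K.q_A 0)
  have h2 := P.y_mul H h h1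
  have h3 := P.y_mul H h1 h
  rw [hm.2, h3] at h2
  exact (H.inj h2).symm

/-- `y2` normalises `i M` -/
theorem y2_M {m : Y} (hm : m ∈ Mm K) : ∃ m' ∈ Mm K, y2 W i y * i m * y2 W i y = i m' := by
  obtain ⟨m', hm', h⟩ := y_M H (conj_M W hm)
  exact ⟨_, conj_M' W hm', y2_of W H rfl h⟩

/-! ### The 2-group -/

omit H in
/-- the first two conditions -/
def Nz (i : Y →* G) (K : KT Y) (g : G) : Prop :=
  g * i K.z = i K.z * g ∧ (g * i (K.q 0) * g⁻¹ = i (K.q 0) ∨ g * i (K.q 0) * g⁻¹ = i (K.q 0) * i K.z)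

omit H in
theorem Nz.z {g : G} (h : Nz i K g) : g * i K.z * g⁻¹ = i K.z := by rw [h.1, mul_inv_cancel_right]

omit H in
theorem Nz.one : Nz i K 1 := ⟨by group, Or.inl (by group)⟩

theorem Nz.mul {a b : G} (ha : Nz i K a) (hb : Nz i K b) : Nz i K (a * b) := by
  have hz := P.zz' H
  have e : ∀ x : G, a * b * x * (a * b)⁻¹ = a * (b * x * b⁻¹) * a⁻¹ := fun x => by group
  have e2 : a * (i (K.q 0) * i K.z) * a⁻¹ = (a * i (K.q 0) * a⁻¹) * (a * i K.z * a⁻¹) := by group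
  refine ⟨?_, ?_⟩
  · rw [mul_assoc, hb.1, ← mul_assoc, ha.1, mul_assoc]
  · rw [e]
    rcases hb.2 with h | h <;> rw [h]
    · exact ha.2
    · rw [e2, ha.z]
      rcases ha.2 with h' | h' <;> rw [h']
      · exact Or.inr rfl
      · left
        rw [mul_assoc, hz, mul_one]

theorem Nz.inv {a : G} (ha : Nz i K a) : Nz i K a⁻¹ := by
  have hz := P.zz' H
  have h1 : a⁻¹ * i K.z = i K.z * a⁻¹ := by
    calc a⁻¹ * i K.z = a⁻¹ * (i K.z * a) * a⁻¹ := by group
      _ = a⁻¹ * (a * i K.z) * a⁻¹ := by rw [ha.1]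
      _ = _ := by group
  refine ⟨h1, ?_⟩
  rw [inv_inv]
  rcases ha.2 with h | h
  · left
    calc a⁻¹ * i (K.q 0) * a = a⁻¹ * (a * i (K.q 0) * a⁻¹) * a := by rw [h]
      _ = i (K.q 0) := by group
  · right
    calc a⁻¹ * i (K.q 0) * a = a⁻¹ * (i (K.q 0) * i K.z) * (i K.z * a) := by
          rw [mul_assoc a⁻¹ (i (K.q 0) * i K.z), mul_assoc (i (K.q 0)) (i K.z), ← mul_assoc (i K.z) (i K.z), hz, one_mul,
            ← mul_assoc]
      _ = a⁻¹ * (a * i (K.q 0) * a⁻¹) * (a * i K.z) := by rw [h, ha.1]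
      _ = i (K.q 0) * i K.z := by group

theorem Nz.vv {a : G} (ha : Nz i K a) {v : Y} (hv : v ∈ vv K) : ∃ v' ∈ WSys.vv K, a * i v * a⁻¹ = i v' := by
  have hz := ha.z
  rcases mem_vv.1 hv with rfl | rfl | rfl | rfl
  · exact ⟨1, one_mem _, by rw [map_one]; group⟩
  · exact ⟨K.z, Or.inr (Or.inl rfl), hz⟩
  · rcases ha.2 with h | h
    · exact ⟨K.q 0, Or.inr (Or.inr (Or.inl rfl)), h⟩
    · refine ⟨K.z * K.q 0, Or.inr (Or.inr (Or.inr rfl)), ?_⟩
      rw [h, map_mul, P.qz' H]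
  · have e : a * i (K.z * K.q 0) * a⁻¹ = (a * i K.z * a⁻¹) * (a * i (K.q 0) * a⁻¹) := by rw [map_mul]; group
    rw [e, hz]
    rcases ha.2 with h | h <;> rw [h]
    · exact ⟨K.z * K.q 0, Or.inr (Or.inr (Or.inr rfl)), by rw [map_mul]⟩
    · refine ⟨K.q 0, Or.inr (Or.inr (Or.inl rfl)), ?_⟩
      rw [P.qz' H, ← mul_assoc, P.zz' H, one_mul]

/-- **the 2-group `S`** -/
def SS (H : WDefs.PosW K i t y) : Subgroup G where
  carrier := {g | Nz i K g ∧ ∃ v ∈ vv K, g * t * g⁻¹ = t * i v}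
  one_mem' := ⟨Nz.one, 1, one_mem _, by rw [map_one]; group⟩
  mul_mem' := by
    rintro a b ⟨ha, v, hv, h⟩ ⟨hb, w, hw, h'⟩
    refine ⟨Nz.mul H ha hb, ?_⟩
    obtain ⟨w', hw', h3⟩ := Nz.vv H ha hw
    refine ⟨v * w', mul_mem hv hw', ?_⟩
    calc a * b * t * (a * b)⁻¹ = a * (b * t * b⁻¹) * a⁻¹ := by group
      _ = (a * t * a⁻¹) * (a * i w * a⁻¹) := by rw [h']; group
      _ = t * i (v * w') := by rw [h, h3, map_mul]; group
  inv_mem' := by
    rintro a ⟨ha, v, hv, h⟩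
    refine ⟨Nz.inv H ha, ?_⟩
    obtain ⟨w, hw, h3⟩ := Nz.vv H (Nz.inv H ha) hv
    rw [inv_inv] at h3
    refine ⟨w⁻¹, inv_mem hw, ?_⟩
    rw [inv_inv, map_inv, ← h3]
    calc a⁻¹ * t * a = a⁻¹ * (t * i v) * a * (a⁻¹ * i v * a)⁻¹ := by group
      _ = a⁻¹ * (a * t * a⁻¹) * a * (a⁻¹ * i v * a)⁻¹ := by rw [h]
      _ = _ := by group

theorem mem_SS {g : G} : g ∈ SS H ↔ Nz i K g ∧ ∃ v ∈ vv K, g * t * g⁻¹ = t * i v := Iff.rfl

include W in
theorem T_le : T H ≤ SS H := by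
  intro g hg
  have hgt := T_comm H hg
  refine ⟨?_, 1, one_mem _, by rw [map_one, mul_one, hgt, mul_inv_cancel_right]⟩
  have key : ∀ a ∈ K.U, Nz i K (i a) := by
    intro a ha
    refine ⟨by rw [← map_mul, ← map_mul, SOne.Pz K (K.U_le_P ha)], ?_⟩
    rw [← map_inv, ← map_mul, ← map_mul, ← map_mul]
    have h := U_q W (inv_mem ha)
    rw [inv_inv] at h
    rcases h with h | h
    · exact Or.inl (congrArg i h)
    · exact Or.inr (congrArg i h)
  have kt : Nz i K t := ⟨H.ti _, Or.inl (by rw [H.ti, mul_inv_cancel_right])⟩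
  obtain ⟨a, ha, rfl | rfl⟩ := (mem_T H).1 hg
  · exact key a ha
  · exact Nz.mul H kt (key a ha)

include W in
/-- `C_S(t) = T` -/
theorem SS_cent {g : G} (hg : g ∈ SS H) : g * t = t * g ↔ g ∈ T H := by
  constructor
  · intro h
    obtain ⟨⟨h1, h2⟩, -⟩ := hg
    have key : ∀ a : Y, Nz i K (i a) → a ∈ K.U := by
      rintro a ⟨h3, h4⟩
      rw [← map_mul, ← map_mul] at h3
      have haP : a ∈ K.P := (K.mem_P a).2 (H.inj h3)
      have h5 : a⁻¹ ∈ K.U := by
        apply mem_U_of W (inv_mem haP)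
        rw [inv_inv]
        rw [← map_inv, ← map_mul, ← map_mul, ← map_mul] at h4
        rcases h4 with h4 | h4
        · exact Or.inl (H.inj h4)
        · exact Or.inr (H.inj h4)
      exact inv_mem_iff.1 h5
    have kt : Nz i K t := ⟨H.ti _, Or.inl (by rw [H.ti, mul_inv_cancel_right])⟩
    obtain ⟨a, ha⟩ := H.cen g h
    rcases ha with rfl | rfl
    · exact ⟨a, key a ⟨h1, h2⟩, Or.inl rfl⟩
    · refine ⟨a, key a ?_, Or.inr rfl⟩
      have e : i a = t⁻¹ * (t * i a) := by group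
      rw [e]
      exact Nz.mul H (Nz.inv H kt) ⟨h1, h2⟩
  · exact fun h => T_comm H h

theorem y_SS : y ∈ SS H := by
  have hyi := P.y_inv H
  refine ⟨⟨P.yzc H, Or.inl ?_⟩, K.z, Or.inr (Or.inl rfl), ?_⟩
  · rw [hyi]
    exact P.y_A H (K.q_A 0)
  · rw [hyi]
    exact H.yt

theorem y2_SS : y2 W i y ∈ SS H := by
  have hyi := y2_inv W H
  refine ⟨⟨?_, Or.inl ?_⟩, K.q 0, Or.inr (Or.inr (Or.inl rfl)), ?_⟩
  · have h := y2_z W H
    calc y2 W i y * i K.z = y2 W i y * i K.z * (y2 W i y * y2 W i y) := by rw [y2y2 W H, mul_one]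
      _ = (y2 W i y * i K.z * y2 W i y) * y2 W i y := by group
      _ = _ := by rw [h]
  · rw [hyi]
    exact y2_q0 W H
  · rw [hyi]
    exact y2_t W H

include W in
theorem SS_orbit : ∀ v ∈ vv K, ∃ g ∈ SS H, g * t * g⁻¹ = t * i v := by
  intro v hv
  rcases mem_vv.1 hv with rfl | rfl | rfl | rfl
  · exact ⟨1, one_mem _, by rw [map_one]; group⟩
  · exact ⟨y, y_SS H, by rw [P.y_inv H]; exact H.yt⟩
  · exact ⟨y2 W i y, y2_SS W H, by rw [y2_inv W H]; exact y2_t W H⟩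
  · refine ⟨y * y2 W i y, mul_mem (y_SS H) (y2_SS W H), ?_⟩
    have h1 := y2_t W H
    have h2 := H.yt
    have h3 := P.y_A H (K.q_A 0)
    have hyi := P.y_inv H
    have hyi2 := y2_inv W H
    calc y * y2 W i y * t * (y * y2 W i y)⁻¹ = y * (y2 W i y * t * (y2 W i y)⁻¹) * y⁻¹ := by group
      _ = y * (t * i (K.q 0)) * y := by rw [hyi2, h1, hyi]
      _ = y * t * 1 * i (K.q 0) * y := by group
      _ = (y * t * y) * (y * i (K.q 0) * y) := by rw [← H.yy]; group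
      _ = t * i (K.z * K.q 0) := by rw [h2, h3, map_mul]; group

include W in
theorem card_SS : Nat.card (SS H) = 4 * Nat.card (T H) := by
  have := H.finG
  have h := card_orbit H.inj (T_le W H) (fun g hg => SS_cent W H hg) (fun g hg => hg.2) (SS_orbit W H)
  rw [card_vv] at h
  exact h

theorem card_T : Nat.card (T H) = 2 * Nat.card K.U := by
  have := K.fin
  exact card_dbl H.inj H.tY K.U

theorem card_C : Nat.card (Subgroup.centralizer ({t} : Set G)) = 2 * Nat.card Y := by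
  have := K.fin
  have h : Subgroup.centralizer ({t} : Set G) = dbl i t H.tt H.ti ⊤ := by
    ext g
    exact P.mem_cent H
  rw [h, card_dbl H.inj H.tY ⊤, Subgroup.card_top]

theorem T_le_C : T H ≤ Subgroup.centralizer ({t} : Set G) := fun g hg =>
  Subgroup.mem_centralizer_singleton_iff.2 (T_comm H hg)

theorem T_odd : ¬ 2 ∣ (T H).relIndex (Subgroup.centralizer ({t} : Set G)) := by
  have := K.fin
  have := H.finG
  have h1 := Subgroup.card_mul_index ((T H).subgroupOf (Subgroup.centralizer ({t} : Set G)))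
  rw [Nat.card_congr (Subgroup.subgroupOfEquivOfLe (T_le_C H)).toEquiv, card_T H, card_C H] at h1
  have h2 := Subgroup.card_mul_index K.U
  have h3 : (T H).relIndex (Subgroup.centralizer ({t} : Set G)) = K.U.index := by
    have h4 : 0 < Nat.card K.U := Nat.card_pos
    rw [← h2] at h1
    have h5 : (2 * Nat.card K.U) * ((T H).relIndex (Subgroup.centralizer ({t} : Set G))) =
        (2 * Nat.card K.U) * K.U.index := by
      rw [mul_assoc 2 (Nat.card K.U) K.U.index]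
      exact h1
    exact Nat.eq_of_mul_eq_mul_left (by omega) h5
  rw [h3]
  exact K.U_odd

include W in
theorem SS_p : IsPGroup 2 (SS H) := by
  have := K.fin
  have := H.finG
  have : Fact (Nat.Prime 2) := ⟨Nat.prime_two⟩
  obtain ⟨n, hn⟩ := IsPGroup.iff_card.1 K.U_p
  refine IsPGroup.of_card (n := n + 3) ?_
  rw [card_SS W H, card_T, hn]
  ring

include W in
/-- the elements of `S` -/
theorem SS_cases {g : G} (hg : g ∈ SS H) : ∃ a ∈ T H, g = a ∨ g = y * a ∨ g = y2 W i y * a ∨ g = y * y2 W i y * a := by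
  obtain ⟨v, hv, h⟩ := hg.2
  have key : ∀ w ∈ SS H, w * t * w⁻¹ = t * i v → ∃ a ∈ T H, g = w * a := by
    intro w hw h3
    have h4 : w⁻¹ * g * t = t * (w⁻¹ * g) := by
      calc w⁻¹ * g * t = w⁻¹ * (g * t * g⁻¹) * g := by group
        _ = w⁻¹ * (w * t * w⁻¹) * g := by rw [h, h3]
        _ = _ := by group
    exact ⟨_, (SS_cent W H (mul_mem (inv_mem hw) hg)).1 h4, by group⟩
  rcases mem_vv.1 hv with rfl | rfl | rfl | rfl
  · obtain ⟨a, ha, h5⟩ := key 1 (one_mem _) (by rw [map_one]; group)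
    exact ⟨a, ha, Or.inl (by rw [h5, one_mul])⟩
  · obtain ⟨a, ha, h5⟩ := key y (y_SS H) (by rw [P.y_inv H]; exact H.yt)
    exact ⟨a, ha, Or.inr (Or.inl h5)⟩
  · obtain ⟨a, ha, h5⟩ := key (y2 W i y) (y2_SS W H) (by rw [y2_inv W H]; exact y2_t W H)
    exact ⟨a, ha, Or.inr (Or.inr (Or.inl h5))⟩
  · have h6 : y * y2 W i y * t * (y * y2 W i y)⁻¹ = t * i (K.z * K.q 0) := by
      have h1 := y2_t W H
      have h2 := H.yt
      have h3 := P.y_A H (K.q_A 0)
      have hyi := P.y_inv H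
      have hyi2 := y2_inv W H
      calc y * y2 W i y * t * (y * y2 W i y)⁻¹ = y * (y2 W i y * t * (y2 W i y)⁻¹) * y⁻¹ := by group
        _ = y * (t * i (K.q 0)) * y := by rw [hyi2, h1, hyi]
        _ = y * t * 1 * i (K.q 0) * y := by group
        _ = (y * t * y) * (y * i (K.q 0) * y) := by rw [← H.yy]; group
        _ = t * i (K.z * K.q 0) := by rw [h2, h3, map_mul]; group
    obtain ⟨a, ha, h5⟩ := key _ (mul_mem (y_SS H) (y2_SS W H)) h6
    exact ⟨a, ha, Or.inr (Or.inr (Or.inr h5))⟩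

end P

end Cfsg.Agent.OddHalf.D7Tits.WSys
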