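import Cfsg.Agent.OddHalf.TFormula

/-!
# `K = ²F₄(2)'`: the group `Y = N_G(Θ)/C_G(Θ)` (helper961; text: ODD #15617 section 4, #15539)

`Θ` is elementary abelian of order `2^10`, `Y` acts faithfully on `Θ`, `t ∈ Y` is an involution with
`A = C_Θ(t)` of order `2^5` and `C_Y(t) = ⟨t⟩ × Pb`, `Pb = R⟨x, s⟩ = 2^4 : (5 : 4)`. The field `tfy` is the
T-formula for those `X ≤ Y` that are the only fixed coset of `Tb = ⟨t⟩ × R⟨s⟩` in `X \ Y` and contain a large normal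
elementary abelian subgroup (helper381, ODD #16131).
-/

set_option autoImplicit false

namespace Cfsg.Agent.OddHalf.D7Tits

/-- `Tb = ⟨t⟩ × R⟨s⟩` -/
def Tb {Y : Type*} [Group Y] (t s : Y) (R : Subgroup Y) : Subgroup Y :=
  Subgroup.zpowers t ⊔ R ⊔ Subgroup.zpowers s

/-- The data of section 4. The action is `ρ` (left action; in the application `ρ g θ = g θ g⁻¹`). -/
structure YH {Y Θ : Type*} [Group Y] [CommGroup Θ] (ρ : Y →* MulAut Θ) (t x s r0 : Y)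
    (R Pb : Subgroup Y) (z n : Θ) : Prop where
  fin : Finite Y
  finΘ : Finite Θ
  inj : Function.Injective ρ
  two : ∀ θ : Θ, θ * θ = 1
  card : Nat.card Θ = 2 ^ 10
  cardA : Nat.card {a : Θ // ρ t a = a} = 2 ^ 5
  tt : t * t = 1
  /-- `R = 2^4`, normal in `Pb` -/
  cardR : Nat.card ↥R = 16
  twoR : ∀ r ∈ R, r * r = 1
  RP : R ≤ Pb
  nR : ∀ p ∈ Pb, ∀ r ∈ R, p * r * p⁻¹ ∈ R
  /-- `Pb = R⟨x, s⟩` -/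
  xP : x ∈ Pb
  sP : s ∈ Pb
  x5 : x ^ 5 = 1
  s4 : s ^ 4 = 1
  xs : s * x * s⁻¹ = x ^ 2
  gen : ∀ p ∈ Pb, ∃ r ∈ R, ∃ j k : ℕ, p = r * x ^ j * s ^ k
  cardP : Nat.card ↥Pb = 320
  cx : ∀ r ∈ R, x * r = r * x → r = 1
  /-- `C_R(s) = ⟨r0⟩`, `|C_R(s²)| = 4` -/
  r0R : r0 ∈ R
  r01 : r0 ≠ 1
  sr0 : s * r0 = r0 * s
  cs : ∀ r ∈ R, s * r = r * s → r = 1 ∨ r = r0
  cs2 : Nat.card {r : ↥R // s ^ 2 * (r : Y) = r * s ^ 2} = 4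
  /-- `C_Y(t) = ⟨t⟩ × Pb` -/
  tP : t ∉ Pb
  comm : ∀ p ∈ Pb, t * p = p * t
  cent : ∀ y : Y, y * t = t * y → y ∈ Pb ∨ t * y ∈ Pb
  /-- `z ∈ A`, `n` commutes with `R`, `n^t = n z` -/
  z1 : z ≠ 1
  zt : ρ t z = z
  zx : ρ x z = z
  nt : ρ t n = n * z
  Rn : ∀ r ∈ R, ρ r n = n
  /-- `R` is faithful on `A`; `C_A(x) = ⟨z⟩` -/
  faith : ∀ r ∈ R, (∀ a : Θ, ρ t a = a → ρ r a = a) → r = 1
  cA : ∀ a : Θ, ρ t a = a → ρ x a = a → a = 1 ∨ a = z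
  /-- the T-formula -/
  tfy : ∀ X : Subgroup Y, Tb t s R ≤ X → (∀ g : Y, (∀ a ∈ Tb t s R, g⁻¹ * a * g ∈ X) → g ∈ X) →
    (∃ B : Subgroup Y, B ≤ X ∧ (∀ g ∈ X, ∀ b ∈ B, g * b * g⁻¹ ∈ B) ∧ (∀ b ∈ B, b * b = 1) ∧
      (2 ^ 7 ≤ Nat.card ↥B ∨ 2 ^ 5 ≤ Nat.card ↥B ∧
        ∀ S : Subgroup Y, S ≤ X → IsPGroup 2 ↥S → Nat.card ↥S ≤ 2 ^ 8)) →
    ∀ (μ : ↥X →* Multiplicative (ZMod 2)) (ht : t ∈ X), μ ⟨t, ht⟩ = 1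

end Cfsg.Agent.OddHalf.D7Tits
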