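import Cfsg.Agent.OddHalf.D7Tits.Cent
import Cfsg.Agent.OddHalf.D7Tits.YH

/-!
# ODD D7, `K = ²F₄(2)'`: `YH` without the T-formula, from the action on `Θ` (helper625; text: bb 15617, 3.3 and 4)

* `Pre` : what one reads off in `N_G(Θ)`: the action of `t`, `R`, `x`, `s` on `A = ⟨z, q k⟩` and on `n`.
* `YH0` : the fields of `YH` but the T-formula (`hom` / `tfy`).
* `Pre.yh0 : ∃ r0, YH0 ρ t x s r0 R Pb z n`.
-/

set_option autoImplicit false
set_option linter.unusedSectionVars false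
set_option linter.unusedVariables false

namespace Cfsg.Agent.OddHalf.D7Tits.YAbs

open Subgroup

/-- `YH` without the T-formula. -/
structure YH0 {Y Θ : Type*} [Group Y] [CommGroup Θ] (ρ : Y →* MulAut Θ) (t x s r0 : Y)
    (R Pb : Subgroup Y) (z n : Θ) : Prop where
  fin : Finite Y
  finΘ : Finite Θ
  inj : Function.Injective ρ
  two : ∀ θ : Θ, θ * θ = 1
  card : Nat.card Θ = 2 ^ 10
  cardA : Nat.card {a : Θ // ρ t a = a} = 2 ^ 5
  tt : t * t = 1
  cardR : Nat.card ↥R = 16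
  twoR : ∀ r ∈ R, r * r = 1
  RP : R ≤ Pb
  nR : ∀ p ∈ Pb, ∀ r ∈ R, p * r * p⁻¹ ∈ R
  xP : x ∈ Pb
  sP : s ∈ Pb
  x5 : x ^ 5 = 1
  s4 : s ^ 4 = 1
  xs : s * x * s⁻¹ = x ^ 2
  gen : ∀ p ∈ Pb, ∃ r ∈ R, ∃ j k : ℕ, p = r * x ^ j * s ^ k
  cardP : Nat.card ↥Pb = 320
  cx : ∀ r ∈ R, x * r = r * x → r = 1
  r0R : r0 ∈ R
  r01 : r0 ≠ 1
  sr0 : s * r0 = r0 * s
  cs : ∀ r ∈ R, s * r = r * s → r = 1 ∨ r = r0
  cs2 : Nat.card {r : ↥R // s ^ 2 * (r : Y) = r * s ^ 2} = 4
  tP : t ∉ Pb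
  comm : ∀ p ∈ Pb, t * p = p * t
  cent : ∀ y : Y, y * t = t * y → y ∈ Pb ∨ t * y ∈ Pb
  z1 : z ≠ 1
  zt : ρ t z = z
  zx : ρ x z = z
  nt : ρ t n = n * z
  Rn : ∀ r ∈ R, ρ r n = n
  faith : ∀ r ∈ R, (∀ a : Θ, ρ t a = a → ρ r a = a) → r = 1
  cA : ∀ a : Θ, ρ t a = a → ρ x a = a → a = 1 ∨ a = z

/-- the T-formula, as in `YH.tfy` -/
def TFY {Y : Type*} [Group Y] (t s : Y) (R : Subgroup Y) : Prop :=
  ∀ X : Subgroup Y, Tb t s R ≤ X → (∀ g : Y, (∀ a ∈ Tb t s R, g⁻¹ * a * g ∈ X) → g ∈ X) →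
    (∃ B : Subgroup Y, B ≤ X ∧ (∀ g ∈ X, ∀ b ∈ B, g * b * g⁻¹ ∈ B) ∧ (∀ b ∈ B, b * b = 1) ∧
      (2 ^ 7 ≤ Nat.card ↥B ∨ 2 ^ 5 ≤ Nat.card ↥B ∧
        ∀ S : Subgroup Y, S ≤ X → IsPGroup 2 ↥S → Nat.card ↥S ≤ 2 ^ 8)) →
    ∀ (μ : ↥X →* Multiplicative (ZMod 2)) (ht : t ∈ X), μ ⟨t, ht⟩ = 1

theorem YH0.yh {Y Θ : Type*} [Group Y] [CommGroup Θ] {ρ : Y →* MulAut Θ} {t x s r0 : Y}
    {R Pb : Subgroup Y} {z n : Θ} (h : YH0 ρ t x s r0 R Pb z n) (htf : TFY t s R) : YH ρ t x s r0 R Pb z n :=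
  { h with tfy := htf }

/-- The input: the action of `⟨t⟩ × Pb` on `Θ`. -/
structure Pre {Y Θ : Type*} [Group Y] [CommGroup Θ] (ρ : Y →* MulAut Θ) (t x s : Y) (R Pb : Subgroup Y)
    (z n : Θ) (q : ZMod 5 → Θ) : Prop where
  fin : Finite Y
  finΘ : Finite Θ
  inj : Function.Injective ρ
  two : ∀ θ : Θ, θ * θ = 1
  card : Nat.card Θ = 2 ^ 10
  cardA : Nat.card {a : Θ // ρ t a = a} = 2 ^ 5
  sur : ∀ a, ρ t a = a → ∃ θ, ρ t θ = θ * a
  tt : t * t = 1
  cardR : Nat.card ↥R = 16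
  RP : R ≤ Pb
  nR : ∀ p ∈ Pb, ∀ r ∈ R, p * r * p⁻¹ ∈ R
  xP : x ∈ Pb
  sP : s ∈ Pb
  x5 : x ^ 5 = 1
  s4 : s ^ 4 = 1
  xs : s * x * s⁻¹ = x ^ 2
  gen : ∀ p ∈ Pb, ∃ r ∈ R, ∃ j k : ℕ, p = r * x ^ j * s ^ k
  comm : ∀ p ∈ Pb, t * p = p * t
  z1 : z ≠ 1
  zt : ρ t z = z
  zP : ∀ p ∈ Pb, ρ p z = z
  qt : ∀ k, ρ t (q k) = q k
  qx : ∀ k, ρ x (q (k + 1)) = q k
  qs : ∀ k, ρ s (q k) = q (2 * k)
  qR : ∀ r ∈ R, ∀ k, ρ r (q k) = q k ∨ ρ r (q k) = q k * z
  qprod : q 0 * q 1 * q 2 * q 3 * q 4 = 1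
  Agen : ∀ a, ρ t a = a → a ∈ closure ({z} ∪ Set.range q)
  faith : ∀ p ∈ Pb, (∀ a, ρ t a = a → ρ p a = a) → p = 1
  nt : ρ t n = n * z
  Rn : ∀ r ∈ R, ρ r n = n
  cA : ∀ a, ρ t a = a → ρ x a = a → a = 1 ∨ a = z
  Rz : ∀ a, ρ t a = a → (∀ r ∈ R, ρ r a = a) → a = 1 ∨ a = z
  bound : ∀ Y₀ : Subgroup Y, (∀ y, y ∈ Y₀ ↔ y ∈ Pb ∨ t * y ∈ Pb) → Nat.card (centralizer {t}) ≤ 2 * Nat.card Y₀

/-! ### Functions `ZMod 5 → ZMod 2` with sum zero -/

/-- sum zero -/
def Ev (f : ZMod 5 → ZMod 2) : Prop := f 0 + f 1 + f 2 + f 3 + f 4 = 0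

instance : DecidablePred Ev := fun f => inferInstanceAs (Decidable (_ = _))

theorem card_ev : Nat.card {f : ZMod 5 → ZMod 2 // Ev f} = 16 := by
  rw [Nat.card_eq_fintype_card]
  decide +kernel

theorem card_ev4 : Nat.card {f : {f : ZMod 5 → ZMod 2 // Ev f} // ∀ k, f.1 (4 * k) = f.1 k} = 4 := by
  rw [Nat.card_eq_fintype_card]
  decide +kernel

theorem ev_shift : ∀ f : ZMod 5 → ZMod 2, Ev f → (∀ k, f (k + 1) = f k) → ∀ k, f k = 0 := by
  decide +kernel

theorem ev_double : ∀ f : ZMod 5 → ZMod 2, Ev f → (∀ k, f (2 * k) = f k) →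
    (∀ k, f k = 0) ∨ ∀ k, f k = if k = 0 then 0 else 1 := by
  decide +kernel

theorem ev_sep : ∀ i j : ZMod 5, i ≠ j → ∃ f : ZMod 5 → ZMod 2, Ev f ∧ f i ≠ f j := by
  decide +kernel

/-! ### The map `R → {sum zero}` -/

namespace Pre

variable {Y Θ : Type*} [Group Y] [CommGroup Θ] {ρ : Y →* MulAut Θ} {t x s : Y} {R Pb : Subgroup Y} {z n : Θ}
  {q : ZMod 5 → Θ}

/-- `z^e` -/
def zp (z : Θ) (e : ZMod 2) : Θ := if e = 0 then 1 else z

open Classical in
/-- the points moved by `r` -/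
noncomputable def S (ρ : Y →* MulAut Θ) (q : ZMod 5 → Θ) (r : Y) (k : ZMod 5) : ZMod 2 := if ρ r (q k) = q k then 0 else 1

variable (H : Pre ρ t x s R Pb z n q)

include H

theorem zp_add (a b : ZMod 2) : zp z (a + b) = zp z a * zp z b := by
  have h : ∀ a : ZMod 2, a = 0 ∨ a = 1 := by decide
  have e : (1 : ZMod 2) + 1 = 0 := by decide
  rcases h a with rfl | rfl <;> rcases h b with rfl | rfl
  · simp [zp]
  · simp [zp]
  · simp [zp]
  · rw [e]
    simp [zp, H.two]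

theorem zp_inj {a b : ZMod 2} (h : zp z a = zp z b) : a = b := by
  have h' : ∀ a : ZMod 2, a = 0 ∨ a = 1 := by decide
  rcases h' a with rfl | rfl <;> rcases h' b with rfl | rfl
  · rfl
  · simp only [zp, if_true, one_ne_zero, if_false] at h
    exact absurd h.symm H.z1
  · simp only [zp, if_true, one_ne_zero, if_false] at h
    exact absurd h H.z1
  · rfl

theorem zp_fix {p : Y} (hp : p ∈ Pb) (e : ZMod 2) : ρ p (zp z e) = zp z e := by
  unfold zp
  split_ifs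
  · exact map_one _
  · exact H.zP p hp

theorem rq {r : Y} (hr : r ∈ R) (k : ZMod 5) : ρ r (q k) = q k * zp z (S ρ q r k) := by
  unfold S
  split_ifs with h
  · rw [h]; simp [zp]
  · rcases H.qR r hr k with h1 | h1
    · exact absurd h1 h
    · rw [h1]; simp [zp]

theorem S_eq {r : Y} (hr : r ∈ R) {k : ZMod 5} {e : ZMod 2} (h : ρ r (q k) = q k * zp z e) : S ρ q r k = e := by
  rw [H.rq hr] at h
  exact H.zp_inj (mul_left_cancel h)

theorem S_mul {r r' : Y} (hr : r ∈ R) (hr' : r' ∈ R) (k : ZMod 5) : S ρ q (r * r') k = S ρ q r k + S ρ q r' k := by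
  apply H.S_eq (mul_mem hr hr')
  rw [map_mul, MulAut.mul_apply, H.rq hr', map_mul, H.rq hr, H.zp_fix (H.RP hr), H.zp_add, mul_assoc]

theorem ext_A {p p' : Y} (hp : p ∈ Pb) (hp' : p' ∈ Pb) (h : ∀ k, ρ p (q k) = ρ p' (q k)) : p = p' := by
  have h1 : ∀ a, ρ t a = a → ρ (p'⁻¹ * p) a = a := by
    intro a ha
    have hle : closure ({z} ∪ Set.range q) ≤
        ({ carrier := {a | ρ (p'⁻¹ * p) a = a}
           one_mem' := map_one _
           mul_mem' := fun {a b} ha hb => by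
            show ρ (p'⁻¹ * p) (a * b) = a * b
            rw [map_mul, ha, hb]
           inv_mem' := fun {a} ha => by
            show ρ (p'⁻¹ * p) a⁻¹ = a⁻¹
            rw [map_inv, ha] } : Subgroup Θ) := by
      rw [closure_le]
      rintro b (rfl | ⟨k, rfl⟩)
      · exact H.zP _ (mul_mem (inv_mem hp') hp)
      · show ρ (p'⁻¹ * p) (q k) = q k
        rw [map_mul, MulAut.mul_apply, h k, ← MulAut.mul_apply, ← map_mul, inv_mul_cancel, map_one, MulAut.one_apply]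
    exact hle (H.Agen a ha)
  have h2 := H.faith _ (mul_mem (inv_mem hp') hp) h1
  exact (inv_mul_eq_one.1 h2).symm

theorem S_inj {r r' : Y} (hr : r ∈ R) (hr' : r' ∈ R) (h : ∀ k, S ρ q r k = S ρ q r' k) : r = r' :=
  H.ext_A (H.RP hr) (H.RP hr') fun k => by rw [H.rq hr, H.rq hr', h k]

theorem S_one (k : ZMod 5) : S ρ q (1 : Y) k = 0 := by
  unfold S
  rw [map_one, MulAut.one_apply, if_pos rfl]

theorem S_ev {r : Y} (hr : r ∈ R) : Ev (S ρ q r) := by
  have h := H.qprod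
  have h1 := congrArg (ρ r) h
  rw [map_mul, map_mul, map_mul, map_mul, map_one, H.rq hr, H.rq hr, H.rq hr, H.rq hr, H.rq hr] at h1
  have e : q 0 * zp z (S ρ q r 0) * (q 1 * zp z (S ρ q r 1)) * (q 2 * zp z (S ρ q r 2)) * (q 3 * zp z (S ρ q r 3)) *
      (q 4 * zp z (S ρ q r 4)) = (q 0 * q 1 * q 2 * q 3 * q 4) *
      (zp z (S ρ q r 0) * zp z (S ρ q r 1) * zp z (S ρ q r 2) * zp z (S ρ q r 3) * zp z (S ρ q r 4)) := by
    ac_rfl
  rw [e, h, one_mul, ← H.zp_add, ← H.zp_add, ← H.zp_add, ← H.zp_add] at h1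
  apply H.zp_inj (a := _) (b := 0)
  rw [h1]
  simp [zp]

/-- the bijection -/
theorem bij : Function.Bijective (fun r : R => (⟨S ρ q r, H.S_ev r.2⟩ : {f : ZMod 5 → ZMod 2 // Ev f})) := by
  have := H.fin
  rw [Nat.bijective_iff_injective_and_card]
  refine ⟨fun a b hab => Subtype.ext (H.S_inj a.2 b.2 fun k => congrFun (congrArg Subtype.val hab) k), ?_⟩
  rw [H.cardR, card_ev]

theorem S_sur {f : ZMod 5 → ZMod 2} (hf : Ev f) : ∃ r ∈ R, S ρ q r = f := by
  obtain ⟨r, hr⟩ := H.bij.2 ⟨f, hf⟩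
  exact ⟨r, r.2, congrArg Subtype.val hr⟩

theorem twoR : ∀ r ∈ R, r * r = 1 := by
  intro r hr
  apply H.S_inj (mul_mem hr hr) (one_mem _)
  intro k
  rw [H.S_mul hr hr, H.S_one]
  have : ∀ a : ZMod 2, a + a = 0 := by decide
  exact this _

/-- the points are different modulo `z` -/
theorem q_ne {k l : ZMod 5} {e : ZMod 2} (h : q k = q l * zp z e) : k = l := by
  by_contra hkl
  obtain ⟨f, hf, hne⟩ := ev_sep k l hkl
  obtain ⟨r, hr, hS⟩ := H.S_sur hf
  apply hne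
  have h1 := congrArg (ρ r) h
  rw [map_mul, H.rq hr, H.rq hr, H.zp_fix (H.RP hr), h, hS, mul_right_comm (q l)] at h1
  exact H.zp_inj (mul_left_cancel (mul_right_cancel h1 : q l * zp z (f k) = q l * zp z (f l)))

theorem S_x {r : Y} (hr : r ∈ R) (k : ZMod 5) : S ρ q (x * r * x⁻¹) k = S ρ q r (k + 1) := by
  apply H.S_eq (H.nR x H.xP r hr)
  rw [← H.qx k, ← MulAut.mul_apply, ← map_mul]
  have e : x * r * x⁻¹ * x = x * r := by group
  rw [e, map_mul, MulAut.mul_apply, H.rq hr, map_mul, H.zp_fix H.xP]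

theorem S_s {r : Y} (hr : r ∈ R) (k : ZMod 5) : S ρ q (s * r * s⁻¹) (2 * k) = S ρ q r k := by
  apply H.S_eq (H.nR s H.sP r hr)
  rw [← H.qs k, ← MulAut.mul_apply, ← map_mul]
  have e : s * r * s⁻¹ * s = s * r := by group
  rw [e, map_mul, MulAut.mul_apply, H.rq hr, map_mul, H.zp_fix H.sP]

theorem S_s2 {r : Y} (hr : r ∈ R) (k : ZMod 5) : S ρ q (s ^ 2 * r * (s ^ 2)⁻¹) (4 * k) = S ρ q r k := by
  have e : s ^ 2 * r * (s ^ 2)⁻¹ = s * (s * r * s⁻¹) * s⁻¹ := by rw [pow_two]; group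
  have e2 : 4 * k = 2 * (2 * k) := by revert k; decide
  rw [e, e2, H.S_s (H.nR s H.sP r hr), H.S_s hr]

theorem cx : ∀ r ∈ R, x * r = r * x → r = 1 := by
  intro r hr h
  have e : x * r * x⁻¹ = r := by rw [h]; group
  have h1 : ∀ k, S ρ q r (k + 1) = S ρ q r k := by
    intro k
    rw [← H.S_x hr, e]
  apply H.S_inj hr (one_mem _)
  intro k
  rw [ev_shift _ (H.S_ev hr) h1, H.S_one]

theorem s_iff {r : Y} (hr : r ∈ R) : s * r = r * s ↔ ∀ k, S ρ q r (2 * k) = S ρ q r k := by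
  constructor
  · intro h k
    have e : s * r * s⁻¹ = r := by rw [h]; group
    have h1 := H.S_s hr k
    rwa [e] at h1
  · intro h
    have e : s * r * s⁻¹ = r := by
      apply H.S_inj (H.nR s H.sP r hr) hr
      intro k
      have e2 : k = 2 * (3 * k) := by revert k; decide
      rw [e2, H.S_s hr, h]
    rwa [mul_inv_eq_iff_eq_mul] at e

theorem s2_iff {r : Y} (hr : r ∈ R) : s ^ 2 * r = r * s ^ 2 ↔ ∀ k, S ρ q r (4 * k) = S ρ q r k := by
  have hs2 : s ^ 2 ∈ Pb := pow_mem H.sP 2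
  constructor
  · intro h k
    have e : s ^ 2 * r * (s ^ 2)⁻¹ = r := by rw [h]; group
    have h1 := H.S_s2 hr k
    rwa [e] at h1
  · intro h
    have e : s ^ 2 * r * (s ^ 2)⁻¹ = r := by
      apply H.S_inj (H.nR _ hs2 r hr) hr
      intro k
      have e2 : k = 4 * (4 * k) := by revert k; decide
      have h1 := H.S_s2 hr (4 * k)
      rw [← e2, h] at h1
      exact h1
    rwa [mul_inv_eq_iff_eq_mul] at e

theorem cs2 : Nat.card {r : ↥R // s ^ 2 * (r : Y) = r * s ^ 2} = 4 := by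
  rw [← card_ev4]
  exact Nat.card_congr ((Equiv.ofBijective _ H.bij).subtypeEquiv fun r => H.s2_iff r.2)

theorem exists_r0 : ∃ r0 ∈ R, r0 ≠ 1 ∧ s * r0 = r0 * s ∧ ∀ r ∈ R, s * r = r * s → r = 1 ∨ r = r0 := by
  obtain ⟨r0, hr0, hS⟩ := H.S_sur (f := fun k => if k = 0 then 0 else 1) (by decide)
  refine ⟨r0, hr0, ?_, ?_, ?_⟩
  · rintro rfl
    have h := congrFun hS 1
    rw [H.S_one] at h
    exact absurd h (by decide)
  · rw [H.s_iff hr0, hS]
    decide
  · intro r hr h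
    rw [H.s_iff hr] at h
    rcases ev_double _ (H.S_ev hr) h with h1 | h1
    · left
      apply H.S_inj hr (one_mem _)
      intro k
      rw [h1, H.S_one]
    · right
      apply H.S_inj hr hr0
      intro k
      rw [h1, hS]

/-! ### The order of `Pb` -/

/-- `x^j` on the points -/
theorem qxp (j : ℕ) (k : ZMod 5) : ρ (x ^ j) (q k) = q (k - j) := by
  induction j generalizing k with
  | zero => simp
  | succ j ih =>
    rw [pow_succ', map_mul, MulAut.mul_apply, ih]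
    have e : k - (j : ZMod 5) = (k - ((j + 1 : ℕ) : ZMod 5)) + 1 := by push_cast; ring
    rw [e, H.qx]

/-- `s^j` on the points -/
theorem qsp (j : ℕ) (k : ZMod 5) : ρ (s ^ j) (q k) = q (2 ^ j * k) := by
  induction j generalizing k with
  | zero => simp
  | succ j ih =>
    rw [pow_succ', map_mul, MulAut.mul_apply, ih, H.qs]
    congr 1
    rw [pow_succ']; ring

theorem qall {r : Y} (hr : r ∈ R) (j k : ℕ) (l : ZMod 5) :
    ∃ e, ρ (r * x ^ j * s ^ k) (q l) = q (2 ^ k * l - j) * zp z e := by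
  rw [map_mul, map_mul, MulAut.mul_apply, MulAut.mul_apply, H.qsp, H.qxp, H.rq hr]
  exact ⟨_, rfl⟩

theorem cardP : Nat.card ↥Pb = 320 := by
  have := H.fin
  let f : R × Fin 5 × Fin 4 → Pb := fun a =>
    ⟨a.1 * x ^ (a.2.1 : ℕ) * s ^ (a.2.2 : ℕ), mul_mem (mul_mem (H.RP a.1.2) (pow_mem H.xP _)) (pow_mem H.sP _)⟩
  have hf : Function.Bijective f := by
    constructor
    · rintro ⟨⟨r, hr⟩, j, k⟩ ⟨⟨r', hr'⟩, j', k'⟩ h
      have h1 : r * x ^ (j : ℕ) * s ^ (k : ℕ) = r' * x ^ (j' : ℕ) * s ^ (k' : ℕ) := congrArg Subtype.val h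
      have h2 : ∀ l : ZMod 5, 2 ^ (k : ℕ) * l - ((j : ℕ) : ZMod 5) = 2 ^ (k' : ℕ) * l - ((j' : ℕ) : ZMod 5) := by
        intro l
        obtain ⟨e, he⟩ := H.qall hr j k l
        obtain ⟨e', he'⟩ := H.qall hr' j' k' l
        rw [h1, he'] at he
        apply H.q_ne (e := e + e')
        rw [H.zp_add, mul_comm (zp z e), ← mul_assoc, he, mul_assoc, ← H.zp_add]
        have e2 : ∀ a : ZMod 2, a + a = 0 := by decide
        rw [e2]
        simp [zp]
      have h3 : ∀ (j j' : Fin 5) (k k' : Fin 4), (∀ l : ZMod 5, 2 ^ (k : ℕ) * l - ((j : ℕ) : ZMod 5) =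
          2 ^ (k' : ℕ) * l - ((j' : ℕ) : ZMod 5)) → j = j' ∧ k = k' := by decide +kernel
      obtain ⟨rfl, rfl⟩ := h3 j j' k k' h2
      have h4 : r = r' := mul_right_cancel (mul_right_cancel h1)
      subst h4
      rfl
    · rintro ⟨p, hp⟩
      obtain ⟨r, hr, j, k, rfl⟩ := H.gen p hp
      refine ⟨(⟨r, hr⟩, ⟨j % 5, Nat.mod_lt _ (by norm_num)⟩, ⟨k % 4, Nat.mod_lt _ (by norm_num)⟩), Subtype.ext ?_⟩
      show r * x ^ (j % 5) * s ^ (k % 4) = r * x ^ j * s ^ k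
      rw [← pow_eq_pow_mod j H.x5, ← pow_eq_pow_mod k H.s4]
  rw [← Nat.card_congr (Equiv.ofBijective f hf), Nat.card_prod, Nat.card_prod, H.cardR, Nat.card_fin, Nat.card_fin]

/-! ### `⟨t⟩ × Pb` -/

theorem tP : t ∉ Pb := by
  intro h
  have h1 := H.faith t h fun a ha => ha
  have h2 := H.nt
  rw [h1, map_one, MulAut.one_apply] at h2
  exact H.z1 (mul_eq_left.1 h2.symm)

theorem t_inv : t⁻¹ = t := inv_eq_of_mul_eq_one_left H.tt

/-- the group `⟨t⟩ × Pb` -/
theorem exists_Y₀ : ∃ Y₀ : Subgroup Y, (∀ y, y ∈ Y₀ ↔ y ∈ Pb ∨ t * y ∈ Pb) ∧ Nat.card Y₀ = 640 := by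
  have := H.fin
  have htt : ∀ y, t * (t * y) = y := by
    intro y
    rw [← mul_assoc, H.tt, one_mul]
  let Y₀ : Subgroup Y :=
    { carrier := {y | y ∈ Pb ∨ t * y ∈ Pb}
      one_mem' := Or.inl (one_mem _)
      mul_mem' := by
        rintro a b (ha | ha) (hb | hb)
        · exact Or.inl (mul_mem ha hb)
        · right
          rw [← mul_assoc, H.comm a ha, mul_assoc]
          exact mul_mem ha hb
        · right
          rw [← mul_assoc]
          exact mul_mem ha hb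
        · left
          have h1 := mul_mem ha hb
          have h2 : t * a * (t * b) = a * b := by
            have h3 := H.comm _ ha
            rw [htt] at h3
            rw [← mul_assoc, ← h3]
          rwa [h2] at h1
      inv_mem' := by
        rintro a (ha | ha)
        · exact Or.inl (inv_mem ha)
        · right
          have h1 := H.comm _ (inv_mem ha)
          have h2 := inv_mem ha
          have h3 : t * a⁻¹ = (t * a)⁻¹ := by
            rw [mul_inv_rev, H.t_inv] at h1 ⊢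
            rw [mul_assoc a⁻¹, H.tt, mul_one] at h1
            calc t * a⁻¹ = t * (a⁻¹ * t) * t := by rw [mul_assoc, mul_assoc, H.tt, mul_one]
              _ = a⁻¹ * t := by rw [h1]
          show t * a⁻¹ ∈ Pb
          rwa [h3] }
  have hY : ∀ y, y ∈ Y₀ ↔ y ∈ Pb ∨ t * y ∈ Pb := fun _ => Iff.rfl
  refine ⟨Y₀, hY, ?_⟩
  have hle : Pb ≤ Y₀ := fun y hy => Or.inl hy
  have h1 := Subgroup.card_mul_index (Pb.subgroupOf Y₀)
  have h2 : Nat.card (Pb.subgroupOf Y₀) = 320 := by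
    rw [← H.cardP]
    exact Nat.card_congr (Subgroup.subgroupOfEquivOfLe hle).toEquiv
  have h3 : (Pb.subgroupOf Y₀).index = 2 := by
    rw [Subgroup.index_eq_two_iff]
    refine ⟨⟨t, Or.inr (by rw [H.tt]; exact one_mem _)⟩, ?_⟩
    rintro ⟨b, hb⟩
    rw [mem_subgroupOf, mem_subgroupOf]
    show Xor (b * t ∈ Pb) (b ∈ Pb)
    rcases hb with hb | hb
    · refine Or.inr ⟨hb, fun h => H.tP ?_⟩
      have := mul_mem (inv_mem hb) h
      rwa [inv_mul_cancel_left] at this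
    · refine Or.inl ⟨?_, fun h => H.tP ?_⟩
      · have h1 := H.comm _ hb
        rw [htt, mul_assoc] at h1
        have h2 : b * t = t * b := by
          calc b * t = t * (t * (b * t)) := (htt _).symm
            _ = t * b := by rw [← h1]
        rwa [h2]
      · have := mul_mem hb (inv_mem h)
        rwa [mul_inv_cancel_right] at this
  rw [h2, h3] at h1
  rw [← h1]

theorem RA : ∀ r ∈ R, ∀ a, ρ t a = a → ρ r a = a ∨ ρ r a = a * z := by
  intro r hr a ha
  have hz : ρ r z = z := H.zP r (H.RP hr)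
  have hle : closure ({z} ∪ Set.range q) ≤
      ({ carrier := {a | ρ r a = a ∨ ρ r a = a * z}
         one_mem' := Or.inl (map_one _)
         mul_mem' := by
          rintro a b ha hb
          show ρ r (a * b) = a * b ∨ ρ r (a * b) = a * b * z
          rw [map_mul]
          rcases ha with ha | ha <;> rcases hb with hb | hb <;> rw [ha, hb]
          · exact Or.inl rfl
          · exact Or.inr (mul_assoc _ _ _).symm
          · exact Or.inr (mul_right_comm _ _ _)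
          · left
            rw [mul_mul_mul_comm, H.two, mul_one]
         inv_mem' := by
          rintro a ha
          show ρ r a⁻¹ = a⁻¹ ∨ ρ r a⁻¹ = a⁻¹ * z
          have e : a⁻¹ = a := inv_eq_of_mul_eq_one_left (H.two a)
          rwa [e] } : Subgroup Θ) := by
    rw [closure_le]
    rintro b (rfl | ⟨k, rfl⟩)
    · exact Or.inl hz
    · exact H.qR r hr k
  exact hle (H.Agen a ha)

/-- **3.3** -/
theorem cent : ∀ y : Y, y * t = t * y → y ∈ Pb ∨ t * y ∈ Pb := by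
  intro y hy
  obtain ⟨Y₀, hY, hcard⟩ := H.exists_Y₀
  have htt : ∀ y, t * (t * y) = y := by
    intro y
    rw [← mul_assoc, H.tt, one_mul]
  have C : Cent.Cfg ρ t x s R Y₀ z n :=
    { fin := H.fin
      finΘ := H.finΘ
      inj := H.inj
      two := H.two
      cardA := H.cardA
      sur := H.sur
      tt := H.tt
      x5 := H.x5
      xs := H.xs
      zt := H.zt
      zx := H.zP x H.xP
      z1 := H.z1
      cA := H.cA
      nt := H.nt
      Rn := H.Rn
      RA := H.RA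
      Rz := H.Rz
      xR := H.nR x H.xP
      cx := H.cx
      tY := (hY t).2 (Or.inr (by rw [H.tt]; exact one_mem _))
      xY := (hY x).2 (Or.inl H.xP)
      sY := (hY s).2 (Or.inl H.sP)
      RY := fun r hr => (hY r).2 (Or.inl (H.RP hr))
      comm := by
        intro y hy
        rcases (hY y).1 hy with h | h
        · exact (H.comm y h).symm
        · have h1 := H.comm _ h
          rw [htt, mul_assoc] at h1
          calc y * t = t * (t * (y * t)) := (htt _).symm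
            _ = t * y := by rw [← h1]
      YA := by
        intro y hy hA
        rcases (hY y).1 hy with h | h
        · exact Or.inl (H.faith y h hA)
        · right
          have h1 := H.faith _ h fun a ha => by rw [map_mul, MulAut.mul_apply, hA a ha, ha]
          rw [mul_eq_one_iff_eq_inv] at h1
          rw [← H.t_inv, h1, inv_inv]
      syl := by rw [hcard]; norm_num
      bound := H.bound Y₀ hY }
  exact (hY y).1 (C.mem hy)

/-- **All fields of `YH` but the T-formula** -/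
theorem yh0 : ∃ r0, YH0 ρ t x s r0 R Pb z n := by
  obtain ⟨r0, hr0, hr01, hs, hcs⟩ := H.exists_r0
  exact ⟨r0,
    { fin := H.fin
      finΘ := H.finΘ
      inj := H.inj
      two := H.two
      card := H.card
      cardA := H.cardA
      tt := H.tt
      cardR := H.cardR
      twoR := H.twoR
      RP := H.RP
      nR := H.nR
      xP := H.xP
      sP := H.sP
      x5 := H.x5
      s4 := H.s4
      xs := H.xs
      gen := H.gen
      cardP := H.cardP
      cx := H.cx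
      r0R := hr0
      r01 := hr01
      sr0 := hs
      cs := hcs
      cs2 := H.cs2
      tP := H.tP
      comm := H.comm
      cent := H.cent
      z1 := H.z1
      zt := H.zt
      zx := H.zP x H.xP
      nt := H.nt
      Rn := H.Rn
      faith := fun r hr h => H.faith r (H.RP hr) h
      cA := H.cA }⟩

end Pre

end Cfsg.Agent.OddHalf.D7Tits.YAbs
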