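import Cfsg.Agent.OddHalf.D7Tits.YH

/-!
# `K = ²F₄(2)'`: first consequences of `YH` (helper961)

General lemmas on elementary abelian groups, the group `E5 = ⟨t⟩ × R` of order `2^5`, the orders of `C_Y(t)` and
`Tb`, and the `x`-invariant subgroups.
-/

set_option autoImplicit false
set_option linter.unusedSectionVars false

namespace Cfsg.Agent.OddHalf.D7Tits.YBase

open Subgroup

/-! ### general lemmas -/

section Gen

variable {G : Type*} [Group G]

theorem comm_of_sq {F : Subgroup G} (h : ∀ a ∈ F, a * a = 1) : ∀ a ∈ F, ∀ b ∈ F, a * b = b * a := by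
  intro a ha b hb
  have h1 := h _ (mul_mem ha hb)
  have ha' : a⁻¹ = a := inv_eq_of_mul_eq_one_left (h a ha)
  have hb' : b⁻¹ = b := inv_eq_of_mul_eq_one_left (h b hb)
  calc a * b = (a * b)⁻¹ := (inv_eq_of_mul_eq_one_left h1).symm
    _ = b⁻¹ * a⁻¹ := mul_inv_rev _ _
    _ = b * a := by rw [ha', hb']

theorem card_ker_range {G' : Type*} [Group G'] (f : G →* G') :
    Nat.card G = Nat.card f.ker * Nat.card f.range := by
  rw [← Subgroup.index_ker, Subgroup.card_mul_index]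

/-- an involution `t` acting on an elementary abelian group `F`: `|F| ≤ |C_F(t)|²` -/
theorem card_le_sq [Finite G] {F : Subgroup G} (h2 : ∀ a ∈ F, a * a = 1) {t : G} (tt : t * t = 1)
    (ht : ∀ a ∈ F, t * a * t⁻¹ ∈ F) :
    Nat.card ↥F ≤ Nat.card ↥(F ⊓ centralizer {t} : Subgroup G) ^ 2 := by
  have hc := comm_of_sq h2
  have ti : t⁻¹ = t := inv_eq_of_mul_eq_one_left tt
  let f : ↥F →* G :=
    { toFun := fun a => (a : G) * (t * a * t⁻¹)
      map_one' := by
        show (1 : G) * (t * 1 * t⁻¹) = 1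
        group
      map_mul' := by
        intro a b
        show (a : G) * b * (t * (a * b) * t⁻¹) = a * (t * a * t⁻¹) * (b * (t * b * t⁻¹))
        have h1 := hc _ b.2 _ (ht _ a.2)
        calc (a : G) * b * (t * (a * b) * t⁻¹) = a * (b * (t * a * t⁻¹)) * (t * b * t⁻¹) := by group
          _ = a * (t * a * t⁻¹) * (b * (t * b * t⁻¹)) := by rw [h1]; group }
  have hk : Nat.card f.ker ≤ Nat.card ↥(F ⊓ centralizer {t} : Subgroup G) := by
    rw [← Subgroup.card_map_of_injective (K := f.ker) F.subtype_injective]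
    apply Subgroup.card_le_of_le
    rintro _ ⟨a, ha, rfl⟩
    have ha1 : (a : G) * (t * a * t⁻¹) = 1 := ha
    refine ⟨a.2, ?_⟩
    show (a : G) ∈ centralizer {t}
    rw [mem_centralizer_singleton_iff]
    have h3 : t * a * t⁻¹ = a := by
      rw [← inv_eq_of_mul_eq_one_right ha1]
      exact inv_eq_of_mul_eq_one_left (h2 _ a.2)
    rw [mul_inv_eq_iff_eq_mul] at h3
    exact h3.symm
  have hr : Nat.card f.range ≤ Nat.card ↥(F ⊓ centralizer {t} : Subgroup G) := by
    apply Subgroup.card_le_of_le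
    rintro _ ⟨a, rfl⟩
    refine ⟨mul_mem a.2 (ht _ a.2), ?_⟩
    show (a : G) * (t * a * t⁻¹) ∈ centralizer {t}
    rw [mem_centralizer_singleton_iff]
    have h1 := hc _ a.2 _ (ht _ a.2)
    calc (a : G) * (t * a * t⁻¹) * t = a * t * a := by group
      _ = t * (t⁻¹ * a * t * a) := by group
      _ = t * ((t * a * t⁻¹) * a) := by rw [ti]
      _ = t * (a * (t * a * t⁻¹)) := by rw [h1]
  rw [card_ker_range f, pow_two]
  exact Nat.mul_le_mul hk hr

theorem mod5 {α : Type*} [Finite α] (f : α → α) (h : ∀ a, f (f (f (f (f a)))) = a) :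
    Nat.card α ≡ Nat.card {a // f a = a} [MOD 5] := by
  classical
  have := Fintype.ofFinite α
  have hp : Fact (Nat.Prime 5) := ⟨by norm_num⟩
  let g : Function.End α := f
  have hf : g ^ 5 ^ 1 = 1 := by
    have e : (5 : ℕ) ^ 1 = 5 := by norm_num
    rw [e]
    funext a
    exact h a
  have h1 := Equiv.Perm.card_fixedPoints_modEq hf
  rw [Nat.card_eq_fintype_card, Nat.card_eq_fintype_card]
  convert h1 using 1
  exact Fintype.card_congr (Equiv.refl _)

/-- the double `F ∪ tF` -/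
def dbl (t : G) (tt : t * t = 1) (F : Subgroup G) (h : ∀ a ∈ F, t * a = a * t) : Subgroup G where
  carrier := {y | y ∈ F ∨ t * y ∈ F}
  one_mem' := Or.inl (one_mem F)
  mul_mem' := by
    rintro a b (ha | ha) (hb | hb)
    · exact Or.inl (mul_mem ha hb)
    · right
      have : t * (a * b) = a * (t * b) := by rw [← mul_assoc, h a ha, mul_assoc]
      rw [this]
      exact mul_mem ha hb
    · right
      rw [← mul_assoc]
      exact mul_mem ha hb
    · left
      have e : a = t * (t * a) := by rw [← mul_assoc, tt, one_mul]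
      have : a * b = t * a * (t * b) := by
        calc a * b = (t * (t * a)) * b := by rw [← e]
          _ = t * a * t * b := by rw [h _ ha]
          _ = _ := by group
      rw [this]
      exact mul_mem ha hb
  inv_mem' := by
    rintro a (ha | ha)
    · exact Or.inl (inv_mem ha)
    · right
      have h1 := inv_mem ha
      have ti : t⁻¹ = t := inv_eq_of_mul_eq_one_left tt
      have h2 := h _ h1
      have e : t * a⁻¹ = (t * a)⁻¹ := by
        rw [mul_inv_rev, ti] at h2 ⊢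
        calc t * a⁻¹ = t * (a⁻¹ * t) * t := by
              rw [mul_assoc, mul_assoc, tt, mul_one]
          _ = a⁻¹ * t * t * t := by rw [h2]
          _ = a⁻¹ * t := by rw [mul_assoc (a⁻¹ * t) t t, tt, mul_one]
      rw [e]
      exact h1

variable {t : G} {tt : t * t = 1} {F : Subgroup G} {h : ∀ a ∈ F, t * a = a * t}

theorem mem_dbl {y : G} : y ∈ dbl t tt F h ↔ y ∈ F ∨ t * y ∈ F := Iff.rfl

theorem le_dbl : F ≤ dbl t tt F h := fun _ ha => Or.inl ha

theorem t_mem_dbl : t ∈ dbl t tt F h := Or.inr (by rw [tt]; exact one_mem F)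

theorem card_dbl [Finite G] (ht : t ∉ F) : Nat.card ↥(dbl t tt F h) = 2 * Nat.card ↥F := by
  have e : ((dbl t tt F h : Subgroup G) : Set G) = (F : Set G) ∪ (fun a => t * a) '' (F : Set G) := by
    ext y
    constructor
    · rintro (hy | hy)
      · exact Or.inl hy
      · exact Or.inr ⟨t * y, hy, by show t * (t * y) = y; rw [← mul_assoc, tt, one_mul]⟩
    · rintro (hy | ⟨a, ha, rfl⟩)
      · exact Or.inl hy
      · right
        show t * (t * a) ∈ F
        rw [← mul_assoc, tt, one_mul]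
        exact ha
  have hd : Disjoint (F : Set G) ((fun a => t * a) '' (F : Set G)) := by
    rw [Set.disjoint_left]
    rintro _ ha ⟨b, hb, rfl⟩
    apply ht
    have : t = t * b * b⁻¹ := by group
    rw [this]
    exact mul_mem ha (inv_mem hb)
  have h1 : Nat.card ↥(dbl t tt F h) = ((dbl t tt F h : Subgroup G) : Set G).ncard := rfl
  have h2 : Nat.card ↥F = (F : Set G).ncard := rfl
  rw [h1, h2, e, Set.ncard_union_eq hd, Set.ncard_image_of_injective _ (mul_right_injective t)]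
  ring

theorem dbl_sq (h2 : ∀ a ∈ F, a * a = 1) : ∀ a ∈ dbl t tt F h, a * a = 1 := by
  rintro a (ha | ha)
  · exact h2 a ha
  · have h3 := h2 _ ha
    have h4 := h _ ha
    calc a * a = t * (t * a) * a := by rw [← mul_assoc, tt, one_mul]
      _ = t * a * t * a := by rw [h4]
      _ = t * a * (t * a) := by group
      _ = 1 := h3

end Gen

/-- `E5 = ⟨t⟩ × R` -/
def E5 {Y : Type*} [Group Y] (t : Y) (R : Subgroup Y) : Subgroup Y := Subgroup.zpowers t ⊔ R

section Main

variable {Y Θ : Type*} [Group Y] [CommGroup Θ] {ρ : Y →* MulAut Θ} {t x s r0 : Y} {R Pb : Subgroup Y} {z n : Θ}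
  (H : YH ρ t x s r0 R Pb z n)

include H

theorem t_inv : t⁻¹ = t := inv_eq_of_mul_eq_one_left H.tt

theorem t_t (y : Y) : t * (t * y) = y := by rw [← mul_assoc, H.tt, one_mul]

theorem tR : ∀ a ∈ R, t * a = a * t := fun a ha => H.comm a (H.RP ha)

theorem tx : t * x = x * t := H.comm x H.xP

theorem ts : t * s = s * t := H.comm s H.sP

theorem t_notR : t ∉ R := fun h => H.tP (H.RP h)

theorem E5_eq : E5 t R = dbl t H.tt R (tR H) := by
  apply le_antisymm
  · exact sup_le (Subgroup.zpowers_le.2 t_mem_dbl) le_dbl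
  · rintro y (hy | hy)
    · exact Subgroup.mem_sup_right hy
    · rw [← t_t H y]
      exact mul_mem (Subgroup.mem_sup_left (Subgroup.mem_zpowers t)) (Subgroup.mem_sup_right hy)

theorem mem_E5 {y : Y} : y ∈ E5 t R ↔ y ∈ R ∨ t * y ∈ R := by
  rw [E5_eq H]
  exact Iff.rfl

theorem t_mem_E5 : t ∈ E5 t R := (mem_E5 H).2 (Or.inr (by rw [H.tt]; exact one_mem R))

theorem R_le_E5 : R ≤ E5 t R := fun _ h => (mem_E5 H).2 (Or.inl h)

theorem tmul_E5 {y : Y} (h : t * y ∈ E5 t R) : y ∈ E5 t R := by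
  rw [← t_t H y]
  exact mul_mem (t_mem_E5 H) h

theorem card_E5 : Nat.card ↥(E5 t R) = 32 := by
  have := H.fin
  rw [E5_eq H, card_dbl (t_notR H), H.cardR]

theorem E5_sq : ∀ a ∈ E5 t R, a * a = 1 := by
  rw [E5_eq H]
  exact dbl_sq H.twoR

theorem E5_comm : ∀ a ∈ E5 t R, ∀ b ∈ E5 t R, a * b = b * a := comm_of_sq (E5_sq H)

theorem s2R : s ^ 2 ∉ R := by
  intro h
  have h1 : Nat.card {r : ↥R // s ^ 2 * (r : Y) = r * s ^ 2} = Nat.card ↥R :=
    Nat.card_congr (Equiv.subtypeUnivEquiv fun r => comm_of_sq H.twoR _ h _ r.2)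
  rw [H.cs2, H.cardR] at h1
  omega

theorem Pb_E5 {y : Y} (hy : y ∈ Pb) (h : y ∈ E5 t R) : y ∈ R := by
  rcases (mem_E5 H).1 h with h | h
  · exact h
  · exfalso
    apply H.tP
    have : t = t * y * y⁻¹ := by group
    rw [this]
    exact mul_mem (H.RP h) (inv_mem hy)

theorem s_mod (k : ℕ) : s ^ k = s ^ (k % 4) := pow_eq_pow_mod k H.s4

theorem x_mod (k : ℕ) : x ^ k = x ^ (k % 5) := pow_eq_pow_mod k H.x5

theorem s_pow {k : ℕ} (h : s ^ k ∈ E5 t R) : k % 4 = 0 := by
  have h1 : s ^ (k % 4) ∈ R := by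
    rw [← s_mod H]
    exact Pb_E5 H (pow_mem H.sP k) h
  have h2 : k % 4 < 4 := Nat.mod_lt _ (by norm_num)
  generalize k % 4 = m at h1 h2
  interval_cases m
  · rfl
  · exact absurd (pow_mem h1 2) (by rw [pow_one]; exact s2R H)
  · exact absurd h1 (s2R H)
  · have h3 := pow_mem h1 2
    rw [← pow_mul, s_mod H] at h3
    exact absurd h3 (s2R H)

theorem s_x : s * x = x ^ 2 * s := by
  rw [← H.xs]
  group

theorem s_xp (m : ℕ) : s * x ^ m = x ^ (2 * m) * s := by
  induction m with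
  | zero => simp
  | succ m ih =>
    calc s * x ^ (m + 1) = s * x ^ m * x := by rw [pow_succ, mul_assoc]
      _ = x ^ (2 * m) * (s * x) := by rw [ih, mul_assoc]
      _ = x ^ (2 * m) * x ^ 2 * s := by rw [s_x H, mul_assoc]
      _ = x ^ (2 * (m + 1)) * s := by rw [← pow_add]; ring_nf

theorem sp_x (k : ℕ) : s ^ k * x = x ^ (2 ^ k) * s ^ k := by
  induction k with
  | zero => simp
  | succ k ih =>
    calc s ^ (k + 1) * x = s * (s ^ k * x) := by rw [pow_succ', mul_assoc]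
      _ = s * x ^ (2 ^ k) * s ^ k := by rw [ih, mul_assoc]
      _ = x ^ (2 * 2 ^ k) * (s * s ^ k) := by rw [s_xp H, mul_assoc]
      _ = x ^ (2 ^ (k + 1)) * s ^ (k + 1) := by rw [← pow_succ', ← pow_succ']

theorem xC {m : ℕ} (h : x ^ m ∈ centralizer (R : Set Y)) : m % 5 = 0 := by
  have hx : x ∉ centralizer (R : Set Y) := by
    intro h1
    exact H.r01 (H.cx r0 H.r0R (mem_centralizer_iff.1 h1 r0 H.r0R).symm)
  rw [x_mod H] at h
  have h2 : m % 5 < 5 := Nat.mod_lt _ (by norm_num)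
  generalize m % 5 = l at h h2
  have key : ∀ q : ℕ, (l * q) % 5 = 1 → l = 0 := by
    intro q hq
    exfalso
    apply hx
    have h3 := pow_mem h q
    rw [← pow_mul, x_mod H, hq, pow_one] at h3
    exact h3
  interval_cases l
  · rfl
  · exact key 1 rfl
  · exact key 3 rfl
  · exact key 2 rfl
  · exact key 4 rfl

omit [Group Y] [CommGroup Θ] H in
theorem pow2mod {k : ℕ} (h : (1 + 4 * 2 ^ k) % 5 = 0) : k % 4 = 0 := by
  have h1 : 2 ^ k % 5 = 2 ^ (k % 4) % 5 := by
    conv_lhs => rw [← Nat.div_add_mod k 4, pow_add, pow_mul, Nat.mul_mod, Nat.pow_mod]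
    norm_num
  have h2 : k % 4 < 4 := Nat.mod_lt _ (by norm_num)
  generalize k % 4 = m at h1 h2
  interval_cases m
  · rfl
  all_goals
    norm_num at h1
    omega

/-- `C_Pb(R) = R` -/
theorem cent_R_Pb {c : Y} (hc : c ∈ Pb) (h : ∀ r ∈ R, c * r = r * c) : c ∈ R := by
  obtain ⟨r, hr, j, k, rfl⟩ := H.gen c hc
  have hnx : ∀ y ∈ centralizer (R : Set Y), x * y * x⁻¹ ∈ centralizer (R : Set Y) := by
    intro y hy
    rw [mem_centralizer_iff]
    intro a ha
    have h1 : x⁻¹ * a * x ∈ R := by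
      have := H.nR _ (inv_mem H.xP) a ha
      rwa [inv_inv] at this
    have h2 := mem_centralizer_iff.1 hy _ h1
    calc a * (x * y * x⁻¹) = x * (x⁻¹ * a * x * y) * x⁻¹ := by group
      _ = x * (y * (x⁻¹ * a * x)) * x⁻¹ := by rw [h2]
      _ = x * y * x⁻¹ * a := by group
  have h1 : x ^ j * s ^ k ∈ centralizer (R : Set Y) := by
    rw [mem_centralizer_iff]
    intro a ha
    have h2 := h a ha
    have h3 := comm_of_sq H.twoR _ hr _ ha
    have h4 : r * (a * (x ^ j * s ^ k)) = r * (x ^ j * s ^ k * a) := by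
      calc r * (a * (x ^ j * s ^ k)) = r * a * (x ^ j * s ^ k) := by group
        _ = a * (r * x ^ j * s ^ k) := by rw [h3]; group
        _ = r * x ^ j * s ^ k * a := h2.symm
        _ = r * (x ^ j * s ^ k * a) := by group
    exact mul_left_cancel h4
  have h2 := mul_mem (hnx _ h1) (inv_mem h1)
  have h3 : x * (x ^ j * s ^ k) * x⁻¹ * (x ^ j * s ^ k)⁻¹ = x ^ (1 + 4 * 2 ^ k) := by
    have e1 : x ^ (4 * 2 ^ k) = (x ^ (2 ^ k))⁻¹ := by
      rw [eq_inv_iff_mul_eq_one, ← pow_add]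
      have : 4 * 2 ^ k + 2 ^ k = 5 * 2 ^ k := by ring
      rw [this, pow_mul, H.x5, one_pow]
    have e2 : x ^ (2 ^ k) = s ^ k * x * (s ^ k)⁻¹ := by rw [sp_x H]; group
    have e3 : (x ^ (2 ^ k))⁻¹ = s ^ k * x⁻¹ * (s ^ k)⁻¹ := by rw [e2]; group
    have e4 : x ^ j * (x ^ (2 ^ k))⁻¹ = (x ^ (2 ^ k))⁻¹ * x ^ j := by
      rw [← e1, ← pow_add, ← pow_add, add_comm]
    calc x * (x ^ j * s ^ k) * x⁻¹ * (x ^ j * s ^ k)⁻¹
        = x * (x ^ j * (s ^ k * x⁻¹ * (s ^ k)⁻¹)) * (x ^ j)⁻¹ := by group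
      _ = x * (x ^ j * (x ^ (2 ^ k))⁻¹) * (x ^ j)⁻¹ := by rw [e3]
      _ = x * (x ^ (2 ^ k))⁻¹ := by rw [e4]; group
      _ = x ^ (1 + 4 * 2 ^ k) := by rw [← e1, pow_add, pow_one]
  rw [h3] at h2
  have h4 := pow2mod (xC H h2)
  have h5 : s ^ k = 1 := by rw [s_mod H, h4, pow_zero]
  rw [h5, mul_one] at h1 ⊢
  have h6 := xC H h1
  rw [x_mod H, h6, pow_zero, mul_one]
  exact hr

/-- `C_Y(E5) = E5` -/
theorem cent_E5 {y : Y} (h : ∀ e ∈ E5 t R, y * e = e * y) : y ∈ E5 t R := by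
  rcases H.cent y (h t (t_mem_E5 H)) with h1 | h1
  · exact R_le_E5 H (cent_R_Pb H h1 fun r hr => h r (R_le_E5 H hr))
  · apply tmul_E5 H
    apply R_le_E5 H
    apply cent_R_Pb H h1
    intro r hr
    rw [mul_assoc, h r (R_le_E5 H hr), ← mul_assoc, tR H r hr, mul_assoc]

theorem Ct_eq : centralizer {t} = dbl t H.tt Pb H.comm := by
  ext y
  rw [mem_centralizer_singleton_iff]
  constructor
  · intro h
    exact H.cent y h
  · rintro (h | h)
    · exact (H.comm y h).symm
    · have h1 := H.comm _ h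
      rw [t_t H] at h1
      calc y * t = t * y * t * t := by rw [← h1]
        _ = t * y := by rw [mul_assoc (t * y), H.tt, mul_one]

theorem card_Ct : Nat.card ↥(centralizer {t} : Subgroup Y) = 640 := by
  have := H.fin
  rw [Ct_eq H, card_dbl H.tP, H.cardP]

theorem Tb_comm : ∀ c ∈ Tb t s R, c * t = t * c := by
  have h : Tb t s R ≤ centralizer {t} := by
    refine sup_le (sup_le ?_ ?_) ?_
    · rw [Subgroup.zpowers_le, mem_centralizer_singleton_iff]
    · intro a ha
      rw [mem_centralizer_singleton_iff]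
      exact (tR H a ha).symm
    · rw [Subgroup.zpowers_le, mem_centralizer_singleton_iff]
      exact (ts H).symm
  intro c hc
  exact mem_centralizer_singleton_iff.1 (h hc)

theorem t_Tb : t ∈ Tb t s R := Subgroup.mem_sup_left (Subgroup.mem_sup_left (Subgroup.mem_zpowers t))

theorem R_Tb : R ≤ Tb t s R := fun _ h => Subgroup.mem_sup_left (Subgroup.mem_sup_right h)

theorem s_Tb : s ∈ Tb t s R := Subgroup.mem_sup_right (Subgroup.mem_zpowers s)

theorem E5_Tb : E5 t R ≤ Tb t s R := sup_le (Subgroup.zpowers_le.2 (t_Tb H)) (R_Tb H)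

/-- `Pb` normalises `E5` -/
theorem Pb_nE {p : Y} (hp : p ∈ Pb) {e : Y} (he : e ∈ E5 t R) : p * e * p⁻¹ ∈ E5 t R := by
  rcases (mem_E5 H).1 he with h | h
  · exact R_le_E5 H (H.nR p hp e h)
  · apply tmul_E5 H
    apply R_le_E5 H
    have h1 := H.nR p hp _ h
    have e1 : t * (p * e * p⁻¹) = p * (t * e) * p⁻¹ := by
      rw [← mul_assoc, ← mul_assoc, H.comm p hp]
      group
    rw [e1]
    exact h1

theorem mem_Tb {y : Y} : y ∈ Tb t s R ↔ ∃ e ∈ E5 t R, ∃ k : ℕ, y = e * s ^ k := by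
  constructor
  · intro hy
    let K : Subgroup Y :=
      { carrier := {y | ∃ e ∈ E5 t R, ∃ k : ℕ, y = e * s ^ k}
        one_mem' := ⟨1, one_mem _, 0, by simp⟩
        mul_mem' := by
          rintro _ _ ⟨e, he, k, rfl⟩ ⟨e', he', k', rfl⟩
          refine ⟨e * (s ^ k * e' * (s ^ k)⁻¹), mul_mem he (Pb_nE H (pow_mem H.sP k) he'), k + k', ?_⟩
          rw [pow_add]
          group
        inv_mem' := by
          rintro _ ⟨e, he, k, rfl⟩
          refine ⟨(s ^ k)⁻¹ * e⁻¹ * ((s ^ k)⁻¹)⁻¹, Pb_nE H (inv_mem (pow_mem H.sP k)) (inv_mem he), 3 * k, ?_⟩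
          have e1 : s ^ (3 * k) = (s ^ k)⁻¹ := by
            rw [eq_inv_iff_mul_eq_one, ← pow_add]
            have : 3 * k + k = 4 * k := by ring
            rw [this, pow_mul, H.s4, one_pow]
          rw [e1]
          group }
    have hle : Tb t s R ≤ K := by
      refine sup_le (sup_le ?_ ?_) ?_
      · exact Subgroup.zpowers_le.2 ⟨t, t_mem_E5 H, 0, by simp⟩
      · intro a ha
        exact ⟨a, R_le_E5 H ha, 0, by simp⟩
      · exact Subgroup.zpowers_le.2 ⟨1, one_mem _, 1, by simp⟩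
    exact hle hy
  · rintro ⟨e, he, k, rfl⟩
    exact mul_mem (E5_Tb H he) (pow_mem (s_Tb H) k)

theorem s_inj {k l : ℕ} (hk : k < 4) (hl : l < 4) (hkl : l ≤ k) (h : s ^ k * (s ^ l)⁻¹ ∈ E5 t R) : k = l := by
  have e : s ^ k * (s ^ l)⁻¹ = s ^ (k - l) := (pow_sub s hkl).symm
  rw [e] at h
  have := s_pow H h
  omega

theorem card_Tb : Nat.card ↥(Tb t s R) = 2 ^ 7 := by
  have := H.fin
  let f : ↥(E5 t R) × Fin 4 → ↥(Tb t s R) := fun p => ⟨(p.1 : Y) * s ^ (p.2 : ℕ),
    (mem_Tb H).2 ⟨p.1, p.1.2, p.2, rfl⟩⟩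
  have hf : Function.Bijective f := by
    constructor
    · rintro ⟨e, k⟩ ⟨e', k'⟩ h
      have h1 : (e : Y) * s ^ (k : ℕ) = e' * s ^ (k' : ℕ) := congrArg Subtype.val h
      have h2 : s ^ (k : ℕ) * (s ^ (k' : ℕ))⁻¹ ∈ E5 t R := by
        have : s ^ (k : ℕ) * (s ^ (k' : ℕ))⁻¹ = (e : Y)⁻¹ * e' := by
          rw [mul_inv_eq_iff_eq_mul, mul_assoc, ← h1]
          group
        rw [this]
        exact mul_mem (inv_mem e.2) e'.2
      have h3 : s ^ (k' : ℕ) * (s ^ (k : ℕ))⁻¹ ∈ E5 t R := by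
        have := inv_mem h2
        rwa [mul_inv_rev, inv_inv] at this
      have h4 : (k : ℕ) = k' := by
        rcases le_total (k' : ℕ) (k : ℕ) with h5 | h5
        · exact s_inj H k.2 k'.2 h5 h2
        · exact (s_inj H k'.2 k.2 h5 h3).symm
      have h5 : k = k' := Fin.ext h4
      subst h5
      have h6 : e = e' := Subtype.ext (mul_right_cancel h1)
      rw [h6]
    · rintro ⟨y, hy⟩
      obtain ⟨e, he, k, rfl⟩ := (mem_Tb H).1 hy
      refine ⟨(⟨e, he⟩, ⟨k % 4, Nat.mod_lt _ (by norm_num)⟩), Subtype.ext ?_⟩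
      show e * s ^ (k % 4) = e * s ^ k
      rw [← s_mod H]
  rw [← Nat.card_congr (Equiv.ofBijective f hf), Nat.card_prod, card_E5 H, Nat.card_eq_fintype_card (α := Fin 4),
    Fintype.card_fin]
  norm_num

theorem Tb_p : IsPGroup 2 ↥(Tb t s R) := IsPGroup.of_card (card_Tb H)

/-- `Tb` is a Sylow 2-subgroup of `C_Y(t)` -/
theorem Tb_max {P : Subgroup Y} (hP : IsPGroup 2 ↥P) (hle : Tb t s R ≤ P) (hc : ∀ p ∈ P, p * t = t * p) :
    P = Tb t s R := by
  have := H.fin
  symm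
  apply Subgroup.eq_of_le_of_card_ge hle
  rw [card_Tb H]
  have hPC : P ≤ centralizer {t} := fun p hp => mem_centralizer_singleton_iff.2 (hc p hp)
  have h1 := Subgroup.card_dvd_of_le hPC
  obtain ⟨k, hk⟩ := (IsPGroup.iff_card).1 hP
  rw [card_Ct H, hk] at h1
  rw [hk]
  by_contra h2
  have h3 : 8 ≤ k := by
    by_contra h4
    exact h2 (Nat.pow_le_pow_right (by norm_num) (by omega))
  have h5 : 2 ^ 8 ∣ 640 := (pow_dvd_pow 2 h3).trans h1
  norm_num at h5

/-- a 2-subgroup of `C_Y(t)` normalised by `Tb` lies in `Tb` -/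
theorem le_Tb {F : Subgroup Y} (hF : IsPGroup 2 ↥F) (hc : ∀ f ∈ F, f * t = t * f)
    (hn : ∀ c ∈ Tb t s R, ∀ f ∈ F, c * f * c⁻¹ ∈ F) : F ≤ Tb t s R := by
  have h1 : Tb t s R ≤ normalizer (F : Set Y) := by
    intro c hc'
    rw [Subgroup.mem_normalizer_iff]
    intro f
    refine ⟨hn c hc' f, fun h => ?_⟩
    have := hn _ (inv_mem hc') _ h
    have e : c⁻¹ * (c * f * c⁻¹) * c⁻¹⁻¹ = f := by group
    rwa [e] at this
  have h2 : IsPGroup 2 ↥(Tb t s R ⊔ F) := (Tb_p H).to_sup_of_normal_right' hF h1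
  have h3 : Tb t s R ⊔ F ≤ centralizer {t} :=
    sup_le (fun c hc' => mem_centralizer_singleton_iff.2 (Tb_comm H c hc'))
      fun f hf => mem_centralizer_singleton_iff.2 (hc f hf)
  have h4 := Tb_max H h2 le_sup_left fun p hp => mem_centralizer_singleton_iff.1 (h3 hp)
  rw [← h4]
  exact le_sup_right

/-- the elements of `E5` that commute with `s²` -/
theorem card_C8 {C : Subgroup Y} (hC : C ≤ E5 t R) (hs : ∀ c ∈ C, s ^ 2 * c = c * s ^ 2) : Nat.card ↥C ≤ 8 := by
  have := H.fin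
  let D : Set Y := {r | r ∈ R ∧ s ^ 2 * r = r * s ^ 2}
  have hD : D.ncard = 4 := by
    rw [← H.cs2]
    have e : D = Subtype.val '' {r : ↥R | s ^ 2 * (r : Y) = r * s ^ 2} := by
      ext y
      constructor
      · rintro ⟨h1, h2⟩
        exact ⟨⟨y, h1⟩, h2, rfl⟩
      · rintro ⟨r, h1, rfl⟩
        exact ⟨r.2, h1⟩
    rw [e, Set.ncard_image_of_injective _ Subtype.val_injective]
    rfl
  have hsub : (C : Set Y) ⊆ D ∪ (fun a => t * a) '' D := by
    intro c hc
    rcases (mem_E5 H).1 (hC hc) with h | h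
    · exact Or.inl ⟨h, hs c hc⟩
    · right
      refine ⟨t * c, ⟨h, ?_⟩, t_t H c⟩
      have h1 : t * s ^ 2 = s ^ 2 * t := H.comm _ (pow_mem H.sP 2)
      rw [← mul_assoc, ← h1, mul_assoc, hs c hc, mul_assoc]
  have h1 : Nat.card ↥C = (C : Set Y).ncard := rfl
  rw [h1]
  have h2 := Set.ncard_le_ncard hsub (Set.toFinite _)
  have h3 := Set.ncard_union_le D ((fun a => t * a) '' D)
  rw [Set.ncard_image_of_injective _ (mul_right_injective t), hD] at h3
  omega

/-- `E5` is the only elementary abelian subgroup of `Tb` of order at least 32 -/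
theorem E_eq {E : Subgroup Y} (hE : E ≤ Tb t s R) (h2 : ∀ e ∈ E, e * e = 1) (h32 : 32 ≤ Nat.card ↥E) :
    E = E5 t R := by
  have := H.fin
  have hc := comm_of_sq h2
  have hle : E ≤ E5 t R := by
    by_contra hne
    rw [SetLike.not_le_iff_exists] at hne
    obtain ⟨e1, he1, hne1⟩ := hne
    have key : ∀ y ∈ E, y ∉ E5 t R → ∃ e ∈ E5 t R, y = e * s ^ 2 := by
      intro y hy hyn
      obtain ⟨e, he, k, rfl⟩ := (mem_Tb H).1 (hE hy)
      refine ⟨e, he, ?_⟩
      have h3 : s ^ (2 * k) ∈ E5 t R := by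
        have h4 := h2 _ hy
        have h5 : s ^ (2 * k) = (s ^ k * e * (s ^ k)⁻¹)⁻¹ * e⁻¹ * (e * s ^ k * (e * s ^ k)) := by
          rw [two_mul, pow_add]
          group
        rw [h5, h4, mul_one]
        exact mul_mem (inv_mem (Pb_nE H (pow_mem H.sP k) he)) (inv_mem he)
      have h4 := s_pow H h3
      have h5 : k % 4 ≠ 0 := by
        intro h6
        apply hyn
        rw [s_mod H, h6, pow_zero, mul_one]
        exact he
      rw [s_mod H]
      have h6 : k % 4 = 2 := by omega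
      rw [h6]
    obtain ⟨e, he, he1'⟩ := key e1 he1 hne1
    have hC : ∀ c ∈ E ⊓ E5 t R, s ^ 2 * c = c * s ^ 2 := by
      rintro c ⟨hc1, hc2⟩
      have h3 := hc c hc1 e1 he1
      have h4 := E5_comm H c hc2 e he
      rw [he1'] at h3
      have h5 : e * (c * s ^ 2) = e * (s ^ 2 * c) := by
        calc e * (c * s ^ 2) = c * (e * s ^ 2) := by rw [← mul_assoc, ← h4, mul_assoc]
          _ = e * (s ^ 2 * c) := by rw [h3, mul_assoc]
      exact (mul_left_cancel h5).symm
    have h8 := card_C8 H inf_le_right hC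
    have hsub : (E : Set Y) ⊆ ((E ⊓ E5 t R : Subgroup Y) : Set Y) ∪
        (fun a => a * e1) '' ((E ⊓ E5 t R : Subgroup Y) : Set Y) := by
      intro y hy
      by_cases h3 : y ∈ E5 t R
      · exact Or.inl ⟨hy, h3⟩
      · right
        obtain ⟨e', he', rfl⟩ := key y hy h3
        have hm : e' * s ^ 2 * e1⁻¹ ∈ E5 t R := by
          rw [he1']
          have : e' * s ^ 2 * (e * s ^ 2)⁻¹ = e' * e⁻¹ := by group
          rw [this]
          exact mul_mem he' (inv_mem he)
        exact ⟨e' * s ^ 2 * e1⁻¹, ⟨E.mul_mem hy (E.inv_mem he1), hm⟩, by group⟩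
    have h3 := Set.ncard_le_ncard hsub (Set.toFinite _)
    have h4 := Set.ncard_union_le ((E ⊓ E5 t R : Subgroup Y) : Set Y)
      ((fun a => a * e1) '' ((E ⊓ E5 t R : Subgroup Y) : Set Y))
    rw [Set.ncard_image_of_injective _ (mul_left_injective e1)] at h4
    have h5 : ((E ⊓ E5 t R : Subgroup Y) : Set Y).ncard ≤ 8 := h8
    have h6 : Nat.card ↥E = (E : Set Y).ncard := rfl
    omega
  apply Subgroup.eq_of_le_of_card_ge hle
  rw [card_E5 H]
  exact h32

/-! ### `x`-invariant subgroups -/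

theorem xconj5 (a : Y) : x * (x * (x * (x * (x * a * x⁻¹) * x⁻¹) * x⁻¹) * x⁻¹) * x⁻¹ = a := by
  have h := H.x5
  have h' : x * x * x * x * x = 1 := by
    rw [← h]
    simp only [pow_succ, pow_zero, one_mul]
  calc x * (x * (x * (x * (x * a * x⁻¹) * x⁻¹) * x⁻¹) * x⁻¹) * x⁻¹
      = (x * x * x * x * x) * a * (x * x * x * x * x)⁻¹ := by
        simp only [mul_inv_rev, mul_assoc]
    _ = a := by rw [h']; group

theorem xinv_R {W : Subgroup Y} (hW : W ≤ R) (hx : ∀ w ∈ W, x * w * x⁻¹ ∈ W) (h1 : ∃ w ∈ W, w ≠ 1) : W = R := by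
  have := H.fin
  obtain ⟨w, hw, hw1⟩ := h1
  have h2 := mod5 (fun a : ↥W => (⟨x * a * x⁻¹, hx a a.2⟩ : ↥W)) fun a => Subtype.ext (xconj5 H a)
  have h3 : Nat.card {a : ↥W // (⟨x * a * x⁻¹, hx a a.2⟩ : ↥W) = a} = 1 := by
    rw [Nat.card_eq_one_iff_unique]
    constructor
    · constructor
      have key : ∀ a : {a : ↥W // (⟨x * a * x⁻¹, hx a a.2⟩ : ↥W) = a}, a.1 = 1 := by
        rintro ⟨a, ha⟩
        have h4 : x * a * x⁻¹ = a := congrArg Subtype.val ha
        apply Subtype.ext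
        exact H.cx _ (hW a.2) (mul_inv_eq_iff_eq_mul.1 h4)
      intro a b
      apply Subtype.ext
      rw [key a, key b]
    · exact ⟨⟨1, Subtype.ext (by show x * 1 * x⁻¹ = 1; group)⟩⟩
  rw [h3] at h2
  have h4 : Nat.card ↥W ∣ 2 ^ 4 := by
    have := Subgroup.card_dvd_of_le hW
    rwa [H.cardR] at this
  obtain ⟨k, hk, hk'⟩ := (Nat.dvd_prime_pow Nat.prime_two).1 h4
  apply Subgroup.eq_of_le_of_card_ge hW
  rw [H.cardR, hk']
  have h5 : Nat.card ↥W ≠ 1 := by
    intro h5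
    rw [Subgroup.card_eq_one] at h5
    rw [h5] at hw
    exact hw1 (Subgroup.mem_bot.1 hw)
  rw [hk'] at h2 h5
  interval_cases k
  · exact absurd rfl h5
  · exact absurd h2 (by decide)
  · exact absurd h2 (by decide)
  · exact absurd h2 (by decide)
  · norm_num

/-! ### `Θ` -/

theorem two' (a : Θ) : a⁻¹ = a := inv_eq_of_mul_eq_one_left (H.two a)

theorem xρ5 (a : Θ) : ρ x (ρ x (ρ x (ρ x (ρ x a)))) = a := by
  have h := H.x5
  have e : ∀ (g h : Y) (a : Θ), ρ g (ρ h a) = ρ (g * h) a := by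
    intro g h a
    rw [map_mul]
    rfl
  rw [e, e, e, e]
  have : x * x * x * x * x = 1 := by
    rw [← h]
    simp only [pow_succ, pow_zero, one_mul]
  rw [this, map_one]
  rfl

end Main

/-- the fixed points of `τ` -/
def Fx {Y Θ : Type*} [Group Y] [CommGroup Θ] (ρ : Y →* MulAut Θ) (τ : Y) : Subgroup Θ where
  carrier := {a | ρ τ a = a}
  one_mem' := map_one _
  mul_mem' := by
    intro a b ha hb
    show ρ τ (a * b) = a * b
    rw [map_mul, ha, hb]
  inv_mem' := by
    intro a ha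
    show ρ τ a⁻¹ = a⁻¹
    rw [map_inv, ha]

theorem mem_Fx {Y Θ : Type*} [Group Y] [CommGroup Θ] {ρ : Y →* MulAut Θ} {τ : Y} {a : Θ} :
    a ∈ Fx ρ τ ↔ ρ τ a = a := Iff.rfl

theorem ρ_ρ {Y Θ : Type*} [Group Y] [CommGroup Θ] (ρ : Y →* MulAut Θ) (g h : Y) (a : Θ) :
    ρ g (ρ h a) = ρ (g * h) a := by
  rw [map_mul]
  rfl

section Main2

variable {Y Θ : Type*} [Group Y] [CommGroup Θ] {ρ : Y →* MulAut Θ} {t x s r0 : Y} {R Pb : Subgroup Y} {z n : Θ}
  (H : YH ρ t x s r0 R Pb z n)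

include H

theorem card_A : Nat.card ↥(Fx ρ t) = 32 := H.cardA

/-- an `x`-invariant subgroup of `A` that contains `z` and something else is `A` -/
theorem xinv_A {W : Subgroup Θ} (hW : W ≤ Fx ρ t) (hz : z ∈ W) (hx : ∀ w ∈ W, ρ x w ∈ W)
    (h1 : ∃ w ∈ W, w ≠ 1 ∧ w ≠ z) : W = Fx ρ t := by
  have := H.finΘ
  obtain ⟨w, hw, hw1, hwz⟩ := h1
  have h2 := mod5 (fun a : ↥W => (⟨ρ x a, hx a a.2⟩ : ↥W)) fun a => Subtype.ext (xρ5 H a)
  have h3 : Nat.card {a : ↥W // (⟨ρ x a, hx a a.2⟩ : ↥W) = a} = 2 := by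
    have e : {a : ↥W // (⟨ρ x a, hx a a.2⟩ : ↥W) = a} ≃ ({(1 : Θ), z} : Set Θ) :=
      { toFun := fun a => ⟨a.1, by
          rcases H.cA _ (hW a.1.2) (congrArg Subtype.val a.2) with h | h
          · exact Or.inl h
          · exact Or.inr h⟩
        invFun := fun a => ⟨⟨a.1, by
          rcases a.2 with h | h
          · rw [h]; exact one_mem W
          · rw [h]; exact hz⟩, Subtype.ext (by
            show ρ x a.1 = a.1
            rcases a.2 with h | h
            · rw [h]; exact map_one _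
            · rw [h]; exact H.zx)⟩
        left_inv := fun a => rfl
        right_inv := fun a => rfl }
    rw [Nat.card_congr e]
    show Set.ncard ({(1 : Θ), z} : Set Θ) = 2
    exact Set.ncard_pair H.z1.symm
  rw [h3] at h2
  have h4 : Nat.card ↥W ∣ 2 ^ 5 := by
    have := Subgroup.card_dvd_of_le hW
    rwa [card_A H] at this
  obtain ⟨k, hk, hk'⟩ := (Nat.dvd_prime_pow Nat.prime_two).1 h4
  apply Subgroup.eq_of_le_of_card_ge hW
  rw [card_A H, hk']
  have h5 : 3 ≤ Nat.card ↥W := by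
    have h6 : ({1, z, w} : Set Θ) ⊆ (W : Set Θ) := by
      rintro a (h | h | h)
      · rw [h]; exact one_mem W
      · rw [h]; exact hz
      · rw [h]; exact hw
    have h7 := Set.ncard_le_ncard h6 (Set.toFinite _)
    rw [Set.ncard_eq_three.2 ⟨1, z, w, H.z1.symm, hw1.symm, hwz.symm, rfl⟩] at h7
    exact h7
  rw [hk'] at h2 h5
  interval_cases k
  · norm_num at h5
  · norm_num at h5
  · exact absurd h2 (by decide)
  · exact absurd h2 (by decide)
  · exact absurd h2 (by decide)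
  · norm_num

end Main2

end Cfsg.Agent.OddHalf.D7Tits.YBase
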