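import Cfsg.Agent.OddHalf.D7Tits.YBase

/-!
# `K = ²F₄(2)'`: the order of `N_Y(E5)` (helper625; text: ODD #15617, 4.1 and 4.2)

`card_N5` : `|N_Y(E5)|` is `3840` or `10240`, i.e. `t` has 6 or 16 conjugates under `N_Y(E5)`.
-/

set_option autoImplicit false
set_option linter.unusedSectionVars false

namespace Cfsg.Agent.OddHalf.D7Tits.YOne

open Subgroup YBase

variable {Y Θ : Type*} [Group Y] [CommGroup Θ] {ρ : Y →* MulAut Θ} {t x s r0 : Y} {R Pb : Subgroup Y} {z n : Θ}
  (H : YH ρ t x s r0 R Pb z n)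

include H

/-! ### The sign on `⟨t⟩ × Pb` -/

theorem nP {a : Y} (h : t * a ∈ Pb) : a ∉ Pb := fun ha => H.tP (by
  have := mul_mem h (inv_mem ha)
  rwa [mul_inv_cancel_right] at this)

theorem mulP {a b : Y} (ha : a ∈ Pb ∨ t * a ∈ Pb) (hb : b ∈ Pb ∨ t * b ∈ Pb) :
    a * b ∈ Pb ↔ (a ∈ Pb ↔ b ∈ Pb) := by
  rcases ha with ha | ha <;> rcases hb with hb | hb
  · exact ⟨fun _ => ⟨fun _ => hb, fun _ => ha⟩, fun _ => mul_mem ha hb⟩
  · have hb' := nP H hb
    constructor
    · intro h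
      exact absurd (by have := mul_mem (inv_mem ha) h; rwa [inv_mul_cancel_left] at this) hb'
    · intro h
      exact absurd (h.1 ha) hb'
  · have ha' := nP H ha
    constructor
    · intro h
      exact absurd (by have := mul_mem h (inv_mem hb); rwa [mul_inv_cancel_right] at this) ha'
    · intro h
      exact absurd (h.2 hb) ha'
  · have ha' := nP H ha
    have hb' := nP H hb
    have h1 : a * b = t * a * (t * b) := by
      have h2 := H.comm _ ha
      rw [t_t H] at h2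
      calc a * b = t * a * t * b := by rw [← h2]
        _ = _ := mul_assoc _ _ _
    constructor
    · intro _
      exact ⟨fun h => absurd h ha', fun h => absurd h hb'⟩
    · intro _
      rw [h1]
      exact mul_mem ha hb

theorem Tb_P {y : Y} (hy : y ∈ Tb t s R) : y ∈ Pb ∨ t * y ∈ Pb := by
  obtain ⟨e, he, k, rfl⟩ := (mem_Tb H).1 hy
  rcases (mem_E5 H).1 he with h | h
  · exact Or.inl (mul_mem (H.RP h) (pow_mem H.sP k))
  · right
    rw [← mul_assoc]
    exact mul_mem (H.RP h) (pow_mem H.sP k)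

/-- commutators of elements of `Tb` are in `Pb` -/
theorem comm_P {c d : Y} (hc : c ∈ Tb t s R) (hd : d ∈ Tb t s R) : c * d * c⁻¹ * d⁻¹ ∈ Pb := by
  have h1 := Tb_P H hc
  have h2 := Tb_P H hd
  have h3 := Tb_P H (inv_mem hc)
  have h4 := Tb_P H (inv_mem hd)
  rw [mulP H (Tb_P H (mul_mem (mul_mem hc hd) (inv_mem hc))) h4, mulP H (Tb_P H (mul_mem hc hd)) h3, mulP H h1 h2,
    inv_mem_iff, inv_mem_iff]
  tauto

/-! ### `N_{C(t)}(Tb) = Tb` -/

theorem pow_x_Tb {j : ℕ} (h : x ^ j ∈ Tb t s R) : x ^ j = 1 := by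
  obtain ⟨k, hk⟩ := Tb_p H ⟨x ^ j, h⟩
  have h1 : (x ^ j) ^ 2 ^ k = 1 := congrArg Subtype.val hk
  have h2 : (x ^ j) ^ 5 = 1 := by rw [← pow_mul, mul_comm, pow_mul, H.x5, one_pow]
  have h3 : orderOf (x ^ j) ∣ 2 ^ k := orderOf_dvd_of_pow_eq_one h1
  have h4 : orderOf (x ^ j) ∣ 5 := orderOf_dvd_of_pow_eq_one h2
  have h5 : Nat.Coprime (2 ^ k) 5 := Nat.Coprime.pow_left _ (by norm_num)
  have h6 : orderOf (x ^ j) ∣ 1 := by
    rw [← h5]
    exact Nat.dvd_gcd h3 h4
  rw [Nat.dvd_one] at h6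
  exact orderOf_eq_one_iff.1 h6

theorem nor_Ct {y : Y} (hy : y * t = t * y) (hn : ∀ a ∈ Tb t s R, y * a * y⁻¹ ∈ Tb t s R) : y ∈ Tb t s R := by
  have key : ∀ y ∈ Pb, (∀ a ∈ Tb t s R, y * a * y⁻¹ ∈ Tb t s R) → y ∈ Tb t s R := by
    intro y hy hn
    obtain ⟨r, hr, j, k, rfl⟩ := H.gen y hy
    have h1 := hn s (s_Tb H)
    have hr' := R_Tb H hr
    have h2 : x ^ j * s * (x ^ j)⁻¹ ∈ Tb t s R := by
      have h3 := mul_mem (mul_mem (inv_mem hr') h1) hr'
      have e : r⁻¹ * (r * x ^ j * s ^ k * s * (r * x ^ j * s ^ k)⁻¹) * r = x ^ j * s * (x ^ j)⁻¹ := by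
        have e1 : s ^ k * s = s * s ^ k := by rw [← pow_succ, ← pow_succ']
        calc r⁻¹ * (r * x ^ j * s ^ k * s * (r * x ^ j * s ^ k)⁻¹) * r
            = x ^ j * (s ^ k * s) * (s ^ k)⁻¹ * (x ^ j)⁻¹ := by group
          _ = x ^ j * s * (x ^ j)⁻¹ := by rw [e1]; group
      rwa [e] at h3
    have h3 : x ^ j * s * (x ^ j)⁻¹ = (x ^ j)⁻¹ * s := by
      have h4 := s_xp H j
      have h5 : s * (x ^ j)⁻¹ = (x ^ (2 * j))⁻¹ * s := by
        rw [mul_inv_eq_iff_eq_mul, mul_assoc, h4, inv_mul_cancel_left]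
      rw [mul_assoc, h5, two_mul, pow_add]
      group
    rw [h3] at h2
    have h4 : (x ^ j)⁻¹ ∈ Tb t s R := by
      have := mul_mem h2 (inv_mem (s_Tb H))
      rwa [mul_inv_cancel_right] at this
    have h5 := pow_x_Tb H (inv_mem_iff.1 h4)
    rw [h5, mul_one]
    exact mul_mem hr' (pow_mem (s_Tb H) k)
  rcases H.cent y hy with h | h
  · exact key y h hn
  · have h1 : t * y ∈ Tb t s R := by
      refine key _ h fun a ha => ?_
      have h2 := hn a ha
      have e : t * y * a * (t * y)⁻¹ = t * (y * a * y⁻¹) * t⁻¹ := by group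
      rw [e]
      exact mul_mem (mul_mem (t_Tb H) h2) (inv_mem (t_Tb H))
    rw [← t_t H y]
    exact mul_mem (t_Tb H) h1

/-! ### `Z(Tb)` -/

theorem center_Tb {c : Y} (hc : c ∈ Tb t s R) (h : ∀ a ∈ Tb t s R, c * a = a * c) :
    c = 1 ∨ c = r0 ∨ c = t ∨ c = t * r0 := by
  have h1 : c ∈ E5 t R := cent_E5 H fun e he => h e (E5_Tb H he)
  have h2 := h s (s_Tb H)
  rcases (mem_E5 H).1 h1 with h3 | h3
  · rcases H.cs c h3 h2.symm with h4 | h4
    · exact Or.inl h4
    · exact Or.inr (Or.inl h4)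
  · have h4 : s * (t * c) = t * c * s := by
      rw [← mul_assoc, ← ts H, mul_assoc, ← h2, mul_assoc]
    rcases H.cs _ h3 h4 with h5 | h5
    · right; right; left
      have := congrArg (fun w => t * w) h5
      simpa [t_t H] using this
    · right; right; right
      have := congrArg (fun w => t * w) h5
      simpa [t_t H] using this

theorem r0_sq : r0 * r0 = 1 := H.twoR r0 H.r0R

/-- `r0` is a commutator -/
theorem r0_comm : ∃ r ∈ R, r * s * r⁻¹ * s⁻¹ = r0 := by
  have := H.fin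
  have hcomm := comm_of_sq H.twoR
  have hsR : ∀ r ∈ R, s * r * s⁻¹ ∈ R := H.nR s H.sP
  -- the map `r ↦ r s r⁻¹ s⁻¹`
  let φ : ↥R →* ↥R :=
    { toFun := fun r => ⟨r * (s * (r : Y) * s⁻¹)⁻¹, mul_mem r.2 (inv_mem (hsR r r.2))⟩
      map_one' := by
        apply Subtype.ext
        show (1 : Y) * (s * 1 * s⁻¹)⁻¹ = 1
        group
      map_mul' := by
        intro a b
        apply Subtype.ext
        show (a : Y) * b * (s * (a * b) * s⁻¹)⁻¹ = a * (s * a * s⁻¹)⁻¹ * (b * (s * b * s⁻¹)⁻¹)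
        have h1 := hcomm _ (inv_mem (hsR a a.2)) _ (mul_mem b.2 (inv_mem (hsR b b.2)))
        have h2 := hcomm _ (inv_mem (hsR b b.2)) _ (inv_mem (hsR a a.2))
        calc (a : Y) * b * (s * (a * b) * s⁻¹)⁻¹ = a * b * ((s * b * s⁻¹)⁻¹ * (s * a * s⁻¹)⁻¹) := by group
          _ = a * (b * (s * b * s⁻¹)⁻¹ * (s * a * s⁻¹)⁻¹) := by group
          _ = a * ((s * a * s⁻¹)⁻¹ * (b * (s * b * s⁻¹)⁻¹)) := by rw [h1]
          _ = _ := by group }
  have hφ : ∀ r : ↥R, ((φ r : ↥R) : Y) = r * (s * (r : Y) * s⁻¹)⁻¹ := fun _ => rfl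
  have hker : Nat.card φ.ker ≤ 2 := by
    have h1 : (Subtype.val '' (φ.ker : Set ↥R)) ⊆ ({1, r0} : Set Y) := by
      rintro _ ⟨r, hr, rfl⟩
      have h2 : (r : Y) * (s * (r : Y) * s⁻¹)⁻¹ = 1 := congrArg Subtype.val hr
      rw [mul_inv_eq_one, eq_mul_inv_iff_mul_eq] at h2
      rcases H.cs r r.2 h2.symm with h3 | h3
      · exact Or.inl h3
      · exact Or.inr h3
    have h2 := Set.ncard_le_ncard h1 (Set.toFinite _)
    rw [Set.ncard_image_of_injective _ Subtype.val_injective] at h2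
    exact h2.trans (Set.ncard_insert_le _ _ |>.trans (by rw [Set.ncard_singleton]))
  have hcard := card_ker_range φ
  rw [H.cardR] at hcard
  have hrange : 8 ≤ Nat.card φ.range := by
    by_contra h
    rw [not_le] at h
    have : Nat.card φ.ker * Nat.card φ.range ≤ 2 * 7 := Nat.mul_le_mul hker (by omega)
    omega
  have hdvd : Nat.card φ.range ∣ 16 := by rw [hcard]; exact dvd_mul_left _ _
  have h2dvd : 2 ∣ Nat.card φ.range := by
    have h1 : Nat.card φ.range = 8 ∨ Nat.card φ.range = 16 := by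
      have h2 : Nat.card φ.range ≤ 16 := Nat.le_of_dvd (by norm_num) hdvd
      generalize Nat.card φ.range = m at *
      interval_cases m <;> revert hdvd <;> decide
    rcases h1 with h1 | h1 <;> rw [h1] <;> norm_num
  -- `s` acts on the range
  have hsr : ∀ b : ↥R, b ∈ φ.range → (⟨s * (b : Y) * s⁻¹, hsR b b.2⟩ : ↥R) ∈ φ.range := by
    rintro _ ⟨a, rfl⟩
    refine ⟨⟨s * (a : Y) * s⁻¹, hsR a a.2⟩, Subtype.ext ?_⟩
    show s * (a : Y) * s⁻¹ * (s * (s * a * s⁻¹) * s⁻¹)⁻¹ = s * (a * (s * a * s⁻¹)⁻¹) * s⁻¹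
    group
  have hp : Fact (Nat.Prime 2) := ⟨Nat.prime_two⟩
  let f : Function.End ↥φ.range := fun b => ⟨⟨s * ((b : ↥R) : Y) * s⁻¹, hsR _ (b : ↥R).2⟩, hsr _ b.2⟩
  have hf : f ^ 2 ^ 2 = 1 := by
    have e : (2 : ℕ) ^ 2 = 4 := by norm_num
    rw [e]
    funext b
    apply Subtype.ext
    apply Subtype.ext
    show s * (s * (s * (s * ((b : ↥R) : Y) * s⁻¹) * s⁻¹) * s⁻¹) * s⁻¹ = ((b : ↥R) : Y)
    have h4 : s * s * s * s = 1 := by
      have := H.s4
      simpa [pow_succ] using this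
    calc s * (s * (s * (s * ((b : ↥R) : Y) * s⁻¹) * s⁻¹) * s⁻¹) * s⁻¹
        = (s * s * s * s) * ((b : ↥R) : Y) * (s * s * s * s)⁻¹ := by group
      _ = _ := by rw [h4]; group
  classical
  have := Fintype.ofFinite ↥φ.range
  have h5 := Equiv.Perm.card_fixedPoints_modEq hf
  have h6 : 2 ∣ Fintype.card (Function.fixedPoints f) := by
    rw [← Nat.card_eq_fintype_card] at h5
    have h7 := (Nat.modEq_zero_iff_dvd.2 h2dvd)
    exact (Nat.modEq_zero_iff_dvd).1 (h5.symm.trans h7)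
  have h7 : 1 < Fintype.card (Function.fixedPoints f) := by
    have h8 : 0 < Fintype.card (Function.fixedPoints f) := by
      rw [Fintype.card_pos_iff]
      refine ⟨⟨1, ?_⟩⟩
      show f 1 = 1
      apply Subtype.ext
      apply Subtype.ext
      show s * (1 : Y) * s⁻¹ = 1
      group
    exact lt_of_lt_of_le one_lt_two (Nat.le_of_dvd h8 h6)
  obtain ⟨⟨b, hb⟩, ⟨b', hb'⟩, hne⟩ := Fintype.one_lt_card_iff.1 h7
  have key : ∀ b : ↥φ.range, f b = b → ((b : ↥R) : Y) = 1 ∨ ((b : ↥R) : Y) = r0 := by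
    intro b hb
    have h8 : s * ((b : ↥R) : Y) * s⁻¹ = ((b : ↥R) : Y) := congrArg (fun c : ↥φ.range => ((c : ↥R) : Y)) hb
    rw [mul_inv_eq_iff_eq_mul] at h8
    exact H.cs _ (b : ↥R).2 h8
  have hex : ∃ b : ↥φ.range, ((b : ↥R) : Y) = r0 := by
    rcases key b hb with h8 | h8
    · rcases key b' hb' with h9 | h9
      · exfalso
        apply hne
        apply Subtype.ext
        apply Subtype.ext
        apply Subtype.ext
        rw [h8, h9]
      · exact ⟨b', h9⟩
    · exact ⟨b, h8⟩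
  obtain ⟨⟨c, a, ha⟩, hc⟩ := hex
  refine ⟨a, a.2, ?_⟩
  have h8 : ((φ a : ↥R) : Y) = r0 := by rw [ha]; exact hc
  rw [hφ] at h8
  rw [← h8]
  group

/-! ### The normalizer of `Tb` -/

/-- (4.1) `N_Y(Tb) > Tb` -/
theorem exists_h : ∃ h : Y, (∀ a ∈ Tb t s R, h⁻¹ * a * h ∈ Tb t s R) ∧ h ∉ Tb t s R := by
  classical
  by_contra hcon
  push Not at hcon
  let μ : ↥(Tb t s R) →* Multiplicative (ZMod 2) :=
    { toFun := fun y => if (y : Y) ∈ Pb then 1 else Multiplicative.ofAdd 1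
      map_one' := if_pos (one_mem Pb)
      map_mul' := by
        intro a b
        have h1 := mulP H (Tb_P H a.2) (Tb_P H b.2)
        have h2 : (Multiplicative.ofAdd (1 : ZMod 2)) * Multiplicative.ofAdd 1 = 1 := by decide
        show (if (a : Y) * b ∈ Pb then (1 : Multiplicative (ZMod 2)) else Multiplicative.ofAdd 1) = _
        by_cases ha : (a : Y) ∈ Pb <;> by_cases hb : (b : Y) ∈ Pb
        · rw [if_pos (h1.2 (by tauto)), if_pos ha, if_pos hb, one_mul]
        · rw [if_neg (fun h => by have := h1.1 h; tauto), if_pos ha, if_neg hb, one_mul]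
        · rw [if_neg (fun h => by have := h1.1 h; tauto), if_neg ha, if_pos hb, mul_one]
        · rw [if_pos (h1.2 (by tauto)), if_neg ha, if_neg hb, h2] }
  have h1 := H.tfy (Tb t s R) le_rfl (fun g hg => hcon g hg) ⟨E5 t R, E5_Tb H, ?_, E5_sq H, Or.inr ⟨?_, ?_⟩⟩ μ (t_Tb H)
  · have h2 : μ ⟨t, t_Tb H⟩ = Multiplicative.ofAdd 1 := if_neg H.tP
    rw [h2] at h1
    exact absurd h1 (by decide)
  · intro g hg b hb
    obtain ⟨e, he, k, rfl⟩ := (mem_Tb H).1 hg
    have h2 := Pb_nE H (pow_mem H.sP k) hb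
    have e1 : e * s ^ k * b * (e * s ^ k)⁻¹ = e * (s ^ k * b * (s ^ k)⁻¹) * e⁻¹ := by group
    rw [e1]
    exact mul_mem (mul_mem he h2) (inv_mem he)
  · rw [card_E5 H]; norm_num
  · intro S hS _
    have := H.fin
    refine (Subgroup.card_le_of_le hS).trans ?_
    rw [card_Tb H]
    norm_num

theorem nor_iff {h : Y} : h ∈ normalizer (Tb t s R : Set Y) ↔ ∀ a ∈ Tb t s R, h * a * h⁻¹ ∈ Tb t s R := by
  have := H.fin
  constructor
  · intro h1 a ha
    exact (mem_normalizer_iff.1 h1 a).1 ha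
  · intro h1
    have h2 : (Tb t s R).map (MulAut.conj h).toMonoidHom ≤ Tb t s R := by
      rintro _ ⟨a, ha, rfl⟩
      exact h1 a ha
    have h3 : (Tb t s R).map (MulAut.conj h).toMonoidHom = Tb t s R := by
      apply Subgroup.eq_of_le_of_card_ge h2
      rw [Subgroup.card_map_of_injective (MulAut.conj h).injective]
    rw [mem_normalizer_iff]
    intro a
    refine ⟨h1 a, fun h4 => ?_⟩
    rw [← h3] at h4
    obtain ⟨b, hb, h5⟩ := h4
    have h6 : b = a := (MulAut.conj h).injective h5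
    rw [← h6]
    exact hb

/-- `N_Y(Tb) ≤ N_Y(E5)` -/
theorem nor_le : normalizer (Tb t s R : Set Y) ≤ normalizer (E5 t R : Set Y) := by
  have := H.fin
  have key : ∀ h ∈ normalizer (Tb t s R : Set Y), ∀ a ∈ E5 t R, h * a * h⁻¹ ∈ E5 t R := by
    intro h hh a ha
    have h1 : (E5 t R).map (MulAut.conj h).toMonoidHom = E5 t R := by
      apply E_eq H
      · rintro _ ⟨b, hb, rfl⟩
        exact (nor_iff H).1 hh b (E5_Tb H hb)
      · rintro _ ⟨b, hb, rfl⟩
        have h2 := E5_sq H b hb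
        show h * b * h⁻¹ * (h * b * h⁻¹) = 1
        calc h * b * h⁻¹ * (h * b * h⁻¹) = h * (b * b) * h⁻¹ := by group
          _ = 1 := by rw [h2]; group
      · rw [Subgroup.card_map_of_injective (MulAut.conj h).injective, card_E5 H]
    rw [← h1]
    exact ⟨a, ha, rfl⟩
  intro h hh
  rw [mem_normalizer_iff]
  intro a
  refine ⟨key h hh a, fun h1 => ?_⟩
  have h2 := key _ (inv_mem hh) _ h1
  have e : h⁻¹ * (h * a * h⁻¹) * h⁻¹⁻¹ = a := by group
  rwa [e] at h2

theorem conj_center {h : Y} (hh : h ∈ normalizer (Tb t s R : Set Y)) {c : Y} (hc : c ∈ Tb t s R)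
    (hcc : ∀ a ∈ Tb t s R, c * a = a * c) :
    h * c * h⁻¹ ∈ Tb t s R ∧ ∀ a ∈ Tb t s R, h * c * h⁻¹ * a = a * (h * c * h⁻¹) := by
  refine ⟨(nor_iff H).1 hh c hc, fun a ha => ?_⟩
  have h1 := (nor_iff H).1 (inv_mem hh) a ha
  rw [inv_inv] at h1
  have h2 := hcc _ h1
  calc h * c * h⁻¹ * a = h * (c * (h⁻¹ * a * h)) * h⁻¹ := by group
    _ = h * (h⁻¹ * a * h * c) * h⁻¹ := by rw [h2]
    _ = a * (h * c * h⁻¹) := by group

theorem r0_center : ∀ a ∈ Tb t s R, r0 * a = a * r0 := by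
  intro a ha
  obtain ⟨e, he, k, rfl⟩ := (mem_Tb H).1 ha
  have h1 := E5_comm H r0 (R_le_E5 H H.r0R) e he
  have h2 : Commute (s ^ k) r0 := (show Commute s r0 from H.sr0).pow_left k
  calc r0 * (e * s ^ k) = e * (r0 * s ^ k) := by rw [← mul_assoc, h1, mul_assoc]
    _ = e * s ^ k * r0 := by rw [← h2.eq, mul_assoc]

theorem conj_r0 {h : Y} (hh : h ∈ normalizer (Tb t s R : Set Y)) : h * r0 * h⁻¹ = r0 := by
  obtain ⟨h1, h2⟩ := conj_center H hh (R_Tb H H.r0R) (r0_center H)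
  have h3 : h * r0 * h⁻¹ ∈ Pb := by
    obtain ⟨r, hr, hrs⟩ := r0_comm H
    have h4 := comm_P H ((nor_iff H).1 hh r (R_Tb H hr)) ((nor_iff H).1 hh s (s_Tb H))
    have e : h * r * h⁻¹ * (h * s * h⁻¹) * (h * r * h⁻¹)⁻¹ * (h * s * h⁻¹)⁻¹ = h * (r * s * r⁻¹ * s⁻¹) * h⁻¹ := by group
    rwa [e, hrs] at h4
  rcases center_Tb H h1 h2 with h4 | h4 | h4 | h4
  · exfalso
    apply H.r01
    rw [mul_inv_eq_one] at h4
    exact mul_left_cancel (h4.trans (mul_one h).symm)
  · exact h4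
  · exact absurd (h4 ▸ h3) H.tP
  · exfalso
    rw [h4] at h3
    exact H.tP (by have := mul_mem h3 (inv_mem (H.RP H.r0R)); rwa [mul_inv_cancel_right] at this)

theorem t_ne_one : t ≠ 1 := fun h => H.tP (h ▸ one_mem Pb)

theorem conj_t {h : Y} (hh : h ∈ normalizer (Tb t s R : Set Y)) : h * t * h⁻¹ = t ∨ h * t * h⁻¹ = t * r0 := by
  obtain ⟨h1, h2⟩ := conj_center H hh (t_Tb H) (fun a ha => (Tb_comm H a ha).symm)
  rcases center_Tb H h1 h2 with h4 | h4 | h4 | h4
  · exfalso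
    apply t_ne_one H
    rw [mul_inv_eq_one] at h4
    exact mul_left_cancel (h4.trans (mul_one h).symm)
  · exfalso
    have h5 := conj_r0 H (inv_mem hh)
    rw [inv_inv] at h5
    have h6 : t = r0 := by
      calc t = h⁻¹ * (h * t * h⁻¹) * h := by group
        _ = r0 := by rw [h4, h5]
    exact t_notR H (h6 ▸ H.r0R)
  · exact Or.inl h4
  · exact Or.inr h4

theorem mem_Tb_iff {h : Y} (hh : h ∈ normalizer (Tb t s R : Set Y)) : h ∈ Tb t s R ↔ h * t * h⁻¹ = t := by
  constructor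
  · intro h1
    rw [mul_inv_eq_iff_eq_mul]
    exact Tb_comm H h h1
  · intro h1
    rw [mul_inv_eq_iff_eq_mul] at h1
    exact nor_Ct H h1 ((nor_iff H).1 hh)

/-- `|N_Y(Tb)| = 2^8` -/
theorem card_nor : Nat.card ↥(normalizer (Tb t s R : Set Y)) = 2 ^ 8 := by
  have := H.fin
  obtain ⟨h, hh, hn⟩ := exists_h H
  have hN : h ∈ normalizer (Tb t s R : Set Y) := by
    rw [← inv_mem_iff, nor_iff H]
    intro a ha
    rw [inv_inv]
    exact hh a ha
  have hle : Tb t s R ≤ normalizer (Tb t s R : Set Y) := le_normalizer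
  have ht : h * t * h⁻¹ = t * r0 := (conj_t H hN).resolve_left fun h1 => hn ((mem_Tb_iff H hN).2 h1)
  have h1 := Subgroup.card_mul_index ((Tb t s R).subgroupOf (normalizer (Tb t s R : Set Y)))
  have h2 : Nat.card ((Tb t s R).subgroupOf (normalizer (Tb t s R : Set Y))) = 2 ^ 7 := by
    rw [← card_Tb H]
    exact Nat.card_congr (Subgroup.subgroupOfEquivOfLe hle).toEquiv
  have h3 : ((Tb t s R).subgroupOf (normalizer (Tb t s R : Set Y))).index = 2 := by
    rw [Subgroup.index_eq_two_iff]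
    refine ⟨⟨h, hN⟩, ?_⟩
    rintro ⟨b, hb⟩
    rw [mem_subgroupOf, mem_subgroupOf]
    show Xor (b * h ∈ Tb t s R) (b ∈ Tb t s R)
    have h4 : b * h * t * (b * h)⁻¹ = b * t * b⁻¹ * r0 := by
      have h5 := conj_r0 H hb
      calc b * h * t * (b * h)⁻¹ = b * (h * t * h⁻¹) * b⁻¹ := by group
        _ = b * t * b⁻¹ * (b * r0 * b⁻¹) := by rw [ht]; group
        _ = _ := by rw [h5]
    have h5 : r0 ≠ 1 := H.r01
    rw [mem_Tb_iff H (mul_mem hb hN), mem_Tb_iff H hb, h4]
    rcases conj_t H hb with h6 | h6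
    · right
      refine ⟨h6, fun h7 => h5 ?_⟩
      rw [h6] at h7
      exact mul_eq_left.1 h7
    · left
      rw [h6]
      refine ⟨?_, fun h7 => h5 (mul_eq_left.1 h7)⟩
      rw [mul_assoc, r0_sq H, mul_one]
  rw [h2, h3] at h1
  rw [← h1]
  norm_num

/-! ### The orbit of `t` -/

theorem Ct_le : centralizer {t} ≤ normalizer (E5 t R : Set Y) := by
  have := H.fin
  have key : ∀ c ∈ centralizer {t}, ∀ a ∈ E5 t R, c * a * c⁻¹ ∈ E5 t R := by
    intro c hc a ha
    rcases H.cent c (mem_centralizer_singleton_iff.1 hc) with h | h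
    · exact Pb_nE H h ha
    · have h1 := Pb_nE H h ha
      have e : c * a * c⁻¹ = t⁻¹ * (t * c * a * (t * c)⁻¹) * t := by group
      rw [e]
      exact mul_mem (mul_mem (inv_mem (t_mem_E5 H)) h1) (t_mem_E5 H)
  intro c hc
  rw [mem_normalizer_iff]
  intro a
  refine ⟨key c hc a, fun h1 => ?_⟩
  have h2 := key _ (inv_mem hc) _ h1
  have e : c⁻¹ * (c * a * c⁻¹) * c⁻¹⁻¹ = a := by group
  rwa [e] at h2

/-- **(4.2)** -/
theorem card_N5 : Nat.card ↥(normalizer (E5 t R : Set Y)) = 3840 ∨ Nat.card ↥(normalizer (E5 t R : Set Y)) = 10240 := by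
  classical
  have := H.fin
  set N := normalizer (E5 t R : Set Y) with hN
  let tE : ↥(E5 t R) := ⟨t, t_mem_E5 H⟩
  have hsmul : ∀ (g : ↥N) (a : ↥(E5 t R)), ((g • a : ↥(E5 t R)) : Y) = g * a * (g : Y)⁻¹ := fun _ _ => rfl
  set O : Set ↥(E5 t R) := MulAction.orbit ↥N tE with hO
  -- `|N| = 640 |O|`
  have h1 : Nat.card ↥N = 640 * O.ncard := by
    have h2 := Subgroup.card_mul_index (MulAction.stabilizer ↥N tE)
    rw [MulAction.index_stabilizer] at h2
    have h3 : Nat.card (MulAction.stabilizer ↥N tE) = 640 := by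
      rw [← card_Ct H]
      have e : MulAction.stabilizer ↥N tE = (centralizer {t}).subgroupOf N := by
        ext g
        rw [MulAction.mem_stabilizer_iff, mem_subgroupOf, mem_centralizer_singleton_iff, Subtype.ext_iff, hsmul,
          mul_inv_eq_iff_eq_mul]
      rw [e]
      exact Nat.card_congr (Subgroup.subgroupOfEquivOfLe (Ct_le H)).toEquiv
    rw [h3] at h2
    exact h2.symm
  -- `|O| ≤ 31`
  have h31 : O.ncard ≤ 31 := by
    have h2 : O ⊆ Set.univ \ {1} := by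
      rintro _ ⟨g, rfl⟩
      refine ⟨Set.mem_univ _, fun h3 => t_ne_one H ?_⟩
      have h4 : (g : Y) * t * (g : Y)⁻¹ = 1 := congrArg Subtype.val h3
      rw [mul_inv_eq_one] at h4
      exact mul_left_cancel (h4.trans (mul_one (g : Y)).symm)
    have h3 := Set.ncard_le_ncard h2 (Set.toFinite _)
    have h4 : (Set.univ \ {(1 : ↥(E5 t R))}).ncard = 31 := by
      rw [Set.ncard_sdiff (Set.subset_univ _) (Set.toFinite _), Set.ncard_univ, card_E5 H, Set.ncard_singleton]
    omega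
  -- `|O| ≡ 1 mod 5`
  have hx : x ∈ N := Ct_le H (mem_centralizer_singleton_iff.2 (tx H).symm)
  have h5 : O.ncard % 5 = 1 := by
    let f : ↥O → ↥O := fun a => ⟨(⟨x, hx⟩ : ↥N) • (a : ↥(E5 t R)), by
      obtain ⟨g, hg⟩ := a.2
      exact ⟨⟨x, hx⟩ * g, by rw [← hg]; exact mul_smul _ _ _⟩⟩
    have h6 := mod5 f fun a => by
      apply Subtype.ext
      apply Subtype.ext
      exact xconj5 H _
    have h7 : Nat.card {a // f a = a} = 1 := by
      rw [Nat.card_eq_one_iff_unique]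
      have key : ∀ a : {a // f a = a}, ((a.1 : ↥(E5 t R)) : Y) = t := by
        rintro ⟨⟨a, ha⟩, hfa⟩
        have h8 : x * (a : Y) * x⁻¹ = a := congrArg (fun c : ↥O => ((c : ↥(E5 t R)) : Y)) hfa
        rw [mul_inv_eq_iff_eq_mul] at h8
        have hane : (a : Y) ≠ 1 := by
          obtain ⟨g, hg⟩ := ha
          intro h9
          rw [← hg] at h9
          apply t_ne_one H
          have h4 : (g : Y) * t * (g : Y)⁻¹ = 1 := h9
          rw [mul_inv_eq_one] at h4
          exact mul_left_cancel (h4.trans (mul_one (g : Y)).symm)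
        rcases (mem_E5 H).1 a.2 with h9 | h9
        · exact absurd (H.cx _ h9 h8) hane
        · have h10 : x * (t * (a : Y)) = t * a * x := by
            rw [← mul_assoc, ← tx H, mul_assoc, h8, mul_assoc]
          have h11 := H.cx _ h9 h10
          have := congrArg (fun w => t * w) h11
          simpa [t_t H] using this
      constructor
      · constructor
        intro a b
        apply Subtype.ext
        apply Subtype.ext
        apply Subtype.ext
        rw [key a, key b]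
      · refine ⟨⟨⟨tE, MulAction.mem_orbit_self tE⟩, ?_⟩⟩
        apply Subtype.ext
        apply Subtype.ext
        show x * t * x⁻¹ = t
        rw [← tx H]
        group
    rw [h7] at h6
    exact h6
  -- `|O|` is even
  have h2 : O.ncard % 2 = 0 := by
    have h6 := Subgroup.card_dvd_of_le (nor_le H)
    rw [card_nor H, ← hN, h1] at h6
    have h7 : 2 ^ 8 ∣ 2 ^ 7 * (5 * O.ncard) := by
      have e : 2 ^ 7 * (5 * O.ncard) = 640 * O.ncard := by ring
      rw [e]; exact h6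
    have h8 : 2 ∣ 5 * O.ncard := by
      have e : (2 : ℕ) ^ 8 = 2 ^ 7 * 2 := by norm_num
      rw [e] at h7
      exact Nat.dvd_of_mul_dvd_mul_left (by norm_num) h7
    omega
  -- not 26
  have h26 : O.ncard ≠ 26 := by
    intro h6
    have hp : Fact (Nat.Prime 13) := ⟨by norm_num⟩
    have h7 : 13 ∣ Nat.card ↥N := by
      rw [h1, h6]
      norm_num
    obtain ⟨g, hg⟩ := exists_prime_orderOf_dvd_card' 13 h7
    have hpg : IsPGroup 13 (zpowers g) := by
      apply IsPGroup.of_card (n := 1)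
      rw [Nat.card_zpowers, hg, pow_one]
    have h8 := hpg.card_modEq_card_fixedPoints ↥(E5 t R)
    -- the fixed points form a subgroup
    let F : Subgroup ↥(E5 t R) :=
      { carrier := MulAction.fixedPoints (zpowers g) ↥(E5 t R)
        one_mem' := fun h => smul_one h
        mul_mem' := fun {a b} ha hb h => by rw [smul_mul', ha h, hb h]
        inv_mem' := fun {a} ha h => by rw [smul_inv', ha h] }
    have h9 : Nat.card ↥(MulAction.fixedPoints (zpowers g) ↥(E5 t R)) = Nat.card F := rfl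
    have h10 : Nat.card F ∣ 32 := by
      rw [← card_E5 H]
      exact Subgroup.card_subgroup_dvd_card F
    rw [h9, card_E5 H] at h8
    have h11 : Nat.card F = 32 := by
      have h12 : Nat.card F ≤ 32 := Nat.le_of_dvd (by norm_num) h10
      generalize Nat.card F = m at *
      have h13 : 32 % 13 = m % 13 := h8
      interval_cases m <;> first | rfl | (exfalso; revert h10; decide) | (exfalso; revert h13; decide)
    have hF : F = ⊤ := Subgroup.eq_top_of_card_eq F (by rw [h11, card_E5 H])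
    have h12 : (g : Y) ∈ E5 t R := by
      apply cent_E5 H
      intro e he
      have h13 : (⟨e, he⟩ : ↥(E5 t R)) ∈ F := hF ▸ mem_top _
      have h14 := h13 ⟨g, mem_zpowers g⟩
      have h15 : (g : Y) * e * (g : Y)⁻¹ = e := congrArg Subtype.val h14
      rwa [mul_inv_eq_iff_eq_mul] at h15
    have h13 : g * g = 1 := Subtype.ext (E5_sq H _ h12)
    have h14 : orderOf g ∣ 2 := orderOf_dvd_of_pow_eq_one (by rw [pow_two, h13])
    rw [hg] at h14
    norm_num at h14
  have h6 : O.ncard = 6 ∨ O.ncard = 16 := by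
    generalize O.ncard = m at *
    omega
  rcases h6 with h6 | h6
  · left
    rw [h1, h6]
  · right
    rw [h1, h6]

end Cfsg.Agent.OddHalf.D7Tits.YOne
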