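import Cfsg.Agent.OddHalf.D7Tits.YBase

/-!
# `K = ²F₄(2)'`: the case of 16 conjugates of `t` in `E5` (helper961; text: ODD #15539 (a)-(e))
-/

set_option autoImplicit false
set_option linter.unusedSectionVars false

namespace Cfsg.Agent.OddHalf.D7Tits.YSixteen

open Subgroup YBase

section Gen

theorem sq_card {W : Type*} [Group W] [Finite W] (f : W →* W) (h : ∀ w, f w = 1 ↔ ∃ v, f v = w) :
    Nat.card W = Nat.card f.ker * Nat.card f.ker := by
  have e : f.ker = f.range := by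
    ext w
    rw [MonoidHom.mem_ker, MonoidHom.mem_range]
    exact h w
  conv_rhs => rw [e]
  conv_rhs => enter [1]; rw [← e]
  exact card_ker_range f

theorem ncard_double {G : Type*} [Group G] [Finite G] {M N : Subgroup G} {g : G}
    (h : ∀ y ∈ M, y ∈ N ∨ g * y ∈ N) : Nat.card ↥M ≤ 2 * Nat.card ↥N := by
  have hsub : (M : Set G) ⊆ (N : Set G) ∪ (fun a => g⁻¹ * a) '' (N : Set G) := by
    intro y hy
    rcases h y hy with h1 | h1
    · exact Or.inl h1
    · exact Or.inr ⟨g * y, h1, by simp⟩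
  have h1 := Set.ncard_le_ncard hsub (Set.toFinite _)
  have h2 := Set.ncard_union_le (N : Set G) ((fun a => g⁻¹ * a) '' (N : Set G))
  rw [Set.ncard_image_of_injective _ (mul_right_injective g⁻¹)] at h2
  have h3 : Nat.card ↥M = (M : Set G).ncard := rfl
  have h4 : Nat.card ↥N = (N : Set G).ncard := rfl
  omega

/-- a `2`-group acting on `Θ/V` has a non-trivial fixed point -/
theorem exists_fixed {Y Θ : Type*} [Group Y] [CommGroup Θ] [Finite Θ] (ρ : Y →* MulAut Θ) {M : Subgroup Y}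
    (hM : IsPGroup 2 ↥M) {V : Subgroup Θ} (hV : ∀ g ∈ M, ∀ v ∈ V, ρ g v ∈ V) (h2 : 2 ∣ V.index) :
    ∃ θ : Θ, θ ∉ V ∧ ∀ g ∈ M, ρ g θ * θ⁻¹ ∈ V := by
  have : Fact (Nat.Prime 2) := ⟨Nat.prime_two⟩
  let act : MulAction ↥M (Θ ⧸ V) :=
    { smul := fun g q => QuotientGroup.map V V (ρ (g : Y)).toMonoidHom (fun v hv => hV g g.2 v hv) q
      one_smul := by
        intro q
        induction q using QuotientGroup.induction_on with
        | H a =>
          show ((ρ ((1 : ↥M) : Y) a : Θ) : Θ ⧸ V) = a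
          rw [OneMemClass.coe_one, map_one]
          rfl
      mul_smul := by
        intro g h q
        induction q using QuotientGroup.induction_on with
        | H a =>
          show ((ρ ((g * h : ↥M) : Y) a : Θ) : Θ ⧸ V) = ((ρ (g : Y) (ρ (h : Y) a) : Θ) : Θ ⧸ V)
          rw [Subgroup.coe_mul, map_mul]
          rfl }
  have hsm : ∀ (g : ↥M) (a : Θ), g • ((a : Θ) : Θ ⧸ V) = ((ρ (g : Y) a : Θ) : Θ ⧸ V) := fun g a => rfl
  have h1 : (((1 : Θ) : Θ) : Θ ⧸ V) ∈ MulAction.fixedPoints ↥M (Θ ⧸ V) := by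
    intro g
    rw [hsm, map_one]
  obtain ⟨b, hb, hne⟩ := hM.exists_fixed_point_of_prime_dvd_card_of_fixed_point (Θ ⧸ V) h2 h1
  induction b using QuotientGroup.induction_on with
  | H a =>
    refine ⟨a, ?_, ?_⟩
    · intro ha
      apply hne
      rw [QuotientGroup.eq, inv_one, one_mul]
      exact ha
    · intro g hg
      have h3 := hb ⟨g, hg⟩
      rw [hsm, eq_comm, QuotientGroup.eq] at h3
      rw [mul_comm]
      exact h3

end Gen

/-- `V = C_Θ(R)` -/
def V {Y Θ : Type*} [Group Y] [CommGroup Θ] (ρ : Y →* MulAut Θ) (R : Subgroup Y) : Subgroup Θ where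
  carrier := {a | ∀ r ∈ R, ρ r a = a}
  one_mem' := fun r _ => map_one _
  mul_mem' := fun {b c} hb hc r hr => by rw [map_mul, hb r hr, hc r hr]
  inv_mem' := fun {b} hb r hr => by rw [map_inv, hb r hr]

section Main

variable {Y Θ : Type*} [Group Y] [CommGroup Θ] {ρ : Y →* MulAut Θ} {t x s r0 : Y} {R Pb : Subgroup Y} {z n : Θ}
  (H : YH ρ t x s r0 R Pb z n)

include H

/-! ### `V = C_Θ(R) = {1, z, n, nz}` -/

theorem Rz : ∀ r ∈ R, ρ r z = z := by
  intro r hr
  have h1 : ρ r (ρ t n) = ρ t (ρ r n) := by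
    rw [ρ_ρ, ρ_ρ, tR H r hr]
  rw [H.Rn r hr, H.nt, map_mul, H.Rn r hr] at h1
  exact mul_left_cancel h1

/-- `C_A(R) = ⟨z⟩` -/
theorem A_R {a : Θ} (ht : ρ t a = a) (hR : ∀ r ∈ R, ρ r a = a) : a = 1 ∨ a = z := by
  by_contra hcon
  push Not at hcon
  let W : Subgroup Θ :=
    { carrier := {b | ρ t b = b ∧ ∀ r ∈ R, ρ r b = b}
      one_mem' := ⟨map_one _, fun r _ => map_one _⟩
      mul_mem' := by
        rintro b c ⟨hb, hb'⟩ ⟨hc, hc'⟩
        exact ⟨by rw [map_mul, hb, hc], fun r hr => by rw [map_mul, hb' r hr, hc' r hr]⟩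
      inv_mem' := by
        rintro b ⟨hb, hb'⟩
        exact ⟨by rw [map_inv, hb], fun r hr => by rw [map_inv, hb' r hr]⟩ }
  have hx : ∀ w ∈ W, ρ x w ∈ W := by
    rintro w ⟨hw, hw'⟩
    refine ⟨by rw [ρ_ρ, tx H, ← ρ_ρ, hw], fun r hr => ?_⟩
    have h1 : x⁻¹ * r * x ∈ R := by
      have := H.nR _ (inv_mem H.xP) r hr
      rwa [inv_inv] at this
    have h2 : r * x = x * (x⁻¹ * r * x) := by group
    rw [ρ_ρ, h2, ← ρ_ρ, hw' _ h1]
  have hW : W ≤ Fx ρ t := fun w hw => hw.1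
  have h1 := xinv_A H hW (show z ∈ W from ⟨H.zt, Rz H⟩) hx ⟨a, ⟨ht, hR⟩, hcon.1, hcon.2⟩
  apply H.r01
  apply H.faith r0 H.r0R
  intro b hb
  have h2 : b ∈ W := by rw [h1]; exact hb
  exact h2.2 r0 H.r0R

theorem tt_θ (a : Θ) : ρ t (ρ t a) = a := by
  rw [ρ_ρ, H.tt, map_one]
  rfl

theorem mem_V {v : Θ} : v ∈ V ρ R ↔ v = 1 ∨ v = z ∨ v = n ∨ v = n * z := by
  constructor
  · intro hv
    have hv' : ∀ r ∈ R, ρ r v = v := hv
    -- `v * v^t` lies in `C_A(R)`
    have h1 : ρ t (v * ρ t v) = v * ρ t v := by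
      rw [map_mul, tt_θ H, mul_comm]
    have h2 : ∀ r ∈ R, ρ r (v * ρ t v) = v * ρ t v := by
      intro r hr
      rw [map_mul, ρ_ρ, ← tR H r hr, ← ρ_ρ, hv' r hr]
    rcases A_R H h1 h2 with h3 | h3
    · have h4 : ρ t v = v := by
        rw [mul_eq_one_iff_eq_inv, two' H] at h3
        exact h3.symm
      rcases A_R H h4 hv' with h5 | h5
      · exact Or.inl h5
      · exact Or.inr (Or.inl h5)
    · -- `v n` is fixed by `t`
      have h4 : ρ t v = v * z := by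
        have : v * (v * ρ t v) = v * z := by rw [h3]
        rw [← mul_assoc, H.two, one_mul] at this
        exact this
      have h5 : ρ t (v * n) = v * n := by
        rw [map_mul, h4, H.nt]
        calc v * z * (n * z) = v * n * (z * z) := by
              rw [mul_mul_mul_comm]
          _ = v * n := by rw [H.two, mul_one]
      have h6 : ∀ r ∈ R, ρ r (v * n) = v * n := by
        intro r hr
        rw [map_mul, hv' r hr, H.Rn r hr]
      have e : v = v * n * n := by rw [mul_assoc, H.two, mul_one]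
      rcases A_R H h5 h6 with h7 | h7
      · right; right; left
        rw [e, h7, one_mul]
      · right; right; right
        rw [e, h7, mul_comm]
  · rintro (rfl | rfl | rfl | rfl)
    · exact one_mem _
    · exact Rz H
    · exact H.Rn
    · intro r hr
      rw [map_mul, H.Rn r hr, Rz H r hr]

theorem z_V : z ∈ V ρ R := (mem_V H).2 (Or.inr (Or.inl rfl))

theorem n_V : n ∈ V ρ R := (mem_V H).2 (Or.inr (Or.inr (Or.inl rfl)))

theorem nz_ne : n * z ≠ n := fun h => H.z1 (mul_eq_left.1 h)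

theorem n_ne : n ≠ 1 := by
  intro h
  have := H.nt
  rw [h, map_one, one_mul] at this
  exact H.z1 this.symm

theorem n_ne_z : n ≠ z := by
  intro h
  have := H.nt
  rw [h, H.zt] at this
  exact H.z1 (mul_eq_left.1 this.symm)

theorem V_A {v : Θ} (hv : v ∈ V ρ R) (ht : ρ t v = v) : v = 1 ∨ v = z := by
  exact A_R H ht hv

theorem card_V : Nat.card ↥(V ρ R) = 4 := by
  have e : ((V ρ R : Subgroup Θ) : Set Θ) = {1, z, n, n * z} := by
    ext v
    exact mem_V H
  have h : Nat.card ↥(V ρ R) = ((V ρ R : Subgroup Θ) : Set Θ).ncard := rfl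
  rw [h, e]
  have h1 : n * z ≠ 1 := by
    intro h
    rw [mul_eq_one_iff_eq_inv, two' H] at h
    exact n_ne_z H h
  have h2 : n * z ≠ z := fun h => n_ne H (mul_eq_right.1 h)
  rw [Set.ncard_insert_of_notMem, Set.ncard_insert_of_notMem, Set.ncard_pair (nz_ne H).symm]
  · rintro (h | h)
    · exact n_ne_z H h.symm
    · exact h2 h.symm
  · rintro (h | h | h)
    · exact H.z1 h.symm
    · exact n_ne H h.symm
    · exact h1 h.symm

theorem index_V : (V ρ R).index = 2 ^ 8 := by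
  have h := (V ρ R).card_mul_index
  rw [card_V H, H.card] at h
  omega

/-! ### centralisers in `Θ` of conjugates of `t` -/

theorem card_Fx {τ h : Y} (hh : h * t * h⁻¹ = τ) : Nat.card ↥(Fx ρ τ) = 32 := by
  rw [← card_A H]
  symm
  apply Nat.card_congr
  refine
    { toFun := fun a => ⟨ρ h a, ?_⟩
      invFun := fun a => ⟨ρ h⁻¹ a, ?_⟩
      left_inv := ?_
      right_inv := ?_ }
  · have ha := mem_Fx.1 a.2
    rw [mem_Fx, ρ_ρ, ← hh]
    have e : h * t * h⁻¹ * h = h * t := by group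
    rw [e, ← ρ_ρ, ha]
  · have ha := mem_Fx.1 a.2
    rw [mem_Fx, ρ_ρ]
    have e : t * h⁻¹ = h⁻¹ * τ := by rw [← hh]; group
    rw [e, ← ρ_ρ, ha]
  · intro a
    apply Subtype.ext
    show ρ h⁻¹ (ρ h a) = a
    rw [ρ_ρ, inv_mul_cancel, map_one]
    rfl
  · intro a
    apply Subtype.ext
    show ρ h (ρ h⁻¹ a) = a
    rw [ρ_ρ, mul_inv_cancel, map_one]
    rfl

/-- `C_Θ(τ) = [Θ, τ]` -/
theorem Fx_comm {τ h : Y} (hh : h * t * h⁻¹ = τ) {a : Θ} (ha : ρ τ a = a) : ∃ θ, θ * ρ τ θ = a := by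
  have := H.finΘ
  have τ2 : τ * τ = 1 := by
    rw [← hh]
    calc h * t * h⁻¹ * (h * t * h⁻¹) = h * (t * t) * h⁻¹ := by group
      _ = 1 := by rw [H.tt]; group
  let f : Θ →* Θ :=
    { toFun := fun θ => θ * ρ τ θ
      map_one' := by simp
      map_mul' := by
        intro b c
        show b * c * ρ τ (b * c) = b * ρ τ b * (c * ρ τ c)
        rw [map_mul, mul_mul_mul_comm] }
  have hk : f.ker = Fx ρ τ := by
    ext b
    rw [MonoidHom.mem_ker, mem_Fx]
    show b * ρ τ b = 1 ↔ _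
    rw [mul_eq_one_iff_inv_eq, two' H, eq_comm]
  have h1 := card_ker_range f
  rw [hk, card_Fx H hh, H.card] at h1
  have h2 : f.range = Fx ρ τ := by
    apply Subgroup.eq_of_le_of_card_ge
    · rintro _ ⟨b, rfl⟩
      rw [mem_Fx]
      show ρ τ (b * ρ τ b) = b * ρ τ b
      rw [map_mul, ρ_ρ, τ2, map_one, mul_comm]
      rfl
    · rw [card_Fx H hh]
      omega
  have h3 : a ∈ f.range := by rw [h2]; exact ha
  obtain ⟨θ, hθ⟩ := h3
  exact ⟨θ, hθ⟩

/-- (a): a conjugate of `t` is not a square -/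
theorem not_sq {τ h g : Y} (hh : h * t * h⁻¹ = τ) (hg : g * g = τ) : False := by
  have := H.finΘ
  have hgτ : g * τ = τ * g := by rw [← hg, mul_assoc]
  have hgg : ∀ a : Θ, ρ g (ρ g a) = ρ τ a := fun a => by rw [ρ_ρ, hg]
  let f : ↥(Fx ρ τ) →* ↥(Fx ρ τ) :=
    { toFun := fun a => ⟨(a : Θ) * ρ g a, by
        have ha := mem_Fx.1 a.2
        rw [mem_Fx, map_mul, ha, ρ_ρ, ← hgτ, ← ρ_ρ, ha]⟩
      map_one' := Subtype.ext (by show (1 : Θ) * ρ g 1 = 1; simp)
      map_mul' := by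
        intro b c
        apply Subtype.ext
        show (b : Θ) * c * ρ g (b * c) = b * ρ g b * (c * ρ g c)
        rw [map_mul, mul_mul_mul_comm] }
  have h1 := sq_card f (by
    intro w
    constructor
    · intro hw
      have hw' : (w : Θ) * ρ g w = 1 := congrArg Subtype.val hw
      have h2 : ρ g (w : Θ) = w := by
        rw [mul_eq_one_iff_inv_eq, two' H] at hw'
        exact hw'.symm
      obtain ⟨θ, hθ⟩ := Fx_comm H hh (mem_Fx.1 w.2)
      have h3 : ρ g θ * ρ g (ρ τ θ) = θ * ρ τ θ := by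
        rw [← map_mul, hθ, h2]
      have h4 : ρ τ (θ * ρ g θ) = θ * ρ g θ := by
        rw [map_mul]
        have h5 : ρ τ (ρ g θ) = ρ g (ρ τ θ) := by rw [ρ_ρ, ρ_ρ, hgτ]
        rw [h5]
        -- `g³θ = gθ·θ·g²θ`
        have h6 : ρ g (ρ τ θ) = ρ g θ * (θ * ρ τ θ) := by
          rw [← h3, ← mul_assoc, H.two, one_mul]
        rw [h6]
        calc ρ τ θ * (ρ g θ * (θ * ρ τ θ)) = (θ * ρ g θ) * (ρ τ θ * ρ τ θ) := by
              rw [mul_comm θ (ρ τ θ), ← mul_assoc, ← mul_assoc]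
              rw [mul_comm (ρ τ θ * ρ g θ * ρ τ θ) θ, ← mul_assoc, ← mul_assoc]
              rw [mul_assoc θ (ρ τ θ) (ρ g θ), mul_comm (ρ τ θ) (ρ g θ), ← mul_assoc, mul_assoc (θ * ρ g θ)]
          _ = θ * ρ g θ := by rw [H.two, mul_one]
      refine ⟨⟨θ * ρ g θ, h4⟩, Subtype.ext ?_⟩
      show θ * ρ g θ * ρ g (θ * ρ g θ) = w
      rw [map_mul, hgg, mul_assoc, ← mul_assoc (ρ g θ) (ρ g θ), H.two, one_mul]
      exact hθ
    · rintro ⟨v, rfl⟩
      apply Subtype.ext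
      show (v : Θ) * ρ g v * ρ g (v * ρ g v) = 1
      have hv := mem_Fx.1 v.2
      rw [map_mul, hgg, hv, mul_assoc, ← mul_assoc (ρ g (v : Θ)) (ρ g v), H.two, one_mul, H.two])
  rw [card_Fx H hh] at h1
  generalize Nat.card f.ker = k at h1
  have h2 : k < 6 := by
    by_contra h3
    have : 6 * 6 ≤ k * k := Nat.mul_le_mul (by omega) (by omega)
    omega
  interval_cases k <;> omega

/-! ### `M` -/

theorem cR_conj {g : Y} (hg : ∀ r ∈ R, g * r = r * g) {r : Y} (hr : r ∈ R) : g * r * g⁻¹ = r := by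
  rw [hg r hr]
  group

end Main

/-- `M = {g ∈ C_Y(R) : g t g⁻¹ ∈ t R}` -/
def M {Y : Type*} [Group Y] (t : Y) (R : Subgroup Y) : Subgroup Y :=
  centralizer (R : Set Y) ⊓ normalizer (E5 t R : Set Y)

/-- `M₀ = C_M(n)` -/
def M0 {Y Θ : Type*} [Group Y] [CommGroup Θ] (ρ : Y →* MulAut Θ) (t : Y) (R : Subgroup Y) (n : Θ) :
    Subgroup Y where
  carrier := {g | g ∈ M t R ∧ ρ g n = n}
  one_mem' := ⟨one_mem _, by rw [map_one]; rfl⟩
  mul_mem' := by
    rintro g h ⟨hg, hg'⟩ ⟨hh, hh'⟩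
    exact ⟨mul_mem hg hh, by rw [← ρ_ρ, hh', hg']⟩
  inv_mem' := by
    rintro g ⟨hg, hg'⟩
    refine ⟨inv_mem hg, ?_⟩
    have h : ρ g⁻¹ (ρ g n) = n := by
      rw [ρ_ρ, inv_mul_cancel, map_one]
      rfl
    rwa [hg'] at h

section Main2

variable {Y Θ : Type*} [Group Y] [CommGroup Θ] {ρ : Y →* MulAut Θ} {t x s r0 : Y} {R Pb : Subgroup Y} {z n : Θ}
  (H : YH ρ t x s r0 R Pb z n)

include H

theorem ρ_inj {g h : Y} (e : ∀ a, ρ g a = ρ h a) : g = h := H.inj (MulEquiv.ext e)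

theorem M_R {g : Y} (hg : g ∈ M t R) : ∀ r ∈ R, g * r = r * g := fun r hr =>
  (mem_centralizer_iff.1 hg.1 r hr).symm

theorem M_t {g : Y} (hg : g ∈ M t R) : t * (g * t * g⁻¹) ∈ R := by
  have h1 : g * t * g⁻¹ ∈ E5 t R := (Subgroup.mem_normalizer_iff.1 hg.2 t).1 (t_mem_E5 H)
  rcases (mem_E5 H).1 h1 with h2 | h2
  · exfalso
    apply t_notR H
    have h3 := M_R H (inv_mem hg) _ h2
    have e : t = g⁻¹ * (g * t * g⁻¹) * g := by group
    rw [e, h3, mul_assoc, inv_mul_cancel, mul_one]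
    exact h2
  · exact h2

theorem mem_M {g : Y} (h1 : ∀ r ∈ R, g * r = r * g) (h2 : t * (g * t * g⁻¹) ∈ R) : g ∈ M t R := by
  have := H.fin
  refine ⟨mem_centralizer_iff.2 fun r hr => (h1 r hr).symm, mem_normalizer_fintype ?_⟩
  intro e he
  rcases (mem_E5 H).1 he with h3 | h3
  · rw [cR_conj H h1 h3]
    exact he
  · have e1 : g * e * g⁻¹ = g * t * g⁻¹ * (g * (t * e) * g⁻¹) := by
      calc g * e * g⁻¹ = g * (t * (t * e)) * g⁻¹ := by rw [t_t H]
        _ = _ := by group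
    show g * e * g⁻¹ ∈ E5 t R
    rw [e1, cR_conj H h1 h3]
    exact mul_mem (tmul_E5 H (R_le_E5 H h2)) (R_le_E5 H h3)

theorem R_le_M : R ≤ M t R := by
  intro r hr
  refine mem_M H (fun a ha => comm_of_sq H.twoR r hr a ha) ?_
  have e : t * (r * t * r⁻¹) = 1 := by
    rw [← tR H r hr]
    have : t * (t * r * r⁻¹) = t * t := by group
    rw [this, H.tt]
  rw [e]
  exact one_mem R

theorem t_mem_M : t ∈ M t R := by
  refine mem_M H (tR H) ?_
  have e : t * (t * t * t⁻¹) = 1 := by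
    have : t * (t * t * t⁻¹) = t * t := by group
    rw [this, H.tt]
  rw [e]
  exact one_mem R

theorem M_ct {g : Y} (hg : g ∈ M t R) (h : g * t = t * g) : g ∈ E5 t R := by
  apply cent_E5 H
  intro e he
  rcases (mem_E5 H).1 he with h3 | h3
  · exact M_R H hg e h3
  · have h4 := M_R H hg _ h3
    rw [← t_t H e, ← mul_assoc, h, mul_assoc, h4, mul_assoc, mul_assoc]
    rw [mul_assoc t e g, t_t H]

theorem E5_le_M : E5 t R ≤ M t R := by
  intro e he
  rcases (mem_E5 H).1 he with h3 | h3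
  · exact R_le_M H h3
  · rw [← t_t H e]
    exact mul_mem (t_mem_M H) (R_le_M H h3)

/-- `δ g = t g t g⁻¹` -/
def delta : ↥(M t R) →* ↥R where
  toFun g := ⟨t * (g * t * (g : Y)⁻¹), M_t H g.2⟩
  map_one' := Subtype.ext (by
    show t * ((1 : Y) * t * (1 : Y)⁻¹) = 1
    have e : t * (1 * t * 1⁻¹) = t * t := by group
    rw [e, H.tt])
  map_mul' := by
    intro g h
    apply Subtype.ext
    show t * ((g : Y) * h * t * ((g : Y) * h)⁻¹) = t * (g * t * (g : Y)⁻¹) * (t * (h * t * (h : Y)⁻¹))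
    have h1 := cR_conj H (M_R H g.2) (M_t H h.2)
    calc t * ((g : Y) * h * t * ((g : Y) * h)⁻¹) = t * (g * (t * (t * (h * t * (h : Y)⁻¹))) * (g : Y)⁻¹) := by
          rw [t_t H]
          group
      _ = t * (g * t * (g : Y)⁻¹) * (g * (t * (h * t * (h : Y)⁻¹)) * (g : Y)⁻¹) := by group
      _ = _ := by rw [h1]

theorem delta_one {g : ↥(M t R)} : delta H g = 1 ↔ (g : Y) ∈ E5 t R := by
  constructor
  · intro h
    have h1 : t * (g * t * (g : Y)⁻¹) = 1 := congrArg Subtype.val h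
    apply M_ct H g.2
    have h2 : (g : Y) * t * (g : Y)⁻¹ = t := by
      rw [← t_t H ((g : Y) * t * (g : Y)⁻¹), h1, mul_one]
    exact mul_inv_eq_iff_eq_mul.1 h2
  · intro h
    apply Subtype.ext
    show t * (g * t * (g : Y)⁻¹) = 1
    rw [E5_comm H _ h _ (t_mem_E5 H)]
    have : t * (t * g * (g : Y)⁻¹) = t * t := by group
    rw [this, H.tt]

theorem sq_E5 {g : Y} (hg : g ∈ M t R) : g * g ∈ E5 t R := by
  have h := (delta_one H (g := ⟨g, hg⟩ * ⟨g, hg⟩)).1 (by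
    rw [map_mul]
    exact Subtype.ext (H.twoR _ (delta H ⟨g, hg⟩).2))
  exact h

/-- every `t r` is conjugate to `t` under `C_Y(R)` -/
def HS {Y : Type*} [Group Y] (t : Y) (R : Subgroup Y) : Prop :=
  ∀ r ∈ R, ∃ g : Y, (∀ a ∈ R, g * a = a * g) ∧ g * t * g⁻¹ = t * r

theorem card_M (h16 : HS t R) : Nat.card ↥(M t R) = 2 ^ 9 := by
  have := H.fin
  have h1 : Nat.card (delta H).ker = 32 := by
    rw [← Subgroup.card_map_of_injective (K := (delta H).ker) (M t R).subtype_injective, ← card_E5 H]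
    congr 1
    have : (delta H).ker.map (M t R).subtype = E5 t R := by
      ext y
      constructor
      · rintro ⟨g, hg, rfl⟩
        exact (delta_one H).1 hg
      · intro hy
        exact ⟨⟨y, E5_le_M H hy⟩, (delta_one H).2 hy, rfl⟩
    rw [this]
  have h2 : (delta H).range = ⊤ := by
    rw [MonoidHom.range_eq_top]
    rintro ⟨r, hr⟩
    obtain ⟨g, hg, hg'⟩ := h16 r hr
    have h3 : t * (g * t * g⁻¹) = r := by rw [hg', t_t H]
    exact ⟨⟨g, mem_M H hg (by rw [h3]; exact hr)⟩, Subtype.ext h3⟩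
  rw [card_ker_range (delta H), h1, h2, Subgroup.card_top, H.cardR]
  norm_num

theorem sq_M (h16 : HS t R) {g : Y} (hg : g ∈ M t R) : g * g ∈ R := by
  rcases (mem_E5 H).1 (sq_E5 H hg) with h | h
  · exact h
  · exfalso
    obtain ⟨k, hk, hk'⟩ := h16 _ h
    rw [t_t H] at hk'
    exact not_sq H hk' rfl

/-! ### action on `V` -/

theorem cR_V {g : Y} (hg : ∀ r ∈ R, g * r = r * g) {v : Θ} (hv : v ∈ V ρ R) : ρ g v ∈ V ρ R := by
  intro r hr
  rw [ρ_ρ, ← hg r hr, ← ρ_ρ, hv r hr]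

theorem M_z {g : Y} (hg : g ∈ M t R) : ρ g z = z := by
  have h1 := M_t H (inv_mem hg)
  have h2 : ρ t (ρ g z) = ρ g z := by
    have e : t * g = g * (t * (t * (g⁻¹ * t * g⁻¹⁻¹))) := by
      rw [t_t H]
      group
    rw [ρ_ρ, e, ← ρ_ρ, ← ρ_ρ, Rz H _ h1, H.zt]
  rcases V_A H (cR_V H (M_R H hg) (z_V H)) h2 with h3 | h3
  · exfalso
    apply H.z1
    apply (ρ g).injective
    rw [h3, map_one]
  · exact h3

theorem perm_n {g : Y} (hV : ρ g n ∈ V ρ R) (hz : ρ g z = z) : ρ g n = n ∨ ρ g n = n * z := by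
  rcases (mem_V H).1 hV with h | h | h | h
  · exfalso
    apply n_ne H
    apply (ρ g).injective
    rw [h, map_one]
  · exfalso
    apply n_ne_z H
    apply (ρ g).injective
    rw [h, hz]
  · exact Or.inl h
  · exact Or.inr h

theorem M0_cases {g : Y} (hg : g ∈ M t R) : g ∈ M0 ρ t R n ∨ t * g ∈ M0 ρ t R n := by
  rcases perm_n H (cR_V H (M_R H hg) (n_V H)) (M_z H hg) with h | h
  · exact Or.inl ⟨hg, h⟩
  · refine Or.inr ⟨mul_mem (t_mem_M H) hg, ?_⟩
    rw [← ρ_ρ, h, map_mul, H.nt, H.zt, mul_assoc, H.two, mul_one]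

theorem t_notM0 : t ∉ M0 ρ t R n := by
  rintro ⟨-, h⟩
  rw [H.nt] at h
  exact nz_ne H h

theorem M0_V {g : Y} (hg : g ∈ M0 ρ t R n) {v : Θ} (hv : v ∈ V ρ R) : ρ g v = v := by
  rcases (mem_V H).1 hv with rfl | rfl | rfl | rfl
  · exact map_one _
  · exact M_z H hg.1
  · exact hg.2
  · rw [map_mul, hg.2, M_z H hg.1]

theorem R_le_M0 : R ≤ M0 ρ t R n := fun r hr => ⟨R_le_M H hr, H.Rn r hr⟩

theorem M0_le : M0 ρ t R n ≤ M t R := fun _ h => h.1

theorem card_M0 (h16 : HS t R) : Nat.card ↥(M0 ρ t R n) = 2 ^ 8 := by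
  have := H.fin
  have h1 := ncard_double (fun y hy => M0_cases H (g := y) hy)
  rw [card_M H h16] at h1
  have h2 := Subgroup.card_dvd_of_le (M0_le H)
  rw [card_M H h16] at h2
  obtain ⟨k, hk, hk'⟩ := (Nat.dvd_prime_pow Nat.prime_two).1 h2
  have h3 : k ≠ 9 := by
    intro h4
    apply t_notM0 H
    have h5 : M0 ρ t R n = M t R := by
      apply Subgroup.eq_of_le_of_card_ge (M0_le H)
      rw [card_M H h16, hk', h4]
    rw [h5]
    exact t_mem_M H
  have h4 : 8 ≤ k := by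
    by_contra h5
    have h6 : 2 ^ k ≤ 2 ^ 7 := Nat.pow_le_pow_right (by norm_num) (by omega)
    rw [hk'] at h1
    norm_num at h1 h6
    omega
  have h5 : k = 8 := by omega
  rw [hk', h5]

/-! ### `x` -/

theorem x_V {v : Θ} (hv : v ∈ V ρ R) : ρ x v ∈ V ρ R := by
  intro r hr
  have h1 : x⁻¹ * r * x ∈ R := by
    have := H.nR _ (inv_mem H.xP) r hr
    rwa [inv_inv] at this
  have e : r * x = x * (x⁻¹ * r * x) := by group
  rw [ρ_ρ, e, ← ρ_ρ, hv _ h1]

theorem xn : ρ x n = n := by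
  rcases perm_n H (x_V H (n_V H)) H.zx with h | h
  · exact h
  · exfalso
    have h2 : ρ x (n * z) = n := by
      rw [map_mul, h, H.zx, mul_assoc, H.two, mul_one]
    have h3 := xρ5 H n
    rw [h, h2, h, h2, h] at h3
    exact nz_ne H h3

/-- `Pb` normalises `M` -/
theorem Pb_M {p g : Y} (hp : p ∈ Pb) (hg : g ∈ M t R) : p * g * p⁻¹ ∈ M t R := by
  have hp' : ∀ r ∈ R, p⁻¹ * r * p ∈ R := by
    intro r hr
    have := H.nR _ (inv_mem hp) r hr
    rwa [inv_inv] at this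
  refine mem_M H ?_ ?_
  · intro r hr
    have h1 := M_R H hg _ (hp' r hr)
    calc p * g * p⁻¹ * r = p * (g * (p⁻¹ * r * p)) * p⁻¹ := by group
      _ = r * (p * g * p⁻¹) := by rw [h1]; group
  · have h1 := H.nR p hp _ (M_t H hg)
    have h2 := H.comm p hp
    have e : t * (p * g * p⁻¹ * t * (p * g * p⁻¹)⁻¹) = p * (t * (g * t * g⁻¹)) * p⁻¹ := by
      have h3 : p⁻¹ * t = t * p⁻¹ := by
        rw [inv_mul_eq_iff_eq_mul, ← mul_assoc, ← h2]
        group
      calc t * (p * g * p⁻¹ * t * (p * g * p⁻¹)⁻¹) = t * p * (g * (p⁻¹ * t * p) * g⁻¹) * p⁻¹ := by group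
        _ = p * t * (g * (t * p⁻¹ * p) * g⁻¹) * p⁻¹ := by rw [h2, h3]
        _ = _ := by group
    rw [e]
    exact h1

theorem x_M0 {p g : Y} (hp : p ∈ Pb) (hn : ρ p n = n) (hg : g ∈ M0 ρ t R n) : p * g * p⁻¹ ∈ M0 ρ t R n := by
  refine ⟨Pb_M H hp hg.1, ?_⟩
  have hn' : ρ p⁻¹ n = n := by
    have h : ρ p⁻¹ (ρ p n) = n := by
      rw [ρ_ρ, inv_mul_cancel, map_one]
      rfl
    rwa [hn] at h
  rw [← ρ_ρ, ← ρ_ρ, hn', hg.2, hn]

theorem xin : ρ x⁻¹ n = n := by
  have h : ρ x⁻¹ (ρ x n) = n := by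
    rw [ρ_ρ, inv_mul_cancel, map_one]
    rfl
  rwa [xn H] at h

/-- (b): `[A, M₀] ≤ V` -/
theorem A_M0 (h16 : HS t R) : ∀ a, ρ t a = a → ∀ g ∈ M0 ρ t R n, ρ g a * a⁻¹ ∈ V ρ R := by
  have := H.fin
  have := H.finΘ
  obtain ⟨θ, hθ, hfix⟩ := exists_fixed ρ (IsPGroup.of_card (card_M H h16)) (V := V ρ R)
    (fun g hg v hv => cR_V H (M_R H hg) hv) (by rw [index_V H]; norm_num)
  -- an element of `A ∖ V`
  have h1 : ∃ a : Θ, ρ t a = a ∧ a ∉ V ρ R ∧ ∀ g ∈ M0 ρ t R n, ρ g a * a⁻¹ ∈ V ρ R := by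
    have h2 := hfix t (t_mem_M H)
    have h3 : ρ t (ρ t θ * θ⁻¹) = ρ t θ * θ⁻¹ := by
      rw [map_mul, tt_θ H, map_inv, two' H, two' H, mul_comm]
    rcases V_A H h2 h3 with h4 | h4
    · refine ⟨θ, ?_, hθ, fun g hg => hfix g hg.1⟩
      exact mul_inv_eq_one.1 h4
    · have h5 : ρ t θ = θ * z := by
        rw [mul_inv_eq_iff_eq_mul] at h4
        rw [h4, mul_comm]
      refine ⟨θ * n, ?_, ?_, ?_⟩
      · rw [map_mul, h5, H.nt, mul_mul_mul_comm, H.two, mul_one]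
      · intro h6
        apply hθ
        have : θ = θ * n * n := by rw [mul_assoc, H.two, mul_one]
        rw [this]
        exact mul_mem h6 (n_V H)
      · intro g hg
        have : ρ g (θ * n) * (θ * n)⁻¹ = ρ g θ * θ⁻¹ := by
          rw [map_mul, hg.2, mul_inv, mul_mul_mul_comm, mul_inv_cancel, mul_one]
        rw [this]
        exact hfix g hg.1
  obtain ⟨a, ha, haV, hag⟩ := h1
  let W : Subgroup Θ :=
    { carrier := {b | ρ t b = b ∧ ∀ g ∈ M0 ρ t R n, ρ g b * b⁻¹ ∈ V ρ R}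
      one_mem' := ⟨map_one _, fun g _ => by rw [map_one, inv_one, mul_one]; exact one_mem _⟩
      mul_mem' := by
        rintro b c ⟨hb, hb'⟩ ⟨hc, hc'⟩
        refine ⟨by rw [map_mul, hb, hc], fun g hg => ?_⟩
        rw [map_mul, mul_inv, mul_mul_mul_comm]
        exact mul_mem (hb' g hg) (hc' g hg)
      inv_mem' := by
        rintro b ⟨hb, hb'⟩
        refine ⟨by rw [map_inv, hb], fun g hg => ?_⟩
        rw [map_inv, ← mul_inv]
        exact inv_mem (hb' g hg) }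
  have hW : W ≤ Fx ρ t := fun w hw => hw.1
  have hz : z ∈ W := ⟨H.zt, fun g hg => by
    rw [M_z H hg.1, mul_inv_cancel]
    exact one_mem _⟩
  have hx : ∀ w ∈ W, ρ x w ∈ W := by
    rintro w ⟨hw, hw'⟩
    refine ⟨by rw [ρ_ρ, tx H, ← ρ_ρ, hw], fun g hg => ?_⟩
    have h2 : x⁻¹ * g * x⁻¹⁻¹ ∈ M0 ρ t R n := x_M0 H (inv_mem H.xP) (xin H) hg
    have h3 := x_V H (hw' _ h2)
    have e : ρ g (ρ x w) * (ρ x w)⁻¹ = ρ x (ρ (x⁻¹ * g * x⁻¹⁻¹) w * w⁻¹) := by
      rw [map_mul, ρ_ρ, ρ_ρ, map_inv]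
      congr 2
      group
    rw [e]
    exact h3
  have h2 := xinv_A H hW hz hx ⟨a, ⟨ha, hag⟩, fun h => haV (by rw [h]; exact one_mem _),
    fun h => haV (by rw [h]; exact z_V H)⟩
  intro b hb
  have h3 : b ∈ W := by
    rw [h2]
    exact hb
  exact h3.2

/-- `M₀` is elementary abelian -/
theorem M0_sq (h16 : HS t R) : ∀ g ∈ M0 ρ t R n, g * g = 1 := by
  intro g hg
  apply H.faith _ (sq_M H h16 hg.1)
  intro a ha
  have h1 := A_M0 H h16 a ha g hg
  obtain ⟨v, hv⟩ : ∃ v, v = ρ g a * a⁻¹ := ⟨_, rfl⟩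
  rw [← hv] at h1
  have h2 : ρ g a = v * a := by rw [hv]; group
  rw [← ρ_ρ, h2, map_mul, M0_V H hg h1, h2, ← mul_assoc, H.two, one_mul]

/-! ### uniqueness of `M₀` -/

theorem card_Ctr (h16 : HS t R) {r : Y} (hr : r ∈ R) : Nat.card ↥(centralizer {t * r} : Subgroup Y) = 640 := by
  obtain ⟨g, -, hg⟩ := h16 r hr
  rw [← card_Ct H, ← hg]
  symm
  have e : (centralizer {g * t * g⁻¹} : Subgroup Y) = (centralizer {t} : Subgroup Y).map (MulAut.conj g).toMonoidHom := by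
    ext y
    rw [mem_centralizer_singleton_iff]
    constructor
    · intro h
      refine ⟨g⁻¹ * y * g, ?_, ?_⟩
      · show g⁻¹ * y * g ∈ (centralizer {t} : Subgroup Y)
        rw [mem_centralizer_singleton_iff]
        calc g⁻¹ * y * g * t = g⁻¹ * (y * (g * t * g⁻¹)) * g := by group
          _ = g⁻¹ * (g * t * g⁻¹ * y) * g := by rw [h]
          _ = t * (g⁻¹ * y * g) := by group
      · show g * (g⁻¹ * y * g) * g⁻¹ = y
        group
    · rintro ⟨c, hc, rfl⟩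
      have hc' : c * t = t * c := mem_centralizer_singleton_iff.1 hc
      show g * c * g⁻¹ * (g * t * g⁻¹) = g * t * g⁻¹ * (g * c * g⁻¹)
      calc g * c * g⁻¹ * (g * t * g⁻¹) = g * (c * t) * g⁻¹ := by group
        _ = g * t * g⁻¹ * (g * c * g⁻¹) := by rw [hc']; group
  rw [e]
  exact (Subgroup.card_map_of_injective (MulAut.conj g).injective).symm

theorem uniq (h16 : HS t R) {M' : Subgroup Y} (hc : Nat.card ↥M' = 2 ^ 8) (h2 : ∀ a ∈ M', a * a = 1)
    (hT : ∀ c ∈ Tb t s R, ∀ m ∈ M', c * m * c⁻¹ ∈ M') : M' = M0 ρ t R n := by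
  have := H.fin
  have hab := comm_of_sq h2
  have ht : t ∉ M' := by
    intro h
    have h3 : M' ≤ centralizer {t} := fun m hm => mem_centralizer_singleton_iff.2 (hab m hm t h)
    have h4 := Subgroup.card_dvd_of_le h3
    rw [hc, card_Ct H] at h4
    norm_num at h4
  -- `F = C_{M'}(t)`
  have hF16 : 16 ≤ Nat.card ↥(M' ⊓ centralizer {t} : Subgroup Y) := by
    have h3 := card_le_sq h2 H.tt (hT t (t_Tb H))
    rw [hc] at h3
    by_contra h4
    have h5 : Nat.card ↥(M' ⊓ centralizer {t} : Subgroup Y) ≤ 15 := by omega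
    have h6 := Nat.pow_le_pow_left h5 2
    omega
  have hFt : ∀ f ∈ M' ⊓ centralizer {t}, f * t = t * f := fun f hf => mem_centralizer_singleton_iff.1 hf.2
  have hFT : M' ⊓ centralizer {t} ≤ Tb t s R := by
    apply le_Tb H
    · have : IsPGroup 2 ↥M' := IsPGroup.of_card hc
      exact this.to_le inf_le_left
    · exact hFt
    · rintro c hc' f ⟨hf1, hf2⟩
      refine ⟨hT c hc' f hf1, ?_⟩
      have h3 := mem_centralizer_singleton_iff.1 hf2
      have h4 := Tb_comm H c hc'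
      show c * f * c⁻¹ ∈ centralizer {t}
      rw [mem_centralizer_singleton_iff]
      have h5 : c⁻¹ * t = t * c⁻¹ := by
        rw [inv_mul_eq_iff_eq_mul, ← mul_assoc, h4]
        group
      calc c * f * c⁻¹ * t = c * f * (c⁻¹ * t) := by group
        _ = c * (f * t) * c⁻¹ := by rw [h5]; group
        _ = (c * t) * f * c⁻¹ := by rw [h3]; group
        _ = t * (c * f * c⁻¹) := by rw [h4]; group
  have hFt' : ∀ f ∈ M' ⊓ centralizer {t}, t * f = f * t := fun f hf => (hFt f hf).symm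
  have hF2 : ∀ f ∈ M' ⊓ centralizer {t}, f * f = 1 := fun f hf => h2 f hf.1
  have hE : dbl t H.tt (M' ⊓ centralizer {t}) hFt' = E5 t R := by
    apply E_eq H
    · rintro y (hy | hy)
      · exact hFT hy
      · rw [← t_t H y]
        exact mul_mem (t_Tb H) (hFT hy)
    · exact dbl_sq hF2
    · rw [card_dbl (fun h => ht (Subgroup.mem_inf.1 h).1)]
      omega
  have hFR : M' ⊓ centralizer {t} ≤ R := by
    intro f hf
    have h3 : f ∈ E5 t R := by
      rw [← hE]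
      exact le_dbl hf
    rcases (mem_E5 H).1 h3 with h4 | h4
    · exact h4
    · exfalso
      have h5 := card_Ctr H h16 h4
      rw [t_t H] at h5
      have h6 : M' ≤ centralizer {f} := fun m hm => mem_centralizer_singleton_iff.2 (hab m hm f hf.1)
      have h7 := Subgroup.card_dvd_of_le h6
      rw [hc, h5] at h7
      norm_num at h7
  have hFeq : M' ⊓ centralizer {t} = R := by
    apply Subgroup.eq_of_le_of_card_ge hFR
    rw [H.cardR]
    exact hF16
  have hRM : ∀ r ∈ R, r ∈ M' := fun r hr => by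
    rw [← hFeq] at hr
    exact hr.1
  have hM'M : M' ≤ M t R := by
    intro m hm
    refine mem_M H (fun r hr => hab m hm r (hRM r hr)) ?_
    have h3 : t * m * t⁻¹ ∈ M' := hT t (t_Tb H) m hm
    have e : t * (m * t * m⁻¹) = t * m * t⁻¹ * m⁻¹ := by rw [t_inv H]; group
    rw [← hFeq, e]
    refine ⟨M'.mul_mem h3 (M'.inv_mem hm), ?_⟩
    show t * m * t⁻¹ * m⁻¹ ∈ centralizer {t}
    rw [mem_centralizer_singleton_iff]
    have h4 := hab _ h3 _ (inv_mem hm)
    have hm' : m⁻¹ = m := inv_eq_of_mul_eq_one_left (h2 m hm)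
    calc t * m * t⁻¹ * m⁻¹ * t = m⁻¹ * (t * m * t⁻¹) * t := by rw [h4]
      _ = m * t * m := by rw [hm']; group
      _ = t * (t * m * t) * m := by
          rw [mul_assoc t m t, t_t H]
      _ = t * (t * m * t⁻¹ * m⁻¹) := by rw [t_inv H, hm']; group
  have hle : M' ≤ M0 ρ t R n := by
    by_contra hne
    rw [SetLike.not_le_iff_exists] at hne
    obtain ⟨g, hg, hgn⟩ := hne
    have hg0 : t * g ∈ M0 ρ t R n := by
      rcases M0_cases H (hM'M hg) with h | h
      · exact absurd h hgn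
      · exact h
    have hM02 := M0_sq H h16
    have hM0ab := comm_of_sq hM02
    have hD : M' ⊓ M0 ρ t R n ≤ R := by
      rintro d ⟨hd1, hd2⟩
      rw [← hFeq]
      refine ⟨hd1, ?_⟩
      show d ∈ centralizer {t}
      rw [mem_centralizer_singleton_iff]
      have h3 := hM0ab d hd2 _ hg0
      have h4 := hab d hd1 _ (inv_mem hg)
      calc d * t = d * (t * g) * g⁻¹ := by group
        _ = t * g * (d * g⁻¹) := by rw [h3]; group
        _ = t * d := by rw [h4]; group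
    have h3 := Subgroup.card_le_of_le hD
    rw [H.cardR] at h3
    have h4 : Nat.card ↥M' ≤ 2 * Nat.card ↥(M' ⊓ M0 ρ t R n : Subgroup Y) := by
      apply ncard_double (g := g⁻¹)
      intro m hm
      by_cases h5 : m ∈ M0 ρ t R n
      · exact Or.inl ⟨hm, h5⟩
      · right
        refine ⟨M'.mul_mem (M'.inv_mem hg) hm, ?_⟩
        have h6 : t * m ∈ M0 ρ t R n := by
          rcases M0_cases H (hM'M hm) with h | h
          · exact absurd h h5
          · exact h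
        have e : g⁻¹ * m = (t * g)⁻¹ * (t * m) := by group
        show g⁻¹ * m ∈ M0 ρ t R n
        rw [e]
        exact mul_mem (inv_mem hg0) h6
    omega
  apply Subgroup.eq_of_le_of_card_ge hle
  rw [hc, card_M0 H h16]

/-! ### the end -/

theorem nR_V {p : Y} (hp : ∀ r ∈ R, p⁻¹ * r * p ∈ R) {v : Θ} (hv : v ∈ V ρ R) : ρ p v ∈ V ρ R := by
  intro r hr
  have e : r * p = p * (p⁻¹ * r * p) := by group
  rw [ρ_ρ, e, ← ρ_ρ, hv _ (hp r hr)]

theorem Pb_M0 {p g : Y} (hp : p ∈ Pb) (hg : g ∈ M0 ρ t R n) : p * g * p⁻¹ ∈ M0 ρ t R n := by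
  refine ⟨Pb_M H hp hg.1, ?_⟩
  have h1 : ρ p⁻¹ n ∈ V ρ R := nR_V H (fun r hr => by
    rw [inv_inv]
    exact H.nR p hp r hr) (n_V H)
  rw [← ρ_ρ, ← ρ_ρ, M0_V H hg h1, ρ_ρ, mul_inv_cancel, map_one]
  rfl

theorem t_M0 {g : Y} (hg : g ∈ M0 ρ t R n) : t * g * t⁻¹ ∈ M0 ρ t R n := by
  refine ⟨mul_mem (mul_mem (t_mem_M H) hg.1) (inv_mem (t_mem_M H)), ?_⟩
  have h1 : ρ t⁻¹ n ∈ V ρ R := by
    rw [t_inv H]
    exact cR_V H (tR H) (n_V H)
  rw [← ρ_ρ, ← ρ_ρ, M0_V H hg h1, ρ_ρ, mul_inv_cancel, map_one]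
  rfl

theorem Tb_le_X : Tb t s R ≤ normalizer (M0 ρ t R n : Set Y) := by
  have := H.fin
  refine sup_le (sup_le ?_ ?_) ?_
  · rw [Subgroup.zpowers_le]
    exact mem_normalizer_fintype fun g hg => t_M0 H hg
  · exact (R_le_M0 H).trans Subgroup.le_normalizer
  · rw [Subgroup.zpowers_le]
    exact mem_normalizer_fintype fun g hg => Pb_M0 H H.sP hg

theorem X_V {y : Y} (hy : y ∈ normalizer (M0 ρ t R n : Set Y)) {v : Θ} (hv : v ∈ V ρ R) : ρ y v ∈ V ρ R := by
  intro r hr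
  have h1 : y⁻¹ * r * y ∈ M0 ρ t R n := (Subgroup.mem_normalizer_iff''.1 hy r).1 (R_le_M0 H hr)
  have e : r * y = y * (y⁻¹ * r * y) := by group
  rw [ρ_ρ, e, ← ρ_ρ, M0_V H h1 hv]

/-- the action of `X = N_Y(M₀)` on `V` -/
def act : ↥(normalizer (M0 ρ t R n : Set Y)) →* Equiv.Perm ↥(V ρ R) where
  toFun y :=
    { toFun := fun v => ⟨ρ (y : Y) v, X_V H y.2 v.2⟩
      invFun := fun v => ⟨ρ (y : Y)⁻¹ v, X_V H (inv_mem y.2) v.2⟩
      left_inv := by
        intro v
        apply Subtype.ext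
        show ρ (y : Y)⁻¹ (ρ (y : Y) v) = v
        rw [ρ_ρ, inv_mul_cancel, map_one]
        rfl
      right_inv := by
        intro v
        apply Subtype.ext
        show ρ (y : Y) (ρ (y : Y)⁻¹ v) = v
        rw [ρ_ρ, mul_inv_cancel, map_one]
        rfl }
  map_one' := by
    apply Equiv.ext
    intro v
    apply Subtype.ext
    show ρ (1 : Y) v = v
    rw [map_one]
    rfl
  map_mul' := by
    intro y y'
    apply Equiv.ext
    intro v
    apply Subtype.ext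
    show ρ ((y : Y) * y') v = ρ (y : Y) (ρ (y' : Y) v)
    rw [ρ_ρ]

omit [Group Y] [CommGroup Θ] H in
theorem exists_sg : ∃ f : ℤˣ →* Multiplicative (ZMod 2), f (-1) ≠ 1 :=
  ⟨{ toFun := fun u => if u = 1 then 1 else Multiplicative.ofAdd 1
     map_one' := by simp
     map_mul' := by decide }, by decide⟩

theorem false_of_HS (h16 : HS t R) : False := by
  classical
  have := H.fin
  have := H.finΘ
  have : Fintype ↥(V ρ R) := Fintype.ofFinite _
  obtain ⟨f, hf⟩ := exists_sg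
  have htX : t ∈ normalizer (M0 ρ t R n : Set Y) := Tb_le_X H (t_Tb H)
  have h1 := H.tfy (normalizer (M0 ρ t R n : Set Y)) (Tb_le_X H) ?_
    ⟨M0 ρ t R n, Subgroup.le_normalizer, ?_, M0_sq H h16, Or.inl (by rw [card_M0 H h16]; norm_num)⟩
    (f.comp (Equiv.Perm.sign.comp (act H))) htX
  · apply hf
    have h2 : act H ⟨t, htX⟩ = Equiv.swap ⟨n, n_V H⟩ ⟨n * z, mul_mem (n_V H) (z_V H)⟩ := by
      apply Equiv.ext
      rintro ⟨v, hv⟩
      apply Subtype.ext
      show ρ t v = _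
      rcases (mem_V H).1 hv with rfl | rfl | rfl | rfl
      · rw [Equiv.swap_apply_of_ne_of_ne, map_one]
        · intro h
          exact n_ne H (congrArg Subtype.val h).symm
        · intro h
          have h3 : (1 : Θ) = n * z := congrArg Subtype.val h
          rw [eq_comm, mul_eq_one_iff_eq_inv, two' H] at h3
          exact n_ne_z H h3
      · rw [Equiv.swap_apply_of_ne_of_ne, H.zt]
        · intro h
          exact n_ne_z H (congrArg Subtype.val h).symm
        · intro h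
          have h3 : v = n * v := congrArg Subtype.val h
          exact n_ne H (mul_eq_right.1 h3.symm)
      · rw [Equiv.swap_apply_left, H.nt]
      · rw [Equiv.swap_apply_right, map_mul, H.nt, H.zt, mul_assoc, H.two, mul_one]
    have h3 : Equiv.Perm.sign (act H ⟨t, htX⟩) = -1 := by
      rw [h2]
      apply Equiv.Perm.sign_swap
      intro h
      exact nz_ne H (congrArg Subtype.val h).symm
    rw [← h3]
    exact h1
  · -- uniqueness
    intro g hg
    have h2 := uniq H h16 (M' := (M0 ρ t R n).map (MulAut.conj g).toMonoidHom) ?_ ?_ ?_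
    · apply mem_normalizer_fintype
      intro m hm
      have h3 : g * m * g⁻¹ ∈ (M0 ρ t R n).map (MulAut.conj g).toMonoidHom := ⟨m, hm, rfl⟩
      rw [h2] at h3
      exact h3
    · rw [← card_M0 H h16]
      exact Subgroup.card_map_of_injective (MulAut.conj g).injective
    · rintro _ ⟨m, hm, rfl⟩
      show g * m * g⁻¹ * (g * m * g⁻¹) = 1
      calc g * m * g⁻¹ * (g * m * g⁻¹) = g * (m * m) * g⁻¹ := by group
        _ = 1 := by rw [M0_sq H h16 m hm]; group
    · rintro c hc _ ⟨m, hm, rfl⟩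
      refine ⟨g⁻¹ * c * g * m * (g⁻¹ * c * g)⁻¹, (Subgroup.mem_normalizer_iff.1 (hg c hc) m).1 hm, ?_⟩
      show g * (g⁻¹ * c * g * m * (g⁻¹ * c * g)⁻¹) * g⁻¹ = c * (g * m * g⁻¹) * c⁻¹
      group
  · intro g hg b hb
    exact (Subgroup.mem_normalizer_iff.1 hg b).1 hb

/-! ### from `|N_Y(E5)| = 10240` -/

theorem x_notTb {m : ℕ} (h : x ^ m ∈ Tb t s R) : m % 5 = 0 := by
  obtain ⟨k, hk⟩ := (Tb_p H) ⟨x ^ m, h⟩
  have h1 : (x ^ m) ^ 2 ^ k = 1 := congrArg Subtype.val hk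
  have h2 : x ^ (m * 2 ^ k) ∈ centralizer (R : Set Y) := by
    rw [pow_mul, h1]
    exact one_mem _
  have h3 : 5 ∣ m * 2 ^ k := Nat.dvd_of_mod_eq_zero (xC H h2)
  have h4 : 5 ∣ m := (Nat.Coprime.pow_right k (by norm_num : Nat.Coprime 5 2)).dvd_of_dvd_mul_right h3
  exact Nat.mod_eq_zero_of_dvd h4

/-- a subgroup of `Tb` normalised by `x` lies in `E5` -/
theorem Tb_x {L : Subgroup Y} (hL : L ≤ Tb t s R) (hx : ∀ l ∈ L, x * l * x⁻¹ ∈ L) : L ≤ E5 t R := by
  intro l hl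
  obtain ⟨e, he, k, rfl⟩ := (mem_Tb H).1 (hL hl)
  have h1 := hL (hx _ hl)
  have e1 : x ^ (4 * 2 ^ k) = (x ^ (2 ^ k))⁻¹ := by
    rw [eq_inv_iff_mul_eq_one, ← pow_add]
    have : 4 * 2 ^ k + 2 ^ k = 5 * 2 ^ k := by ring
    rw [this, pow_mul, H.x5, one_pow]
  have e2 : s ^ k * x⁻¹ = (x ^ (2 ^ k))⁻¹ * s ^ k := by
    rw [eq_inv_mul_iff_mul_eq, ← mul_assoc, ← sp_x H]
    group
  have e3 : x * (e * s ^ k) * x⁻¹ = x * e * x⁻¹ * x ^ (1 + 4 * 2 ^ k) * s ^ k := by
    calc x * (e * s ^ k) * x⁻¹ = x * e * (s ^ k * x⁻¹) := by group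
      _ = x * e * ((x ^ (2 ^ k))⁻¹ * s ^ k) := by rw [e2]
      _ = x * e * x⁻¹ * (x * (x ^ (2 ^ k))⁻¹) * s ^ k := by group
      _ = _ := by rw [pow_add, pow_one, e1]
  rw [e3] at h1
  have h2 : x * e * x⁻¹ ∈ Tb t s R := E5_Tb H (Pb_nE H H.xP he)
  have h3 : x ^ (1 + 4 * 2 ^ k) ∈ Tb t s R := by
    have e4 : x ^ (1 + 4 * 2 ^ k) = (x * e * x⁻¹)⁻¹ * (x * e * x⁻¹ * x ^ (1 + 4 * 2 ^ k) * s ^ k) * (s ^ k)⁻¹ := by
      group
    rw [e4]
    exact mul_mem (mul_mem (inv_mem h2) h1) (inv_mem (pow_mem (s_Tb H) k))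
  have h4 := pow2mod (x_notTb H h3)
  rw [s_mod H, h4, pow_zero, mul_one]
  exact he

/-- a 2-subgroup `L` of `N_Y(E5)`, normalised by `Tb` and `x`, of order more than 32, gives `HS` -/
theorem HS_of_normal {L : Subgroup Y} (hL : IsPGroup 2 ↥L) (hT : ∀ c ∈ Tb t s R, ∀ l ∈ L, c * l * c⁻¹ ∈ L)
    (hx : ∀ l ∈ L, x * l * x⁻¹ ∈ L) (hLN : L ≤ normalizer (E5 t R : Set Y)) (h32 : 32 < Nat.card ↥L) :
    HS t R := by
  have := H.fin
  have : Fact (Nat.Prime 2) := ⟨Nat.prime_two⟩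
  have hnle : ¬ L ≤ E5 t R := by
    intro h
    have := Subgroup.card_le_of_le h
    rw [card_E5 H] at this
    omega
  -- a fixed point of `L` on `E5`
  obtain ⟨b, hbE, hb1, hbL⟩ : ∃ b ∈ E5 t R, b ≠ 1 ∧ ∀ l ∈ L, l * b * l⁻¹ = b := by
    let actE : MulAction ↥L ↥(E5 t R) :=
      { smul := fun g e => ⟨(g : Y) * e * (g : Y)⁻¹, (Subgroup.mem_normalizer_iff.1 (hLN g.2) e).1 e.2⟩
        one_smul := fun e => Subtype.ext (by show (1 : Y) * e * (1 : Y)⁻¹ = e; group)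
        mul_smul := fun g h e => Subtype.ext (by
          show (g : Y) * h * e * ((g : Y) * h)⁻¹ = g * (h * e * (h : Y)⁻¹) * (g : Y)⁻¹
          group) }
    have h1 : (1 : ↥(E5 t R)) ∈ MulAction.fixedPoints ↥L ↥(E5 t R) := fun g => Subtype.ext (by
      show (g : Y) * 1 * (g : Y)⁻¹ = 1
      group)
    obtain ⟨b, hb, hne⟩ := hL.exists_fixed_point_of_prime_dvd_card_of_fixed_point ↥(E5 t R)
      (by rw [card_E5 H]; norm_num) h1
    refine ⟨b, b.2, fun h => hne (Subtype.ext h.symm), fun l hl => ?_⟩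
    exact congrArg Subtype.val (hb ⟨l, hl⟩)
  let C : Subgroup Y := E5 t R ⊓ centralizer (L : Set Y)
  have hbC : b ∈ C := ⟨hbE, mem_centralizer_iff.2 fun l hl => mul_inv_eq_iff_eq_mul.1 (hbL l hl)⟩
  have hCx : ∀ c ∈ C, x * c * x⁻¹ ∈ C := by
    rintro c ⟨hc, hc'⟩
    refine ⟨Pb_nE H H.xP hc, ?_⟩
    show x * c * x⁻¹ ∈ centralizer (L : Set Y)
    rw [mem_centralizer_iff]
    intro l hl
    -- `x⁻¹ l x ∈ L`
    have hxn : x ∈ normalizer (L : Set Y) := mem_normalizer_fintype hx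
    have h1 : x⁻¹ * l * x ∈ L := (Subgroup.mem_normalizer_iff''.1 hxn l).1 hl
    have h2 := mem_centralizer_iff.1 hc' _ h1
    calc l * (x * c * x⁻¹) = x * (x⁻¹ * l * x * c) * x⁻¹ := by group
      _ = x * c * x⁻¹ * l := by rw [h2]; group
  have htC : t ∉ C := by
    rintro ⟨-, h⟩
    apply hnle
    apply Tb_x H _ hx
    exact le_Tb H hL (fun l hl => mem_centralizer_iff.1 h l hl) hT
  have hbR : ∃ r ∈ C ⊓ R, r ≠ 1 := by
    rcases (mem_E5 H).1 hbE with h | h
    · exact ⟨b, ⟨hbC, h⟩, hb1⟩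
    · refine ⟨b * (x * b * x⁻¹), ⟨mul_mem hbC (hCx b hbC), ?_⟩, ?_⟩
      · show b * (x * b * x⁻¹) ∈ R
        have e : b * (x * b * x⁻¹) = t * b * (x * (t * b) * x⁻¹) := by
          have h1 : b * t = t * b := E5_comm H _ hbE _ (t_mem_E5 H)
          calc b * (x * b * x⁻¹) = t * (t * b) * (x * b * x⁻¹) := by rw [t_t H]
            _ = t * (b * t) * (x * b * x⁻¹) := by rw [h1]
            _ = t * b * (t * x * b * x⁻¹) := by group
            _ = t * b * (x * (t * b) * x⁻¹) := by rw [tx H]; group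
        rw [e]
        exact mul_mem h (H.nR x H.xP _ h)
      · intro h1
        have h2 : x * b * x⁻¹ = b := by
          rw [mul_eq_one_iff_inv_eq] at h1
          rw [← h1]
          exact inv_eq_of_mul_eq_one_left (E5_sq H b hbE)
        have h3 : x * (t * b) = t * b * x := by
          rw [mul_inv_eq_iff_eq_mul] at h2
          rw [← mul_assoc, ← tx H, mul_assoc, h2, mul_assoc]
        have h4 := H.cx _ h h3
        apply htC
        have h5 : b = t := by
          rw [← t_t H b, h4, mul_one]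
        rw [← h5]
        exact hbC
  have hCR : C ⊓ R = R := xinv_R H inf_le_right
    (fun w hw => ⟨hCx w hw.1, H.nR x H.xP w hw.2⟩) hbR
  have hLR : ∀ l ∈ L, ∀ r ∈ R, l * r = r * l := by
    intro l hl r hr
    rw [← hCR] at hr
    exact mem_centralizer_iff.1 hr.1.2 l hl
  have hLM : L ≤ M t R := fun l hl => ⟨mem_centralizer_iff.2 fun r hr => (hLR l hl r hr).symm, hLN hl⟩
  -- the values of `δ` on `L`
  let R1 : Subgroup Y := ((L.subgroupOf (M t R)).map (delta H)).map R.subtype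
  have hR1 : ∀ y, y ∈ R1 ↔ ∃ l ∈ L, t * (l * t * l⁻¹) = y := by
    intro y
    constructor
    · rintro ⟨_, ⟨l, hl, rfl⟩, rfl⟩
      exact ⟨l, hl, rfl⟩
    · rintro ⟨l, hl, rfl⟩
      exact ⟨_, ⟨⟨l, hLM hl⟩, hl, rfl⟩, rfl⟩
  have h1 : R1 = R := by
    apply xinv_R H
    · rintro _ ⟨r, -, rfl⟩
      exact r.2
    · intro w hw
      obtain ⟨l, hl, rfl⟩ := (hR1 w).1 hw
      refine (hR1 _).2 ⟨x * l * x⁻¹, hx l hl, ?_⟩
      have h2 := tx H
      have h3 : x⁻¹ * t = t * x⁻¹ := by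
        rw [inv_mul_eq_iff_eq_mul, ← mul_assoc, ← h2]
        group
      calc t * (x * l * x⁻¹ * t * (x * l * x⁻¹)⁻¹) = t * x * (l * (x⁻¹ * t * x) * l⁻¹) * x⁻¹ := by group
        _ = x * t * (l * (t * x⁻¹ * x) * l⁻¹) * x⁻¹ := by rw [h2, h3]
        _ = x * (t * (l * t * l⁻¹)) * x⁻¹ := by group
    · by_contra hcon
      push Not at hcon
      apply hnle
      intro l hl
      have h2 := hcon _ ((hR1 _).2 ⟨l, hl, rfl⟩)
      apply M_ct H (hLM hl)
      have h3 : l * t * l⁻¹ = t := by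
        rw [← t_t H (l * t * l⁻¹), h2, mul_one]
      exact mul_inv_eq_iff_eq_mul.1 h3
  intro r hr
  rw [← h1] at hr
  obtain ⟨l, hl, hl'⟩ := (hR1 r).1 hr
  exact ⟨l, hLR l hl, by rw [← hl', t_t H]⟩

/-- a group of order `10240` has a normal 2-subgroup of order more than 32 -/
theorem exists_normal {N : Type*} [Group N] (h : Nat.card N = 10240) :
    ∃ L : Subgroup N, L.Normal ∧ IsPGroup 2 ↥L ∧ 32 < Nat.card ↥L := by
  have : Fact (Nat.Prime 2) := ⟨Nat.prime_two⟩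
  have : Finite N := Nat.finite_of_card_ne_zero (by rw [h]; norm_num)
  obtain ⟨S⟩ : Nonempty (Sylow 2 N) := inferInstance
  have h1 : ¬ 2 ∣ (S : Subgroup N).index := S.not_dvd_index
  have h2 := (S : Subgroup N).card_mul_index
  have h3 : (S : Subgroup N).index ∣ 5 := by
    have h4 : (S : Subgroup N).index ∣ 2 ^ 11 * 5 := by
      rw [show 2 ^ 11 * 5 = 10240 by norm_num, ← h, ← h2]
      exact Dvd.intro_left _ rfl
    apply Nat.Coprime.dvd_of_dvd_mul_left _ h4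
    exact Nat.Coprime.pow_right _ ((Nat.Prime.coprime_iff_not_dvd Nat.prime_two).2 h1).symm
  have h4 : (S : Subgroup N).index ≤ 5 := Nat.le_of_dvd (by norm_num) h3
  refine ⟨(S : Subgroup N).normalCore, inferInstance, S.isPGroup'.to_le (Subgroup.normalCore_le _), ?_⟩
  have h5 : (S : Subgroup N).normalCore.index ≤ 120 := by
    rw [Subgroup.normalCore_eq_ker, Subgroup.index_ker]
    have h6 : Nat.card (Equiv.Perm (N ⧸ (S : Subgroup N))) ≤ 120 := by
      rw [Nat.card_perm]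
      exact Nat.le_of_dvd (by norm_num) (Nat.factorial_dvd_factorial h4)
    exact (Subgroup.card_le_card_group _).trans h6
  have h6 := (S : Subgroup N).normalCore.card_mul_index
  rw [h] at h6
  by_contra h7
  have h8 : Nat.card ↥((S : Subgroup N).normalCore) * (S : Subgroup N).normalCore.index ≤ 32 * 120 :=
    Nat.mul_le_mul (by omega) h5
  omega

/-- **`|N_Y(E5)| = 10240` is impossible** -/
theorem false_of_card (h : Nat.card ↥(normalizer (E5 t R : Set Y)) = 10240) : False := by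
  have := H.fin
  obtain ⟨L, hLn, hL, h32⟩ := exists_normal H h
  apply false_of_HS H
  have hnor : ∀ y ∈ normalizer (E5 t R : Set Y), ∀ l ∈ L.map (normalizer (E5 t R : Set Y)).subtype,
      y * l * y⁻¹ ∈ L.map (normalizer (E5 t R : Set Y)).subtype := by
    rintro y hy _ ⟨l, hl, rfl⟩
    exact ⟨⟨y, hy⟩ * l * ⟨y, hy⟩⁻¹, hLn.conj_mem l hl ⟨y, hy⟩, rfl⟩
  have hx : x ∈ normalizer (E5 t R : Set Y) := mem_normalizer_fintype fun e he => Pb_nE H H.xP he
  have hT : Tb t s R ≤ normalizer (E5 t R : Set Y) := by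
    refine sup_le (sup_le ?_ ?_) ?_
    · exact (Subgroup.zpowers_le.2 (t_mem_E5 H)).trans Subgroup.le_normalizer
    · exact (R_le_E5 H).trans Subgroup.le_normalizer
    · rw [Subgroup.zpowers_le]
      exact mem_normalizer_fintype fun e he => Pb_nE H H.sP he
  apply HS_of_normal H (L := L.map (normalizer (E5 t R : Set Y)).subtype)
  · exact hL.map _
  · exact fun c hc l hl => hnor c (hT hc) l hl
  · exact fun l hl => hnor x hx l hl
  · rintro _ ⟨l, -, rfl⟩
    exact l.2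
  · rw [Subgroup.card_map_of_injective (Subgroup.subtype_injective _)]
    exact h32

end Main2

end Cfsg.Agent.OddHalf.D7Tits.YSixteen
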