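import Cfsg.Agent.OddHalf.D7Tits.Defs

/-!
# D7, `K` = Tits group, the end for `c(s) = 0`: the action of `Q` on `Θ` (helper123)

* `t_not_mem` : `t` is in no conjugate of `Θ`;
* `cent_T` : `C_G(T) = ⟨t, z⟩`;
* `Q_act` : if `P` centralises `n`, then `[Θ, Q] ≤ ⟨z, n⟩`.
-/

set_option autoImplicit false
set_option linter.unusedSectionVars false
set_option linter.unusedVariables false

namespace Cfsg.Agent.OddHalf.D7Tits.ZeroBase

open Defs Subgroup

universe u v

/-- a covered subgroup -/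
theorem card_le_of_cover {G : Type*} [Group G] {β : Type*} [Finite β] (F : β → G) (S : Subgroup G)
    (h : ∀ s ∈ S, ∃ b, F b = s) : Nat.card S ≤ Nat.card β := by
  choose f hf using fun s : S => h s s.2
  refine Nat.card_le_card_of_injective f ?_
  intro a b hab
  exact Subtype.ext (by rw [← hf a, ← hf b, hab])

/-- the four-group `⟨z, n⟩` -/
def InV {G : Type*} [Group G] (z n x : G) : Prop := x = 1 ∨ x = z ∨ x = n ∨ x = n * z

namespace InV

variable {G : Type*} [Group G] {z n : G}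

theorem mul (zz : z * z = 1) (nn : n * n = 1) (nz : n * z = z * n) {x y : G} (hx : InV z n x) (hy : InV z n y) :
    InV z n (x * y) := by
  have h1 : n * z * n = z := by rw [nz, mul_assoc, nn, mul_one]
  have h2 : n * z * z = n := by rw [mul_assoc, zz, mul_one]
  have h3 : z * (n * z) = n := by rw [← mul_assoc, ← nz, h2]
  have h4 : n * (n * z) = z := by rw [← mul_assoc, nn, one_mul]
  have h5 : n * z * (n * z) = 1 := by rw [← mul_assoc, h1, zz]
  rcases hx with rfl | rfl | rfl | rfl <;> rcases hy with rfl | rfl | rfl | rfl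
  · left; rw [one_mul]
  · right; left; rw [one_mul]
  · right; right; left; rw [one_mul]
  · right; right; right; rw [one_mul]
  · right; left; rw [mul_one]
  · left; exact zz
  · right; right; right; exact nz.symm
  · right; right; left; exact h3
  · right; right; left; rw [mul_one]
  · right; right; right; rfl
  · left; exact nn
  · right; left; exact h4
  · right; right; right; rw [mul_one]
  · right; right; left; exact h2
  · right; left; exact h1
  · left; exact h5

theorem sq (zz : z * z = 1) (nn : n * n = 1) (nz : n * z = z * n) {x : G} (hx : InV z n x) : x * x = 1 := by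
  rcases hx with rfl | rfl | rfl | rfl
  · rw [one_mul]
  · exact zz
  · exact nn
  · rw [mul_assoc, ← mul_assoc z, ← nz, mul_assoc n z z, zz, mul_one, nn]

theorem inv (zz : z * z = 1) (nn : n * n = 1) (nz : n * z = z * n) {x : G} (hx : InV z n x) : InV z n x⁻¹ := by
  rwa [inv_eq_of_mul_eq_one_left (hx.sq zz nn nz)]

theorem comm {x c : G} (hx : InV z n x) (hz : c * z = z * c) (hn : c * n = n * c) : c * x = x * c := by
  rcases hx with rfl | rfl | rfl | rfl
  · rw [mul_one, one_mul]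
  · exact hz
  · exact hn
  · rw [← mul_assoc, hn, mul_assoc, hz, mul_assoc]

theorem conj {x g : G} (hx : InV z n x) : InV (g * z * g⁻¹) (g * n * g⁻¹) (g * x * g⁻¹) := by
  rcases hx with rfl | rfl | rfl | rfl
  · left; group
  · right; left; rfl
  · right; right; left; rfl
  · right; right; right; group

end InV

variable {Y : Type u} [Group Y] {G : Type v} [Group G] {K : KT Y} {i : Y →* G} {t n : G}

section base

variable (H : Pos K i t n)

include H

theorem zz : i K.z * i K.z = 1 := by rw [← map_mul, K.zz, map_one]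

theorem z_ne : i K.z ≠ 1 := by
  intro h
  exact K.z1 (H.inj (by rw [h, map_one]))

theorem ntn : n * t * n = t * i K.z := by
  calc n * t * n = t * t * (n * t * n) := by rw [H.tt, one_mul]
    _ = t * (t * n * t) * n := by group
    _ = t * (n * i K.z) * n := by rw [H.nt]
    _ = t * (i K.z * (n * n)) := by rw [H.nz]; group
    _ = t * i K.z := by rw [H.nn, mul_one]

theorem cent_T {x : G} (hx : ∀ a ∈ TT K i t, x * a = a * x) : x = 1 ∨ x = i K.z ∨ x = t ∨ x = t * i K.z := by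
  obtain ⟨y, hy⟩ := H.cen x (hx t H.t_TT)
  have hu : ∀ u ∈ K.U, y * u = u * y := by
    intro u hu
    have h1 := hx (i u) (H.mem_TT.2 ⟨u, hu, Or.inl rfl⟩)
    apply H.inj
    rw [map_mul, map_mul]
    rcases hy with rfl | rfl
    · exact h1
    · have h2 : t * (i y * i u) = t * (i u * i y) := by
        calc t * (i y * i u) = t * i y * i u := by group
          _ = i u * (t * i y) := h1
          _ = (i u * t) * i y := by group
          _ = t * (i u * i y) := by rw [← H.ti]; group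
      exact mul_left_cancel h2
  rcases K.cent_U y hu with rfl | rfl
  · rcases hy with rfl | rfl
    · left; exact map_one i
    · right; right; left; rw [map_one, mul_one]
  · rcases hy with rfl | rfl
    · right; left; rfl
    · right; right; right; rfl

variable {Θ : Subgroup G} (hΘ : Th K i t n Θ)

include hΘ

/-- `t` is in no conjugate of `Θ` (K3) -/
theorem t_not_mem (g : G) : g⁻¹ * t * g ∉ Θ := by
  intro h
  have := H.finG
  have := K.fin
  let B : Subgroup Y := (Θ.map (MulAut.conj g).toMonoidHom).comap i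
  have hB : ∀ y, y ∈ B ↔ g⁻¹ * i y * g ∈ Θ := by
    intro y
    rw [mem_comap, Subgroup.mem_map]
    constructor
    · rintro ⟨m, hm, e⟩
      have e' : g * m * g⁻¹ = i y := e
      rw [← e']
      have : g⁻¹ * (g * m * g⁻¹) * g = m := by group
      rw [this]; exact hm
    · intro hm
      exact ⟨_, hm, by show g * (g⁻¹ * i y * g) * g⁻¹ = i y; group⟩
  have hcard := K.K3 B (by
    intro a ha
    apply H.inj
    rw [map_mul, map_one]
    have h1 := hΘ.sq _ ((hB a).1 ha)
    calc i a * i a = g * (g⁻¹ * i a * g * (g⁻¹ * i a * g)) * g⁻¹ := by group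
      _ = 1 := by rw [h1]; group)
  let F : B × Bool → G := fun p => if p.2 then g⁻¹ * (t * i p.1) * g else g⁻¹ * i p.1 * g
  have h1 := card_le_of_cover F Θ (by
    intro m hm
    have h2 := hΘ.ab m hm _ h
    obtain ⟨y, hy⟩ := H.cen (g * m * g⁻¹) (by
      calc g * m * g⁻¹ * t = g * (m * (g⁻¹ * t * g)) * g⁻¹ := by group
        _ = g * (g⁻¹ * t * g * m) * g⁻¹ := by rw [h2]
        _ = t * (g * m * g⁻¹) := by group)
    rcases hy with hy | hy
    · have h3 : g⁻¹ * i y * g = m := by rw [← hy]; group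
      exact ⟨(⟨y, (hB y).2 (by rw [h3]; exact hm)⟩, false), h3⟩
    · have h3 : g⁻¹ * (t * i y) * g = m := by rw [← hy]; group
      have h4 : g⁻¹ * i y * g = g⁻¹ * t * g * m := by
        calc g⁻¹ * i y * g = g⁻¹ * (t * t) * i y * g := by rw [H.tt]; group
          _ = g⁻¹ * t * g * (g⁻¹ * (t * i y) * g) := by group
          _ = _ := by rw [h3]
      exact ⟨(⟨y, (hB y).2 (by rw [h4]; exact mul_mem h hm)⟩, true), h3⟩)
  rw [Nat.card_prod, hΘ.card, Nat.card_eq_fintype_card (α := Bool), Fintype.card_bool] at h1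
  omega

theorem tz_not_mem (g : G) : g⁻¹ * (t * i K.z) * g ∉ Θ := by
  intro h
  apply t_not_mem H hΘ (n⁻¹ * g)
  have : (n⁻¹ * g)⁻¹ * t * (n⁻¹ * g) = g⁻¹ * (n * t * n⁻¹) * g := by group
  rw [this, H.n_inv, ntn H]
  exact h

/-- `i A` centralises `Θ` -/
theorem A_cent {a : Y} (ha : a ∈ K.A) {m : G} (hm : m ∈ Θ) : i a * m = m * i a :=
  hΘ.ab _ (hΘ.A_le ⟨a, ha, rfl⟩) _ hm

theorem z_mem : i K.z ∈ Θ := hΘ.A_le ⟨_, K.z_A, rfl⟩

end base

/-! ### the points -/

section points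

variable (H : Pos K i t n)

include H

theorem nv_sq (g : Y) : (i g)⁻¹ * n * i g * ((i g)⁻¹ * n * i g) = 1 := by
  calc (i g)⁻¹ * n * i g * ((i g)⁻¹ * n * i g) = (i g)⁻¹ * (n * n) * i g := by group
    _ = 1 := by rw [H.nn]; group

theorem nv_t (g : Y) : t * ((i g)⁻¹ * n * i g) * t = (i g)⁻¹ * n * i g * i (g⁻¹ * K.z * g) := by
  calc t * ((i g)⁻¹ * n * i g) * t = (t * (i g)⁻¹) * n * (i g * t) := by group
    _ = (i g)⁻¹ * (t * n * t) * i g := by rw [H.tmap, ← H.ti]; group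
    _ = (i g)⁻¹ * (n * i K.z) * i g := by rw [H.nt]
    _ = _ := by rw [map_mul, map_mul, map_inv]; group

/-- for `c(s) = 0`: whatever centralises the point `v` centralises `n_v` -/
theorem nv_comm (h0 : ∀ p ∈ K.P, i p * n = n * i p) {g y : Y} (hy : y * (g⁻¹ * K.z * g) = g⁻¹ * K.z * g * y) :
    i y * ((i g)⁻¹ * n * i g) = (i g)⁻¹ * n * i g * i y := by
  have h1 : g * y * g⁻¹ ∈ K.P := by
    rw [K.mem_P]
    calc g * y * g⁻¹ * K.z = g * (y * (g⁻¹ * K.z * g)) * g⁻¹ := by group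
      _ = g * (g⁻¹ * K.z * g * y) * g⁻¹ := by rw [hy]
      _ = _ := by group
  have h2 := h0 _ h1
  rw [map_mul, map_mul, map_inv] at h2
  calc i y * ((i g)⁻¹ * n * i g) = (i g)⁻¹ * (i g * i y * (i g)⁻¹ * n) * i g := by group
    _ = (i g)⁻¹ * (n * (i g * i y * (i g)⁻¹)) * i g := by rw [h2]
    _ = _ := by group

end points

/-! ### the action of `Q` -/

section act

variable (H : Pos K i t n) {Θ : Subgroup G} (hΘ : Th K i t n Θ) (h0 : ∀ p ∈ K.P, i p * n = n * i p)

include H hΘ h0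

theorem Q_P {u : Y} (hu : u ∈ K.Q) : u ∈ K.P := K.E_le_P (K.Q_le_E hu)

theorem u_sq {u : Y} (hu : u ∈ K.Q) : u * u ∈ K.A := by
  refine K.Q_ker _ (mul_mem hu hu) fun k => ?_
  have hz : u⁻¹ * K.z * u = K.z := by
    have := (K.mem_P u).1 (K.E_le_P (K.Q_le_E hu))
    rw [mul_assoc, ← this]; group
  have e : (u * u)⁻¹ * K.q k * (u * u) = u⁻¹ * (u⁻¹ * K.q k * u) * u := by group
  rw [e]
  rcases K.q_Q u hu k with h | h
  · rw [h, h]
  · rw [h]
    have e2 : u⁻¹ * (K.q k * K.z) * u = (u⁻¹ * K.q k * u) * (u⁻¹ * K.z * u) := by group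
    rw [e2, h, hz, mul_assoc, K.zz, mul_one]

theorem commQ {u w : Y} (hu : u ∈ K.Q) (hw : w ∈ K.Q) {m : G} (hm : m ∈ Θ) :
    i (w * u) * m * (i (w * u))⁻¹ = i (u * w) * m * (i (u * w))⁻¹ := by
  have hc : w⁻¹ * u⁻¹ * w * u ∈ K.A := by
    rw [← K.comm_Q]
    have := Subgroup.commutator_mem_commutator (inv_mem hw) (inv_mem hu)
    rw [commutatorElement_def, inv_inv, inv_inv] at this
    exact this
  have e : w * u = u * w * (w⁻¹ * u⁻¹ * w * u) := by group
  rw [e, map_mul i (u * w)]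
  have h1 := A_cent H hΘ hc hm
  calc i (u * w) * i (w⁻¹ * u⁻¹ * w * u) * m * (i (u * w) * i (w⁻¹ * u⁻¹ * w * u))⁻¹
      = i (u * w) * (i (w⁻¹ * u⁻¹ * w * u) * m) * (i (w⁻¹ * u⁻¹ * w * u))⁻¹ * (i (u * w))⁻¹ := by group
    _ = _ := by rw [h1]; group

theorem sqQ {u : Y} (hu : u ∈ K.Q) {m : G} (hm : m ∈ Θ) : i u * (i u * m * (i u)⁻¹) * (i u)⁻¹ = m := by
  have h1 := A_cent H hΘ (u_sq H hΘ h0 hu) hm
  calc i u * (i u * m * (i u)⁻¹) * (i u)⁻¹ = (i (u * u) * m) * (i (u * u))⁻¹ := by rw [map_mul]; group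
    _ = m := by rw [h1]; group

/-- the point case of `Q_act` -/
theorem Q_pt {u : Y} (hu : u ∈ K.Q) {g : Y} (k : ZMod 5) (hg : g⁻¹ * K.z * g = K.q k) :
    (u * K.q k * u⁻¹ = K.q k ∧ i u * ((i g)⁻¹ * n * i g) * (i u)⁻¹ = (i g)⁻¹ * n * i g) ∨
    (u * K.q k * u⁻¹ = K.q k * K.z ∧ (i u * ((i g)⁻¹ * n * i g) * (i u)⁻¹ * ((i g)⁻¹ * n * i g) = n ∨
      i u * ((i g)⁻¹ * n * i g) * (i u)⁻¹ * ((i g)⁻¹ * n * i g) = n * i K.z)) := by
  obtain ⟨m, hm⟩ : ∃ m, m = (i g)⁻¹ * n * i g := ⟨_, rfl⟩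
  have hmΘ : m ∈ Θ := by rw [hm]; exact hΘ.pt g (by rw [hg]; exact K.q_A k)
  have hcase : ∀ w ∈ K.Q, w * K.q k * w⁻¹ = K.q k ∨ w * K.q k * w⁻¹ = K.q k * K.z := by
    intro w hw
    have := K.q_Q w⁻¹ (inv_mem hw) k
    rwa [inv_inv] at this
  have hfix : ∀ y : Y, y * K.q k * y⁻¹ = K.q k → i y * m * (i y)⁻¹ = m := by
    intro y hy
    have h1 : y * K.q k = K.q k * y := by
      calc y * K.q k = y * K.q k * y⁻¹ * y := by group
        _ = _ := by rw [hy]
    have h2 := nv_comm H h0 (g := g) (y := y) (by rw [hg]; exact h1)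
    rw [← hm] at h2
    rw [h2]; group
  rw [← hm]
  rcases hcase u hu with h | h
  · exact Or.inl ⟨h, hfix u h⟩
  · right
    refine ⟨h, ?_⟩
    obtain ⟨θ, hθ⟩ : ∃ θ, θ = i u * m * (i u)⁻¹ * m := ⟨_, rfl⟩
    have hcΘ : i u * m * (i u)⁻¹ ∈ Θ := hΘ.nP u (K.E_le_P (K.Q_le_E hu)) m hmΘ
    have hθΘ : θ ∈ Θ := by rw [hθ]; exact mul_mem hcΘ hmΘ
    have hmt : t * m * t = m * i (K.q k) := by
      have := nv_t H g
      rw [← hm, hg] at this
      exact this
    have hmv : i (K.q k) * m = m * i (K.q k) := A_cent H hΘ (K.q_A k) hmΘ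
    have hmz : i K.z * m = m * i K.z := A_cent H hΘ K.z_A hmΘ
    have hqq : i (K.q k) * i (K.q k) = 1 := by rw [← map_mul, K.sq_A _ (K.q_A k), map_one]
    have hcv : i (K.q k) * (i u * m * (i u)⁻¹) = i u * m * (i u)⁻¹ * i (K.q k) := A_cent H hΘ (K.q_A k) hcΘ
    have hct : t * (i u * m * (i u)⁻¹) * t = i u * m * (i u)⁻¹ * (i (K.q k) * i K.z) := by
      calc t * (i u * m * (i u)⁻¹) * t = (t * i u) * m * ((i u)⁻¹ * t) := by group
        _ = i u * (t * m * t) * (i u)⁻¹ := by rw [H.ti, ← H.tmap]; group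
        _ = i u * (m * i (K.q k)) * (i u)⁻¹ := by rw [hmt]
        _ = i u * m * (i u)⁻¹ * i (u * K.q k * u⁻¹) := by rw [map_mul, map_mul, map_inv]; group
        _ = _ := by rw [h, map_mul]
    have hθt : t * θ * t = θ * i K.z := by
      calc t * θ * t = t * (i u * m * (i u)⁻¹) * 1 * m * t := by rw [hθ]; group
        _ = (t * (i u * m * (i u)⁻¹) * t) * (t * m * t) := by rw [← H.tt]; group
        _ = i u * m * (i u)⁻¹ * (i (K.q k) * i K.z) * (m * i (K.q k)) := by rw [hct, hmt]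
        _ = i u * m * (i u)⁻¹ * (i (K.q k) * (i K.z * m) * i (K.q k)) := by group
        _ = i u * m * (i u)⁻¹ * (i (K.q k) * m * (i K.z * i (K.q k))) := by rw [hmz]; group
        _ = i u * m * (i u)⁻¹ * (m * i (K.q k) * (i (K.q k) * i K.z)) := by
          rw [hmv, ← map_mul i K.z, ← (K.mem_P _).1 (K.E_le_P (K.Q_le_E (K.A_le_Q (K.q_A k)))), map_mul]
        _ = i u * m * (i u)⁻¹ * m * (i (K.q k) * i (K.q k)) * i K.z := by group
        _ = θ * i K.z := by rw [hqq, hθ, mul_one]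
    -- `θ n ∈ A`
    have hθn : θ * n * t = t * (θ * n) := by
      have h1 : t * (θ * n) * t = θ * n := by
        calc t * (θ * n) * t = t * θ * 1 * n * t := by group
          _ = (t * θ * t) * (t * n * t) := by rw [← H.tt]; group
          _ = θ * i K.z * (n * i K.z) := by rw [hθt, H.nt]
          _ = θ * i K.z * (i K.z * n) := by rw [H.nz]
          _ = θ * (i K.z * i K.z) * n := by group
          _ = θ * n := by rw [zz H, mul_one]
      calc θ * n * t = t * (θ * n) * t * t := by rw [h1]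
        _ = t * (θ * n) := by rw [mul_assoc _ t t, H.tt, mul_one]
    obtain ⟨a, haA, ha⟩ := hΘ.fix _ (mul_mem hθΘ hΘ.n_mem) hθn
    -- `θ` is centralised by `Q`
    have huu : ∀ x ∈ Θ, i u * (i u * x * (i u)⁻¹) * (i u)⁻¹ = x := fun x hx => sqQ H hΘ h0 hu hx
    have hQ : ∀ w ∈ K.Q, i w * θ * (i w)⁻¹ = θ := by
      intro w hw
      have e1 : i w * θ * (i w)⁻¹ = i w * (i u * m * (i u)⁻¹) * (i w)⁻¹ * (i w * m * (i w)⁻¹) := by rw [hθ]; group
      have e2 : i w * (i u * m * (i u)⁻¹) * (i w)⁻¹ = i u * (i w * m * (i w)⁻¹) * (i u)⁻¹ := by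
        have h1 := commQ H hΘ h0 hu hw hmΘ
        rw [map_mul, map_mul] at h1
        calc i w * (i u * m * (i u)⁻¹) * (i w)⁻¹ = i w * i u * m * (i w * i u)⁻¹ := by group
          _ = i u * i w * m * (i u * i w)⁻¹ := h1
          _ = _ := by group
      rw [e1, e2]
      rcases hcase w hw with h1 | h1
      · rw [hfix w h1, ← hθ]
      · have h2 : u⁻¹ * K.q k * u = K.q k * K.z := by
          rcases K.q_Q u hu k with h3 | h3
          · exfalso
            have h4 : u * K.q k * u⁻¹ = K.q k := by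
              calc u * K.q k * u⁻¹ = u * (u⁻¹ * K.q k * u) * u⁻¹ := by rw [h3]
                _ = K.q k := by group
            rw [h4] at h
            exact K.z1 (mul_left_cancel (h.symm.trans (mul_one _).symm))
          · exact h3
        have hzu : u⁻¹ * K.z * u = K.z := by
          have := (K.mem_P u).1 (K.E_le_P (K.Q_le_E hu))
          rw [mul_assoc, ← this]; group
        have h3 : (u⁻¹ * w) * K.q k * (u⁻¹ * w)⁻¹ = K.q k := by
          calc (u⁻¹ * w) * K.q k * (u⁻¹ * w)⁻¹ = u⁻¹ * (w * K.q k * w⁻¹) * u := by group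
            _ = u⁻¹ * (K.q k * K.z) * u := by rw [h1]
            _ = (u⁻¹ * K.q k * u) * (u⁻¹ * K.z * u) := by group
            _ = K.q k := by rw [h2, hzu, mul_assoc, K.zz, mul_one]
        have h4 := hfix _ h3
        have h5 : i w * m * (i w)⁻¹ = i u * m * (i u)⁻¹ := by
          rw [map_mul, map_inv] at h4
          calc i w * m * (i w)⁻¹ = i u * ((i u)⁻¹ * i w * m * ((i u)⁻¹ * i w)⁻¹) * (i u)⁻¹ := by group
            _ = _ := by rw [h4]
        rw [h5, huu m hmΘ, hθ]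
        exact hΘ.ab _ hmΘ _ hcΘ
    have haQ : ∀ w ∈ K.Q, a * w = w * a := by
      intro w hw
      apply H.inj
      rw [map_mul, map_mul, ha]
      have h1 := hQ w hw
      have h2 : i w * n = n * i w := h0 w (K.E_le_P (K.Q_le_E hw))
      calc θ * n * i w = θ * (n * i w) := by group
        _ = θ * (i w * n) := by rw [h2]
        _ = (i w * θ * (i w)⁻¹) * i w * n := by rw [h1]; group
        _ = i w * (θ * n) := by group
    have hθa : θ = i a * n := by
      rw [ha, mul_assoc, H.nn, mul_one]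
    rcases K.cent_Q a haQ with h1 | h1
    · left
      rw [← hθ, hθa, h1, map_one, one_mul]
    · right
      rw [← hθ, hθa, h1, H.nz]

/-- **`[Θ, Q] ≤ ⟨z, n⟩`** -/
theorem Q_act {u : Y} (hu : u ∈ K.Q) {m : G} (hm : m ∈ Θ) : InV (i K.z) n (i u * m * (i u)⁻¹ * m⁻¹) := by
  have hz := zz H
  have hnz := H.nz
  have huP : u ∈ K.P := K.E_le_P (K.Q_le_E hu)
  have huz : i u * i K.z = i K.z * i u := by rw [← map_mul, (K.mem_P u).1 huP, map_mul]
  have hun : i u * n = n * i u := h0 u huP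
  have hinv : ∀ x ∈ Θ, x⁻¹ = x := fun x hx => inv_eq_of_mul_eq_one_left (hΘ.sq x hx)
  let S : Subgroup G :=
    { carrier := {x | x ∈ Θ ∧ InV (i K.z) n (i u * x * (i u)⁻¹ * x⁻¹)}
      one_mem' := ⟨one_mem _, Or.inl (by group)⟩
      mul_mem' := by
        rintro a b ⟨ha, ha'⟩ ⟨hb, hb'⟩
        refine ⟨mul_mem ha hb, ?_⟩
        have hcb : i u * b * (i u)⁻¹ * b⁻¹ ∈ Θ := mul_mem (hΘ.nP u huP b hb) (inv_mem hb)
        have e : i u * (a * b) * (i u)⁻¹ * (a * b)⁻¹ = i u * a * (i u)⁻¹ * ((i u * b * (i u)⁻¹ * b⁻¹) * a⁻¹) := by group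
        rw [e, hΘ.ab _ hcb _ (inv_mem ha)]
        have e2 : i u * a * (i u)⁻¹ * (a⁻¹ * (i u * b * (i u)⁻¹ * b⁻¹)) =
          i u * a * (i u)⁻¹ * a⁻¹ * (i u * b * (i u)⁻¹ * b⁻¹) := by group
        rw [e2]
        exact ha'.mul hz H.nn hnz hb'
      inv_mem' := by
        rintro a ⟨ha, ha'⟩
        have : a⁻¹ = a := hinv a ha
        show a⁻¹ ∈ Θ ∧ InV (i K.z) n (i u * a⁻¹ * (i u)⁻¹ * (a⁻¹)⁻¹)
        rw [this]
        exact ⟨ha, ha'⟩ }
  have hSn : n ∈ S := ⟨hΘ.n_mem, Or.inl (by rw [hun]; group)⟩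
  have hSz : i K.z ∈ S := ⟨z_mem H hΘ, Or.inl (by rw [huz]; group)⟩
  have hSv : ∀ (k : ZMod 5) (g : Y), g⁻¹ * K.z * g = K.q k → (i g)⁻¹ * n * i g ∈ S := by
    intro k g hg
    have hmΘ : (i g)⁻¹ * n * i g ∈ Θ := hΘ.pt g (by rw [hg]; exact K.q_A k)
    refine ⟨hmΘ, ?_⟩
    have e := hinv _ hmΘ
    rcases Q_pt H hΘ h0 hu k hg with ⟨-, h⟩ | ⟨-, h | h⟩
    · rw [h]; left; group
    · rw [e, h]; right; right; left; rfl
    · rw [e, h]; right; right; right; rfl
  have hSA : K.A ≤ S.comap i := by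
    refine K.A_gen.trans ((closure_le _).2 ?_)
    rintro y (hy | ⟨k, rfl⟩)
    · rw [Set.mem_singleton_iff] at hy
      rw [hy]
      exact hSz
    · refine ⟨hΘ.A_le ⟨_, K.q_A k, rfl⟩, ?_⟩
      have h1 := K.q_Q u⁻¹ (inv_mem hu) k
      rw [inv_inv] at h1
      have e : i u * i (K.q k) * (i u)⁻¹ * (i (K.q k))⁻¹ = i (u * K.q k * u⁻¹) * (i (K.q k))⁻¹ := by
        rw [map_mul, map_mul, map_inv]
      rw [e]
      rcases h1 with h1 | h1
      · left; rw [h1]; group
      · right; left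
        rw [h1, (K.mem_P _).1 (K.E_le_P (K.Q_le_E (K.A_le_Q (K.q_A k)))), map_mul]
        group
  -- `{a | ∃ s ∈ S, [s, t] = a}`
  let R : Subgroup Y :=
    { carrier := {a | a ∈ K.A ∧ ∃ s ∈ S, t * s * t = s * i a}
      one_mem' := ⟨one_mem _, 1, one_mem _, by rw [mul_one, H.tt, map_one, one_mul]⟩
      mul_mem' := by
        rintro a b ⟨ha, s, hs, hs'⟩ ⟨hb, s2, hs2, hs2'⟩
        refine ⟨mul_mem ha hb, s * s2, mul_mem hs hs2, ?_⟩
        calc t * (s * s2) * t = t * s * 1 * s2 * t := by group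
          _ = (t * s * t) * (t * s2 * t) := by rw [← H.tt]; group
          _ = s * (i a * s2) * i b := by rw [hs', hs2']; group
          _ = s * s2 * i (a * b) := by rw [A_cent H hΘ ha hs2.1, map_mul]; group
      inv_mem' := by
        rintro a ⟨ha, s, hs, hs'⟩
        have : a⁻¹ = a := inv_eq_of_mul_eq_one_left (K.sq_A a ha)
        show a⁻¹ ∈ K.A ∧ ∃ s ∈ S, t * s * t = s * i a⁻¹
        rw [this]
        exact ⟨ha, s, hs, hs'⟩ }
  have hR : K.A ≤ R := by
    refine K.A_gen.trans ((closure_le _).2 ?_)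
    rintro y (hy | ⟨k, rfl⟩)
    · rw [Set.mem_singleton_iff] at hy
      rw [hy]
      exact ⟨K.z_A, n, hSn, H.nt⟩
    · obtain ⟨g, hg⟩ := K.pt k
      refine ⟨K.q_A k, _, hSv k g hg, ?_⟩
      rw [nv_t H g, hg]
  obtain ⟨a, haA, ha⟩ := hΘ.tau m hm
  obtain ⟨-, s, hs, hs'⟩ := hR haA
  have h1 : t * m * t = i a * m := by
    rw [ha, mul_assoc _ m m, hΘ.sq m hm, mul_one]
  have h2 : m * s ∈ K.A.map i := by
    refine hΘ.fix _ (mul_mem hm hs.1) ?_
    have h3 : t * (m * s) * t = m * s := by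
      calc t * (m * s) * t = t * m * 1 * s * t := by group
        _ = (t * m * t) * (t * s * t) := by rw [← H.tt]; group
        _ = i a * m * (s * i a) := by rw [h1, hs']
        _ = (i a * m) * (i a * s) := by rw [A_cent H hΘ haA hs.1]
        _ = m * (i a * i a) * s := by rw [A_cent H hΘ haA hm]; group
        _ = m * s := by rw [← map_mul, K.sq_A a haA, map_one, mul_one]
    calc m * s * t = t * (m * s) * t * t := by rw [h3]
      _ = t * (m * s) := by rw [mul_assoc _ t t, H.tt, mul_one]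
  obtain ⟨b, hb, hb'⟩ := h2
  have h4 : i b ∈ S := hSA hb
  rw [hb'] at h4
  have h5 : m ∈ S := by
    have := mul_mem h4 (inv_mem hs)
    rwa [mul_inv_cancel_right] at this
  exact h5.2

end act

end Cfsg.Agent.OddHalf.D7Tits.ZeroBase
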