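import Cfsg.Agent.OddHalf.D7Tits.ZeroBase
import Cfsg.Agent.OddHalf.D7Tits.Count
import Cfsg.Agent.OddHalf.MMOut.TransferM

/-!
# D7, `K` = Tits group, the end for `c(s) = 0`: the second pair `(M, m₀)` (helper123)

* `Pk K i t M m₀` : `M` is a `T`-invariant conjugate of `Θ`, `m₀` the conjugate of `n` in it, `[m₀, t] = z`;
* `exists_pk` : from the T-formula: a pair `(M, m₀)` that is not `(Θ, n)`, `(Θ, n z)`;
* `Pk.count` : `4 |M| ≤ |C_M(t)| |C_Λ(t)|`, `Λ = {x ∈ N(M) | x centralises z, m₀, [M, x] ≤ ⟨z, m₀⟩}`.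
-/

set_option autoImplicit false
set_option linter.unusedSectionVars false
set_option linter.unusedVariables false

namespace Cfsg.Agent.OddHalf.D7Tits.ZeroPack

open Defs Subgroup ZeroBase

universe u v

/-- `Λ(M, ⟨z, n⟩)` -/
def Lam {G : Type*} [Group G] (M : Subgroup G) (z n : G) (zz : z * z = 1) (nn : n * n = 1) (nz : n * z = z * n) :
    Subgroup G where
  carrier := {x | x ∈ normalizer (M : Set G) ∧ x * z = z * x ∧ x * n = n * x ∧ ∀ m ∈ M, InV z n (x * m * x⁻¹ * m⁻¹)}
  one_mem' := ⟨one_mem _, by group, by group, fun m _ => Or.inl (by group)⟩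
  mul_mem' := by
    rintro x y ⟨hx1, hx2, hx3, hx4⟩ ⟨hy1, hy2, hy3, hy4⟩
    refine ⟨mul_mem hx1 hy1, ?_, ?_, ?_⟩
    · rw [mul_assoc, hy2, ← mul_assoc, hx2, mul_assoc]
    · rw [mul_assoc, hy3, ← mul_assoc, hx3, mul_assoc]
    · intro m hm
      have h1 := hy4 m hm
      have h2 := hx4 m hm
      have h3 := h1.comm hx2 hx3
      have e : x * y * m * (x * y)⁻¹ * m⁻¹ = (x * (y * m * y⁻¹ * m⁻¹)) * x⁻¹ * (x * m * x⁻¹ * m⁻¹) := by group
      rw [e, h3]
      have e2 : y * m * y⁻¹ * m⁻¹ * x * x⁻¹ * (x * m * x⁻¹ * m⁻¹) = y * m * y⁻¹ * m⁻¹ * (x * m * x⁻¹ * m⁻¹) := by group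
      rw [e2]
      exact h1.mul zz nn nz h2
  inv_mem' := by
    rintro x ⟨hx1, hx2, hx3, hx4⟩
    refine ⟨inv_mem hx1, ?_, ?_, ?_⟩
    · calc x⁻¹ * z = x⁻¹ * (z * x) * x⁻¹ := by group
        _ = x⁻¹ * (x * z) * x⁻¹ := by rw [hx2]
        _ = z * x⁻¹ := by group
    · calc x⁻¹ * n = x⁻¹ * (n * x) * x⁻¹ := by group
        _ = x⁻¹ * (x * n) * x⁻¹ := by rw [hx3]
        _ = n * x⁻¹ := by group
    · intro m hm
      have h0 : x⁻¹ * m * x ∈ M := by
        have := (mem_normalizer_iff.1 (inv_mem hx1) m).1 hm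
        rwa [inv_inv] at this
      have h1 := (hx4 _ h0).inv zz nn nz
      have e : (x * (x⁻¹ * m * x) * x⁻¹ * (x⁻¹ * m * x)⁻¹)⁻¹ = x⁻¹ * m * (x⁻¹)⁻¹ * m⁻¹ := by group
      rwa [e] at h1

theorem mem_Lam {G : Type*} [Group G] {M : Subgroup G} {z n : G} {zz : z * z = 1} {nn : n * n = 1} {nz : n * z = z * n}
    {x : G} : x ∈ Lam M z n zz nn nz ↔ x ∈ normalizer (M : Set G) ∧ x * z = z * x ∧ x * n = n * x ∧
      ∀ m ∈ M, InV z n (x * m * x⁻¹ * m⁻¹) := Iff.rfl

variable {Y : Type u} [Group Y] {G : Type v} [Group G]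

/-- the second pair -/
structure Pk (K : KT Y) (i : Y →* G) (t : G) (M : Subgroup G) (m₀ : G) : Prop where
  ab : ∀ a ∈ M, ∀ b ∈ M, a * b = b * a
  sq : ∀ a ∈ M, a * a = 1
  card : Nat.card M = 2 ^ 10
  z_mem : i K.z ∈ M
  zz : i K.z * i K.z = 1
  m_mem : m₀ ∈ M
  mm : m₀ * m₀ = 1
  mz : m₀ * i K.z = i K.z * m₀
  noT : ∀ h : G, h * t * h⁻¹ ∉ M
  TM : ∀ x ∈ TT K i t, ∀ m ∈ M, x * m * x⁻¹ ∈ M
  mt : t * m₀ * t = m₀ * i K.z
  mT : ∀ x ∈ TT K i t, x * m₀ * x⁻¹ = m₀ ∨ x * m₀ * x⁻¹ = m₀ * i K.z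
  /-- `16 |C_G(M)| ≤ |Λ|` -/
  h16 : 16 * Nat.card (centralizer (M : Set G)) ≤ Nat.card (Lam M (i K.z) m₀ zz mm mz)
  jj : K.j ≠ 1 → ∃ j' ∈ centralizer (M : Set G), j' * j' = i K.z

variable {K : KT Y} {i : Y →* G} {t n : G}

section exists_pk

variable (H : Pos K i t n) {Θ : Subgroup G} (hΘ : Th K i t n Θ)

/-- the stabiliser of the pair -/
def XX (Θ : Subgroup G) (z n : G) (zz : z * z = 1) : Subgroup G where
  carrier := {x | x ∈ normalizer (Θ : Set G) ∧ x * z = z * x ∧ (x * n * x⁻¹ = n ∨ x * n * x⁻¹ = n * z)}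
  one_mem' := ⟨one_mem _, by group, Or.inl (by group)⟩
  mul_mem' := by
    rintro x y ⟨hx1, hx2, hx3⟩ ⟨hy1, hy2, hy3⟩
    refine ⟨mul_mem hx1 hy1, by rw [mul_assoc, hy2, ← mul_assoc, hx2, mul_assoc], ?_⟩
    have e : x * y * n * (x * y)⁻¹ = x * (y * n * y⁻¹) * x⁻¹ := by group
    rw [e]
    rcases hy3 with h | h
    · rw [h]; exact hx3
    · rw [h]
      have e2 : x * (n * z) * x⁻¹ = x * n * x⁻¹ * (x * z) * x⁻¹ := by group
      rw [e2, hx2]
      have e3 : x * n * x⁻¹ * (z * x) * x⁻¹ = x * n * x⁻¹ * z := by group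
      rw [e3]
      rcases hx3 with h' | h'
      · right; rw [h']
      · left; rw [h', mul_assoc, zz, mul_one]
  inv_mem' := by
    rintro x ⟨hx1, hx2, hx3⟩
    have hx2' : x⁻¹ * z = z * x⁻¹ := by
      calc x⁻¹ * z = x⁻¹ * (z * x) * x⁻¹ := by group
        _ = x⁻¹ * (x * z) * x⁻¹ := by rw [hx2]
        _ = z * x⁻¹ := by group
    refine ⟨inv_mem hx1, hx2', ?_⟩
    rcases hx3 with h | h
    · left
      calc x⁻¹ * n * (x⁻¹)⁻¹ = x⁻¹ * (x * n * x⁻¹) * x := by rw [h]; group
        _ = n := by group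
    · right
      calc x⁻¹ * n * (x⁻¹)⁻¹ = x⁻¹ * (n * (z * z)) * x := by rw [zz]; group
        _ = x⁻¹ * (n * z) * (z * x) := by group
        _ = x⁻¹ * (x * n * x⁻¹) * (x * z) := by rw [h, hx2]
        _ = n * z := by group

theorem mem_XX {Θ : Subgroup G} {z n : G} {zz : z * z = 1} {x : G} :
    x ∈ XX Θ z n zz ↔ x ∈ normalizer (Θ : Set G) ∧ x * z = z * x ∧ (x * n * x⁻¹ = n ∨ x * n * x⁻¹ = n * z) := Iff.rfl

open Classical in
/-- the sign -/
noncomputable def sg (Θ : Subgroup G) (z n : G) (zz : z * z = 1) (z1 : z ≠ 1) : XX Θ z n zz →* ℤˣ where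
  toFun x := if (x : G) * n * (x : G)⁻¹ = n then 1 else -1
  map_one' := by
    rw [if_pos]
    show (1 : G) * n * (1 : G)⁻¹ = n
    group
  map_mul' := by
    rintro ⟨x, hx1, hx2, hx3⟩ ⟨y, hy1, hy2, hy3⟩
    have e : x * y * n * (x * y)⁻¹ = x * (y * n * y⁻¹) * x⁻¹ := by group
    have hne : n * z ≠ n := fun h => z1 (mul_left_cancel (h.trans (mul_one n).symm))
    show (if x * y * n * (x * y)⁻¹ = n then (1 : ℤˣ) else -1) =
      (if x * n * x⁻¹ = n then 1 else -1) * (if y * n * y⁻¹ = n then 1 else -1)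
    rw [e]
    have e2 : x * (n * z) * x⁻¹ = x * n * x⁻¹ * z := by
      calc x * (n * z) * x⁻¹ = x * n * x⁻¹ * (x * z) * x⁻¹ := by group
        _ = x * n * x⁻¹ * (z * x) * x⁻¹ := by rw [hx2]
        _ = _ := by group
    rcases hy3 with h | h
    · rw [h]
      rcases hx3 with h' | h'
      · rw [if_pos h', if_pos rfl, one_mul]
      · rw [h', if_neg hne, if_pos rfl, mul_one]
    · rw [h, e2]
      rcases hx3 with h' | h'
      · rw [h', if_neg hne, if_pos rfl, one_mul]
      · rw [h', if_neg hne, mul_assoc, zz, mul_one, if_pos rfl]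
        norm_num

theorem sg_pos {Θ : Subgroup G} {z n : G} {zz : z * z = 1} {z1 : z ≠ 1} (x : XX Θ z n zz)
    (h : (x : G) * n * (x : G)⁻¹ = n) : sg Θ z n zz z1 x = 1 := if_pos h

theorem sg_neg {Θ : Subgroup G} {z n : G} {zz : z * z = 1} {z1 : z ≠ 1} (x : XX Θ z n zz)
    (h : (x : G) * n * (x : G)⁻¹ ≠ n) : sg Θ z n zz z1 x = -1 := if_neg h

theorem mem_normalizer_of {G : Type*} [Group G] [Finite G] {M : Subgroup G} {x : G} (h : ∀ m ∈ M, x * m * x⁻¹ ∈ M) :
    x ∈ normalizer (M : Set G) := by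
  rw [MMOut.TransferM.mem_normalizer_iff_map]
  have hle : M.map (MulAut.conj x).toMonoidHom ≤ M := by
    rintro _ ⟨m, hm, rfl⟩
    exact h m hm
  refine SetLike.coe_injective (Set.eq_of_subset_of_ncard_le hle ?_ (Set.toFinite _))
  have : Nat.card (M.map (MulAut.conj x).toMonoidHom) = Nat.card M :=
    Subgroup.card_map_of_injective (MulAut.conj x).injective
  rw [← Nat.card_coe_set_eq, ← Nat.card_coe_set_eq]
  exact this.ge

include H hΘ

theorem T_norm {x : G} (hx : x ∈ TT K i t) : x ∈ XX Θ (i K.z) n (zz H) := by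
  have := H.finG
  have ht : t ∈ XX Θ (i K.z) n (zz H) := by
    refine ⟨mem_normalizer_of fun m hm => ?_, H.ti _, Or.inr ?_⟩
    · rw [H.t_inv]; exact hΘ.nt m hm
    · rw [H.t_inv]; exact H.nt
  have hu : ∀ u ∈ K.U, i u ∈ XX Θ (i K.z) n (zz H) := by
    intro u hu
    have huP := K.U_le_P hu
    refine ⟨mem_normalizer_of fun m hm => hΘ.nP u huP m hm, ?_, ?_⟩
    · rw [← map_mul, (K.mem_P u).1 huP, map_mul]
    · have := H.nP u⁻¹ (inv_mem huP)
      rwa [map_inv, inv_inv] at this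
  obtain ⟨y, hy, h | h⟩ := H.mem_TT.1 hx
  · rw [h]; exact hu y hy
  · rw [h]; exact mul_mem ht (hu y hy)

variable (h0 : ∀ p ∈ K.P, i p * n = n * i p)

include h0

/-- **the second pair** -/
theorem exists_pk : ∃ (M : Subgroup G) (m₀ : G), Pk K i t M m₀ ∧ (M = Θ → m₀ ≠ n ∧ m₀ ≠ n * i K.z) := by
  have := H.finG
  have := K.fin
  have hz := zz H
  have hz1 := z_ne H
  by_contra hcon
  have key := MMOut.TransferM.eq_one H.perf (XX Θ (i K.z) n hz) (sg Θ (i K.z) n hz hz1) t H.tt (TT K i t) H.pT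
    H.TT_t H.t_TT (fun x hx => T_norm H hΘ hx) (by
      intro g hg hgT hgt
      by_contra hφ
      apply hcon
      -- `φ (g⁻¹ t g) = -1`
      have hsg : (g⁻¹ * t * g) * n * (g⁻¹ * t * g)⁻¹ = n * i K.z := by
        rcases hgt.2.2 with h | h
        · exfalso
          exact hφ (sg_pos _ h)
        · exact h
      -- `g` centralises `z`
      have hgz : g * i K.z * g⁻¹ = i K.z := by
        have h1 : ∀ a ∈ TT K i t, (g * i K.z * g⁻¹) * a = a * (g * i K.z * g⁻¹) := by
          intro a ha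
          have h2 := (hgT a ha).2.1
          calc g * i K.z * g⁻¹ * a = g * (i K.z * (g⁻¹ * a * g)) * g⁻¹ := by group
            _ = g * ((g⁻¹ * a * g) * i K.z) * g⁻¹ := by rw [h2]
            _ = _ := by group
        have hmem : g⁻¹ * (g * i K.z * g⁻¹) * g ∈ Θ := by
          have e : g⁻¹ * (g * i K.z * g⁻¹) * g = i K.z := by group
          rw [e]; exact ZeroBase.z_mem H hΘ
        rcases cent_T H h1 with h2 | h2 | h2 | h2
        · exfalso
          apply hz1
          calc i K.z = g⁻¹ * (g * i K.z * g⁻¹) * g := by group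
            _ = 1 := by rw [h2]; group
        · exact h2
        · exact absurd (by rw [← h2]; exact hmem) (t_not_mem H hΘ g)
        · exact absurd (by rw [← h2]; exact hmem) (tz_not_mem H hΘ g)
      have hgz' : g * i K.z = i K.z * g := by
        calc g * i K.z = g * i K.z * g⁻¹ * g := by group
          _ = _ := by rw [hgz]
      let M : Subgroup G := Θ.map (MulAut.conj g).toMonoidHom
      have hM : ∀ y, y ∈ M ↔ g⁻¹ * y * g ∈ Θ := by
        intro y
        rw [Subgroup.mem_map]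
        constructor
        · rintro ⟨m, hm, e⟩
          have e' : g * m * g⁻¹ = y := e
          rw [← e']
          have : g⁻¹ * (g * m * g⁻¹) * g = m := by group
          rw [this]; exact hm
        · intro hm
          exact ⟨_, hm, by show g * (g⁻¹ * y * g) * g⁻¹ = y; group⟩
      have hMg : ∀ θ ∈ Θ, g * θ * g⁻¹ ∈ M := fun θ hθ => ⟨θ, hθ, rfl⟩
      have hmm : g * n * g⁻¹ * (g * n * g⁻¹) = 1 := by
        calc g * n * g⁻¹ * (g * n * g⁻¹) = g * (n * n) * g⁻¹ := by group
          _ = 1 := by rw [H.nn]; group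
      have hmz : g * n * g⁻¹ * i K.z = i K.z * (g * n * g⁻¹) := by
        calc g * n * g⁻¹ * i K.z = g * n * g⁻¹ * (g * i K.z * g⁻¹) := by rw [hgz]
          _ = g * (n * i K.z) * g⁻¹ := by group
          _ = (g * i K.z * g⁻¹) * (g * n * g⁻¹) := by rw [H.nz]; group
          _ = _ := by rw [hgz]
      have hVg : ∀ x, InV (i K.z) n x → InV (i K.z) (g * n * g⁻¹) (g * x * g⁻¹) := by
        intro x hx
        have := hx.conj (g := g)
        rwa [hgz] at this
      refine ⟨M, g * n * g⁻¹, ⟨?_, ?_, ?_, ?_, hz, hMg n hΘ.n_mem, hmm, hmz, ?_, ?_, ?_, ?_, ?_, ?_⟩, ?_⟩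
      · intro a ha b hb
        have h1 := hΘ.ab _ ((hM a).1 ha) _ ((hM b).1 hb)
        calc a * b = g * (g⁻¹ * a * g * (g⁻¹ * b * g)) * g⁻¹ := by group
          _ = b * a := by rw [h1]; group
      · intro a ha
        have h1 := hΘ.sq _ ((hM a).1 ha)
        calc a * a = g * (g⁻¹ * a * g * (g⁻¹ * a * g)) * g⁻¹ := by group
          _ = 1 := by rw [h1]; group
      · rw [← hΘ.card]
        exact Subgroup.card_map_of_injective (MulAut.conj g).injective
      · have := hMg _ (ZeroBase.z_mem H hΘ)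
        rwa [hgz] at this
      · intro h hh
        have h1 := (hM _).1 hh
        have e : g⁻¹ * (h * t * h⁻¹) * g = (h⁻¹ * g)⁻¹ * t * (h⁻¹ * g) := by group
        rw [e] at h1
        exact t_not_mem H hΘ _ h1
      · intro x hx m hm
        rw [hM] at hm ⊢
        have h1 := (mem_normalizer_iff.1 (hgT x hx).1 _).1 hm
        have e : g⁻¹ * x * g * (g⁻¹ * m * g) * (g⁻¹ * x * g)⁻¹ = g⁻¹ * (x * m * x⁻¹) * g := by group
        rwa [e] at h1
      · calc t * (g * n * g⁻¹) * t = t * (g * n * g⁻¹) * t⁻¹ := by rw [H.t_inv]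
          _ = g * ((g⁻¹ * t * g) * n * (g⁻¹ * t * g)⁻¹) * g⁻¹ := by group
          _ = g * (n * i K.z) * g⁻¹ := by rw [hsg]
          _ = g * n * g⁻¹ * (g * i K.z * g⁻¹) := by group
          _ = g * n * g⁻¹ * i K.z := by rw [hgz]
      · intro x hx
        have e : x * (g * n * g⁻¹) * x⁻¹ = g * ((g⁻¹ * x * g) * n * (g⁻¹ * x * g)⁻¹) * g⁻¹ := by group
        rw [e]
        rcases (hgT x hx).2.2 with h | h
        · left; rw [h]
        · right
          rw [h]
          calc g * (n * i K.z) * g⁻¹ = g * n * g⁻¹ * (g * i K.z * g⁻¹) := by group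
            _ = _ := by rw [hgz]
      · -- `16 |C| ≤ |Λ|`
        set C := centralizer (M : Set G) with hC
        set Λ := Lam M (i K.z) (g * n * g⁻¹) hz hmm hmz with hΛ
        have hCΛ : ∀ c ∈ C, c ∈ Λ := by
          intro c hc
          have hc' : ∀ m ∈ M, c * m = m * c := fun m hm => ((mem_centralizer_iff.1 hc) m hm).symm
          refine mem_Lam.2 ⟨mem_normalizer_of fun m hm => ?_, ?_, hc' _ (hMg n hΘ.n_mem), fun m hm => Or.inl ?_⟩
          · rw [hc' m hm, mul_inv_cancel_right]; exact hm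
          · have h1 := hMg _ (ZeroBase.z_mem H hΘ)
            rw [hgz] at h1
            exact hc' _ h1
          · rw [hc' m hm]; group
        have hQΛ : ∀ q ∈ K.Q, g * i q * g⁻¹ ∈ Λ := by
          intro q hq
          have hqP := K.E_le_P (K.Q_le_E hq)
          have hqz : i q * i K.z = i K.z * i q := by rw [← map_mul, (K.mem_P q).1 hqP, map_mul]
          have hqn := h0 q hqP
          refine mem_Lam.2 ⟨mem_normalizer_of fun m hm => ?_, ?_, ?_, fun m hm => ?_⟩
          · rw [hM] at hm ⊢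
            have e : g⁻¹ * (g * i q * g⁻¹ * m * (g * i q * g⁻¹)⁻¹) * g = i q * (g⁻¹ * m * g) * (i q)⁻¹ := by group
            rw [e]
            exact hΘ.nP q hqP _ hm
          · calc g * i q * g⁻¹ * i K.z = g * i q * g⁻¹ * (g * i K.z * g⁻¹) := by rw [hgz]
              _ = g * (i q * i K.z) * g⁻¹ := by group
              _ = (g * i K.z * g⁻¹) * (g * i q * g⁻¹) := by rw [hqz]; group
              _ = _ := by rw [hgz]
          · calc g * i q * g⁻¹ * (g * n * g⁻¹) = g * (i q * n) * g⁻¹ := by group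
              _ = _ := by rw [hqn]; group
          · have h1 := Q_act H hΘ h0 hq ((hM m).1 hm)
            have h2 := hVg _ h1
            have e : g * (i q * (g⁻¹ * m * g) * (i q)⁻¹ * (g⁻¹ * m * g)⁻¹) * g⁻¹ =
              g * i q * g⁻¹ * m * (g * i q * g⁻¹)⁻¹ * m⁻¹ := by group
            rwa [e] at h2
        let f : K.Q × C → Λ := fun p => ⟨g * i p.1 * g⁻¹ * p.2, mul_mem (hQΛ _ p.1.2) (hCΛ _ p.2.2)⟩
        have h1 := Count.card_le_of_fibre f (Nat.card K.A) (by
          intro b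
          rcases isEmpty_or_nonempty {a // f a = b} with he | ⟨⟨⟨q0, c0⟩, hp0⟩⟩
          · rw [Nat.card_eq_zero.2 (Or.inl he)]
            exact Nat.zero_le _
          · have hval : ∀ p : {a // f a = b}, g * i p.1.1 * g⁻¹ * p.1.2 = g * i q0 * g⁻¹ * c0 := by
              intro p
              exact congrArg Subtype.val (p.2.trans hp0.symm)
            have hA : ∀ p : {a // f a = b}, (q0 : Y)⁻¹ * (p.1.1 : Y) ∈ K.A := by
              intro p
              have h2 := hval p
              have h3 : g * i ((q0 : Y)⁻¹ * p.1.1) * g⁻¹ = c0 * (p.1.2 : G)⁻¹ := by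
                rw [map_mul, map_inv]
                calc g * ((i q0)⁻¹ * i p.1.1) * g⁻¹
                    = (g * i q0 * g⁻¹)⁻¹ * (g * i p.1.1 * g⁻¹ * p.1.2) * (p.1.2 : G)⁻¹ := by group
                  _ = c0 * (p.1.2 : G)⁻¹ := by rw [h2]; group
              have h4 : c0 * (p.1.2 : G)⁻¹ ∈ C := mul_mem c0.2 (inv_mem p.1.2.2)
              rw [← h3] at h4
              refine K.Q_ker _ (mul_mem (inv_mem q0.2) p.1.1.2) fun k => ?_
              have h5 : i (K.q k) ∈ Θ := hΘ.A_le ⟨_, K.q_A k, rfl⟩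
              have h6 := (mem_centralizer_iff.1 h4) _ (hMg _ h5)
              have h7 : i (K.q k) * i ((q0 : Y)⁻¹ * p.1.1) = i ((q0 : Y)⁻¹ * p.1.1) * i (K.q k) := by
                calc i (K.q k) * i ((q0 : Y)⁻¹ * p.1.1)
                    = g⁻¹ * (g * i (K.q k) * g⁻¹ * (g * i ((q0 : Y)⁻¹ * p.1.1) * g⁻¹)) * g := by group
                  _ = _ := by rw [h6]; group
              rw [← map_mul, ← map_mul] at h7
              have h8 := H.inj h7
              rw [mul_assoc, h8]; group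
            refine Nat.card_le_card_of_injective (fun p : {a // f a = b} => (⟨_, hA p⟩ : K.A)) ?_
            intro p p' hpp
            have h2 : (q0 : Y)⁻¹ * (p.1.1 : Y) = (q0 : Y)⁻¹ * (p'.1.1 : Y) := congrArg Subtype.val hpp
            have h3 := mul_left_cancel h2
            have h4 := (hval p).trans (hval p').symm
            rw [h3] at h4
            exact Subtype.ext (Prod.ext (Subtype.ext h3) (Subtype.ext (mul_left_cancel h4))))
        rw [Nat.card_prod, K.card_Q, K.card_A] at h1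
        omega
      · intro hj
        rcases K.j_or with h | ⟨h, -⟩
        · exact absurd h hj
        · refine ⟨g * i K.j * g⁻¹, mem_centralizer_iff.2 fun m hm => ?_, ?_⟩
          · have h1 := hΘ.nj _ ((hM m).1 hm)
            calc m * (g * i K.j * g⁻¹) = g * (g⁻¹ * m * g * i K.j) * g⁻¹ := by group
              _ = _ := by rw [h1]; group
          · calc g * i K.j * g⁻¹ * (g * i K.j * g⁻¹) = g * i (K.j * K.j) * g⁻¹ := by rw [map_mul]; group
              _ = i K.z := by rw [h, hgz]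
      · intro hMΘ
        have hgN : g ∈ normalizer (Θ : Set G) := by
          rw [MMOut.TransferM.mem_normalizer_iff_map]
          exact hMΘ
        constructor
        · intro h
          exact hg ⟨hgN, hgz', Or.inl h⟩
        · intro h
          exact hg ⟨hgN, hgz', Or.inr h⟩)
  rw [sg_neg] at key
  · exact absurd key (by decide)
  · intro h
    have h' : t * n * t⁻¹ = n := h
    rw [H.t_inv, H.nt] at h'
    exact hz1 (mul_left_cancel (h'.trans (mul_one n).symm))

end exists_pk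

/-! ### the count -/

namespace Pk

variable {M : Subgroup G} {m₀ : G} (P : Pk K i t M m₀)

/-- `Λ` -/
abbrev Λ (P : Pk K i t M m₀) : Subgroup G := Lam M (i K.z) m₀ P.zz P.mm P.mz

include P

theorem count [Finite G] (tt : t * t = 1) (htz : t * i K.z = i K.z * t) (htT : t ∈ TT K i t) :
    4 * Nat.card M ≤ Nat.card ↥(M ⊓ centralizer ({t} : Set G)) * Nat.card ↥(P.Λ ⊓ centralizer ({t} : Set G)) := by
  have ti : t⁻¹ = t := inv_eq_of_mul_eq_one_left tt
  have hMC : M ≤ centralizer (M : Set G) := fun m hm => mem_centralizer_iff.2 fun a ha => P.ab a ha m hm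
  have hCΛ : centralizer (M : Set G) ≤ P.Λ := by
    intro c hc
    have hc' : ∀ m ∈ M, c * m = m * c := fun m hm => ((mem_centralizer_iff.1 hc) m hm).symm
    refine mem_Lam.2 ⟨mem_normalizer_of fun m hm => ?_, hc' _ P.z_mem, hc' _ P.m_mem, fun m hm => Or.inl ?_⟩
    · rw [hc' m hm, mul_inv_cancel_right]; exact hm
    · rw [hc' m hm]; group
  have htM : ∀ m ∈ M, t * m * t ∈ M := fun m hm => by
    have := P.TM t htT m hm
    rwa [ti] at this
  refine Count.main tt M (centralizer (M : Set G)) P.Λ hMC hCΛ P.sq ?_ ?_ ?_ ?_ ?_ P.h16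
  · intro c hc
    refine mem_centralizer_iff.2 fun m hm => ?_
    have h1 := (mem_centralizer_iff.1 hc) _ (htM m hm)
    calc m * (t * c * t) = t * t * m * (t * c * t) := by rw [tt, one_mul]
      _ = t * (t * m * t * c) * t := by group
      _ = t * (c * (t * m * t)) * t := by rw [h1]
      _ = t * c * t * m * (t * t) := by group
      _ = t * c * t * m := by rw [tt, mul_one]
  · intro x hx
    obtain ⟨h1, h2, h3, h4⟩ := mem_Lam.1 hx
    refine mem_Lam.2 ⟨?_, ?_, ?_, ?_⟩
    · exact mul_mem (mul_mem (mem_normalizer_of (P.TM t htT)) h1) (mem_normalizer_of (P.TM t htT))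
    · calc t * x * t * i K.z = t * x * (t * i K.z) := by group
        _ = t * (x * i K.z) * t := by rw [htz]; group
        _ = (t * i K.z) * x * t := by rw [h2]; group
        _ = _ := by rw [htz]; group
    · have e : t * m₀ = m₀ * i K.z * t := by
        rw [← P.mt, mul_assoc, tt, mul_one]
      calc t * x * t * m₀ = t * x * (t * m₀) := by group
        _ = t * (x * m₀) * i K.z * t := by rw [e]; group
        _ = t * m₀ * (x * i K.z) * t := by rw [h3]; group
        _ = (t * m₀) * i K.z * x * t := by rw [h2]; group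
        _ = m₀ * i K.z * (t * i K.z) * x * t := by rw [e]; group
        _ = m₀ * (i K.z * i K.z) * t * x * t := by rw [htz]; group
        _ = m₀ * (t * x * t) := by rw [P.zz]; group
    · intro m hm
      have h5 := h4 _ (htM m hm)
      have h6 : t * (x * (t * m * t) * x⁻¹ * (t * m * t)⁻¹) * t = t * x * t * m * (t * x * t)⁻¹ * m⁻¹ := by
        calc t * (x * (t * m * t) * x⁻¹ * (t * m * t)⁻¹) * t
            = t * x * t * m * t * x⁻¹ * t⁻¹ * m⁻¹ * (t⁻¹ * t) := by group
          _ = t * x * t * m * t⁻¹ * x⁻¹ * t⁻¹ * m⁻¹ := by rw [ti, tt, mul_one]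
          _ = _ := by group
      rw [← h6]
      have e : t * m₀ * t = m₀ * i K.z := P.mt
      rcases h5 with h | h | h | h
      · rw [h]; left; rw [mul_one, tt]
      · rw [h]; right; left; rw [htz, mul_assoc, tt, mul_one]
      · rw [h]; right; right; right; exact e
      · rw [h]; right; right; left
        calc t * (m₀ * i K.z) * t = t * m₀ * (i K.z * t) := by group
          _ = t * m₀ * t * i K.z := by rw [← htz]; group
          _ = m₀ * (i K.z * i K.z) := by rw [e]; group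
          _ = m₀ := by rw [P.zz, mul_one]
  · intro x hx m hm
    exact (mem_normalizer_iff.1 (mem_Lam.1 hx).1 m).1 hm
  · intro x hx c hc
    refine mem_centralizer_iff.2 fun m hm => ?_
    have h0 : x⁻¹ * m * x ∈ M := by
      have := (mem_normalizer_iff.1 (inv_mem (mem_Lam.1 hx).1) m).1 hm
      rwa [inv_inv] at this
    have h1 := (mem_centralizer_iff.1 hc) _ h0
    calc m * (x * c * x⁻¹) = x * (x⁻¹ * m * x * c) * x⁻¹ := by group
      _ = _ := by rw [h1]; group
  · intro x hx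
    obtain ⟨h1, h2, h3, h4⟩ := mem_Lam.1 hx
    refine mem_centralizer_iff.2 fun m hm => ?_
    have h5 := h4 m hm
    obtain ⟨v, hv⟩ : ∃ v, v = x * m * x⁻¹ * m⁻¹ := ⟨_, rfl⟩
    rw [← hv] at h5
    have h6 := h5.comm h2 h3
    have h7 := h5.sq P.zz P.mm P.mz
    have h8 : x * m * x⁻¹ = v * m := by rw [hv]; group
    have h9 : x * x * m * (x * x)⁻¹ = m := by
      calc x * x * m * (x * x)⁻¹ = x * (x * m * x⁻¹) * x⁻¹ := by group
        _ = (x * v) * m * x⁻¹ := by rw [h8]; group
        _ = v * (x * m * x⁻¹) := by rw [h6]; group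
        _ = (v * v) * m := by rw [h8]; group
        _ = m := by rw [h7, one_mul]
    calc m * (x * x) = (x * x * m * (x * x)⁻¹) * (x * x) := by rw [h9]
      _ = x * x * m := by group

end Pk

end Cfsg.Agent.OddHalf.D7Tits.ZeroPack
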